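import Cfsg.Agent.Ngrp.ConC
import Cfsg.Agent.Trans.TransferTools
import Cfsg.Agent.Local.NormalFour

/-!
# The dichotomy for groups of 2-rank at least three with 2-constrained involution centralizers
-/

set_option autoImplicit false

namespace Cfsg.Lib.Ngrp

open Subgroup Cfsg.Lib.Trans Cfsg.Lib.Solv Cfsg.Lib.Local Cfsg.Lib.Local.JC Cfsg.Agent
open scoped commutatorElement

universe u

variable {G : Type u} [Group G]

theorem card_le_two_mul_of_half [Finite G] {A B : Subgroup G} (hAB : A ≤ B)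
    (h : ∀ x ∈ B, ∀ y ∈ B, x ∉ A → y ∉ A → x * y ∈ A) : Nat.card B ≤ 2 * Nat.card A := by
  by_cases hBA : B ≤ A
  · have := Trans.card_le_of_le hBA
    omega
  · obtain ⟨a, haB, haA⟩ := SetLike.not_le_iff_exists.1 hBA
    have h2 : A.relIndex B = 2 := relIndex_eq_two_iff_exists_notMem_and.2
      ⟨a, haB, haA, fun b hb => (em (b ∈ A)).symm.imp_left fun hb' => h b hb a haB hb' haA⟩
    rw [← card_mul_relIndex hAB, h2, mul_comm]

theorem half_of_card_le [Finite G] {A B : Subgroup G} (hAB : A ≤ B)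
    (h : Nat.card B ≤ 2 * Nat.card A) : ∀ x ∈ B, ∀ y ∈ B, x ∉ A → y ∉ A → x * y ∈ A := by
  intro x hx y hy hxA hyA
  have h1 := card_mul_relIndex hAB
  have h2 : A.relIndex B ≠ 1 := fun h => hxA (relIndex_eq_one.1 h hx)
  have h3 : A.relIndex B ≠ 0 := (A.subgroupOf B).index_ne_zero_of_finite
  have h4 : 0 < Nat.card A := Nat.card_pos
  have h5 : A.relIndex B ≤ 2 := by
    rw [← h1, mul_comm 2] at h
    exact Nat.le_of_mul_le_mul_left h h4
  have h6 : (A.subgroupOf B).index = 2 := by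
    change A.relIndex B = 2
    omega
  exact (mul_mem_iff_of_index_two h6 (a := ⟨x, hx⟩) (b := ⟨y, hy⟩)).2
    (iff_of_false hxA hyA)

theorem two_mul_card_le_of_lt [Finite G] {A B : Subgroup G} (h : A < B) :
    2 * Nat.card A ≤ Nat.card B := by
  by_contra h1
  obtain ⟨k, hk⟩ := card_dvd_of_le h.le
  have h2 := Trans.card_lt_of_lt h
  rw [hk] at h1 h2
  have h4 : 0 < Nat.card A := Nat.card_pos
  rcases k with _ | _ | k
  · omega
  · omega
  · apply h1
    nlinarith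

/-- A Sylow 2-subgroup `S` of 2-rank at least three with a normal four-group `⟨z, e⟩`. -/
structure NFour (S : Subgroup G) (z e : G) : Prop where
  syl : IsSylowIn 2 S ⊤
  zS : z ∈ S
  eS : e ∈ S
  z2 : orderOf z = 2
  e2 : orderOf e = 2
  ne : e ≠ z
  cz : ∀ s ∈ S, s * z = z * s
  ce : ∀ s ∈ S, s * e * s⁻¹ = e ∨ s * e * s⁻¹ = z * e
  uniq : (∀ s ∈ S, s * e = e * s) ∨
    ∀ y ∈ S, y * y = 1 → (∀ s ∈ S, s * y = y * s) → y = 1 ∨ y = z
  rank : ∃ B ≤ S, IsElementaryAbelian 2 B ∧ 8 ≤ Nat.card B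

namespace NFour

variable {S S' : Subgroup G} {z e z' e' : G}

theorem zz (h : NFour S z e) : z * z = 1 := SE.mul_self_of_orderOf_two h.z2
theorem ee (h : NFour S z e) : e * e = 1 := SE.mul_self_of_orderOf_two h.e2
theorem z1 (h : NFour S z e) : z ≠ 1 := SE.ne_one_of_orderOf_two h.z2
theorem e1 (h : NFour S z e) : e ≠ 1 := SE.ne_one_of_orderOf_two h.e2
theorem ze (h : NFour S z e) : z * e = e * z := (h.cz e h.eS).symm
theorem le_C1 (h : NFour S z e) : S ≤ C1 z := fun s hs => mem_C1.2 (h.cz s hs)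

theorem mem_U (h : NFour S z e) {x : G} : x ∈ four z e ↔ x = 1 ∨ x = z ∨ x = e ∨ x = z * e :=
  mem_four h.zz h.ee h.ze

theorem ea_U (h : NFour S z e) : IsElementaryAbelian 2 (four z e) := ea_four h.zz h.ee h.ze

theorem U_le (h : NFour S z e) : four z e ≤ S := four_le h.zS h.eS

theorem U_le_C1 (h : NFour S z e) : four z e ≤ C1 e := four_le (mem_C1.2 h.ze) (mem_C1.2 rfl)

theorem conj_z (h : NFour S z e) {s : G} (hs : s ∈ S) (x : G) :
    s * (z * x) * s⁻¹ = z * (s * x * s⁻¹) := by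
  rw [← mul_assoc s, h.cz s hs]; group

theorem conj_e (h : NFour S z e) {s : G} (hs : s ∈ S) (hs' : s ∉ C1 e) : s * e * s⁻¹ = z * e :=
  (h.ce s hs).resolve_left fun h' => hs' (mem_C1.2 (mul_inv_eq_iff_eq_mul.1 h'))

theorem half (h : NFour S z e) {a b : G} (ha : a ∈ S) (hb : b ∈ S) (ha' : a ∉ C1 e)
    (hb' : b ∉ C1 e) : a * b ∈ C1 e := by
  have : a * b * e * (a * b)⁻¹ = e := by
    calc a * b * e * (a * b)⁻¹ = a * (b * e * b⁻¹) * a⁻¹ := by group
      _ = e := by rw [h.conj_e hb hb', h.conj_z ha, h.conj_e ha ha', ← mul_assoc, h.zz, one_mul]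
  exact mem_C1.2 (mul_inv_eq_iff_eq_mul.1 this)

theorem sq_mem (h : NFour S z e) {a : G} (ha : a ∈ S) : a * a ∈ C1 e := by
  by_cases ha' : a ∈ C1 e
  · exact mul_mem ha' ha'
  · exact h.half ha ha ha' ha'

theorem le_centralizer_U (h : NFour S z e) : S ⊓ C1 e ≤ centralizer (four z e : Set G) := by
  rw [le_centralizer_iff]
  exact four_le (fun s hs => h.cz s hs.1) fun s hs => mem_C1.1 hs.2

theorem le_normalizer_U [Finite G] (h : NFour S z e) : S ≤ normalizer (four z e : Set G) := by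
  intro s hs
  refine mem_normalizer_of_cj_le ?_
  rw [four, cj_sup, cj_zpowers, cj_zpowers, h.cz s hs, mul_inv_cancel_right]
  refine four_le (left_mem_four _ _) ?_
  rcases h.ce s hs with h' | h' <;> rw [h']
  · exact right_mem_four _ _
  · exact mul_mem (left_mem_four _ _) (right_mem_four _ _)

theorem swap (h : NFour S z e) : NFour S z (z * e) where
  syl := h.syl
  zS := h.zS
  eS := mul_mem h.zS h.eS
  z2 := h.z2
  e2 := SE.orderOf_two_of_mul_self (ea_sq h.ea_U (h.mem_U.2 (by simp))) fun h' =>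
    h.ne (by rw [← inv_eq_of_sq h.zz]; exact (eq_inv_of_mul_eq_one_right h'))
  ne := fun h' => h.e1 (by simpa using h')
  cz := h.cz
  ce := fun s hs => by
    rw [h.conj_z hs]
    rcases h.ce s hs with h' | h' <;> rw [h']
    · exact Or.inl rfl
    · exact Or.inr rfl
  uniq := h.uniq.imp_left fun h' s hs => by
    rw [← mul_assoc, h.cz s hs, mul_assoc, h' s hs, mul_assoc]
  rank := h.rank

protected theorem cj (h : NFour S z e) (g : G) :
    NFour (cj g S) (g * z * g⁻¹) (g * e * g⁻¹) where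
  syl := by simpa only [cj_top] using h.syl.cj g
  zS := conj_mem_cj.2 h.zS
  eS := conj_mem_cj.2 h.eS
  z2 := by rw [Local.orderOf_conj, h.z2]
  e2 := by rw [Local.orderOf_conj, h.e2]
  ne := fun h' => h.ne (by simpa using h')
  cz := by
    rintro _ ⟨s, hs, rfl⟩
    have := congrArg (MulAut.conj g) (h.cz s hs)
    rw [map_mul, map_mul] at this
    exact this
  ce := by
    rintro _ ⟨s, hs, rfl⟩
    refine (h.ce s hs).imp (fun h' => ?_) fun h' => ?_
    · have := congrArg (MulAut.conj g) h'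
      simp only [map_mul, map_inv] at this
      exact this
    · have := congrArg (MulAut.conj g) h'
      simp only [map_mul, map_inv] at this
      exact this
  uniq := by
    refine h.uniq.imp (fun h' => ?_) fun h' => ?_
    · rintro _ ⟨s, hs, rfl⟩
      have := congrArg (MulAut.conj g) (h' s hs)
      rw [map_mul, map_mul] at this
      exact this
    · rintro _ ⟨y, hy, rfl⟩ h1 h2
      have h3 : y * y = 1 := (MulAut.conj g).injective (by rw [map_mul, map_one]; exact h1)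
      have h4 : ∀ s ∈ S, s * y = y * s := fun s hs =>
        (MulAut.conj g).injective (by rw [map_mul, map_mul]; exact h2 _ ⟨s, hs, rfl⟩)
      rcases h' y hy h3 h4 with rfl | rfl
      · exact Or.inl (map_one _)
      · exact Or.inr rfl
  rank := by
    obtain ⟨B, h1, h2, h3⟩ := h.rank
    exact ⟨_, cj_mono g h1, ea_cj h2 g, by rwa [card_cj]⟩

theorem cj_U (g z e : G) : cj g (four z e) = four (g * z * g⁻¹) (g * e * g⁻¹) := by
  rw [four, cj_sup, cj_zpowers, cj_zpowers, four]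

variable [Finite G]

theorem card_U (h : NFour S z e) : Nat.card (four z e) = 4 :=
  card_four h.zz h.ee h.ze h.z1 h.e1 h.ne.symm

theorem card_le (h : NFour S z e) {E : Subgroup G} (hE : E ≤ S) :
    Nat.card E ≤ 2 * Nat.card (E ⊓ C1 e : Subgroup G) :=
  card_le_two_mul_of_half inf_le_left fun _ hx _ hy hx' hy' =>
    ⟨mul_mem hx hy, h.half (hE hx) (hE hy) (fun h' => hx' ⟨hx, h'⟩) fun h' => hy' ⟨hy, h'⟩⟩

theorem exists_eight (h : NFour S z e) :
    ∃ B, four z e ≤ B ∧ B ≤ S ⊓ C1 e ∧ IsElementaryAbelian 2 B ∧ 8 ≤ Nat.card B := by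
  obtain ⟨E, h1, h2, h3⟩ := h.rank
  have h4 : E ⊓ C1 e ≤ S ⊓ C1 e := inf_le_inf_right _ h1
  refine ⟨four z e ⊔ (E ⊓ C1 e), le_sup_left, sup_le (le_inf h.U_le h.U_le_C1) h4,
    ea_sup h.ea_U (ea_mono h2 inf_le_left) (h4.trans h.le_centralizer_U), ?_⟩
  by_cases he : e ∈ E
  · have : E ≤ C1 e := fun x hx => mem_C1.2 (ea_comm h2 hx he)
    rw [inf_eq_left.2 this]
    exact h3.trans (Trans.card_le_of_le le_sup_right)
  · have h5 : E ⊓ C1 e < four z e ⊔ (E ⊓ C1 e) := lt_of_le_of_ne le_sup_right fun h' =>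
      he (h'.ge (mem_sup_left (right_mem_four _ _))).1
    exact h3.trans ((h.card_le h1).trans (two_mul_card_le_of_lt h5))

omit [Finite G] in
theorem sylC (h : NFour S z e) : IsSylowIn 2 S (C1 z) := h.syl.mono h.le_C1 le_top

theorem thV_eq (hG : ConC G) (h : NFour S z e) {E : Subgroup G} (hES : E ≤ S)
    (hE : IsElementaryAbelian 2 E) (h8 : 8 ≤ Nat.card E) : thV E = thV (four z e) := by
  have h4 : 4 ≤ Nat.card (E ⊓ C1 e : Subgroup G) := by
    have := h.card_le hES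
    omega
  rw [← hG.thV_eq_of_le hE inf_le_left h4]
  exact hG.thV_eq_of_comm (ea_mono hE inf_le_left) h4 h.ea_U h.card_U.ge
    ((inf_le_inf_right _ hES).trans h.le_centralizer_U)

theorem le_M (h : NFour S z e) : S ≤ normalizer (thV (four z e) : Set G) :=
  h.le_normalizer_U.trans (normalizer_le_normalizer_thV _)

theorem normalizer_le_M (hG : ConC G) (h : NFour S z e) :
    normalizer (S : Set G) ≤ normalizer (thV (four z e) : Set G) := by
  intro g hg
  obtain ⟨E, h1, h2, h3⟩ := h.rank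
  have h4 : cj g E ≤ S := (cj_mono g h1).trans (cj_eq_of_mem_normalizer hg).le
  rw [← cj_eq_self_iff, ← h.thV_eq hG h1 h2 h3, cj_thV, h.thV_eq hG h1 h2 h3,
    h.thV_eq hG h4 (ea_cj h2 g) (by rwa [card_cj])]

theorem th_le_W (hG : ConC G) (h : NFour S z e) {t : G} (ht : orderOf t = 2) (htS : t ∈ S)
    (hte : t ∈ C1 e) : th t ≤ thV (four z e) :=
  hG.th_le_thV_of_comm h.ea_U h.card_U.ge ht
    (four_le (mem_C1.2 (h.cz t htS).symm) (mem_C1.2 (mem_C1.1 hte).symm))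

theorem e_mem_os (hG : ConC G) (h : NFour S z e) : e ∈ os z := by
  refine mem_os_of_central (hG.con z h.z2) h.zz h.sylC (h.le_C1 h.eS) fun s hs => ?_
  have h1 : e * s * e⁻¹ = e * (s * e * s⁻¹) * s := by rw [inv_eq_of_sq h.ee]; group
  rw [h1]
  rcases h.ce s hs with h' | h' <;> rw [h']
  · left; rw [h.ee, one_mul]
  · right; rw [← mul_assoc e, ← h.ze, mul_assoc z e, h.ee, mul_one]

theorem z_mem_os_z (hG : ConC G) (h : NFour S z e) : z ∈ os z :=
  mem_opOf_of_centralizes (hG.con z h.z2) h.sylC (h.le_C1 h.zS) fun t ht => (h.cz t ht).symm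

theorem z_mem_os_e (hG : ConC G) (h : NFour S z e) : z ∈ os e := by
  have hze : z ∈ C1 e := mem_C1.2 h.ze
  obtain ⟨T, hT, h0T⟩ := exists_isSylowIn_ge
    (h.syl.isPGroup.to_inf_left : IsPGroup 2 (S ⊓ C1 e : Subgroup G)) inf_le_right
  by_cases hTS : T ≤ S ⊓ C1 e
  · exact mem_opOf_of_centralizes (hG.con e h.e2) hT hze fun t ht => (h.cz t (hTS ht).1).symm
  have hlt : S ⊓ C1 e < T := lt_of_le_of_ne h0T fun h' => hTS h'.ge
  have c1 := two_mul_card_le_of_lt hlt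
  have c2 := h.card_le le_rfl
  have c3 := h.syl.card_le hT.isPGroup le_top
  have hT' : IsSylowIn 2 T ⊤ := h.syl.of_card_ge hT.isPGroup le_top (c2.trans c1)
  have hhalf := half_of_card_le h0T (c3.trans c2)
  obtain ⟨g, -, hg⟩ := hT'.exists_cj_eq h.syl
  have huniq : ∀ y ∈ T, y * y = 1 → (∀ s ∈ T, s * y = y * s) → y = 1 ∨ y = e := by
    rcases (h.cj g).uniq with h1 | h1
    · exfalso
      rcases h.uniq with h2 | h2
      · have h3 : S ⊓ C1 e = S := inf_eq_left.2 fun s hs => mem_C1.2 (h2 s hs)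
        rw [h3] at c1
        have : 0 < Nat.card S := Nat.card_pos
        omega
      · refine (h2 e h.eS h.ee fun s hs => ?_).elim h.e1 h.ne
        have := h1 _ (conj_mem_cj.2 hs)
        simpa using this
    · rw [hg] at h1
      have h2 := (h1 e (h0T ⟨h.eS, mem_C1.2 rfl⟩) h.ee fun s hs => mem_C1.1 (hT.le hs)).resolve_left
        h.e1
      rwa [← h2] at h1
  refine mem_os_of_central (hG.con e h.e2) h.ee hT hze fun s hs => ?_
  by_cases hs0 : s ∈ S ⊓ C1 e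
  · left; rw [← h.cz s hs0.1, mul_inv_cancel_right]
  have hzT : z ∈ T := h0T ⟨h.zS, hze⟩
  have hsi : s⁻¹ ∉ S ⊓ C1 e := fun h' => hs0 (by simpa using inv_mem h')
  have hconj : ∀ a ∈ S ⊓ C1 e, s⁻¹ * a * s ∈ S ⊓ C1 e := fun a ha =>
    hhalf _ (mul_mem (inv_mem hs) (h0T ha)) s hs
      (fun h' => hsi (by simpa using mul_mem h' (inv_mem ha))) hs0
  have hc : ∀ a ∈ S ⊓ C1 e, a * (s * z * s⁻¹) = s * z * s⁻¹ * a := fun a ha => by
    calc a * (s * z * s⁻¹) = s * (s⁻¹ * a * s * z) * s⁻¹ := by group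
      _ = s * (z * (s⁻¹ * a * s)) * s⁻¹ := by rw [h.cz _ (hconj a ha).1]
      _ = s * z * s⁻¹ * a := by group
  have hzc := hc z ⟨h.zS, hze⟩
  have hss := h.cz _ (hhalf s hs s hs hs0 hs0).1
  have hy0 : ∀ a ∈ S ⊓ C1 e, a * (z * (s * z * s⁻¹)) = z * (s * z * s⁻¹) * a := fun a ha => by
    rw [← mul_assoc, h.cz a ha.1, mul_assoc, hc a ha, ← mul_assoc]
  have hys : s * (z * (s * z * s⁻¹)) = z * (s * z * s⁻¹) * s := by
    calc s * (z * (s * z * s⁻¹)) = s * z * s⁻¹ * (s * s * z) * s⁻¹ := by group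
      _ = s * z * s⁻¹ * z * s := by rw [hss]; group
      _ = z * (s * z * s⁻¹) * s := by rw [hzc]
  have h1 := huniq (z * (s * z * s⁻¹)) (mul_mem hzT (mul_mem (mul_mem hs hzT) (inv_mem hs))) (by
    calc z * (s * z * s⁻¹) * (z * (s * z * s⁻¹)) = z * (s * z * s⁻¹ * z) * (s * z * s⁻¹) := by group
      _ = z * z * (s * (z * z) * s⁻¹) := by rw [← hzc]; group
      _ = 1 := by rw [h.zz]; group) fun a ha => by
    by_cases ha0 : a ∈ S ⊓ C1 e
    · exact hy0 a ha0
    · have h2 := hy0 _ (hhalf a ha _ (inv_mem hs) ha0 hsi)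
      calc a * (z * (s * z * s⁻¹)) = a * s⁻¹ * (s * (z * (s * z * s⁻¹))) := by group
        _ = a * s⁻¹ * (z * (s * z * s⁻¹)) * s := by rw [hys]; group
        _ = z * (s * z * s⁻¹) * a := by rw [h2]; group
  have h2 : z * s * z⁻¹ = z * (s * z * s⁻¹) * s := by rw [inv_eq_of_sq h.zz]; group
  rw [h2]
  rcases h1 with h1 | h1 <;> rw [h1]
  · exact Or.inl (one_mul _)
  · exact Or.inr rfl

theorem z_mem_os (hG : ConC G) (h : NFour S z e) {u : G} (hu : u ∈ four z e) (h1 : u ≠ 1) :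
    z ∈ os u := by
  rcases h.mem_U.1 hu with rfl | rfl | rfl | rfl
  · exact absurd rfl h1
  · exact h.z_mem_os_z hG
  · exact h.z_mem_os_e hG
  · exact h.swap.z_mem_os_e hG

theorem os_le_M (hG : ConC G) (h : NFour S z e) {t : G} (ht : orderOf t = 2) (htS : t ∈ S)
    (hte : t ∈ C1 e) (hT : IsSylowIn 2 (S ⊓ C1 t) (C1 t)) :
    os t ≤ normalizer (thV (four z e) : Set G) :=
  (opOf_le_sup hT).trans (sup_le ((h.th_le_W hG ht htS hte).trans le_normalizer)
    (inf_le_left.trans h.le_M))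

section Gate
variable [Gate.S0217.{u}]

theorem coprime_W (hG : ConC G) (h : NFour S z e) : (Nat.card (thV (four z e))).Coprime 2 := by
  obtain ⟨B, h1, -, h3, h4⟩ := h.exists_eight
  rw [hG.thV_eq_of_le h3 h1 h.card_U.ge]
  exact (hG.complete h3 h4).1

theorem W_inf_C1 (hG : ConC G) (h : NFour S z e) : thV (four z e) ⊓ C1 z = th z := by
  obtain ⟨B, h1, -, h3, h4⟩ := h.exists_eight
  rw [hG.thV_eq_of_le h3 h1 h.card_U.ge]
  exact (hG.complete h3 h4).2 z (h1 (left_mem_four _ _)) h.z1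

theorem C1_z_le_M (hG : ConC G) (h : NFour S z e) :
    C1 z ≤ normalizer (thV (four z e) : Set G) := by
  intro g hg
  have hgz : g * z * g⁻¹ = z := by rw [mem_C1.1 hg, mul_inv_cancel_right]
  have hU : four z e ≤ os z := four_le (h.z_mem_os_z hG) (h.e_mem_os hG)
  have h1 : cj g (four z e) ≤ normalizer (thV (four z e) : Set G) := by
    refine (cj_mono g hU).trans ?_
    rw [cj_os, hgz]
    exact h.os_le_M hG h.z2 h.zS (mem_C1.2 h.ze) (by rw [inf_eq_left.2 h.le_C1]; exact h.sylC)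
  have h2 := hG.le_thV_of_os (h.coprime_W hG) (ea_cj h.ea_U g) ((card_cj g _).trans h.card_U).ge h1
    (z := z) (by simpa only [hgz] using (conj_mem_cj (g := g)).2 (left_mem_four z e)) h.z2
    (h.W_inf_C1 hG).le (by
      rintro _ ⟨u, hu, rfl⟩ hu1
      have := (conj_mem_cj (g := g)).2 (h.z_mem_os hG hu fun h' => hu1 (by subst h'; exact map_one (MulAut.conj g)))
      rwa [cj_os, hgz] at this)
  rw [← cj_thV] at h2
  simpa using inv_mem (mem_normalizer_of_cj_le (cj_inv_le_iff_le_cj.2 h2))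

theorem C1_le_M_of_sylow (hG : ConC G) (h : NFour S z e) {t : G} (ht : orderOf t = 2)
    (htS : t ∈ S) (hte : t ∈ C1 e) (hT : IsSylowIn 2 (S ⊓ C1 t) (C1 t)) :
    C1 t ≤ normalizer (thV (four z e) : Set G) := by
  by_cases htz : t = z
  · rw [htz]; exact h.C1_z_le_M hG
  intro g hg
  have htt := SE.mul_self_of_orderOf_two ht
  have hV := ea_four htt h.zz (h.cz t htS)
  have hV4 := card_four htt h.zz (h.cz t htS) (SE.ne_one_of_orderOf_two ht) h.z1 htz
  have hVT : four t z ≤ S ⊓ C1 t :=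
    four_le ⟨htS, mem_C1.2 rfl⟩ ⟨h.zS, mem_C1.2 (h.cz t htS).symm⟩
  have hVc : S ⊓ C1 t ≤ centralizer (four t z : Set G) := by
    rw [le_centralizer_iff]
    exact four_le (fun s hs => mem_C1.1 hs.2) fun s hs => h.cz s hs.1
  have hVo : four t z ≤ os t := fun v hv =>
    mem_opOf_of_centralizes (hG.con t ht) hT (hVT hv).2 fun s hs => hVc hs v hv
  have hQ : IsSylowIn 2 (S ⊓ C1 t ⊓ os t) (os t) :=
    hT.inf_normal_of_le (le_normalizer_opOf 2 _) (opOf_le 2 _)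
  obtain ⟨k, hk, hkV⟩ := hQ.exists_cj_le (isPGroup_cj (ea_isPGroup hV) g)
    ((cj_mono g hVo).trans (cj_eq_of_mem_normalizer (le_normalizer_opOf 2 _ hg)).le)
  rw [cj_cj] at hkV
  have h1 : thV (four t z) = thV (four z e) := hG.thV_eq_of_comm hV hV4.ge h.ea_U h.card_U.ge
    ((four_le (W := S ⊓ C1 e) ⟨htS, hte⟩ ⟨h.zS, mem_C1.2 h.ze⟩).trans h.le_centralizer_U)
  have h2 : thV (cj (k * g) (four t z)) = thV (four t z) :=
    hG.thV_eq_of_comm (ea_cj hV _) (by rw [card_cj, hV4]) hV hV4.ge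
      (hkV.trans (inf_le_left.trans hVc))
  rw [← cj_thV, h1, cj_eq_self_iff] at h2
  simpa using mul_mem (inv_mem (h.os_le_M hG ht htS hte hT hk)) h2

end Gate

/-- Thompson transfer. -/
theorem exists_cj (h : NFour S z e) {w : G} (hw : orderOf w = 2)
    (hO : w ∈ commutator G ⊔ pResidual 2 G) {R : Subgroup G} (hR : IsPGroup 2 R) (hRw : R ≤ C1 w) :
    ∃ a : G, w ∈ cj a S ∧ w ∈ C1 (a * e * a⁻¹) ∧ R ≤ cj a S := by
  obtain ⟨a, h1, h2, h3⟩ := thompson_transfer_involution (H := S) (T := S ⊓ C1 e)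
    (by simpa using h.syl.not_dvd) (fun x hx y hy => by
      refine ⟨S.mul_mem (S.mul_mem (S.mul_mem hx hy) (S.inv_mem hx)) (S.inv_mem hy), ?_⟩
      change x * y * x⁻¹ * y⁻¹ ∈ C1 e
      have hn : x * y * x⁻¹ ∈ C1 e ↔ y ∈ C1 e := by
        by_cases hx' : x ∈ C1 e
        · rw [mul_mem_cancel_right (inv_mem hx'), mul_mem_cancel_left hx']
        · have hxi : x⁻¹ ∉ C1 e := by rwa [inv_mem_iff]
          constructor
          · intro h1
            by_contra h2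
            exact hxi ((mul_mem_cancel_left (h.half hx hy hx' h2)).1 h1)
          · intro h1
            exact h.half (mul_mem hx hy) (inv_mem hx) (by rwa [mul_mem_cancel_right h1]) hxi
      by_cases hy' : y ∈ C1 e
      · exact mul_mem (hn.2 hy') (inv_mem hy')
      · exact h.half (mul_mem (mul_mem hx hy) (inv_mem hx)) (inv_mem hy) (mt hn.1 hy')
          (by rwa [inv_mem_iff]))
    (fun x hx => ⟨1, by rw [pow_one, pow_two]; exact ⟨mul_mem hx hx, h.sq_mem hx⟩⟩) w hw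
    (fun u hu v hv _ _ hu' hv' => ⟨mul_mem hu hv,
      h.half hu hv (fun h' => hu' ⟨hu, h'⟩) fun h' => hv' ⟨hv, h'⟩⟩) hO R hR
    fun r hr => mem_C1.1 (hRw hr)
  refine ⟨a, mem_cj.2 h1, ?_, le_cj_iff.2 h3⟩
  rw [← cj_C1]
  exact mem_cj.2 h2.2

theorem exists_not_mem_of_not_mem (h : NFour S z e) {w : G} (hwS : w ∈ S) (hww : w * w = 1)
    (hwe : w ∉ C1 e) : ∃ x ∈ S, x ∈ C1 e ∧ x ∈ C1 w ∧ x ∉ four z e := by
  obtain ⟨B, -, h2, -, h4⟩ := h.exists_eight
  have hnil : Group.IsNilpotent S := h.syl.isPGroup.isNilpotent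
  have hn : ((S ⊓ C1 e).subgroupOf S).Normal := by
    refine ⟨fun y hy x => ⟨(x * y * x⁻¹).2, ?_⟩⟩
    have hy' : (y : G) ∈ C1 e := hy.2
    change (x : G) * y * (x : G)⁻¹ ∈ C1 e
    by_cases hx' : (x : G) ∈ C1 e
    · exact mul_mem (mul_mem hx' hy') (inv_mem hx')
    · exact h.half (mul_mem x.2 y.2) (inv_mem x.2) (by rwa [mul_mem_cancel_right hy'])
        (by rwa [inv_mem_iff])
  obtain ⟨x, hx0, hxU, hx⟩ := exists_mem_not_mem_conj_mul_inv_mem
    ((four z e).subgroupOf S) ((S ⊓ C1 e).subgroupOf S) (fun h' => by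
      have h5 : B ≤ four z e := fun b hb => h' (x := ⟨b, (h2 hb).1⟩) (h2 hb)
      have := Trans.card_le_of_le h5
      rw [h.card_U] at this
      omega)
  obtain ⟨x, hxS⟩ := x
  have hc : w * x * w⁻¹ * x⁻¹ ∈ four z e := hx ⟨w, hwS⟩
  have hxe : x ∈ C1 e := hx0.2
  have hxU' : x ∉ four z e := hxU
  have hwi : w⁻¹ = w := inv_eq_of_sq hww
  have hinv : w * (w * x * w⁻¹ * x⁻¹) * w⁻¹ = w * x * w⁻¹ * x⁻¹ := by
    rw [← inv_eq_of_sq (ea_sq h.ea_U hc)]
    nth_rewrite 1 [inv_eq_of_sq (ea_sq h.ea_U hc)]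
    calc w * (w * x * w⁻¹ * x⁻¹) * w⁻¹ = w * w * x * w⁻¹ * x⁻¹ * w⁻¹ := by group
      _ = x * w * x⁻¹ * w⁻¹ := by rw [hww, one_mul]; nth_rewrite 1 [hwi]; rfl
      _ = _ := by group
  have he := h.conj_e hwS hwe
  rcases h.mem_U.1 hc with h5 | h5 | h5 | h5
  · refine ⟨x, hxS, hxe, mem_C1.2 ?_, hxU'⟩
    rw [mul_inv_eq_one, mul_inv_eq_iff_eq_mul] at h5
    exact h5.symm
  · refine ⟨x * e, mul_mem hxS h.eS, mul_mem hxe (mem_C1.2 rfl), mem_C1.2 ?_,
      by rwa [mul_mem_cancel_right (right_mem_four _ _)]⟩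
    rw [mul_inv_eq_iff_eq_mul] at h5
    have : w * (x * e) * w⁻¹ = x * e := by
      calc w * (x * e) * w⁻¹ = w * x * w⁻¹ * (w * e * w⁻¹) := by group
        _ = z * x * z * e := by rw [h5, he]; group
        _ = x * e := by rw [← h.cz x hxS, mul_assoc x, h.zz, mul_one]
    exact (mul_inv_eq_iff_eq_mul.1 this).symm
  · rw [h5, he] at hinv
    exact absurd (by simpa using hinv) h.z1
  · rw [h5, h.conj_z hwS, he] at hinv
    exact absurd (by simpa using hinv) h.z1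

theorem thV_eq_thV (hG : ConC G) (h : NFour S z e) (h' : NFour S' z' e') {w : G}
    (hw : orderOf w = 2) (hwS : w ∈ S) (hwz : w ≠ z) (hwe : w ∈ C1 e')
    (hD : IsSylowIn 2 (S ⊓ C1 w) (C1 w ⊓ C1 z)) (hDS : S ⊓ C1 w ≤ S') :
    thV (four z e) = thV (four z' e') := by
  have hww := SE.mul_self_of_orderOf_two hw
  have hwz' := h.cz w hwS
  have hV := ea_four hww h.zz hwz'
  have hV4 := card_four hww h.zz hwz' (SE.ne_one_of_orderOf_two hw) h.z1 hwz
  have hVD : four w z ≤ S ⊓ C1 w := four_le ⟨hwS, mem_C1.2 rfl⟩ ⟨h.zS, mem_C1.2 hwz'.symm⟩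
  have hVc : S ⊓ C1 w ≤ centralizer (four w z : Set G) := by
    rw [le_centralizer_iff]
    exact four_le (fun s hs => mem_C1.1 hs.2) fun s hs => h.cz s hs.1
  by_cases hy : ∃ y ∈ S ⊓ C1 w, y * y = 1 ∧ y ∉ four w z
  · obtain ⟨y, h1, h2, h3⟩ := hy
    have hB := ea_sup hV (ea_zpowers h2) (zpowers_le.2 (hVc h1))
    have hBD : four w z ⊔ zpowers y ≤ S ⊓ C1 w := sup_le hVD (zpowers_le.2 h1)
    have h8 : 8 ≤ Nat.card (four w z ⊔ zpowers y : Subgroup G) := by
      have := two_mul_card_le_of_lt (lt_of_le_of_ne (le_sup_left : four w z ≤ four w z ⊔ zpowers y)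
        fun h' => h3 (h'.ge (mem_sup_right (mem_zpowers y))))
      omega
    rw [← h.thV_eq hG (hBD.trans inf_le_left) hB h8, h'.thV_eq hG (hBD.trans hDS) hB h8]
  exfalso
  push Not at hy
  have hea : ∀ B : Subgroup G, IsElementaryAbelian 2 B → B ≤ S ⊓ C1 w → B ≤ four w z :=
    fun B h1 h2 b hb => hy b (h2 hb) (ea_sq h1 hb)
  have key : ∀ U B : Subgroup G, Nat.card U = 4 → U ≤ B → IsElementaryAbelian 2 B →
      8 ≤ Nat.card B → U ≤ S ⊓ C1 w → (B ≤ C1 w ⊓ C1 z → B ≤ S ⊓ C1 w) → False := by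
    intro U B h1 h2 h3 h4 h5 h6
    have h7 : U = four w z := eq_of_le_of_card_ge (hea U (ea_mono h3 h2) h5) (by rw [h1, hV4])
    rw [h7] at h2
    have h8 := Trans.card_le_of_le (hea B h3 (h6 fun b hb =>
      ⟨mem_C1.2 (ea_comm h3 hb (h2 (left_mem_four _ _))),
        mem_C1.2 (ea_comm h3 hb (h2 (right_mem_four _ _)))⟩))
    omega
  have hwe0 : w ∉ C1 e := fun h1 => by
    obtain ⟨B, h2, h3, h4, h5⟩ := h.exists_eight
    exact key _ B h.card_U h2 h4 h5 (le_inf h.U_le (four_le (mem_C1.2 hwz'.symm)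
      (mem_C1.2 (mem_C1.1 h1).symm))) fun h6 => le_inf (h3.trans inf_le_left) (h6.trans inf_le_left)
  have hwS' : w ∈ S' := hDS ⟨hwS, mem_C1.2 rfl⟩
  have hzS' : z ∈ S' := hDS ⟨h.zS, mem_C1.2 hwz'.symm⟩
  have hD' : S' ⊓ (C1 w ⊓ C1 z) = S ⊓ C1 w := hD.eq_inf h'.syl.isPGroup hDS
  have hze0 : z ∉ C1 e' := fun h1 => by
    obtain ⟨B, h2, h3, h4, h5⟩ := h'.exists_eight
    refine key _ B h'.card_U h2 h4 h5 ?_ fun h6 => hD' ▸ le_inf (h3.trans inf_le_left) h6
    rw [← hD']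
    exact le_inf h'.U_le (four_le ⟨mem_C1.2 (h'.cz w hwS').symm, mem_C1.2 (h'.cz z hzS').symm⟩
      ⟨mem_C1.2 (mem_C1.1 hwe).symm, mem_C1.2 (mem_C1.1 h1).symm⟩)
  have hind : ∀ k : ℕ, ∀ x ∈ S, x ∈ C1 e → x ∈ C1 w → x ^ 2 ^ k = 1 → x = 1 ∨ x = z := by
    intro k
    induction k with
    | zero => intro x _ _ _ h1; exact Or.inl (by simpa using h1)
    | succ k ih =>
      intro x h1 h2 h3 h4
      rcases ih (x * x) (mul_mem h1 h1) (mul_mem h2 h2) (mul_mem h3 h3)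
        (by rw [← pow_two, ← pow_mul, ← pow_succ', h4]) with h5 | h5
      · rcases (mem_four hww h.zz hwz').1 (hy x ⟨h1, h3⟩ h5) with h6 | h6 | h6 | h6
        · exact Or.inl h6
        · exact absurd (h6 ▸ h2) hwe0
        · exact Or.inr h6
        · exact absurd ((mul_mem_cancel_right (mem_C1.2 h.ze)).1 (h6 ▸ h2)) hwe0
      · exact absurd (h5 ▸ h'.sq_mem (hDS ⟨h1, h3⟩)) hze0
  obtain ⟨x, h1, h2, h3, h4⟩ := h.exists_not_mem_of_not_mem hwS hww hwe0
  obtain ⟨k, hk⟩ := h.syl.isPGroup ⟨x, h1⟩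
  rcases hind k x h1 h2 h3 (congrArg Subtype.val hk) with rfl | rfl
  · exact h4 (one_mem _)
  · exact h4 (left_mem_four _ _)

theorem C1_le_M [Gate.S0217.{u}] (hG : ConC G)
    (hO : ∀ w : G, orderOf w = 2 → w ∈ commutator G ⊔ pResidual 2 G) (h : NFour S z e) {w : G}
    (hw : orderOf w = 2) (hwS : w ∈ S) : C1 w ≤ normalizer (thV (four z e) : Set G) := by
  by_cases hwz : w = z
  · rw [hwz]; exact h.C1_z_le_M hG
  obtain ⟨D, hD, hwD⟩ := exists_isSylowIn_ge (isPGroup_zpowers_of_orderOf_eq hw)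
    (zpowers_le.2 ⟨mem_C1.2 rfl, h.le_C1 hwS⟩ : zpowers w ≤ C1 w ⊓ C1 z)
  obtain ⟨c, hc, hcD⟩ := h.sylC.exists_cj_le hD.isPGroup (hD.le.trans inf_le_right)
  rw [cj_le_iff_le_cj_inv] at hcD
  have hc' := inv_mem hc
  generalize c⁻¹ = b at hcD hc'
  have h1 := h.cj b
  have hW : thV (four (b * z * b⁻¹) (b * e * b⁻¹)) = thV (four z e) := by
    rw [← cj_U, ← cj_thV, cj_eq_of_mem_normalizer (h.C1_z_le_M hG hc')]
  rw [mem_C1.1 hc', mul_inv_cancel_right] at h1 hW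
  have hD1 : cj b S ⊓ C1 w = D :=
    hD.eq_of_le h1.syl.isPGroup.to_inf_left (le_inf hcD (hD.le.trans inf_le_left))
      (le_inf inf_le_right (inf_le_left.trans h1.le_C1))
  obtain ⟨R, hR, hDR⟩ := exists_isSylowIn_ge hD.isPGroup (hD.le.trans inf_le_left)
  obtain ⟨a, h2, h3, h4⟩ := h.exists_cj hw (hO w hw) hR.isPGroup hR.le
  have h5 := h.cj a
  rw [← hW, h1.thV_eq_thV hG h5 hw (hcD (hwD (mem_zpowers w))) hwz h3 (hD1 ▸ hD)
    (hD1 ▸ hDR.trans h4)]
  exact h5.C1_le_M_of_sylow hG hw h2 h3 ((hR.eq_inf h5.syl.isPGroup h4).symm ▸ hR)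

theorem exists_th_le (hG : ConC G) (h : NFour S z e) {w : G} (hw : orderOf w = 2)
    (hO : w ∈ commutator G ⊔ pResidual 2 G) : ∃ a : G, th w ≤ cj a (thV (four z e)) := by
  obtain ⟨a, h2, h3, -⟩ := h.exists_cj hw hO (IsPGroup.of_bot (p := 2)) bot_le
  exact ⟨a, by rw [cj_thV, cj_U]; exact (h.cj a).th_le_W hG hw h2 h3⟩

end NFour

variable [Finite G]

theorem exists_nFour (h : ¬ PRankLE 2 2 G) : ∃ (S : Subgroup G) (z e : G), NFour S z e := by
  simp only [PRankLE, not_forall, not_le] at h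
  obtain ⟨E, h1, h2, h3⟩ := h
  have hE : IsElementaryAbelian 2 E := ⟨h1, h2⟩
  have h8 : 8 ≤ Nat.card E := by
    obtain ⟨n, hn⟩ := IsPGroup.iff_card.1 (ea_isPGroup hE)
    rw [hn] at h3 ⊢
    exact Nat.pow_le_pow_right two_pos ((Nat.pow_lt_pow_iff_right one_lt_two).1 h3 : 3 ≤ n)
  obtain ⟨S, hS, hES⟩ := exists_isSylowIn_ge (ea_isPGroup hE) le_top
  by_cases hc : ∃ z ∈ S, ∃ e ∈ S, orderOf z = 2 ∧ orderOf e = 2 ∧ e ≠ z ∧
      (∀ s ∈ S, s * z = z * s) ∧ ∀ s ∈ S, s * e = e * s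
  · obtain ⟨z, hz, e, he, c1, c2, c3, c4, c5⟩ := hc
    exact ⟨S, z, e, hS, hz, he, c1, c2, c3, c4,
      fun s hs => Or.inl (by rw [c5 s hs, mul_inv_cancel_right]), Or.inl c5, E, hES, hE, h8⟩
  obtain ⟨z, e, c1, c2, c3, c4, c5, c6, c7⟩ := exists_normal_four_of_elementary hS.isPGroup
    (E.subgroupOf S) (by rw [Coprime.card_subgroupOf hES]; omega)
    fun e he => Subtype.ext (ea_sq hE he)
  have hz : orderOf (z : G) = 2 := SE.orderOf_two_of_mul_self (congrArg Subtype.val c1)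
    fun h => c3 (Subtype.ext h)
  have hcz : ∀ s ∈ S, s * z = z * s := fun s hs => congrArg Subtype.val (c6 ⟨s, hs⟩)
  refine ⟨S, z, e, hS, z.2, e.2, hz, SE.orderOf_two_of_mul_self (congrArg Subtype.val c2)
    fun h => c4 (Subtype.ext h), fun h => c5 (Subtype.ext h), hcz,
    fun s hs => (c7 ⟨s, hs⟩).imp (congrArg Subtype.val) (congrArg Subtype.val),
    Or.inr fun y hy d1 d2 => ?_, E, hES, hE, h8⟩
  by_contra d3
  push Not at d3
  exact hc ⟨z, z.2, y, hy, hz, SE.orderOf_two_of_mul_self d1 d3.1, d3.2, hcz, d2⟩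

/-- **Dichotomy.** Let all involution centralizers be 2-constrained with solvable cores, all
involutions lie in `G' O²(G)` and the 2-rank be at least three. Then all cores `O(C(t))` lie in
`O(G)`, or the normalizer of a subgroup of odd order is strongly embedded. -/
theorem ConC.dichotomy [Gate.S0217.{u}] (hG : ConC G)
    (hO : ∀ w : G, orderOf w = 2 → w ∈ commutator G ⊔ pResidual 2 G) (h : ¬ PRankLE 2 2 G) :
    (∀ t : G, orderOf t = 2 → th t ≤ pPrimeCore 2 G) ∨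
      ∃ W : Subgroup G, (Nat.card W).Coprime 2 ∧ SE 2 (normalizer (W : Set G)) := by
  obtain ⟨S, z, e, h⟩ := exists_nFour h
  by_cases hn : (thV (four z e)).Normal
  · refine Or.inl fun t ht => ?_
    obtain ⟨a, ha⟩ := h.exists_th_le hG ht (hO t ht)
    rw [cj_eq_of_normal] at ha
    exact ha.trans (le_pPrimeCore hn (h.coprime_W hG))
  · obtain ⟨P, rfl⟩ := h.syl.exists_sylow_eq
    exact Or.inr ⟨_, h.coprime_W hG, SE.of_centralizer_normalizer
      (mt normalizer_eq_top_iff.1 hn) P (h.normalizer_le_M hG) fun x hx h2 => h.C1_le_M hG hO h2 hx⟩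

end Cfsg.Lib.Ngrp
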