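import Cfsg.Agent.Ngrp.SadBasic
import Cfsg.Agent.Class.Triangle
import Cfsg.Agent.Class.A5Recog
import Cfsg.Agent.Class.FieldIso

/-!
Extensions of `PSL₂(2 ^ q)`, `PSL₂(7)` and `SL₂(5)` all of whose proper subgroups have average
character degree at most two.
-/

set_option autoImplicit false

namespace Cfsg.Lib.Ngrp

open Subgroup Cfsg.Lib.Solv Cfsg.Lib.Solv.Avg Cfsg.Lib.Known.GL2

variable {G Y : Type*} [Group G] [Finite G] [Group Y]

theorem sadFactFive : Fact (Nat.Prime 5) := ⟨by norm_num⟩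

theorem sadFactSeven : Fact (Nat.Prime 7) := ⟨by norm_num⟩

attribute [local instance] sadFactFive sadFactSeven

theorem card_conjClasses_S4 : Nat.card (ConjClasses (Equiv.Perm (Fin 4))) = 5 := by
  rw [Nat.card_eq_fintype_card]; decide +kernel

theorem index_commutator_S4 : (commutator (Equiv.Perm (Fin 4))).index ≤ 2 := by
  have h : alternatingGroup (Fin 4) ≤ commutator (Equiv.Perm (Fin 4)) := fun g hg => by
    obtain ⟨a, b, rfl⟩ := (by decide +kernel : ∀ g : Equiv.Perm (Fin 4), Equiv.Perm.sign g = 1 →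
      ∃ a b : Equiv.Perm (Fin 4), g = a * b * a⁻¹ * b⁻¹) g hg
    exact commutator_mem_commutator (mem_top a) (mem_top b)
  exact (index_antitone h).trans alternatingGroup.index_eq_two.le

theorem not_sad_of_S4 (φ : G →* Equiv.Perm (Fin 4)) (hφ : Function.Surjective φ)
    (h2 : Nat.card φ.ker = 2) (hk : φ.ker ≤ commutator G) : ¬ Sad G := fun h => by
  have h1 := h.card_le
  have h3 : Nat.card G = 48 := by
    rw [card_eq_card_ker_mul φ hφ, h2, Nat.card_perm]
    simp [Nat.factorial]
  have h4 : (commutator G).index ≤ 2 := by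
    rw [← index_map_eq _ hφ hk, map_commutator_eq, MonoidHom.range_eq_top.2 hφ]
    exact index_commutator_S4
  have h5 := ClassNum.card_conjClasses_le_mul φ.ker
  have h6 : Nat.card (ConjClasses φ.ker) ≤ 2 :=
    h2 ▸ Nat.card_le_card_of_surjective _ ConjClasses.mk_surjective
  have h7 : Nat.card (ConjClasses (G ⧸ φ.ker)) ≤ 5 := by
    rw [← card_conjClasses_S4]
    exact Nat.card_le_card_of_surjective _ (ConjClasses.map_surjective
      (f := (QuotientGroup.quotientKerEquivOfSurjective φ hφ).symm.toMonoidHom)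
      (MulEquiv.surjective _))
  have h8 := Nat.mul_le_mul h6 h7
  nlinarith

omit [Finite G] in
theorem card_ker_subgroupComap (π : G →* Y) (X : Subgroup Y) :
    Nat.card (π.subgroupComap X).ker = Nat.card π.ker := by
  have : (π.subgroupComap X).ker = π.ker.subgroupOf (X.comap π) := by
    ext x
    exact Subtype.ext_iff
  rw [this, Nat.card_congr (subgroupOfEquivOfLe (ker_le_comap _ _)).toEquiv]

theorem AllSad_commutator_eq_top (h : AllSad G) (hG : ¬ Group.IsSolvable G) : commutator G = ⊤ := by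
  by_contra h1
  exact hG (Cor.isSolvable_of_normal_quotient _ (h.isSolvable h1)
    (Group.isSolvable_of_comm fun a b => mul_comm (G := Abelianization G) a b))

theorem card_PSL2_seven : Nat.card (PSL2 (ZMod 7)) = 168 := by
  have := two_mul_card_PSL2 (F := ZMod 7) (by decide)
  rw [ZMod.card] at this
  omega

theorem card_PSL2_five : Nat.card (PSL2 (ZMod 5)) = 60 := by
  have := two_mul_card_PSL2 (F := ZMod 5) (by decide)
  rw [ZMod.card] at this
  omega

/-- A perfect central extension of `SL₂(2 ^ n)`, `n ≥ 3`, by a group of order two does not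
exist. -/
theorem not_central_SL2_char_two {F : Type*} [Field F] [Fintype F] (h2 : (2 : F) = 0)
    (h5 : 5 ≤ Fintype.card F) (hG : commutator G = ⊤) (π : G →* SL2 F)
    (hπ : Function.Surjective π) (hZ : π.ker ≤ center G) (hK : Nat.card π.ker = 2) : False := by
  classical
  have : CharP F 2 := (CharP.charP_iff_prime_eq_zero Nat.prime_two).2 (by exact_mod_cast h2)
  have h1 := ker_le_commutator_of_not_dvd_index hG π hZ (IsPGroup.of_card (n := 1) hK)
    (X := (slLin F).U.comap π)
    (by rw [index_comap_of_surjective _ hπ]; exact (slLin F).not_dvd_index_U 2)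
  have hk : ∀ k ∈ π.ker, k * k = 1 := fun k hk => by
    have := congrArg Subtype.val (pow_card_eq_one' (x := (⟨k, hk⟩ : π.ker)))
    rwa [hK, sq] at this
  obtain ⟨x, hx⟩ := hπ ((slLin F).u 1)
  have hxx : x * x ∈ π.ker := by
    rw [MonoidHom.mem_ker, map_mul, hx, ← Lin2.u_add, one_add_one_eq_two, h2, Lin2.u_zero]
  have hc : ∀ g, g * (x * x) = x * x * g := mem_center_iff.1 (hZ hxx)
  have hsq : ∀ (y : G) (b : F), b ≠ 0 → π y = (slLin F).u b → y * y = x * x := by
    intro y b hb hy
    obtain ⟨a, ha⟩ := FiniteField.isSquare_of_char_two (ringChar.eq F 2) b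
    have ha0 : a ≠ 0 := by
      rintro rfl
      exact hb (by rw [ha, mul_zero])
    obtain ⟨g, hg⟩ := hπ (dSL (Units.mk0 a ha0))
    have h3 : (g * x * g⁻¹)⁻¹ * y ∈ π.ker := by
      rw [MonoidHom.mem_ker, map_mul, map_inv, inv_mul_eq_one, map_mul, map_mul, map_inv, hg, hx,
        hy, (slLin F).conj_u ((slLin F).T_le_B (dSL_mem_T _)), ha]
      simp [ρ_dSL]
    have h4 := hk _ h3
    have h5 := mem_center_iff.1 (hZ h3) (g * x * g⁻¹)
    set k := (g * x * g⁻¹)⁻¹ * y
    have h6 : y = g * x * g⁻¹ * k := (mul_inv_cancel_left _ _).symm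
    calc y * y = (g * x * g⁻¹) * (g * x * g⁻¹) * (k * k) := by
          rw [h6, mul_assoc, ← mul_assoc k, ← h5]; group
      _ = x * x := by rw [h4, mul_one, show g * x * g⁻¹ * (g * x * g⁻¹) = g * (x * x) * g⁻¹ by group,
          hc, mul_inv_cancel_right]
  have hne : ∀ b : F, b ≠ 1 → 1 + b ≠ 0 := fun b hb e => hb (by linear_combination e - h2)
  have hcomm : ∀ (y : G) (b : F), b ≠ 0 → b ≠ 1 → π y = (slLin F).u b → y * x = x * x * (x * y) := by
    intro y b hb hb1 hy
    have e1 := hsq y b hb hy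
    have e2 := hsq (x * y) (1 + b) (hne b hb1) (by rw [map_mul, hx, hy, Lin2.u_add])
    have e3 := hk _ hxx
    calc y * x = x⁻¹ * (x * y * (x * y)) * y⁻¹ := by group
      _ = x * (y * y)⁻¹ * y := by rw [e2]; group
      _ = x * x * (x * y) := by rw [e1, inv_eq_of_mul_eq_one_right e3, hc, mul_assoc]
  obtain ⟨b, hb⟩ : ∃ b : F, b ∉ ({0, 1} : Finset F) :=
    (Finset.exists_mem_notMem_of_card_lt_card (t := Finset.univ)
      (Finset.card_le_two.trans_lt (by rw [Finset.card_univ]; omega))).imp fun _ h => h.2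
  obtain ⟨c, hc'⟩ : ∃ c : F, c ∉ ({0, 1, b, 1 + b} : Finset F) :=
    (Finset.exists_mem_notMem_of_card_lt_card (t := Finset.univ)
      (Finset.card_le_four.trans_lt (by rw [Finset.card_univ]; omega))).imp fun _ h => h.2
  simp only [Finset.mem_insert, Finset.mem_singleton, not_or] at hb hc'
  obtain ⟨y, hy⟩ := hπ ((slLin F).u b)
  obtain ⟨z, hz⟩ := hπ ((slLin F).u c)
  have e1 := hcomm y b hb.1 hb.2 hy
  have e2 := hcomm z c hc'.1 hc'.2.1 hz
  have e3 := hcomm (y * z) (b + c) (fun e => hc'.2.2.1 (by linear_combination e - b * h2))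
    (fun e => hc'.2.2.2 (by linear_combination e - b * h2)) (by rw [map_mul, hy, hz, Lin2.u_add])
  have e4 : x * x = 1 := by
    rw [mul_assoc, e2, ← mul_assoc y, hc, mul_assoc, mul_right_inj, ← mul_assoc y, e1,
      ← mul_assoc x y z, mul_left_inj, mul_eq_right] at e3
    exact e3
  have e5 : ∀ y ∈ (slLin F).U.comap π, y * y = 1 := by
    rintro y ⟨b, hb⟩
    by_cases hb0 : b = 0
    · exact hk y (by rw [MonoidHom.mem_ker, ← hb, hb0, Lin2.u_zero])
    · rw [hsq y b hb0 hb.symm, e4]
  have e6 : ⁅(slLin F).U.comap π, (slLin F).U.comap π⁆ = ⊥ := by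
    rw [commutator_eq_bot_iff_le_centralizer]
    intro a ha b hb
    rw [← inv_eq_of_mul_eq_one_right (e5 _ (mul_mem hb ha)), mul_inv_rev,
      inv_eq_of_mul_eq_one_right (e5 a ha), inv_eq_of_mul_eq_one_right (e5 b hb)]
  rw [e6, le_bot_iff] at h1
  simp [h1] at hK

/-- The situation of a chief factor below a known quotient. -/
structure SadExt (π : G →* Y) (r : ℕ) : Prop where
  sad : AllSad G
  ns : ¬ Group.IsSolvable G
  surj : Function.Surjective π
  prime : r.Prime
  pg : IsPGroup r π.ker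
  comm : IsMulCommutative π.ker
  cases : (π.ker ≤ center G ∧ Nat.card π.ker = r) ∨ centralizer (π.ker : Set G) ≠ ⊤

namespace SadExt

variable {π : G →* Y} {r : ℕ} (h : SadExt π r)
include h

theorem perfect : commutator G = ⊤ := AllSad_commutator_eq_top h.sad h.ns

theorem ns' : ¬ Group.IsSolvable Y := fun _ =>
  have := h.comm
  h.ns (Cor.isSolvable_of_normal_quotient π.ker (Group.isSolvable_of_comm mul_comm')
    (Group.isSolvable_of_isSolvable_injective (QuotientGroup.kerLift_injective π)))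

theorem not_central (hY : ∀ Q : Subgroup Y, IsPGroup r Q → IsCyclic Q) (hZ : π.ker ≤ center G) :
    Nat.card π.ker ≠ r := fun hK => by
  have := Fact.mk h.prime
  have h1 := ker_inf_commutator_eq_bot_of_isCyclic π hZ h.pg hY
  rw [h.perfect, inf_top_eq] at h1
  rw [h1, card_bot] at hK
  exact h.prime.one_lt.ne hK

theorem exists_card {S : Type*} [Group S] [Finite S] [IsSimpleGroup S]
    (hS : ¬ Group.IsSolvable S) (ρ : Y →* S) (hρ : Function.Surjective ρ)
    (hC : centralizer (π.ker : Set G) ≠ ⊤) {s : ℕ} (hs : s.Prime) (hs2 : s ≠ 2) (hrs : r ≠ s)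
    {c : G} (hc : orderOf (π c) = s) (hc' : ρ (π c) ≠ 1) :
    ∃ W : Subgroup G, W ≤ ⁅π.ker, zpowers c⁆ ∧ ∃ k, Nat.card W = r ^ k ∧
      ((Nat.card W = s + 1 ∧ (5 ≤ s ∨ r = 2)) ∨ (s = 3 ∧ r = 7)) ∧
      ∀ t : Y, t * t = 1 → π c * t * π c * t⁻¹ = 1 → s = 3 ∧ r = 2 :=
  have := h.comm
  allSad_exists_card h.sad h.ns π h.surj h.prime hs hs2 hrs h.pg hc fun h1 => hc'
    (le_ker_of_isSolvable hS (ρ.comp π) (hρ.comp h.surj) _ (h.sad.isSolvable hC) h1)

end SadExt

theorem SadExt.psl2_noncentral {F : Type*} [Field F] [Fintype F] {π : G →* PSL2 F} {r : ℕ}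
    (h : SadExt π r) (h4 : 4 ≤ Fintype.card F) (p : ℕ) [Fact p.Prime] [CharP F p]
    (hC : centralizer (π.ker : Set G) ≠ ⊤) {s : ℕ} (hs : s.Prime) (hs2 : s ≠ 2) (hrs : r ≠ s)
    (hsp : s ≠ p) (hsG : s ∣ Nat.card (PSL2 F)) : s = 3 ∧ r = 2 := by
  have := finite_PSL2 (F := F)
  have := Matrix.ProjectiveSpecialLinearGroup.rank_two_simple (F := F)
    (by rwa [Nat.card_eq_fintype_card])
  obtain ⟨y, hy⟩ := @exists_prime_orderOf_dvd_card' _ _ _ s ⟨hs⟩ hsG
  obtain ⟨c, rfl⟩ := h.surj y
  have h1 := ne_one_of_orderOf_prime hs hy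
  obtain ⟨-, -, -, -, -, h2⟩ := h.exists_card h.ns' (MonoidHom.id _) Function.surjective_id hC hs
    hs2 hrs hy h1
  obtain ⟨t, h3, h5⟩ := psl2_exists_inverting p h1 (by rwa [hy])
  exact h2 t h3 h5

theorem SadExt.char_two {F : Type*} [Field F] [Fintype F] {π : G →* PSL2 F} {r : ℕ}
    (h : SadExt π r) {q : ℕ} (hq : 2 ≤ q) (hF : Fintype.card F = 2 ^ q) :
    Nonempty (G ≃* SL2 (ZMod 5)) := by
  have := finite_PSL2 (F := F)
  have := Chev.charP_two_of_card hF
  have h2 : (2 : F) = 0 := by exact_mod_cast CharP.cast_eq_zero F 2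
  have h4 : 4 ≤ Fintype.card F := hF ▸ Nat.pow_le_pow_right two_pos hq
  have := Fact.mk h.prime
  have hcard : Nat.card (PSL2 F) =
      Fintype.card F * (Fintype.card F - 1) * (Fintype.card F + 1) := by
    rw [← Nat.card_congr (equivPSL h2).toEquiv, card_SL_two]
  rcases h.cases with ⟨hZ, hK⟩ | hC
  · by_cases hr : r = 2
    swap
    · refine absurd hK (h.not_central (fun Q hQ => ?_) hZ)
      have : IsCyclic (Q.map ((equivPSL h2).symm : PSL2 F →* SL2 F)) :=
        isCyclic_of_isPGroup_SL2 2 hr hr (hQ.map _)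
      exact isCyclic_of_surjective _ ((equivPSL h2).symm.subgroupMap Q).symm.surjective
    subst hr
    rcases h4.eq_or_lt with h5 | h5
    · have := finite_PSL2 (F := ZMod 5)
      have := Matrix.ProjectiveSpecialLinearGroup.rank_two_simple (F := F)
        (by rwa [Nat.card_eq_fintype_card])
      have := Matrix.ProjectiveSpecialLinearGroup.rank_two_simple (F := ZMod 5) (by simp)
      rw [← h5] at hcard
      obtain ⟨e1⟩ := Class.nonempty_mulEquiv_A5_of_isSimpleGroup hcard
      obtain ⟨e2⟩ := Class.nonempty_mulEquiv_A5_of_isSimpleGroup card_PSL2_five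
      have hk : ((e2.trans e1.symm).toMonoidHom.comp (piSL (ZMod 5))).ker = (slLin (ZMod 5)).Z := by
        rw [← ker_piSL]
        ext x
        simp
      exact nonempty_equiv_of_central (p := 2) π _ h.surj
        ((e2.trans e1.symm).surjective.comp piSL_surjective) h.perfect
        (Matrix.SL2.commutator_eq_top (a := 2) (by decide) (by decide)) hZ
        (by rw [hk, Lin2.Z_eq_center]) hK (by rw [hk, card_Z_SL (by decide)])
        (by rw [hcard]; norm_num)
    · have hk : ((equivPSL h2).symm.toMonoidHom.comp π).ker = π.ker := by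
        ext x
        simp
      exact (not_central_SL2_char_two h2 h5 h.perfect _
        ((equivPSL h2).symm.surjective.comp h.surj) (hk ▸ hZ) (hk ▸ hK)).elim
  · obtain ⟨s, hs, hsG, hs2, hs3⟩ := exists_prime_dvd_ne_ne h.ns' Nat.prime_two Nat.prime_three
    by_cases hr : r = s
    · refine absurd (h.psl2_noncentral h4 2 hC Nat.prime_three (by norm_num) (hr ▸ hs3)
        (by norm_num) ?_).2 (hr ▸ hs2)
      rw [hcard]
      rcases (show Fintype.card F % 3 = 0 ∨ Fintype.card F % 3 = 1 ∨ Fintype.card F % 3 = 2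
        by omega) with e | e | e
      · exact Dvd.dvd.mul_right (Dvd.dvd.mul_right (by omega) _) _
      · exact Dvd.dvd.mul_right (Dvd.dvd.mul_left (by omega) _) _
      · exact Dvd.dvd.mul_left (by omega) _
    · exact absurd (h.psl2_noncentral h4 2 hC hs hs2 hr hs2 hsG).1 hs3

theorem not_sq_dvd_of_odd {r n : ℕ} (hr : r.Prime) (hr2 : r ≠ 2) (hn : n = 168 ∨ n = 120) :
    ¬ r ^ 2 ∣ n := fun h => by
  have h1 : r ^ 2 ≤ 168 := (Nat.le_of_dvd (by omega) h).trans (by omega)
  have h2 : r ≤ 13 := by nlinarith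
  have := hr.two_le
  rcases hn with rfl | rfl <;> interval_cases r <;> simp_all (config := {decide := true})

theorem exists_S4_psl2_seven :
    ∃ X : Subgroup (PSL2 (ZMod 7)), Nonempty (X ≃* Equiv.Perm (Fin 4)) := by
  let a : SL2 (ZMod 7) := ⟨!![0, 1; 6, 0], by rw [Matrix.det_fin_two]; decide⟩
  let b : SL2 (ZMod 7) := ⟨!![1, 1; 4, 5], by rw [Matrix.det_fin_two]; decide⟩
  let c : SL2 (ZMod 7) := ⟨!![4, 1; 4, 3], by rw [Matrix.det_fin_two]; decide⟩
  have h1 : a * a = -1 := Subtype.ext (by decide)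
  have h2 : b * b * b = 1 := Subtype.ext (by decide)
  have h3 : a * b * (a * b) = c := Subtype.ext (by decide)
  have h4 : c * c = -1 := Subtype.ext (by decide)
  have h5 : (piSL _ a * piSL _ b) ^ 2 = piSL _ c := by rw [sq, ← map_mul, ← map_mul, h3]
  refine ⟨_, Class.Tri.closure_equiv_S4 (a := piSL _ a) (b := piSL _ b) ?_ ?_ ?_ ?_⟩
  · rw [← map_mul, h1, piSL_neg, map_one]
  · rw [pow_succ, sq, ← map_mul, ← map_mul, h2, map_one]
  · rw [show 4 = 2 * 2 from rfl, pow_mul, h5, sq, ← map_mul, h4, piSL_neg, map_one]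
  · rw [h5, Ne, piSL_eq_one_iff]
    exact fun h => absurd h.1 (by decide)

theorem SadExt.seven {π : G →* PSL2 (ZMod 7)} {r : ℕ} (h : SadExt π r) : False := by
  have := finite_PSL2 (F := ZMod 7)
  have := Fact.mk h.prime
  rcases h.cases with ⟨hZ, hK⟩ | hC
  · by_cases hr : r = 2
    swap
    · exact h.not_central (fun Q hQ => isCyclic_of_not_sq_dvd
        (not_sq_dvd_of_odd h.prime hr (.inl card_PSL2_seven)) hQ) hZ hK
    subst hr
    obtain ⟨X, ⟨e⟩⟩ := exists_S4_psl2_seven
    have h1 : X.index = 7 := by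
      have := X.card_mul_index
      rw [Nat.card_congr e.toEquiv, card_PSL2_seven, Nat.card_perm] at this
      simp [Nat.factorial] at this
      omega
    rw [← index_comap_of_surjective _ h.surj] at h1
    have h2 := ker_le_commutator_of_not_dvd_index h.perfect π hZ h.pg (X := X.comap π)
      (by rw [h1]; norm_num)
    have hk : (e.toMonoidHom.comp (π.subgroupComap X)).ker = (π.subgroupComap X).ker := by
      ext x
      simp
    refine not_sad_of_S4 (e.toMonoidHom.comp (π.subgroupComap X))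
      (e.surjective.comp (π.subgroupComap_surjective_of_surjective X h.surj))
      (by rw [hk, card_ker_subgroupComap, hK]) (fun x hx => ?_)
      (h.sad _ fun e => by simp [e] at h1)
    rw [hk] at hx
    rw [← Subgroup.map_subtype_commutator] at h2
    obtain ⟨y, hy, e⟩ := h2 (congrArg Subtype.val hx)
    rwa [← Subtype.ext e]
  by_cases hr : r = 7
  · have := (h.psl2_noncentral (by simp) 7 hC Nat.prime_three (by norm_num) (by omega)
      (by norm_num) (by rw [card_PSL2_seven]; norm_num)).2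
    omega
  have := Matrix.ProjectiveSpecialLinearGroup.rank_two_simple (F := ZMod 7) (by simp)
  have := h.comm
  have hu : ∀ b : ZMod 7, b ≠ 0 → orderOf (piSL _ ((slLin (ZMod 7)).u b)) = 7 := fun b hb => by
    simpa using orderOf_piSL_Z_mul_u (F := ZMod 7) 7 (one_mem _) hb
  obtain ⟨c, hc⟩ := h.surj (piSL _ ((slLin (ZMod 7)).u 1))
  have h1 := hc ▸ hu 1 one_ne_zero
  obtain ⟨W, hW, k, hk, h2, -⟩ := h.exists_card h.ns' (MonoidHom.id _) Function.surjective_id hC
    (by norm_num) (by norm_num) hr h1 (ne_one_of_orderOf_prime (by norm_num) h1)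
  have h3 : Nat.card W = 8 := (h2.resolve_right (by omega)).1
  set X := (slLin (ZMod 7)).B.map (piSL (ZMod 7))
  have h4 : Nat.card X = 21 := by
    have : 2 * Nat.card X = _ := card_map_B_piSL (F := ZMod 7) (by decide)
    rw [ZMod.card] at this
    omega
  have h5 := allSad_card_le h.sad h.ns π h.surj (X := X) (by rw [h4]; decide) le_rfl
  have h6 : 8 ∣ Nat.card (⁅X.comap π, X.comap π⁆ : Subgroup G) :=
    h3 ▸ card_dvd_of_le (hW.trans (commutator_mono (ker_le_comap _ _)
      (zpowers_le.2 ⟨_, (slLin _).U_le_B ((slLin _).u_mem_U 1), hc.symm⟩)))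
  have h7 : 7 ∣ Nat.card (⁅X.comap π, X.comap π⁆ : Subgroup G) := by
    refine dvd_trans ?_ (Subgroup.card_map_dvd _ π)
    rw [map_commutator, map_comap_eq_self_of_surjective h.surj]
    refine (hu 3 (by decide)).symm.dvd.trans (Subgroup.orderOf_dvd_natCard _ ?_)
    have hd := (slLin (ZMod 7)).T_le_B (dSL_mem_T (Units.mk0 (2 : ZMod 7) (by decide)))
    have := commutator_mem_commutator (mem_map_of_mem (piSL _) hd)
      (mem_map_of_mem (piSL _) ((slLin (ZMod 7)).U_le_B ((slLin _).u_mem_U 1)))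
    rw [← map_commutatorElement, commutatorElement_def, (slLin _).conj_u hd, ← Lin2.u_neg,
      ← Lin2.u_add, div_of_mem_B_SL hd] at this
    convert this
    simp [ρ_dSL]
    decide
  have h8 := Nat.le_of_dvd Nat.card_pos (Nat.Coprime.mul_dvd_of_dvd_of_dvd (by norm_num) h6 h7)
  rw [h4] at h5
  omega

theorem SadExt.five {π : G →* SL2 (ZMod 5)} {r : ℕ} (h : SadExt π r) : False := by
  have := finite_PSL2 (F := ZMod 5)
  have := Fact.mk h.prime
  have hcard : Nat.card (SL2 (ZMod 5)) = 120 := by rw [card_SL_two, ZMod.card]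
  rcases h.cases with ⟨hZ, hK⟩ | hC
  · by_cases hr : r = 2
    swap
    · exact h.not_central (fun Q hQ => isCyclic_of_not_sq_dvd
        (not_sq_dvd_of_odd h.prime hr (.inr hcard)) hQ) hZ hK
    subst hr
    have h1 := card_eq_card_ker_mul π h.surj
    have h2 := card_eq_card_ker_mul ((piSL _).comp π) (piSL_surjective.comp h.surj)
    rw [h1, hK, hcard, card_PSL2_five] at h2
    have h3 := card_ker_inf_commutator_le (p := 2) ((piSL _).comp π)
      (fun x hx => mem_center_of_commutator_eq_top h.perfect fun g => hZ (by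
        rw [MonoidHom.mem_ker, map_mul, map_mul, map_mul, map_inv, map_inv,
          ← (slLin _).Z_comm (piSL_eq_one_iff.1 hx)]
        group))
      (IsPGroup.of_card (n := 2) (by omega)) (by rw [card_PSL2_five]; norm_num)
    rw [h.perfect, inf_top_eq] at h3
    omega
  have := Matrix.ProjectiveSpecialLinearGroup.rank_two_simple (F := ZMod 5) (by simp)
  have hS : ¬ Group.IsSolvable (PSL2 (ZMod 5)) :=
    have : Group.IsPerfect (PSL2 (ZMod 5)) := ⟨commutator_eq_top_of_surjective h.perfect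
      ((piSL _).comp π) (piSL_surjective.comp h.surj)⟩
    Group.IsPerfect.not_isSolvable _
  have key : ∀ s : ℕ, s = 3 ∨ s = 5 → r ≠ s → ∃ k,
      (r ^ k = s + 1 ∧ (5 ≤ s ∨ r = 2)) ∨ (s = 3 ∧ r = 7) := by
    intro s hs hrs
    have hs' : s.Prime := by rcases hs with rfl | rfl <;> norm_num
    obtain ⟨y, hy⟩ := @exists_prime_orderOf_dvd_card' (SL2 (ZMod 5)) _ _ s ⟨hs'⟩
      (by rw [hcard]; rcases hs with rfl | rfl <;> norm_num)
    obtain ⟨c, rfl⟩ := h.surj y
    obtain ⟨W, -, k, hk, h2, -⟩ := h.exists_card hS (piSL _) piSL_surjective hC hs' (by omega)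
      hrs hy (mt piSL_eq_one_iff.1 (not_mem_Z_of_orderOf_SL
        (by rw [hy]; rcases hs with rfl | rfl <;> norm_num)))
    exact ⟨k, hk ▸ h2⟩
  by_cases hr : r = 5
  · obtain ⟨k, hk⟩ := key 3 (.inl rfl) (by omega)
    omega
  · obtain ⟨k, hk⟩ := key 5 (.inr rfl) hr
    have h1 := (hk.resolve_right (by omega)).1
    have h2 := (Nat.prime_dvd_prime_iff_eq Nat.prime_two h.prime).1
      (Nat.prime_two.dvd_of_dvd_pow (n := k) (by rw [h1]; norm_num))
    have h3 := (Nat.prime_dvd_prime_iff_eq Nat.prime_three h.prime).1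
      (Nat.prime_three.dvd_of_dvd_pow (n := k) (by rw [h1]; norm_num))
    omega

end Cfsg.Lib.Ngrp
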