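import Cfsg.Agent.Ngrp.M12B

/-!
# The shape of `M₁₂` does not occur: the end of the proof
-/

set_option autoImplicit false

namespace Cfsg.Lib.Ngrp.M12
open Subgroup Cfsg.Lib.Trans Cfsg.Lib.Local Cfsg.Lib.Local.JC Cfsg.Lib.Ngrp.Geo
open scoped commutatorElement

variable {G : Type*} [Group G]

/-- The elements of weight zero. -/
def EE (Y : Subgroup G) : Subgroup G := ⨅ (p : G) (_ : p ∈ Y) (_ : p ≠ 1), XX p

theorem mem_EE {Y : Subgroup G} {r : G} : r ∈ EE Y ↔ ∀ p ∈ Y, p ≠ 1 → r ∈ XX p := by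
  simp only [EE, mem_iInf]

theorem conj_XX_iff {m p r : G} : m * r * m⁻¹ ∈ XX p ↔ r ∈ XX (m⁻¹ * p * m⁻¹⁻¹) := by
  rw [← cj_XX, mem_cj_inv]

theorem norm_EE [Finite G] (Y : Subgroup G) :
    normalizer (Y : Set G) ≤ normalizer (EE Y : Set G) := fun _ hm =>
  mem_normalizer_of_cj_le (cj_le_iff.2 fun _ hr => mem_EE.2 fun _ hp h1 =>
    conj_XX_iff.2 (mem_EE.1 hr _ (mem_normalizer_conj (inv_mem hm) hp) (conj_ne_one h1)))

/-- Even weight. -/
def Ev (z y r : G) : Prop := r ∈ XX z ↔ (r ∈ XX y ↔ r ∈ XX (z * y))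

/-- No element of order four commutes with `x`. -/
def No4 (x : G) : Prop := ∀ n : G, n * n * (n * n) = 1 → n ∈ Cz x → n * n = 1

theorem No4.conj {x x' : G} (h : No4 x) (hc : IsConj x x') : No4 x' := fun n h1 h2 => by
  obtain ⟨c, rfl⟩ := isConj_iff.1 hc.symm
  have := h (c * n * c⁻¹) (by rw [conj_mul, conj_mul, h1]; group) (conj_mem_Cz c h2)
  rw [conj_mul] at this
  exact conj_inj (this.trans (by group))

theorem isConj_of {a b : G} (c : G) (h : c * a * c⁻¹ = b) : IsConj a b := isConj_iff.2 ⟨c, h⟩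

namespace St
variable [Finite G] {S : Sylow 2 G} {Y : Subgroup G} {z y u a w h t g d : G}
  (H : St S Y z y u a w h t g d)
include H

theorem gcu (r : G) : ⁅g * r * g⁻¹, a⁆ = g * ⁅r, u⁆ * g⁻¹ := by rw [conj_comm, H.gu]

theorem gca (r : G) : ⁅g * r * g⁻¹, w⁆ = g * ⁅r, a⁆ * g⁻¹ := by rw [conj_comm, H.ga]

theorem gcw (r : G) : ⁅g * r * g⁻¹, u⁆ = g * ⁅r, w⁆ * g⁻¹ := by rw [conj_comm, H.gw]

theorem no2 {r : G} (hr : r ∈ centralizer (Y : Set G)) (h1 : ⁅r, u⁆ = 1) (h2 : ⁅r, a⁆ = y)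
    (h3 : ⁅r, w⁆ = 1) : False := by
  rw [commutatorElement_eq_one_iff_mul_comm] at h1 h3
  have hv := H.tL r (H.loc.cent_of hr H.uU H.uY h1.symm)
  have h4 := conj_cent (m := t) (H.loczy.cent_of hr H.wU H.wY h3.symm)
  rw [H.Szy H.tS H.tR] at h4
  have h5 := comm_one (h4 a H.aU).symm
  rw [conj_eq_comm, comm_left_Y (H.loc.cent hv) (H.ca hr), h2, ← commutatorElement_inv] at h5
  by_cases hY : ⁅t, r⁆ ∈ Y
  · rw [comm_one (H.aR _ hY).symm] at h5; simp only [H.nf] at h5; exact H.y1 h5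
  · rw [H.av hv hY] at h5; simp only [H.nf] at h5; exact H.z1 h5

theorem no1 {r : G} (hr : r ∈ centralizer (Y : Set G)) (h1 : ⁅r, u⁆ = z) (h2 : ⁅r, a⁆ = 1)
    (h3 : ⁅r, w⁆ = 1) : False :=
  H.no2 (conjR H.gM hr) (by rw [H.gcw, h3]; group) (by rw [H.gcu, h1, H.gz])
    (by rw [H.gca, h2]; group)

theorem no3 {r : G} (hr : r ∈ centralizer (Y : Set G)) (h1 : ⁅r, u⁆ = 1) (h2 : ⁅r, a⁆ = 1)
    (h3 : ⁅r, w⁆ = z * y) : False :=
  H.no1 (conjR H.gM hr) (by rw [H.gcw, h3, H.gzy]) (by rw [H.gcu, h1]; group)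
    (by rw [H.gca, h2]; group)

theorem Y_of {r : G} (hr : r ∈ centralizer (Y : Set G)) (h1 : ⁅r, u⁆ = 1) (h2 : ⁅r, a⁆ = 1)
    (h3 : ⁅r, w⁆ = 1) : r ∈ Y := by
  rw [commutatorElement_eq_one_iff_mul_comm] at h1 h2 h3
  exact H.R1Y (H.R1_of hr h1.symm h2.symm h3.symm)

theorem memEE {r : G} : r ∈ EE Y ↔ r ∈ XX z ∧ r ∈ XX y ∧ r ∈ XX (z * y) := by
  refine mem_EE.trans ⟨fun h => ⟨h _ H.zY H.z1, h _ H.yY H.y1, h _ H.zyY H.zy1⟩, fun h p hp p1 => ?_⟩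
  rcases H.memY.1 hp with rfl | rfl | rfl | rfl
  exacts [absurd rfl p1, h.1, h.2.1, h.2.2]

theorem ER {r : G} (hr : r ∈ EE Y) : r ∈ centralizer (Y : Set G) :=
  H.memR.2 ⟨XX_le_Cz _ (H.memEE.1 hr).1, XX_le_Cz _ (H.memEE.1 hr).2.1⟩

theorem YE {x : G} (hx : x ∈ Y) : x ∈ EE Y := mem_EE.2 fun _ hp h1 => H.YX hp h1 hx

theorem hE : h ∈ EE Y :=
  H.memEE.2 ⟨H.hX, (H.Xa H.hR).2 (Or.inr H.ha), (H.Xw H.hR).2 (Or.inr H.hw)⟩

theorem E_cases {r : G} (hr : r ∈ EE Y) : ∃ x ∈ Y, r = x ∨ r = h * x := by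
  have hR := H.ER hr
  obtain ⟨h1, h2, h3⟩ := H.memEE.1 hr
  rw [H.Xu (H.RS hR)] at h1
  rw [H.Xa hR] at h2
  rw [H.Xw hR] at h3
  have e1 : ⁅h * r, u⁆ = ⁅r, u⁆ * z := by rw [comm_left_Y H.hR (H.cu (H.RS hR) H.uU), H.hu]
  have e2 : ⁅h * r, a⁆ = ⁅r, a⁆ * y := by rw [comm_left_Y H.hR (H.ca hR), H.ha]
  have e3 : ⁅h * r, w⁆ = ⁅r, w⁆ * (z * y) := by rw [comm_left_Y H.hR (H.cw hR), H.hw]
  have hR' := mul_mem H.hR hR
  have zy2 := H.sqY H.zyY
  rcases h1 with h1 | h1 <;> rcases h2 with h2 | h2 <;> rcases h3 with h3 | h3 <;>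
    simp only [h1, h2, h3, one_mul, H.zz, H.yy, zy2] at e1 e2 e3
  · exact ⟨r, H.Y_of hR h1 h2 h3, Or.inl rfl⟩
  · exact (H.no3 hR h1 h2 h3).elim
  · exact (H.no2 hR h1 h2 h3).elim
  · exact (H.no1 hR' e1 e2 e3).elim
  · exact (H.no1 hR h1 h2 h3).elim
  · exact (H.no2 hR' e1 e2 e3).elim
  · exact (H.no3 hR' e1 e2 e3).elim
  · exact ⟨_, H.Y_of hR' e1 e2 e3, Or.inr (by rw [← mul_assoc, H.h2, one_mul])⟩

theorem Eh {r : G} (hr : r ∈ EE Y) : r ∈ Cz h := by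
  obtain ⟨x, hx, rfl | rfl⟩ := H.E_cases hr
  · exact mem_Cz.2 (H.hR _ hx)
  · exact mul_mem (self_mem_Cz _) (mem_Cz.2 (H.hR _ hx))

theorem Esq {r : G} (hr : r ∈ EE Y) : r * r = 1 := by
  obtain ⟨x, hx, rfl | rfl⟩ := H.E_cases hr
  · exact H.sqY hx
  · rw [mul_assoc, ← mul_assoc x, H.hR x hx, mul_assoc, H.sqY hx, mul_one, H.h2]

theorem wt {p r r' : G} (hp : p ∈ Y) (h1 : p ≠ 1) (hr : r ∈ centralizer (Y : Set G))
    (hr' : r' ∈ centralizer (Y : Set G)) : r * r' ∈ XX p ↔ (r ∈ XX p ↔ r' ∈ XX p) :=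
  (H.locp hp h1).idxX.mul_mem_iff ⟨le_Cz_of_mem hp hr, centralizer_le_normalizer _ hr⟩
    ⟨le_Cz_of_mem hp hr', centralizer_le_normalizer _ hr'⟩

theorem wts : (u ∈ XX z ∧ u ∉ XX y ∧ u ∉ XX (z * y)) ∧ (a ∉ XX z ∧ a ∈ XX y ∧ a ∉ XX (z * y)) ∧
    (w ∉ XX z ∧ w ∉ XX y ∧ w ∈ XX (z * y)) := by
  have h1 : w ∉ XX y := H.ga ▸ H.gX.not.2 H.aX
  have h2 : u ∉ XX y := H.gw ▸ H.gX.not.2 H.wX
  exact ⟨⟨UU_le_XX _ H.uU, h2, H.gw ▸ H.gX'.not.2 h1⟩,
    ⟨H.aX, UU_le_XX _ H.aU, H.gu ▸ H.gX'.not.2 h2⟩, H.wX, h1, UU_le_XX _ H.wU⟩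

theorem wt3 {r r' : G} (hr : r ∈ centralizer (Y : Set G)) (hr' : r' ∈ centralizer (Y : Set G)) :
    (r * r' ∈ XX z ↔ (r ∈ XX z ↔ r' ∈ XX z)) ∧ (r * r' ∈ XX y ↔ (r ∈ XX y ↔ r' ∈ XX y)) ∧
      (r * r' ∈ XX (z * y) ↔ (r ∈ XX (z * y) ↔ r' ∈ XX (z * y))) :=
  ⟨H.wt H.zY H.z1 hr hr', H.wt H.yY H.y1 hr hr', H.wt H.zyY H.zy1 hr hr'⟩

theorem ev_mul {r r' : G} (hr : r ∈ centralizer (Y : Set G)) (hr' : r' ∈ centralizer (Y : Set G)) :
    Ev z y (r * r') ↔ (Ev z y r ↔ Ev z y r') := by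
  simp only [Ev, H.wt3 hr hr']
  generalize (r ∈ XX z) = p1, (r ∈ XX y) = p2, (r ∈ XX (z * y)) = p3, (r' ∈ XX z) = q1,
    (r' ∈ XX y) = q2, (r' ∈ XX (z * y)) = q3
  by_cases h1 : p1 <;> by_cases h2 : p2 <;> by_cases h3 : p3 <;> by_cases h4 : q1 <;>
    by_cases h5 : q2 <;> simp [h1, h2, h3, h4, h5]

theorem dec {r : G} (hr : r ∈ centralizer (Y : Set G)) : ∃ s, (s = 1 ∨ s = u ∨ s = a ∨ s = w) ∧
    ((Ev z y r ∧ s * r ∈ EE Y) ∨
      (¬ Ev z y r ∧ s * r ∉ XX z ∧ s * r ∉ XX y ∧ s * r ∉ XX (z * y))) := by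
  have hu := H.wt3 H.uR hr
  have ha := H.wt3 H.aR hr
  have hw := H.wt3 H.wR hr
  simp only [H.wts, true_iff, false_iff] at hu ha hw
  simp only [exists_eq_or_imp, exists_eq_left, H.memEE, one_mul, hu, ha, hw, Ev]
  by_cases h1 : r ∈ XX z <;> by_cases h2 : r ∈ XX y <;> by_cases h3 : r ∈ XX (z * y) <;>
    simp [h1, h2, h3]

theorem dec_ev {r : G} (hr : r ∈ centralizer (Y : Set G)) (he : Ev z y r) :
    ∃ s, (s = 1 ∨ s = u ∨ s = a ∨ s = w) ∧ ∃ x ∈ Y, r = s * x ∨ r = s * (h * x) := by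
  obtain ⟨s, hs, ⟨-, h1⟩ | ⟨h1, -⟩⟩ := H.dec hr
  · obtain ⟨x, hx, h2⟩ := H.E_cases h1
    have e : s * s = 1 := by rcases hs with e | e | e | e <;> rw [e] <;> simp only [H.nf]
    refine ⟨s, hs, x, hx, h2.imp (fun e' => ?_) fun e' => ?_⟩ <;>
      rw [← e', ← mul_assoc, e, one_mul]
  · exact absurd he h1

theorem conj_h {x : G} (hx : x ∈ Y) : IsConj h (h * x) := by
  rcases H.memY.1 hx with e | e | e | e <;> rw [e]
  · rw [mul_one]
  · exact isConj_of u (by simp only [H.nf])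
  · exact isConj_of a (by simp only [H.nf])
  · exact isConj_of w (by simp only [H.nf])

theorem conj_Y {x : G} (hx : x ∈ Y) (h1 : x ≠ 1) : IsConj z x := by
  rcases H.memY.1 hx with e | e | e | e <;> rw [e]
  · exact absurd e h1
  · exact isConj_of g H.gz
  · exact (isConj_of g H.gz).trans (isConj_of g H.gy)

theorem conj_u {x : G} (hx : x ∈ Y) : IsConj z (u * x) := by
  refine ((isConj_of g H.gz).trans (isConj_of d H.du)).trans ?_
  rcases H.memY.1 hx with e | e | e | e <;> rw [e]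
  · rw [mul_one]
  · exact isConj_of h (by simp only [H.nf])
  · exact isConj_of w (by simp only [H.nf])
  · exact isConj_of a (by simp only [H.nf])

theorem conj_a {x : G} (hx : x ∈ Y) : IsConj z (a * x) :=
  (H.conj_u (mem_normalizer_conj' H.gM hx)).trans (isConj_of g (by rw [← H.gu]; group))

theorem conj_w {x : G} (hx : x ∈ Y) : IsConj z (w * x) :=
  (H.conj_a (mem_normalizer_conj' H.gM hx)).trans (isConj_of g (by rw [← H.ga]; group))

theorem inv_ev {r : G} (hr : r ∈ centralizer (Y : Set G)) (he : Ev z y r) (h2 : r * r = 1) :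
    ∃ x ∈ Y, r = x ∨ r = u * x ∨ r = a * x ∨ r = w * x ∨ r = h * x := by
  obtain ⟨s, hs, x, hx, e | e⟩ := H.dec_ev hr he
  · refine ⟨x, hx, ?_⟩
    rcases hs with e' | e' | e' | e' <;> rw [e'] at e <;> simp [e]
  · have e1 : r * r = s * h * (s * h) := by
      have hs' : s ∈ centralizer (Y : Set G) := by
        rcases hs with e' | e' | e' | e' <;> rw [e']
        exacts [one_mem _, H.uR, H.aR, H.wR]
      rw [e, ← mul_assoc s h, mul_assoc _ x, ← mul_assoc x, mul_mem hs' H.hR x hx, mul_assoc _ x,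
        H.sqY hx, mul_one]
    rw [h2] at e1
    rcases hs with e' | e' | e' | e' <;> rw [e'] at e1 e
    · exact ⟨x, hx, by simp [e]⟩
    · simp only [H.nf] at e1; exact absurd e1.symm H.z1
    · simp only [H.nf] at e1; exact absurd e1.symm H.y1
    · simp only [H.nf] at e1; exact absurd e1.symm H.zy1

theorem inv_conj {r : G} (hr : r ∈ centralizer (Y : Set G)) (he : Ev z y r) (h2 : r * r = 1)
    (h1 : r ≠ 1) : IsConj z r ∨ IsConj h r := by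
  obtain ⟨x, hx, rfl | rfl | rfl | rfl | rfl⟩ := H.inv_ev hr he h2
  exacts [Or.inl (H.conj_Y hx h1), Or.inl (H.conj_u hx), Or.inl (H.conj_a hx),
    Or.inl (H.conj_w hx), Or.inr (H.conj_h hx)]

theorem cent_h {r : G} (hr : r ∈ centralizer (Y : Set G)) (he : Ev z y r) (hc : r ∈ Cz h) :
    r ∈ EE Y := by
  obtain ⟨s, hs, ⟨-, h1⟩ | ⟨h1, -⟩⟩ := H.dec hr
  · have h2 := comm_one (mem_Cz.1 (((Cz h).mul_mem_cancel_right hc).1 (H.Eh h1))).symm
    rcases hs with e | e | e | e <;> rw [e] at h1 h2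
    · rwa [one_mul] at h1
    · exact absurd (H.hu ▸ h2) H.z1
    · exact absurd (H.ha ▸ h2) H.y1
    · exact absurd (H.hw ▸ h2) H.zy1
  · exact absurd he h1

theorem NE : normalizer (EE Y : Set G) ≤ normalizer (Y : Set G) :=
  H.nat.max _ (S.isPGroup'.to_le fun _ hr => H.RS (H.ER hr))
    (fun e => H.z1 (mem_bot.1 (e ▸ H.YE H.zY))) (norm_EE Y)

theorem not_no4_z : ¬ No4 z := fun hh => by
  have := hh (u * a) (by simp only [H.nf]) (H.SC (H.RS (mul_mem H.uR H.aR)))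
  simp only [H.nf] at this
  exact H.zy1 this

theorem not_no4 {s : G} (hs : s ∈ (S : Subgroup G)) (hR : s ∉ centralizer (Y : Set G))
    (h2 : s * s = 1) : ¬ No4 s := fun hh => by
  have h3 : s * a * s⁻¹ ∈ UU (z * y) := H.Sy' hs hR ▸ conj_mem_UU s H.aU
  have h4 : w * (s * a * s⁻¹) ∈ Y := H.loczy.idx _ H.wU _ h3 H.wY
    fun hh => H.aY ((mem_normalizer_iff.1 (H.SM hs) a).2 hh)
  have e1 : s * (u * a) * s⁻¹ = ⁅s, u⁆ * u * (w * (w * (s * a * s⁻¹))) := by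
    rw [← conj_mul, conj_eq_comm s u, ← mul_assoc w w, H.nf0.2.2.1, one_mul]
  have h5 := H.cu hs H.uU
  generalize ⁅s, u⁆ = x at *
  generalize w * (s * a * s⁻¹) = x' at *
  have e2 : u * a * (x * u * (w * x')) * (u * a * (x * u * (w * x'))) = z ∧
      u * a * (x * u * (w * x')) = x * u * (w * x') * (u * a) := by
    rcases H.memY.1 h4 with e | e | e | e <;> rcases H.memY.1 h5 with e' | e' | e' | e' <;>
      rw [e, e'] <;> simp only [H.nf, and_self]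
  have := hh (u * a * (s * (u * a) * s⁻¹)) (by rw [e1, e2.1, H.zz]) (Cz_symm (mem_Cz'.2 (by
    calc _ = s * (u * a) * s⁻¹ * (s * s * (u * a) * (s * s)⁻¹) := by group
      _ = _ := by rw [h2, e1, e2.2]; group)))
  rw [e1, e2.1] at this
  exact H.z1 this

theorem W_sq {r : G} (hr : r ∈ centralizer (Y : Set G)) (h1 : r ∉ XX z) (h2 : r ∉ XX y)
    (h3 : r ∉ XX (z * y)) : r * r = 1 := by
  have k1 : ⁅g, r⁆ ∈ EE Y := by
    rw [commutatorElement_def, H.memEE]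
    simp only [H.wt3 (conjR H.gM hr) (inv_mem hr), H.gX, H.gX', H.gX'', inv_mem_iff, h1, h2, h3,
      and_self]
  have k2 : ⁅g, r⁆ ∈ Y := by
    obtain ⟨x, hx, e | e⟩ := H.E_cases k1
    · exact e ▸ hx
    · have k3 : ⁅g * g * g, r⁆ = 1 := by rw [H.g3, commutatorElement_one_left]
      have key : ∀ x, g * (h * x) * g⁻¹ = h * (g * x * g⁻¹) := fun x => by rw [← conj_mul, H.gh]
      have gx := mem_normalizer_conj H.gM hx
      have ggx := mem_normalizer_conj H.gM gx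
      rw [mul_assoc, comm_mul_left, comm_mul_left, e, key, ← conj_mul, key, key] at k3
      generalize g * x * g⁻¹ = x' at *
      generalize g * x' * g⁻¹ = x'' at *
      rw [mul_assoc h x'', ← mul_assoc x'', H.hR _ ggx, ← mul_assoc h, ← mul_assoc h, H.h2,
        one_mul] at k3
      have k4 : h * x ∈ Y := by rw [← Y.mul_mem_cancel_left (mul_mem ggx gx), k3]; exact one_mem _
      exact e ▸ k4
  have sq : ∀ v, ⁅r, v⁆ ∈ Y → ⁅r * r, v⁆ = 1 := fun v hv => by rw [comm_left_Y hr hv, H.sqY hv]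
  have k4 := H.Y_of (mul_mem hr hr) (sq _ (H.cu (H.RS hr) H.uU)) (sq _ (H.ca hr)) (sq _ (H.cw hr))
  have k5 : g * (r * r) * g⁻¹ = r * r := by
    rw [← conj_mul, conj_eq_comm, mul_assoc, ← mul_assoc r, ← hr _ k2, ← mul_assoc, ← mul_assoc,
      H.sqY k2, one_mul]
  rcases H.memY.1 k4 with e | e | e | e <;> rw [e] at k5 ⊢
  · exact absurd (H.gz ▸ k5) H.yz
  · exact absurd (H.gy ▸ k5) H.zyy
  · exact absurd (H.gzy ▸ k5).symm H.zyz

/-- The elements of even weight. -/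
def TT : Subgroup G where
  carrier := {r | r ∈ centralizer (Y : Set G) ∧ Ev z y r}
  one_mem' := ⟨one_mem _, by simp [Ev]⟩
  mul_mem' h1 h2 := ⟨mul_mem h1.1 h2.1, (H.ev_mul h1.1 h2.1).2 (iff_of_true h1.2 h2.2)⟩
  inv_mem' h1 := ⟨inv_mem h1.1, by simpa only [Ev, inv_mem_iff] using h1.2⟩

/-- The elements of weight `0` or `3`. -/
def AA : Subgroup G where
  carrier := {r | r ∈ centralizer (Y : Set G) ∧
    ∀ p ∈ Y, p ≠ 1 → ∀ q ∈ Y, q ≠ 1 → (r ∈ XX p ↔ r ∈ XX q)}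
  one_mem' := ⟨one_mem _, by simp⟩
  mul_mem' h1 h2 := ⟨mul_mem h1.1 h2.1, fun p hp p1 q hq q1 => by
    rw [H.wt hp p1 h1.1 h2.1, H.wt hq q1 h1.1 h2.1, h1.2 p hp p1 q hq q1, h2.2 p hp p1 q hq q1]⟩
  inv_mem' h1 := ⟨inv_mem h1.1, by simpa only [inv_mem_iff] using h1.2⟩

theorem mem_AA {r : G} : r ∈ H.AA ↔ r ∈ EE Y ∨
    (r ∈ centralizer (Y : Set G) ∧ r ∉ XX z ∧ r ∉ XX y ∧ r ∉ XX (z * y)) := by
  constructor
  · rintro ⟨h1, h2⟩
    have h3 := h2 z H.zY H.z1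
    by_cases h4 : r ∈ XX z
    · exact Or.inl (mem_EE.2 fun p hp p1 => (h3 p hp p1).1 h4)
    · exact Or.inr ⟨h1, h4, (h3 _ H.yY H.y1).not.1 h4, (h3 _ H.zyY H.zy1).not.1 h4⟩
  · rintro (h1 | ⟨h1, h2, h3, h4⟩)
    · exact ⟨H.ER h1, fun p hp p1 q hq q1 => iff_of_true (mem_EE.1 h1 p hp p1) (mem_EE.1 h1 q hq q1)⟩
    · have : ∀ p ∈ Y, p ≠ 1 → r ∉ XX p := fun p hp p1 => by
        rcases H.memY.1 hp with rfl | rfl | rfl | rfl
        exacts [absurd rfl p1, h2, h3, h4]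
      exact ⟨h1, fun p hp p1 q hq q1 => iff_of_false (this p hp p1) (this q hq q1)⟩

theorem A_sq {r : G} (hr : r ∈ H.AA) : r * r = 1 := by
  rcases H.mem_AA.1 hr with h1 | ⟨h1, h2, h3, h4⟩
  exacts [H.Esq h1, H.W_sq h1 h2 h3 h4]

theorem A_comm {r r' : G} (hr : r ∈ H.AA) (hr' : r' ∈ H.AA) : r * r' = r' * r := by
  rw [← inv_eq_of_mul_eq_one_right (H.A_sq (mul_mem hr hr')), mul_inv_rev,
    inv_eq_of_mul_eq_one_right (H.A_sq hr), inv_eq_of_mul_eq_one_right (H.A_sq hr')]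

theorem norm_AA : normalizer (Y : Set G) ≤ normalizer (H.AA : Set G) := fun m hm =>
  mem_normalizer_of_cj_le (cj_le_iff.2 fun _ hr => ⟨conjR hm hr.1, fun p hp p1 q hq q1 => by
    rw [conj_XX_iff, conj_XX_iff]
    exact hr.2 _ (mem_normalizer_conj (inv_mem hm) hp) (conj_ne_one p1) _
      (mem_normalizer_conj (inv_mem hm) hq) (conj_ne_one q1)⟩)

theorem cent_W {r s : G} (hr : r ∈ H.AA) (hE : r ∉ EE Y) (hs : s ∈ (S : Subgroup G))
    (hc : s ∈ Cz r) : s ∈ H.AA := by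
  obtain ⟨rR, h1, h2, h3⟩ := (H.mem_AA.1 hr).resolve_left hE
  rw [H.Xu (H.RS rR)] at h1
  by_cases hR : s ∈ centralizer (Y : Set G)
  · obtain ⟨v, hv, h4⟩ := H.dec hR
    have vR : v ∈ centralizer (Y : Set G) := by
      rcases hv with e | e | e | e <;> rw [e]
      exacts [one_mem _, H.uR, H.aR, H.wR]
    have h5 : v * s ∈ H.AA := H.mem_AA.2 (h4.imp And.right fun h => ⟨mul_mem vR hR, h.2⟩)
    have h6 := comm_one (mem_Cz.1 (((Cz r).mul_mem_cancel_right hc).1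
      (mem_Cz.2 (H.A_comm h5 hr)))).symm
    rcases hv with e | e | e | e <;> rw [e] at h5 h6
    · rwa [one_mul] at h5
    · exact absurd (Or.inl h6) h1
    · exact absurd ((H.Xa rR).2 (Or.inl h6)) h2
    · exact absurd ((H.Xw rR).2 (Or.inl h6)) h3
  · have e : s * ⁅r, u⁆ * s⁻¹ = ⁅r, u⁆ := by
      rw [conj_comm, Cz_conj hc, conj_eq_comm, comm_right_Y (H.YR (H.cu hs H.uU))
        (H.cu (H.RS rR) H.uU), comm_one (rR _ (H.cu hs H.uU)).symm, one_mul]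
    rcases H.memY.1 (H.cu (H.RS rR) H.uU) with e' | e' | e' | e'
    · exact absurd (Or.inl e') h1
    · exact absurd (Or.inr e') h1
    · rw [e', H.Sy' hs hR] at e; exact absurd e H.zyy
    · rw [e', H.Szy hs hR] at e; exact absurd e.symm H.zyy

theorem no4_W {r : G} (hr : r ∈ H.AA) (hE : r ∉ EE Y) : No4 r := fun n h1 h2 => by
  have hA : IsPGroup 2 H.AA := S.isPGroup'.to_le fun _ hx => H.RS hx.1
  have hN := H.nat.max _ hA (fun e => H.z1 (mem_bot.1 (e ▸ H.mem_AA.2 (Or.inl (H.YE H.zY)))))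
    H.norm_AA
  have hS : IsSylowIn 2 H.AA (Cz r) := by
    refine isSylowIn_of_maximal (fun x hx => mem_Cz.2 (H.A_comm hx hr)) hA fun Q hQ h3 h4 => ?_
    by_contra h5
    obtain ⟨x, ⟨x1, x2⟩, x3⟩ := SetLike.exists_of_lt
      (lt_inf_normalizer hQ (lt_of_le_of_ne h3 fun e => h5 e.ge))
    obtain ⟨m, hm, hle⟩ := (isSylowIn_of_le S H.SM).exists_cj_le
      (hQ.to_le (inf_le_left (b := normalizer (Y : Set G)))) inf_le_right
    exact x3 ((mem_normalizer_iff.1 (H.norm_AA hm) x).2 (H.cent_W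
      (mem_normalizer_conj (H.norm_AA hm) hr)
      (fun hh => hE ((mem_normalizer_iff.1 (norm_EE Y hm) r).2 hh))
      (cj_le_iff.1 hle x ⟨x1, hN x2⟩) (conj_mem_Cz m (h4 x1))))
  obtain ⟨c, -, hc⟩ := hS.exists_cj_le (Solv.PG.isPGroup_zpowers (x := n) (k := 2)
    (by rw [← h1, pow_two, pow_mul, pow_two, pow_two])) (zpowers_le.2 h2)
  have := H.A_sq (cj_le_iff.1 hc n (mem_zpowers n))
  rw [conj_mul] at this
  exact conj_inj (this.trans (by group))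

theorem all_ev (hG : ∀ K : Subgroup G, K.index ≠ 2) {r : G} (hr : r ∈ centralizer (Y : Set G)) :
    Ev z y r := by
  by_contra he
  obtain ⟨v, hv, ⟨h0, -⟩ | ⟨-, h1⟩⟩ := H.dec hr
  · exact he h0
  have vR : v ∈ centralizer (Y : Set G) := by
    rcases hv with e | e | e | e <;> rw [e]
    exacts [one_mem _, H.uR, H.aR, H.wR]
  have rA : v * r ∈ H.AA := H.mem_AA.2 (Or.inr ⟨mul_mem vR hr, h1⟩)
  have rE : v * r ∉ EE Y := fun hh => h1.1 (H.memEE.1 hh).1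
  generalize v * r = r at rA rE
  have r1 : r ≠ 1 := fun e => rE (e ▸ one_mem _)
  have tM := H.SM H.tS
  have ti : t⁻¹ = t := inv_eq_of_mul_eq_one_right H.t2
  have ev_t : ∀ x, Ev z y (t * x * t⁻¹) ↔ Ev z y x := fun x => by
    simp only [Ev, conj_XX_iff]
    rw [ti, Cz_conj (H.SC H.tS), H.Sy' H.tS H.tR, H.Szy H.tS H.tR, iff_comm (a := x ∈ XX y)]
  have tN : t ∈ normalizer (H.TT : Set G) := mem_normalizer_of_cj_le
    (cj_le_iff.2 fun x hx => ⟨conjR tM hx.1, (ev_t x).2 hx.2⟩)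
  have hm : ∀ x, x ∈ H.TT ⊔ zpowers t ↔ x ∈ H.TT ∨ t * x ∈ H.TT := fun x =>
    mem_sup_zpowers_two tN (H.t2 ▸ one_mem _)
  have odd : ∀ x ∈ centralizer (Y : Set G), ∀ x' ∈ centralizer (Y : Set G), x ∉ H.TT →
      x' ∉ H.TT → x * x' ∈ H.TT ∧ t * x * t⁻¹ * x' ∈ H.TT := fun x hx x' hx' h1 h2 => by
    have h3 : ¬ Ev z y x := fun hh => h1 ⟨hx, hh⟩
    have h4 : ¬ Ev z y x' := fun hh => h2 ⟨hx', hh⟩
    exact ⟨⟨mul_mem hx hx', (H.ev_mul hx hx').2 (iff_of_false h3 h4)⟩, mul_mem (conjR tM hx) hx',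
      (H.ev_mul (conjR tM hx) hx').2 (iff_of_false ((ev_t x).not.2 h3) h4)⟩
  have idx : IdxLeTwo (H.TT ⊔ zpowers t) (S : Subgroup G) := fun s hs s' hs' h1 h2 => by
    rw [hm, not_or] at h1 h2
    rw [hm]
    by_cases k1 : s ∈ centralizer (Y : Set G) <;> by_cases k2 : s' ∈ centralizer (Y : Set G)
    · exact Or.inl (odd s k1 s' k2 h1.1 h2.1).1
    · have := (odd s k1 _ (H.idxR t H.tS s' hs' H.tR k2) h1.1 h2.2).2
      exact Or.inr (by simpa only [mul_assoc, inv_mul_cancel_left] using this)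
    · exact Or.inr (mul_assoc t s s' ▸ (odd _ (H.idxR t H.tS s hs H.tR k1) s' k2 h1.2 h2.1).1)
    · have := (odd _ (H.idxR t H.tS s hs H.tR k1) _ (H.idxR t H.tS s' hs' H.tR k2) h1.2 h2.2).2
      rw [← mul_assoc t t, H.t2] at this
      exact Or.inl (by simpa only [mul_assoc, inv_mul_cancel_left, one_mul] using this)
  obtain ⟨s, hc, hs, hs'⟩ := thompson_idx' hG S idx
    (orderOf_eq_prime (by rw [pow_two]; exact H.A_sq rA) r1)
  have hn := (H.no4_W rA rE).conj hc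
  obtain ⟨c, hc'⟩ := isConj_iff.1 hc
  have s2 : s * s = 1 := by rw [← hc', conj_mul, H.A_sq rA]; group
  by_cases sR : s ∈ centralizer (Y : Set G)
  · rcases (hm s).1 hs' with k | k
    · rcases H.inv_conj sR k.2 s2 (hc' ▸ conj_ne_one r1) with k' | k'
      · exact H.not_no4_z (hn.conj k'.symm)
      · exact H.not_no4 H.tS H.tR H.t2
          ((hn.conj k'.symm).conj (isConj_of d⁻¹ (by rw [inv_inv, H.ht])))
    · exact H.tR (((centralizer _).mul_mem_cancel_right sR).1 k.1)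
  · exact H.not_no4 hs sR s2 hn

section Even
variable (hev : ∀ r ∈ centralizer (Y : Set G), Ev z y r)
include hev

theorem inv_out {s : G} (hs : s ∈ (S : Subgroup G)) (hR : s ∉ centralizer (Y : Set G))
    (h2 : s * s = 1) : IsConj h s := by
  have sy := H.Sy' hs hR
  have k1 : s * ⁅s, u⁆ * s⁻¹ * ⁅s, u⁆ = 1 := by rw [← comm_mul_left, h2, commutatorElement_one_left]
  have k2 : ⁅s, u⁆ = 1 ∨ ⁅s, u⁆ = z := by
    rcases H.memY.1 (H.cu hs H.uU) with e | e | e | e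
    · exact Or.inl e
    · exact Or.inr e
    · rw [e, sy] at k1; simp only [H.nf] at k1; exact absurd k1 H.z1
    · rw [e, H.Szy hs hR] at k1; simp only [H.nf] at k1; exact absurd k1 H.z1
  obtain ⟨c, hc, hc'⟩ : ∃ c ∈ Cz z, s ∈ Cz (c * y * c⁻¹) := by
    rcases k2 with e | e
    · exact ⟨d, H.dC, mem_Cz.2 (H.du ▸ commutatorElement_eq_one_iff_mul_comm.1 e)⟩
    · refine ⟨w * d, mul_mem (H.SC (H.RS H.wR)) H.dC, mem_Cz'.2 ?_⟩
      have : w * d * y * (w * d)⁻¹ = u * y := by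
        calc _ = w * (d * y * d⁻¹) * w⁻¹ := by group
          _ = _ := by rw [H.du]; simp only [H.nf]
      rw [this, ← conj_mul, sy, conj_eq_comm, e]
      simp only [H.nf]
  have q1 : c⁻¹ * s * c⁻¹⁻¹ ∈ XX z := conj_mem_XX_of_mem (inv_mem hc) ((H.Xu hs).2 k2)
  have q2 : c⁻¹ * s * c⁻¹⁻¹ ∈ centralizer (Y : Set G) := H.memR.2 ⟨XX_le_Cz _ q1, by
    have := conj_mem_Cz c⁻¹ hc'
    rwa [show c⁻¹ * (c * y * c⁻¹) * c⁻¹⁻¹ = y by group] at this⟩
  have q3 : c⁻¹ * s * c⁻¹⁻¹ ∉ UU z := fun hh => hR (H.loc.cent (by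
    have := conj_mem_UU_of_mem hc hh
    simpa [mul_assoc] using this))
  obtain ⟨x, hx, e | e | e | e | e⟩ := H.inv_ev q2 (hev _ q2) (by rw [conj_mul, h2]; group)
  · exact absurd (e ▸ H.loc.fl.le_UU hx) q3
  · exact absurd (e ▸ mul_mem H.uU (H.loc.fl.le_UU hx)) q3
  · exact absurd (((XX z).mul_mem_cancel_right (H.YX H.zY H.z1 hx)).1 (e ▸ q1)) H.aX
  · exact absurd (((XX z).mul_mem_cancel_right (H.YX H.zY H.z1 hx)).1 (e ▸ q1)) H.wX
  · exact (H.conj_h hx).trans (e ▸ (isConj_of c⁻¹ rfl).symm)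

theorem cls {i : G} (h2 : i * i = 1) (h1 : i ≠ 1) : IsConj z i ∨ IsConj h i := by
  obtain ⟨s, hc, hs⟩ := exists_conj_mem_sylow_two S (orderOf_eq_prime (by rw [pow_two, h2]) h1)
  obtain ⟨c, hc'⟩ := isConj_iff.1 hc
  have s2 : s * s = 1 := by rw [← hc', conj_mul, h2]; group
  by_cases sR : s ∈ centralizer (Y : Set G)
  · exact (H.inv_conj sR (hev s sR) s2 (hc' ▸ conj_ne_one h1)).imp (·.trans hc.symm)
      (·.trans hc.symm)
  · exact Or.inr ((H.inv_out hev hs sR s2).trans hc.symm)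

theorem ChM : Cz h ≤ normalizer (Y : Set G) := by
  have hD := isPGroup_pCoreOf (p := 2) (Cz h)
  have hN := le_normalizer_pCoreOf (p := 2) (Cz h)
  have hle := pCoreOf_le (p := 2) (Cz h)
  have hch := ah_charP_Cz H.nat.ah H.h2 H.h1
  rw [Local.CharP] at hch
  generalize pCoreOf 2 (Cz h) = D at *
  have h1 : D ⊓ normalizer (Y : Set G) ≤ EE Y := fun x hx => by
    have := H.rotM (hD.to_le inf_le_left) inf_le_right H.gz H.gy
      (inf_normalizer_le_normalizer_inf ⟨hN (mem_Cz'.2 H.gh), le_normalizer H.gM⟩) hx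
    exact H.cent_h this (hev x this) (hle hx.1)
  have h2 : D ≤ normalizer (Y : Set G) := by
    by_contra hn
    obtain ⟨x, -, xM, hx⟩ := climb (B := EE Y) hD (S.isPGroup'.to_le fun _ hr => H.RS (H.ER hr))
      (fun _ hr => hN (H.Eh hr)) (fun _ hr => centralizer_le_normalizer _ (H.ER hr)) hn
    exact xM (H.NE (mem_normalizer_of_cj_le (cj_le_iff.2 fun b hb =>
      ((EE Y).mul_mem_cancel_right (inv_mem hb)).1 (h1 (hx b hb)))))
  have h3 : D ≤ EE Y := fun x hx => h1 ⟨hx, h2 hx⟩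
  have h4 : D = EE Y := le_antisymm h3 fun x hx => hch ⟨H.Eh hx, fun x' hx' =>
    H.A_comm (H.mem_AA.2 (Or.inl (h3 hx'))) (H.mem_AA.2 (Or.inl hx))⟩
  exact (h4 ▸ hN).trans H.NE

theorem not_conj : ¬ IsConj z h := fun hc => by
  obtain ⟨x, hx⟩ := isConj_iff.1 hc
  have h1 : cj x (S : Subgroup G) ≤ Cz h := by rw [← hx, ← cj_Cz]; exact cj_mono x H.SC
  have h2 : IsSylowIn 2 (cj x (S : Subgroup G)) (normalizer (Y : Set G)) :=
    ((isSylowIn_top S).cj_of_mem (mem_top x)).mono (h1.trans (H.ChM hev)) le_top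
  have h3 := h2.le_of_normal (S.isPGroup'.to_le H.RS) (centralizer_le_normalizer _)
    (normalizer_le_normalizer_centralizer Y)
  exact H.z1 (H.hu ▸ comm_one (mem_Cz.1 (h1 (h3 H.uR))).symm)

theorem pts {p : G} (hp : IsConj z p) (hc : p ∈ Cz h) : p ∈ Y := by
  obtain ⟨c, hc'⟩ := isConj_iff.1 hp
  have p2 : p * p = 1 := by rw [← hc', conj_mul, H.zz]; group
  obtain ⟨m, hm, hle⟩ := (isSylowIn_of_le S H.SM).exists_cj_le (isPGroup_zpowers_two p2)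
    (zpowers_le.2 (H.ChM hev hc))
  have h1 : m * p * m⁻¹ ∈ centralizer (Y : Set G) := by
    by_contra hR
    exact H.not_conj hev ((hp.trans (isConj_of m rfl)).trans (H.inv_out hev
      (cj_le_iff.1 hle p (mem_zpowers p)) hR (by rw [conj_mul, p2]; group)).symm)
  have h2 := (mem_normalizer_iff.1 (normalizer_le_normalizer_centralizer Y hm) p).2 h1
  obtain ⟨x, hx, e | e⟩ := H.E_cases (H.cent_h h2 (hev p h2) hc)
  · exact e ▸ hx
  · exact absurd (hp.trans (e ▸ (H.conj_h hx).symm)) (H.not_conj hev)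

theorem pt_line {p : G} (hp : IsConj z p) : ∃ x ∈ Y, x ≠ 1 ∧ x ∈ Cz p := by
  obtain ⟨c, hc'⟩ := isConj_iff.1 hp
  have p2 : p * p = 1 := by rw [← hc', conj_mul, H.zz]; group
  obtain ⟨i, i2, i1, ip, ih⟩ := exists_comm_inv p2 H.h2
    fun hh => H.not_conj hev (hp.trans hh.symm)
  rcases H.cls hev i2 i1 with k | k
  · exact ⟨i, H.pts hev k (mem_Cz.2 ih), i1, mem_Cz.2 ip⟩
  · obtain ⟨x, hx⟩ := isConj_iff.1 k.symm
    have k1 : x * p * x⁻¹ ∈ Y := H.pts hev (hp.trans (isConj_of x rfl))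
      (hx ▸ conj_mem_Cz x (mem_Cz.2 ip.symm))
    have k2 : x * h * x⁻¹ ∈ normalizer (Y : Set G) :=
      H.ChM hev (by have := conj_mem_Cz x (mem_Cz.2 ih.symm); rwa [hx] at this)
    have k3 : x * (h * p * h⁻¹) * x⁻¹ ∈ Y := by
      have := mem_normalizer_conj k2 k1
      simpa [mul_assoc] using this
    have k4 : p * (h * p * h⁻¹) = h * p * h⁻¹ * p :=
      conj_inj (g := x) (by rw [← conj_mul (a := p), ← conj_mul (c := p), H.YR k3 _ k1])
    by_cases k5 : p * (h * p * h⁻¹) = 1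
    · have k6 : h * p * h⁻¹ = p := by
        rw [← inv_eq_of_mul_eq_one_right k5, inv_eq_of_mul_eq_one_right p2]
      exact ⟨z, H.zY, H.z1, mem_Cz.2 (H.YR (H.pts hev hp (Cz_symm (mem_Cz'.2 k6))) z H.zY)⟩
    · refine ⟨_, H.pts hev ?_ (Cz_symm (mem_Cz'.2 ?_)), k5, mem_Cz.2 (by rw [mul_assoc, ← k4])⟩
      · refine (H.conj_Y (mul_mem k1 k3) ?_).trans ?_ <;> rw [conj_mul]
        exacts [conj_ne_one k5, (isConj_of x rfl).symm]
      · rw [k4, ← conj_mul, ← conj_mul, ← k4]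
        calc _ = h * h * p * (h * h)⁻¹ * (h * p * h⁻¹) := by group
          _ = _ := by rw [H.h2]; group

theorem final : False := by
  have ha : IsConj z a := by simpa using H.conj_a (one_mem Y)
  obtain ⟨x, hx, x1, hc⟩ := H.pt_line hev (ha.trans (isConj_of (d * g * d)⁻¹ rfl))
  have h1 := conj_mem_Cz (d * g * d) hc
  rw [show d * g * d * ((d * g * d)⁻¹ * a * (d * g * d)⁻¹⁻¹) * (d * g * d)⁻¹ = a by group] at h1
  have e1 : d * g * d * z * (d * g * d)⁻¹ = u := by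
    calc _ = d * (g * (d * z * d⁻¹) * g⁻¹) * d⁻¹ := by group
      _ = _ := by rw [Cz_conj H.dC, H.gz, H.du]
  have e2 : d * g * d * y * (d * g * d)⁻¹ = d * a * d⁻¹ := by
    calc _ = d * (g * (d * y * d⁻¹) * g⁻¹) * d⁻¹ := by group
      _ = _ := by rw [H.du, H.gu]
  have e3 : d * a * d⁻¹ ∈ Cz u := H.du ▸ conj_mem_Cz d (le_Cz_of_mem H.yY H.aR)
  have e4 : ∀ v, v ∈ Cz a → v ∈ Cz u → v ∈ Cz (z * y) := fun v h1 h2 => by
    rw [← H.au, commutatorElement_def]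
    exact Cz_symm (mul_mem (mul_mem (mul_mem (Cz_symm h1) (Cz_symm h2)) (inv_mem (Cz_symm h1)))
      (inv_mem (Cz_symm h2)))
  have e5 : d * a * d⁻¹ ∉ Cz (z * y) := fun hh => by
    have k1 := conj_mem_Cz d⁻¹ hh
    rw [show d⁻¹ * (d * a * d⁻¹) * d⁻¹⁻¹ = a by group] at k1
    exact H.zy1 ((H.av (conj_mem_UU_of_mem (inv_mem H.dC) (H.loc.fl.le_UU H.zyY))
      (H.out (inv_mem H.dC) (by rw [inv_mem_iff]; exact H.dM) H.zyY H.zy1 H.zyz)).symm.trans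
      (comm_one (mem_Cz.1 k1)))
  rcases H.memY.1 hx with e | e | e | e <;> rw [e] at h1
  · exact x1 e
  · rw [e1] at h1; exact H.zy1 (H.au ▸ comm_one (mem_Cz.1 h1).symm)
  · rw [e2] at h1; exact e5 (e4 _ h1 e3)
  · rw [← conj_mul, e1, e2] at h1
    exact e5 (((Cz _).mul_mem_cancel_left (le_Cz_of_mem H.zyY H.uR)).1
      (e4 _ h1 (mul_mem (self_mem_Cz u) e3)))

end Even

end St

/-- The shape of `M₁₂` does not occur. -/
theorem no_m12 [Finite G] {S : Sylow 2 G} {z : G} {Y : Subgroup G} (h : NatB3 S z Y)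
    (hG : ∀ K : Subgroup G, K.index ≠ 2) (hU : Nat.card (natU z Y) = 8) : False := by
  obtain ⟨y, u, a, w, h, t, g, d, H⟩ := exists_st h hU
  exact H.final fun r hr => H.all_ev hG hr

end Cfsg.Lib.Ngrp.M12
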