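import Cfsg.Agent.Ngrp.AmMod4
import Cfsg.Agent.Trans.Conj

/-!
# Reduced modules: RM8 and RM9
-/

set_option autoImplicit false

namespace Cfsg.Lib.Ngrp
open Subgroup Cfsg.Lib.Local.Tv
open scoped commutatorElement Pointwise

section Defs

variable {K : Type*} [Group K] (V : Type*) [CommGroup V] [MulDistribMulAction K V]

/-- `C_V(B)`. -/
def fxS (B : Subgroup K) : Subgroup V := ⨅ b ∈ B, fx V b

variable (K)

/-- The subgroup generated by the members of `𝒟`. -/
def Ogp : Subgroup K := closure {d | Cmp V d}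

/-- The elements normalizing every member of `𝒟` and centralizing `C_V(O)`. -/
def NrmD : Subgroup K where
  carrier := {g | (∀ d, Cmp V d → g * d * g⁻¹ = d ∨ g * d * g⁻¹ = d⁻¹) ∧
    ∀ v : V, (∀ d : K, Cmp V d → d • v = v) → g • v = v}
  one_mem' := ⟨fun d _ => Or.inl (by simp), fun v _ => one_smul _ _⟩
  mul_mem' := fun {g h} hg hh => ⟨fun d hd => by
    have e : g * h * d * (g * h)⁻¹ = g * (h * d * h⁻¹) * g⁻¹ := by group
    rcases hh.1 d hd with h1 | h1 <;> rw [e, h1]
    · exact hg.1 d hd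
    · have := hg.1 _ hd.inv
      rw [inv_inv] at this
      exact this.symm, fun v hv => by rw [mul_smul, hh.2 v hv, hg.2 v hv]⟩
  inv_mem' := fun {g} hg => ⟨fun d hd => by
    rcases hg.1 d hd with h1 | h1
    · left; rw [inv_inv]; conv_lhs => rw [← h1]
      group
    · right
      have : g⁻¹ * d⁻¹ * g = d := by rw [← h1]; group
      calc g⁻¹ * d * g⁻¹⁻¹ = (g⁻¹ * d⁻¹ * g)⁻¹ := by group
        _ = d⁻¹ := by rw [this], fun v hv => by
    rw [inv_smul_eq_iff, hg.2 v hv]⟩

end Defs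

variable {K V : Type*} [Group K] [CommGroup V] [MulDistribMulAction K V]

theorem mem_fxS {B : Subgroup K} {v : V} : v ∈ fxS V B ↔ ∀ b ∈ B, b • v = v := by
  simp only [fxS, mem_iInf, mem_fx]

theorem fxS_le {B : Subgroup K} {b : K} (hb : b ∈ B) : fxS V B ≤ fx V b :=
  fun _ hv => mem_fx.2 (mem_fxS.1 hv b hb)

theorem le_fxS {B : Subgroup K} {W : Subgroup V} : W ≤ fxS V B ↔ ∀ b ∈ B, W ≤ fx V b :=
  ⟨fun h _ hb => h.trans (fxS_le hb), fun h _ hw => mem_fxS.2 fun b hb => mem_fx.1 (h b hb hw)⟩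

/-- The stabilizer of a vector, as the set of elements fixing it. -/
theorem smul_eq_of_closure {s : Set K} {v : V} (h : ∀ g ∈ s, g • v = v) {g : K}
    (hg : g ∈ closure s) : g • v = v :=
  (closure_le (K := MulAction.stabilizer K v)).2 h hg

theorem mem_NrmD {g : K} : g ∈ NrmD K V ↔
    (∀ d, Cmp V d → g * d * g⁻¹ = d ∨ g * d * g⁻¹ = d⁻¹) ∧
      ∀ v : V, (∀ d : K, Cmp V d → d • v = v) → g • v = v := Iff.rfl

theorem Cmp.mem_Ogp {d : K} (h : Cmp V d) : d ∈ Ogp K V := subset_closure h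

theorem Ogp_le_fitting : Ogp K V ≤ fittingSubgroup K := (closure_le _).2 fun _ hd => hd.mem

theorem Ogp_le {X : Subgroup K} : Ogp K V ≤ X ↔ ∀ d, Cmp V d → d ∈ X := closure_le _

instance Ogp_normal : (Ogp K V).Normal := ⟨fun n hn g => by
  have : Ogp K V ≤ (Ogp K V).comap (MulAut.conj g).toMonoidHom :=
    Ogp_le.2 fun d hd => (hd.conj g).mem_Ogp
  exact this hn⟩

instance NrmD_normal : (NrmD K V).Normal := ⟨fun n hn g => ⟨fun d hd => by
  have e : g * n * g⁻¹ * d * (g * n * g⁻¹)⁻¹ = g * (n * (g⁻¹ * d * g⁻¹⁻¹) * n⁻¹) * g⁻¹ := by group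
  rcases hn.1 _ (hd.conj g⁻¹) with h1 | h1 <;> rw [e, h1]
  · left; group
  · right; group, fun v hv => by
  have : n • g⁻¹ • v = g⁻¹ • v := hn.2 _ fun d hd => by
    have := hv _ (hd.conj g)
    rw [mul_smul, mul_smul] at this
    rw [eq_inv_smul_iff, this]
  rw [mul_smul, mul_smul, this, smul_inv_smul]⟩⟩

theorem two_mul_card_le_of_lt8 {H : Type*} [Group H] [Finite H] {A B : Subgroup H} (h : A < B) :
    2 * Nat.card A ≤ Nat.card B := by
  obtain ⟨m, hm⟩ := card_dvd_of_le h.le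
  have h1 : Nat.card A < Nat.card B := by
    refine lt_of_le_of_ne (card_le_of_le h.le) fun e => h.ne (eq_of_le_of_card_ge h.le e.ge)
  have h2 : 0 < Nat.card A := Nat.card_pos
  have : 2 ≤ m := by
    by_contra hc
    have : m = 0 ∨ m = 1 := by omega
    rcases this with rfl | rfl <;> omega
  rw [hm, mul_comm]
  exact Nat.mul_le_mul_left _ this

theorem inf_fx_ne_bot_of_sq (hV : ∀ v : V, v * v = 1) {a : K} (ha : a * a = 1) {W : Subgroup V}
    (hW : Invt a W) (h : W ≠ ⊥) : W ⊓ fx V a ≠ ⊥ := by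
  obtain ⟨⟨w, hw⟩, h1⟩ := ne_bot_iff_exists_ne_one.1 h
  have h1' : w ≠ 1 := fun e => h1 (Subtype.ext e)
  intro h0
  have h2 : cm V a w = 1 := mem_bot.1 (h0 ▸ ⟨hW.cm_mem hw, cm_mem_fx_of_sq hV ha w⟩)
  exact h1' (mem_bot.1 (h0 ▸ ⟨hw, h2⟩))

section RM8

variable [Finite V] {B : Subgroup K} {k : ℕ} {a d : Fin k → K}

namespace Frame

variable (h : Frame B a d) (hr : Red K V)
include h hr

omit [Finite V] in
theorem rm8_ne_bot (i : Fin k) (s : Finset (Fin k)) :
    cV V (d i) ⊓ s.inf (fun j => fx V (a j)) ≠ ⊥ := by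
  classical
  induction s using Finset.induction_on with
  | empty => simpa using hr.cV_ne_bot (h.d_ne i)
  | insert j s hj ih =>
    rw [Finset.inf_insert, inf_comm (fx V (a j)), ← inf_assoc]
    refine inf_fx_ne_bot_of_sq hr.expo (h.a_sq j) (Invt.inf ?_ ?_) ih
    · exact inv_cV_of_or (h.act _ (h.mem j) i)
    · intro w hw
      rw [Finset.inf_eq_iInf] at hw ⊢
      simp only [mem_iInf] at hw ⊢
      exact fun l hl => inv_fx_of_comm (h.comm (h.mem j) (h.mem l)) w (hw l hl)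

theorem rm8_step {i : Fin k} {s : Finset (Fin k)} (hi : i ∉ s) :
    2 * Nat.card (fx V (a i) ⊓ s.inf (fun j => fx V (a j)) : Subgroup V) ≤
      Nat.card (s.inf (fun j => fx V (a j)) : Subgroup V) := by
  refine two_mul_card_le_of_lt8 (lt_of_le_of_ne inf_le_right fun e => h.rm8_ne_bot hr i s ?_)
  have h1 : Invt (d i) (cV V (d i) ⊓ s.inf (fun j => fx V (a j))) := by
    refine (inv_cV_self _).inf fun w hw => ?_
    rw [Finset.inf_eq_iInf] at hw ⊢
    simp only [mem_iInf] at hw ⊢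
    exact fun l hl => inv_fx_of_comm (h.ad l i fun e => hi (e ▸ hl)).symm w (hw l hl)
  have h2 := le_fx_of_inverts (h.a_sq i) (h.odd i) (h.inv i) h1
    (inf_le_right.trans (e.ge.trans inf_le_left))
  rw [eq_bot_iff, ← cV_inf_fx hr.expo (h.odd i)]
  exact le_inf inf_le_left h2

theorem rm8_aux (s t : Finset (Fin k)) (hst : Disjoint s t) :
    2 ^ t.card * Nat.card ((t ∪ s).inf (fun j => fx V (a j)) : Subgroup V) ≤
      Nat.card (s.inf (fun j => fx V (a j)) : Subgroup V) := by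
  classical
  induction t using Finset.induction_on with
  | empty => simp
  | insert j t hj ih =>
    have h1 : j ∉ s := fun e => Finset.disjoint_left.1 hst e (Finset.mem_insert_self _ _)
    have h2 := h.rm8_step hr (i := j) (s := t ∪ s) (by simp [hj, h1])
    rw [Finset.insert_union, Finset.inf_insert, Finset.card_insert_of_notMem hj, pow_succ, mul_assoc]
    exact (Nat.mul_le_mul_left _ h2).trans
      (ih (hst.mono_right (Finset.subset_insert _ _)))

omit hr [Finite V] in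
theorem fxS_eq : fxS V B = Finset.univ.inf (fun j => fx V (a j)) := by
  refine le_antisymm (Finset.le_inf fun j _ => fxS_le (h.mem j)) fun v hv => mem_fxS.2 ?_
  have : B ≤ MulAction.stabilizer K v := by
    rw [← h.gen]
    exact iSup_le fun j => zpowers_le.2 (mem_fx.1 (Finset.inf_le (f := fun j => fx V (a j))
      (Finset.mem_univ j) hv))
  exact fun b hb => this hb

/-- RM8, the inequality `|V : C_V(B)| ≥ |B|`. -/
theorem rm8_le : 2 ^ k * Nat.card (fxS V B) ≤ Nat.card V := by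
  have := h.rm8_aux hr ∅ Finset.univ (Finset.disjoint_empty_left _)
  rwa [Finset.union_empty, Finset.inf_empty, card_top, Finset.card_univ, Fintype.card_fin,
    ← h.fxS_eq] at this

theorem rm8_fx (i : Fin k) : 2 ^ k * Nat.card (fxS V B) ≤ 2 * Nat.card (fx V (a i)) := by
  have := h.rm8_aux hr {i} (Finset.univ.erase i) (by simp)
  rw [Finset.inf_singleton, Finset.card_erase_of_mem (Finset.mem_univ _), Finset.card_univ,
    Fintype.card_fin, Finset.union_comm, ← Finset.insert_eq, Finset.insert_erase (Finset.mem_univ _),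
    ← h.fxS_eq] at this
  have hk : k = (k - 1) + 1 := by have := i.pos; omega
  rw [hk, pow_succ', mul_assoc]
  exact Nat.mul_le_mul_left _ this

/-- RM8, the case of equality. -/
theorem rm8_card (he : Nat.card V ≤ 2 ^ k * Nat.card (fxS V B)) (i : Fin k) :
    Nat.card (cV V (a i)) = 2 := by
  have h1 := h.rm8_fx hr i
  have h2 := card_cV_mul_fx (V := V) (a i)
  have h3 := two_le_card_of_ne_bot (hr.cV_ne_bot (h.a_ne i))
  have h4 : 0 < Nat.card (fx V (a i)) := Nat.card_pos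
  have : Nat.card (cV V (a i)) * Nat.card (fx V (a i)) ≤ 2 * Nat.card (fx V (a i)) := by omega
  exact le_antisymm (Nat.le_of_mul_le_mul_right this h4) h3

theorem rm8_tv (he : Nat.card V ≤ 2 ^ k * Nat.card (fxS V B)) (i : Fin k) :
    ∃ u : V, IsTv (a i) u := exists_isTv_of_card hr.expo (h.a_sq i) (h.rm8_card hr he i)

end Frame

end RM8

section RM9

namespace Red

variable [Finite K] [Finite V] (hr : Red K V) {t t' d g : K} {u u' : V}
include hr

/-- RM8 without a frame. -/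
theorem rm8 {B : Subgroup K} (hB : ∀ b ∈ B, b * b = 1) :
    Nat.card B * Nat.card (fxS V B) ≤ Nat.card V := by
  obtain ⟨k, a, d, hf⟩ := hr.exists_frame' hB
  rw [hf.card]; exact hf.rm8_le hr

theorem tv_mem_NrmD (h : IsTv t u) : t ∈ NrmD K V := by
  refine ⟨fun d hd => ?_, fun v hv => ?_⟩
  · by_cases hu : u ∈ cV V d
    · exact Or.inr (hr.tv_inverts_of_mem h hd hu)
    · exact Or.inl (by rw [(hr.tv_comm_of_not_mem h hd hu).1, mul_inv_cancel_right])
  · obtain ⟨d, hd, -, -, h1⟩ := hr.tv_exists h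
    exact mem_fx.1 (h1 (mem_fx.2 (hv d hd)))

theorem Ogp_le_NrmD : Ogp K V ≤ NrmD K V :=
  Ogp_le.2 fun d hd => ⟨fun e he => Or.inl (by rw [he.comm hr hd, mul_inv_cancel_right]),
    fun v hv => hv d hd⟩

omit [Finite V] in
theorem odd_of_mem_Ogp (h : g ∈ Ogp K V) : Odd (orderOf g) := hr.odd_of_mem (Ogp_le_fitting h)

theorem Ogp_comm_cmp (h : g ∈ Ogp K V) (hd : Cmp V d) : g * d = d * g := by
  have : Ogp K V ≤ centralizer {d} :=
    Ogp_le.2 fun e he => mem_centralizer_singleton_iff.2 (hd.comm hr he)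
  exact mem_centralizer_singleton_iff.1 (this h)

theorem Ogp_comm {g' : K} (h : g ∈ Ogp K V) (h' : g' ∈ Ogp K V) : g * g' = g' * g := by
  have : Ogp K V ≤ centralizer {g} :=
    Ogp_le.2 fun e he => mem_centralizer_singleton_iff.2 (hr.Ogp_comm_cmp h he).symm
  exact (mem_centralizer_singleton_iff.1 (this h')).symm

omit hr [Finite K] [Finite V] in
theorem invt_of_mem_NrmD (h : g ∈ NrmD K V) (hd : Cmp V d) : Invt g (cV V d) :=
  inv_cV_of_or (h.1 d hd)

/-- RM9: the elements of odd order of `NrmD` lie in `O`. -/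
theorem mem_Ogp_of_odd (h : g ∈ NrmD K V) (ho : Odd (orderOf g)) : g ∈ Ogp K V := by
  classical
  have hc : ∀ d, Cmp V d → g * d = d * g := fun d hd => comm_of_odd_of_or ho (h.1 d hd)
  have hcO : ∀ o ∈ Ogp K V, g * o = o * g := fun o h' => by
    have : Ogp K V ≤ centralizer {g} :=
      Ogp_le.2 fun e he => mem_centralizer_singleton_iff.2 (hc e he).symm
    exact (mem_centralizer_singleton_iff.1 (this h')).symm
  have hodd : ∀ o ∈ Ogp K V, Odd (orderOf (g * o)) := fun o h' =>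
    Odd.of_dvd_nat (ho.mul (hr.odd_of_mem_Ogp h'))
      (Commute.orderOf_mul_dvd_mul_orderOf (hcO o h'))
  have key : ∀ s : Finset K, ∃ o ∈ Ogp K V, ∀ d ∈ s, Cmp V d → cV V d ≤ fx V (g * o) := by
    intro s
    induction s using Finset.induction_on with
    | empty => exact ⟨1, one_mem _, by simp⟩
    | insert e s _ ih =>
      obtain ⟨o, h1, h2⟩ := ih
      by_cases he : Cmp V e ∧ ¬ cV V e ≤ fx V (g * o)
      · have hi : Invt (g * o) (cV V e) := inv_cV_of_comm (by
          rw [mul_assoc, hr.Ogp_comm_cmp h1 he.1, ← mul_assoc, hc e he.1, mul_assoc])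
        obtain ⟨x, hx, h3⟩ := four_odd_agree hr.expo he.1.card (inv_cV_self e) (he.1.fpf hr)
          (hodd o h1) hi
        have hxO : x ∈ Ogp K V := zpowers_le.2 he.1.mem_Ogp hx
        refine ⟨o * x⁻¹, mul_mem h1 (inv_mem hxO), fun d hd hd' => ?_⟩
        have main : ∀ d, Cmp V d → SameD e d → cV V d ≤ fx V (g * (o * x⁻¹)) := fun d _ hs w hw => by
          rw [hs.cV_eq] at hw
          have hw' := (inv_cV_self e).of_mem_zpowers (inv_mem hx) w hw
          rw [mem_fx, ← mul_assoc, mul_smul, h3 _ hw', smul_inv_smul]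
        rcases Finset.mem_insert.1 hd with rfl | hd
        · exact main _ hd' (SameD.refl _)
        rcases he.1.dich hr hd' with hs | hs
        · exact main _ hd' hs
        · intro w hw
          rw [mem_fx, ← mul_assoc, mul_smul,
            mem_fx.1 (fx_le_of_mem_zpowers (inv_mem hx) (hs.right hw)), mem_fx.1 (h2 d hd hd' hw)]
      · refine ⟨o, h1, fun d hd hd' => ?_⟩
        rcases Finset.mem_insert.1 hd with rfl | hd
        · by_contra hn; exact he ⟨hd', hn⟩
        · exact h2 d hd hd'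
  have := Fintype.ofFinite K
  obtain ⟨o, h1, h2⟩ := key Finset.univ
  have h3 : g * o = 1 := by
    refine hr.eq_one_of_odd (hodd o h1) fun w hw => mem_fx.2 ?_
    refine (mul_mem h (hr.Ogp_le_NrmD h1)).2 w fun d hd => cm_eq_one_iff.1 ?_
    have hi : Invt d (cV V (g * o)) := inv_cV_of_comm (by
      rw [mul_assoc, hr.Ogp_comm_cmp h1 hd, ← mul_assoc, ← hc d hd, mul_assoc])
    exact eq_one_of_mem_cV_fx hr.expo (hodd o h1) (hi.cm_mem hw)
      (h2 d (Finset.mem_univ _) hd (cm_mem_cV _ _))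
  rw [eq_inv_of_mul_eq_one_left h3]
  exact inv_mem h1

/-- Two transvections with centres in one `W_d` are conjugate under `⟨d⟩`. -/
theorem tv_conj_of_mem (h : IsTv t u) (h' : IsTv t' u') (hd : Cmp V d) (hu : u ∈ cV V d)
    (hu' : u' ∈ cV V d) : ∃ x ∈ zpowers d, t' = x * t * x⁻¹ ∧ u' = x • u := by
  have key : ∀ x : K, u' = x • u → t' = x * t * x⁻¹ := fun x e => hr.tv_eq h' (e ▸ h.conj x)
  rcases four_trans hr.expo hd.card (inv_cV_self d) (hd.fpf hr) hu h.ne hu' h'.ne with e | e | e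
  · exact ⟨1, one_mem _, key 1 (by rw [one_smul, e]), by rw [one_smul, e]⟩
  · exact ⟨d, mem_zpowers d, key d e, e⟩
  · exact ⟨d⁻¹, inv_mem (mem_zpowers d), key _ e, e⟩

theorem tv_mul_mem_zpowers (h : IsTv t u) (h' : IsTv t' u') (hd : Cmp V d) (hu : u ∈ cV V d)
    (hu' : u' ∈ cV V d) : t' * t ∈ zpowers d := by
  obtain ⟨x, hx, rfl, -⟩ := hr.tv_conj_of_mem h h' hd hu hu'
  have h1 := hr.tv_inverts_of_mem h hd hu
  have h2 : t ∈ normalizer (zpowers d : Set K) := Cfsg.Lib.Trans.mem_normalizer_of_cj_le (by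
    rw [Cfsg.Lib.Trans.cj_zpowers, h1, zpowers_inv])
  have := mul_mem hx (Cfsg.Lib.Trans.mem_normalizer_conj h2 (inv_mem hx))
  rwa [h.inv_eq, ← mul_assoc, ← mul_assoc] at this

/-- The commutator of a transvection with an element of `NrmD` lies in its component. -/
theorem comm_tv_mem_zpowers (h : IsTv t u) (hd : Cmp V d) (hu : u ∈ cV V d) (hg : g ∈ NrmD K V) :
    ⁅g, t⁆ ∈ zpowers d := by
  rw [commutatorElement_def, h.inv_eq]
  exact hr.tv_mul_mem_zpowers h (h.conj g) hd hu (invt_of_mem_NrmD hg hd u hu)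

theorem odd_comm_tv (h : IsTv t u) (hg : g ∈ NrmD K V) : Odd (orderOf ⁅g, t⁆) := by
  obtain ⟨d, hd, -, hu, -⟩ := hr.tv_exists h
  exact hr.odd_of_mem_Ogp (zpowers_le.2 hd.mem_Ogp (hr.comm_tv_mem_zpowers h hd hu hg))

omit hr [Finite K] [Finite V] in
theorem eq_one_of_odd_of_isPGroup {P : Subgroup K} (hP : IsPGroup 2 P) (hg : g ∈ P)
    (ho : Odd (orderOf g)) : g = 1 := by
  obtain ⟨n, hn⟩ := hP ⟨g, hg⟩
  have h1 : orderOf g ∣ 2 ^ n := orderOf_dvd_of_pow_eq_one (congrArg Subtype.val hn)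
  exact orderOf_eq_one_iff.1 (Nat.Coprime.eq_one_of_dvd
    (Nat.Coprime.pow_right n ((Nat.coprime_two_right).2 ho)) h1)

/-- In a 2-group, a component is inverted by at most one transvection. -/
theorem tv_eq_of_isPGroup {P : Subgroup K} (hP : IsPGroup 2 P) (ht : t ∈ P) (ht' : t' ∈ P)
    (h : IsTv t u) (h' : IsTv t' u') (hd : Cmp V d) (hu : u ∈ cV V d) (hu' : u' ∈ cV V d) :
    t' = t ∧ u' = u := by
  have h1 : t' * t = 1 := eq_one_of_odd_of_isPGroup hP (mul_mem ht' ht)
    (hr.odd_of_mem_Ogp (zpowers_le.2 hd.mem_Ogp (hr.tv_mul_mem_zpowers h h' hd hu hu')))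
  have h2 : t' = t := by rw [eq_inv_of_mul_eq_one_left h1, h.inv_eq]
  exact ⟨h2, (h2 ▸ h').unique h⟩

/-- An element of a 2-subgroup of `NrmD` commutes with the transvections in it. -/
theorem comm_tv_of_isPGroup {P : Subgroup K} (hP : IsPGroup 2 P) (ht : t ∈ P) (hg : g ∈ P)
    (hgN : g ∈ NrmD K V) (h : IsTv t u) : g * t = t * g ∧ g • u = u := by
  have h1 : ⁅g, t⁆ = 1 := eq_one_of_odd_of_isPGroup hP
    (mul_mem (mul_mem (mul_mem hg ht) (inv_mem hg)) (inv_mem ht)) (hr.odd_comm_tv h hgN)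
  have h2 := commutatorElement_eq_one_iff_mul_comm.1 h1
  exact ⟨h2, h.smul_centre_of_comm (by rw [h2, mul_inv_cancel_right])⟩

end Red

end RM9

end Cfsg.Lib.Ngrp
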