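import Cfsg.Agent.Ngrp.NatBridge
import Cfsg.Agent.Ngrp.NatRM

/-!
# FFJ: the action of the Thompson subgroup on a reduced module
-/

set_option autoImplicit false

namespace Cfsg.Lib.Ngrp
open Subgroup Cfsg.Lib.Trans Cfsg.Lib.Local Cfsg.Lib.Local.MSS Cfsg.Lib.Local.JC Cfsg.Lib.Trans.TJ
open Cfsg.Lib.Local.Tv
open scoped commutatorElement Pointwise

variable {G : Type*} [Group G]

theorem maxEA_cj {T A : Subgroup G} (h : MaxEA 2 T A) (g : G) : MaxEA 2 (cj g T) (cj g A) :=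
  h.map (MulAut.conj g).injective

theorem maxEA_cj_of_mem_normalizer [Finite G] {T A : Subgroup G} (h : MaxEA 2 T A) {g : G}
    (hg : g ∈ normalizer (J T : Set G)) : MaxEA 2 T (cj g A) := by
  have := maxEA_cj (maxEA_J_iff.2 h) g
  rwa [cj_eq_of_mem_normalizer hg, maxEA_J_iff] at this

theorem half_cj {A B : Subgroup G} (h : Half B A) (g : G) : Half (cj g B) (cj g A) :=
  ⟨cj_mono g h.1, fun x hx y hy h1 h2 => by
    have := h.2 _ (mem_cj.1 hx) _ (mem_cj.1 hy) (fun e => h1 (mem_cj.2 e)) fun e => h2 (mem_cj.2 e)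
    rw [mem_cj]
    convert this using 1
    group⟩

theorem half_cent_cj {A V : Subgroup G} (h : Half (A ⊓ centralizer (V : Set G)) A) {g : G}
    (hg : g ∈ normalizer (V : Set G)) : Half (cj g A ⊓ centralizer (V : Set G)) (cj g A) := by
  have := half_cj h g
  rwa [cj_inf, cj_centralizer, cj_eq_of_mem_normalizer hg] at this

theorem half_of_le {A B : Subgroup G} (h : A ≤ B) : Half (A ⊓ B) A :=
  ⟨inf_le_left, fun _ hx _ _ h1 _ => absurd ⟨hx, h hx⟩ h1⟩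

theorem inverts_comm {a k : G} (ha : a * a = 1) : a * ⁅k, a⁆ * a⁻¹ = ⁅k, a⁆⁻¹ := by
  have : a⁻¹ = a := inv_eq_of_mul_eq_one_right ha
  rw [commutatorElement_inv, commutatorElement_def, commutatorElement_def, this]
  calc a * (k * a * k⁻¹ * a) * a = a * k * a * k⁻¹ * (a * a) := by group
    _ = a * k * a * k⁻¹ := by rw [ha, mul_one]

theorem inverts_of_mem_zpowers {a c d : G} (h : a * c * a⁻¹ = c⁻¹) (hd : d ∈ zpowers c) :
    a * d * a⁻¹ = d⁻¹ := by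
  obtain ⟨n, rfl⟩ := hd
  simp only
  rw [← conj_zpow, h, inv_zpow]

theorem OddOn.mono {V W : Subgroup G} {x : G} (h : OddOn V x) (hW : W ≤ V) : OddOn W x :=
  let ⟨m, h1, h2⟩ := h; ⟨m, h1, centralizer_le hW h2⟩

theorem oddOn_of_odd (V : Subgroup G) {x : G} (h : Odd (orderOf x)) : OddOn V x :=
  ⟨_, h, by rw [pow_orderOf_eq_one]; exact one_mem _⟩

/-- An element acting both as a 2-element and as an element of odd order acts trivially. -/
theorem OddOn.mem_of_pow {V : Subgroup G} {x : G} (h : OddOn V x) {k : ℕ}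
    (h2 : x ^ 2 ^ k ∈ centralizer (V : Set G)) : x ∈ centralizer (V : Set G) := by
  obtain ⟨m, h1, h3⟩ := h
  have hc : Nat.Coprime m (2 ^ k) := Nat.Coprime.pow_right k (Nat.coprime_two_right.2 h1)
  have := Nat.gcd_eq_gcd_ab m (2 ^ k)
  rw [hc.gcd_eq_one] at this
  have e : x = (x ^ m) ^ (Nat.gcdA m (2 ^ k)) * (x ^ 2 ^ k) ^ (Nat.gcdB m (2 ^ k)) := by
    rw [← zpow_natCast, ← zpow_natCast, ← zpow_mul, ← zpow_mul, ← zpow_add, ← this]; simp
  rw [e]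
  exact mul_mem (zpow_mem h3 _) (zpow_mem h2 _)

/-- An element acting with odd order has a power of odd order acting in the same way. -/
theorem OddOn.exists_odd [Finite G] {V : Subgroup G} {x : G} (h : OddOn V x) :
    ∃ d ∈ zpowers x, Odd (orderOf d) ∧ d * x⁻¹ ∈ centralizer (V : Set G) := by
  obtain ⟨a, m, hm, e⟩ := Nat.exists_eq_two_pow_mul_odd (orderOf_pos x).ne'
  obtain ⟨n, hn⟩ : ∃ n, ((x ^ 2 ^ a) ^ 2 ^ a) ^ n = x ^ 2 ^ a := by
    refine exists_pow_eq_self_of_coprime (Nat.Coprime.pow_left a ((Nat.coprime_two_left).2 ?_))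
    exact Odd.of_dvd_nat hm (orderOf_dvd_of_pow_eq_one (by rw [← pow_mul, ← e, pow_orderOf_eq_one]))
  refine ⟨(x ^ 2 ^ a) ^ n, pow_mem (pow_mem (mem_zpowers x) _) _, ?_, ?_⟩
  · refine Odd.of_dvd_nat hm (orderOf_dvd_of_pow_eq_one ?_)
    rw [← pow_mul, mul_comm n, pow_mul, ← pow_mul x, ← e, pow_orderOf_eq_one, one_pow]
  · have hc : Commute ((x ^ 2 ^ a) ^ n) x⁻¹ :=
      (((Commute.refl x).pow_left _).pow_left _).inv_right
    refine OddOn.mem_of_pow (k := a) ?_ ?_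
    · obtain ⟨l, h1, h2⟩ := h
      refine ⟨l, h1, ?_⟩
      rw [hc.mul_pow, ← pow_mul, ← pow_mul, mul_comm (2 ^ a), mul_comm n, mul_assoc, pow_mul, inv_pow]
      exact mul_mem (pow_mem h2 _) (inv_mem h2)
    · rw [hc.mul_pow, ← pow_mul _ n, mul_comm n, pow_mul, hn, inv_pow, mul_inv_cancel]
      exact one_mem _

namespace Sec

variable {L V : Subgroup G} (h : Sec L V ⊥) {A : Subgroup G} {a : G}
include h

theorem pre_fxS (hA : A ≤ L) : h.pre (fxS h.Mo (h.imgK A)) = V ⊓ centralizer (A : Set G) := by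
  ext u
  rw [h.mem_pre, mem_fxS, mem_inf]
  refine and_congr_right fun hu => ⟨fun e a ha => ?_, fun e b hb => ?_⟩
  · exact (h.hat_smul_eq_iff' (hA ha) hu).1 (e _ (h.hat_mem_imgK ha (hA ha)))
  · obtain ⟨a, h1, h2, rfl⟩ := h.mem_imgK.1 hb
    exact (h.hat_smul_eq_iff' h2 hu).2 (e a h1)

theorem card_fxS (hA : A ≤ L) :
    Nat.card (fxS h.Mo (h.imgK A)) = Nat.card (V ⊓ centralizer (A : Set G) : Subgroup G) := by
  rw [← h.pre_fxS hA, h.card_pre']

theorem card_fx (ha : a ∈ L) :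
    Nat.card (fx h.Mo (h.hat a)) = Nat.card (V ⊓ centralizer {a} : Subgroup G) := by
  rw [← h.pre_fx ha, h.card_pre']

/-- A transvection, read in `G`. -/
theorem isTv_iff (ha : a ∈ L) {u : G} (hu : u ∈ V) : IsTv (h.hat a) (h.bar u) ↔
    a * a ∈ centralizer (V : Set G) ∧ u ≠ 1 ∧ (∀ v ∈ V, ⁅a, v⁆ = 1 ∨ ⁅a, v⁆ = u) ∧
      a ∉ centralizer (V : Set G) := by
  have key : ∀ v ∈ V, (h.hat a • h.bar v = h.bar v ∨ h.hat a • h.bar v = h.bar v * h.bar u) ↔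
      (⁅a, v⁆ = 1 ∨ ⁅a, v⁆ = u) := fun v hv => by
    rw [h.hat_smul_eq_iff ha hv, mem_bot, smul_eq_cm_mul, h.cm_hat ha hv, mul_comm (h.bar v),
      mul_left_inj, h.bar_inj (h.comm_V ha hv) hu]
  constructor
  · intro t
    refine ⟨(h.hat_eq_one' (mul_mem ha ha)).1 (by rw [h.hat_mul ha ha, t.sq]),
      fun e => t.ne (by rw [e, h.bar_one]), fun v hv => (key v hv).1 (t.act _),
      fun e => t.ne_one ((h.hat_eq_one' ha).2 e)⟩
  · rintro ⟨h1, h2, h3, h4⟩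
    refine ⟨by rw [← h.hat_mul ha ha, h.hat_eq_one' (mul_mem ha ha)]; exact h1,
      fun e => h2 ((h.bar_eq_one' hu).1 e), fun x => ?_, ?_⟩
    · obtain ⟨v, hv, rfl⟩ := h.exists_bar x
      exact (key v hv).2 (h3 v hv)
    · by_contra hn
      push Not at hn
      exact h4 ((h.hat_eq_one' ha).1 (h.Kq_eq_one hn))

theorem preK_imgK_le {X : Subgroup G} :
    h.preK (h.imgK X) ≤ centralizer (V : Set G) ⊔ (L ⊓ X) := fun c hc => by
  obtain ⟨h1, h2⟩ := h.mem_preK.1 hc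
  obtain ⟨x, h3, h4, h5⟩ := h.mem_imgK.1 h2
  have := mul_mem (mem_sup_left (T := L ⊓ X) ((h.hat_eq_hat' h1 h4).1 h5.symm))
    (mem_sup_right (S := centralizer (V : Set G)) (show x ∈ L ⊓ X from ⟨h4, h3⟩))
  rwa [inv_mul_cancel_right] at this

/-- RM8 in `G`. -/
theorem rm8 [Finite G] (hr : Red h.Kq h.Mo) (hA : A ≤ L) (h2 : ∀ a ∈ A, a * a ∈ centralizer (V : Set G)) :
    Nat.card (h.imgK A) * Nat.card (V ⊓ centralizer (A : Set G) : Subgroup G) ≤ Nat.card V := by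
  rw [← h.card_fxS hA, ← h.card_Mo]
  exact hr.rm8 (h.imgK_sq fun a ha => h.X_eq ▸ ⟨mul_mem (hA ha) (hA ha), h2 a ha⟩)

end Sec

/-- The hypotheses of FFJ. -/
structure FFH (V T L : Subgroup G) : Prop where
  ea : IsElementaryAbelian 2 V
  VT : V ≤ T
  TL : T ≤ L
  solv : Group.IsSolvable L
  pred : PRed 2 V L

namespace FFH

variable {V T L : Subgroup G} (h : FFH V T L) {A X : Subgroup G} {a k x : G}
include h

theorem sec : Sec L V ⊥ := sec_bot h.ea h.pred.le_normalizer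

theorem J_le : J T ≤ L := (TJ.J_le T).trans h.TL

theorem ncl_le : ncl (J T) L ≤ L := ncl_le_of_le h.J_le

theorem mono {T' : Subgroup G} (h1 : V ≤ T') (h2 : T' ≤ L) : FFH V T' L :=
  ⟨h.ea, h1, h2, h.solv, h.pred⟩

variable [Finite G]

theorem red : Red h.sec.Kq h.sec.Mo := h.sec.red' h.solv h.pred

theorem inf_eq (hA : MaxEA 2 T A) : A ⊓ V = V ⊓ centralizer (A : Set G) :=
  le_antisymm (le_inf inf_le_right (inf_le_left.trans (ea_le_centralizer hA.ea)))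
    (le_inf (hA.le_of_le_centralizer (inf_le_left.trans h.VT) (ea_mono h.ea inf_le_left)
      inf_le_right) inf_le_left)

omit [Finite G] in
theorem ea_b (hA : IsElementaryAbelian 2 A) :
    IsElementaryAbelian 2 (A ⊓ centralizer (V : Set G) ⊔ V : Subgroup G) :=
  ea_sup (ea_mono hA inf_le_left) h.ea inf_le_right

theorem card_aux (hA : MaxEA 2 T A) :
    Nat.card (A ⊓ centralizer (V : Set G) ⊔ V : Subgroup G) *
      Nat.card (V ⊓ centralizer (A : Set G) : Subgroup G) =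
    Nat.card (A ⊓ centralizer (V : Set G) : Subgroup G) * Nat.card V := by
  rw [← CD.card_sup_mul_card_inf_of_le_centralizer inf_le_right, ← h.inf_eq hA, inf_assoc,
    inf_eq_right.2 (ea_le_centralizer h.ea)]

/-- FFJ (b). -/
theorem ffb (hA : MaxEA 2 T A) : MaxEA 2 T (A ⊓ centralizer (V : Set G) ⊔ V) := by
  refine hA.of_card_le (sup_le (inf_le_left.trans hA.le) h.VT) (h.ea_b hA.ea) ?_
  have h1 := h.sec.rm8 h.red (hA.le.trans h.TL) fun a ha => by rw [ea_sq hA.ea ha]; exact one_mem _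
  have h2 := h.card_aux hA
  have h3 := h.sec.card_imgK' (hA.le.trans h.TL)
  refine Nat.le_of_mul_le_mul_right ?_ (Nat.card_pos (α := (V ⊓ centralizer (A : Set G) : Subgroup G)))
  rw [h2, h3, mul_assoc]
  exact Nat.mul_le_mul_left _ h1

/-- FFJ (b): `|V : C_V(A)| = |Â|`. -/
theorem ffb_card (hA : MaxEA 2 T A) : Nat.card V =
    Nat.card (h.sec.imgK A) * Nat.card (V ⊓ centralizer (A : Set G) : Subgroup G) := by
  have h2 := h.card_aux hA
  rw [← hA.card_eq (h.ffb hA), h.sec.card_imgK' (hA.le.trans h.TL), mul_assoc] at h2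
  exact (Nat.eq_of_mul_eq_mul_left Nat.card_pos h2).symm

/-- `𝒜(C_T(V)) ⊆ 𝒜(T)`. -/
theorem maxEA_up (hA : MaxEA 2 (T ⊓ centralizer (V : Set G)) A) : MaxEA 2 T A := by
  obtain ⟨B, hB⟩ := exists_maxEA 2 T
  exact (h.ffb hB).up (sup_le (inf_le_inf_right _ hB.le) (le_inf h.VT (ea_le_centralizer h.ea)))
    inf_le_left hA

theorem J_cent_le : J (T ⊓ centralizer (V : Set G)) ≤ J T :=
  J_le_iff.2 fun _ hA => (h.maxEA_up hA).le_J

theorem le_of_maxEA (hA : MaxEA 2 (T ⊓ centralizer (V : Set G)) A) : V ≤ A :=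
  hA.le_of_le_centralizer (le_inf h.VT (ea_le_centralizer h.ea)) h.ea
    (le_centralizer_iff.1 (hA.le.trans inf_le_right))

/-- The members of a frame of `Â` are transvections. -/
theorem frame_tv (hA : MaxEA 2 T A) {n : ℕ} {b d : Fin n → h.sec.Kq}
    (hf : Frame (h.sec.imgK A) b d) (i : Fin n) : ∃ u : h.sec.Mo, IsTv (b i) u := by
  refine hf.rm8_tv h.red ?_ i
  rw [h.sec.card_Mo, h.ffb_card hA, h.sec.card_fxS (hA.le.trans h.TL), hf.card]

/-- FFJ (c). -/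
theorem ffc (hA : MaxEA 2 T A) (hh : Half (A ⊓ centralizer (V : Set G)) A) (ha : a ∈ A)
    (hc : a ∉ centralizer (V : Set G)) : ∃ u : h.sec.Mo, IsTv (h.sec.hat a) u := by
  have hL := hA.le.trans h.TL
  obtain ⟨n, b, d, hf⟩ := h.red.exists_frame' (h.sec.imgK_sq_of_ea hA.ea)
  rcases Nat.eq_zero_or_pos n with rfl | hn
  · have := hf.faith _ (h.sec.hat_mem_imgK ha (hL ha)) fun i => i.elim0
    exact absurd ((h.sec.hat_eq_one' (hL ha)).1 this) hc
  · obtain ⟨u, hu⟩ := h.frame_tv hA hf ⟨0, hn⟩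
    obtain ⟨x, h1, h2, h3⟩ := h.sec.mem_imgK.1 (hf.mem ⟨0, hn⟩)
    have h4 : x ∉ centralizer (V : Set G) := fun e =>
      hu.ne_one (h3 ▸ (h.sec.hat_eq_one' h2).2 e)
    have h5 := (hh.2 a ha x h1 (fun e => hc e.2) fun e => h4 e.2).2
    refine ⟨u, ?_⟩
    rwa [(h.sec.hat_eq_hat' (hL ha) h2).2 (by rwa [inv_eq_of_sq (ea_sq hA.ea h1)]), h3]

/-- FFJ (c), in `G`. -/
theorem ffc' (hA : MaxEA 2 T A) (hh : Half (A ⊓ centralizer (V : Set G)) A) (ha : a ∈ A)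
    (hc : a ∉ centralizer (V : Set G)) :
    ∃ u ∈ V, u ≠ 1 ∧ ∀ v ∈ V, ⁅a, v⁆ = 1 ∨ ⁅a, v⁆ = u := by
  obtain ⟨u, hu⟩ := h.ffc hA hh ha hc
  obtain ⟨u, h1, rfl⟩ := h.sec.exists_bar u
  have := (h.sec.isTv_iff (h.TL (hA.le ha)) h1).1 hu
  exact ⟨u, h1, this.2.1, this.2.2.1⟩

/-- A transvection in a member of `𝒜` lies in a member with `|A : C_A(V)| = 2`. -/
theorem exists_half (hA : MaxEA 2 T A) (ha : a ∈ A) {u : h.sec.Mo} (ht : IsTv (h.sec.hat a) u) :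
    ∃ A', MaxEA 2 T A' ∧ Half (A' ⊓ centralizer (V : Set G)) A' ∧ a ∈ A' ∧
      A ⊓ centralizer (V : Set G) ≤ A' := by
  have haL := h.TL (hA.le ha)
  obtain ⟨u, hu, rfl⟩ := h.sec.exists_bar u
  obtain ⟨-, -, h3, h4⟩ := (h.sec.isTv_iff haL hu).1 ht
  set B := A ⊓ centralizer (V : Set G) ⊔ V ⊓ centralizer {a} with hB
  have hBC : B ≤ centralizer (V : Set G) :=
    sup_le inf_le_right (inf_le_left.trans (ea_le_centralizer h.ea))
  have hBa : B ≤ centralizer {a} := sup_le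
    (fun x hx => mem_centralizer_singleton_iff.2 (ea_comm hA.ea hx.1 ha)) inf_le_right
  have ha2 := ea_sq hA.ea ha
  have hc : ∀ b ∈ B, a * b = b * a := fun b hb => (mem_centralizer_singleton_iff.1 (hBa hb)).symm
  have hh : Half B (A ⊓ centralizer (V : Set G) ⊔ V) := by
    refine ⟨sup_le_sup_left inf_le_left _, fun x hx y hy h1 h2 => ?_⟩
    have hn : A ⊓ centralizer (V : Set G) ≤ normalizer (V : Set G) :=
      inf_le_right.trans (centralizer_le_normalizer _)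
    obtain ⟨c, hc, v, hv, rfl⟩ := (Solv.mem_sup_of_le_normalizer' hn).1 hx
    obtain ⟨c', hc', v', hv', rfl⟩ := (Solv.mem_sup_of_le_normalizer' hn).1 hy
    have key : ∀ c ∈ A ⊓ centralizer (V : Set G), ∀ v ∈ V, c * v ∉ B → ⁅a, v⁆ = u :=
      fun c hc v hv hn => (h3 v hv).resolve_left fun e => hn (mul_mem (mem_sup_left hc)
        (mem_sup_right ⟨hv, mem_centralizer_singleton_iff.2
          (commutatorElement_eq_one_iff_mul_comm.1 e).symm⟩))
    have e1 := key c hc v hv h1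
    have e2 := key c' hc' v' hv' h2
    have e : c * v * (c' * v') = c * c' * (v * v') := by
      rw [mul_assoc, ← mul_assoc v, hc'.2 v hv]; group
    rw [e]
    refine mul_mem (mem_sup_left (mul_mem hc hc')) (mem_sup_right ⟨mul_mem hv hv', ?_⟩)
    refine mem_centralizer_singleton_iff.2 ((h.sec.bar_mem_fx' haL (mul_mem hv hv')).1 ?_).symm
    rw [mem_fx, ← cm_eq_one_iff, h.sec.bar_mul hv hv', map_mul, h.sec.cm_hat haL hv,
      h.sec.cm_hat haL hv', e1, e2, h.sec.Mo_sq]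
  have hM := repl (h.ffb hA) hh (hA.le ha) ha2 hc fun e => h4 (hBC e)
  refine ⟨_, hM, half_of_elt hM.ea inf_le_left (mem_sup_right (mem_zpowers a)) fun x hx => ?_,
    mem_sup_right (mem_zpowers a), le_sup_left.trans le_sup_left⟩
  rcases (mem_sup_zpowers_two (mem_normalizer_of_comm hc) (by rw [ha2]; exact one_mem _)).1 hx
    with e | e
  · exact Or.inl ⟨hx, hBC e⟩
  · exact Or.inr ⟨mem_sup_left e, hBC e⟩

/-- FFJ (a). -/
theorem ffa (hX : ∀ A, MaxEA 2 T A → Half (A ⊓ centralizer (V : Set G)) A → A ≤ X) : J T ≤ X := by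
  refine J_le_iff.2 fun A hA x hx => ?_
  have hL := hA.le.trans h.TL
  have h0 : A ⊓ centralizer (V : Set G) ≤ X := le_sup_left.trans
    (hX _ (h.ffb hA) (half_of_le (sup_le inf_le_right (ea_le_centralizer h.ea))))
  obtain ⟨n, b, d, hf⟩ := h.red.exists_frame' (h.sec.imgK_sq_of_ea hA.ea)
  have h1 : h.sec.imgK A ≤ h.sec.imgK (A ⊓ X) := by
    rw [← hf.gen]
    refine iSup_le fun i => zpowers_le.2 ?_
    obtain ⟨u, hu⟩ := h.frame_tv hA hf i
    obtain ⟨a, h1, h2, h3⟩ := h.sec.mem_imgK.1 (hf.mem i)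
    obtain ⟨A', h4, h5, h6, -⟩ := h.exists_half hA h1 (h3 ▸ hu)
    exact h3 ▸ h.sec.hat_mem_imgK ⟨h1, hX A' h4 h5 h6⟩ h2
  obtain ⟨y, h2, h3, h4⟩ := h.sec.mem_imgK.1 (h1 (h.sec.hat_mem_imgK hx (hL hx)))
  have := mul_mem (h0 ⟨A.mul_mem hx (A.inv_mem h2.1), (h.sec.hat_eq_hat' (hL hx) h3).1 h4.symm⟩) h2.2
  rwa [inv_mul_cancel_right] at this

/-- `Ĵ` is generated by the transvections induced by the members with `|A : C_A(V)| = 2`. -/
theorem imgK_J_le {B : Subgroup h.sec.Kq} (hB : ∀ A a, MaxEA 2 T A →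
    Half (A ⊓ centralizer (V : Set G)) A → a ∈ A → ∀ u : h.sec.Mo, IsTv (h.sec.hat a) u →
      h.sec.hat a ∈ B) : h.sec.imgK (J T) ≤ B := by
  rw [h.sec.imgK_le_iff h.J_le]
  refine h.ffa fun A hA hh a ha => h.sec.mem_preK.2 ⟨h.TL (hA.le ha), ?_⟩
  by_cases hc : a ∈ centralizer (V : Set G)
  · rw [(h.sec.hat_eq_one' (h.TL (hA.le ha))).2 hc]; exact one_mem _
  · obtain ⟨u, hu⟩ := h.ffc hA hh ha hc
    exact hB A a hA hh ha u hu

theorem exists_half_of_not_le (hn : ¬ J T ≤ centralizer (V : Set G)) :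
    ∃ A a, MaxEA 2 T A ∧ Half (A ⊓ centralizer (V : Set G)) A ∧ a ∈ A ∧
      a ∉ centralizer (V : Set G) := by
  by_contra hc
  push Not at hc
  exact hn (h.ffa fun A h1 h2 a h3 => hc A a h1 h2 h3)

theorem imgK_J_le_NrmD : h.sec.imgK (J T) ≤ NrmD h.sec.Kq h.sec.Mo :=
  h.imgK_J_le fun _ _ _ _ _ _ hu => h.red.tv_mem_NrmD hu

theorem ncl_le_preK : ncl (J T) L ≤ h.sec.preK (NrmD h.sec.Kq h.sec.Mo) :=
  MSS.ncl_le ((h.sec.imgK_le_iff h.J_le).1 h.imgK_J_le_NrmD)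
    (h.sec.le_normalizer_preK inferInstance)

theorem hat_mem_NrmD (hx : x ∈ ncl (J T) L) : h.sec.hat x ∈ NrmD h.sec.Kq h.sec.Mo :=
  (h.sec.mem_preK.1 (h.ncl_le_preK hx)).2

/-- FFJ (d) for one element. -/
theorem hat_mem_Ogp (hx : x ∈ ncl (J T) L) (ho : OddOn V x) :
    h.sec.hat x ∈ Ogp h.sec.Kq h.sec.Mo :=
  h.red.mem_Ogp_of_odd (h.hat_mem_NrmD hx) ((h.sec.oddOn_iff (h.ncl_le hx)).1 ho)

theorem oddOn_of_mem_preK (hx : x ∈ h.sec.preK (Ogp h.sec.Kq h.sec.Mo)) : OddOn V x :=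
  (h.sec.oddOn_iff (h.sec.preK_le hx)).2 (h.red.odd_of_mem_Ogp (h.sec.mem_preK.1 hx).2)

/-- FFJ (d). -/
theorem resOf_le_preK : resOf 2 (ncl (J T) L) ≤ h.sec.preK (Ogp h.sec.Kq h.sec.Mo) :=
  MSS.resOf_le_iff.2 fun _ hx ho => h.sec.mem_preK.2
    ⟨h.ncl_le hx, h.hat_mem_Ogp hx (oddOn_of_odd V (Nat.coprime_two_right.1 ho))⟩

/-- FFJ (d). -/
theorem ffd (hx : x ∈ resOf 2 (ncl (J T) L)) : OddOn V x :=
  h.oddOn_of_mem_preK (h.resOf_le_preK hx)

/-- FFJ (d): the normal closure of an element of odd order of `ncl J L` acts with odd order. -/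
theorem ffd_ncl {d : G} (hd : d ∈ ncl (J T) L) (ho : OddOn V d) (hx : x ∈ ncl (zpowers d) L) :
    OddOn V x :=
  h.oddOn_of_mem_preK (MSS.ncl_le (zpowers_le.2 (h.sec.mem_preK.2
    ⟨h.ncl_le hd, h.hat_mem_Ogp hd ho⟩)) (h.sec.le_normalizer_preK inferInstance) hx)

theorem odd_hat_comm (hA : MaxEA 2 T A) (hh : Half (A ⊓ centralizer (V : Set G)) A) (ha : a ∈ A)
    {g : h.sec.Kq} (hg : g ∈ NrmD h.sec.Kq h.sec.Mo) : Odd (orderOf ⁅g, h.sec.hat a⁆) := by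
  by_cases hc : a ∈ centralizer (V : Set G)
  · rw [(h.sec.hat_eq_one' (h.TL (hA.le ha))).2 hc]; simp
  · obtain ⟨u, hu⟩ := h.ffc hA hh ha hc
    exact h.red.odd_comm_tv hu hg

theorem oddOn_comm (hA : MaxEA 2 T A) (hh : Half (A ⊓ centralizer (V : Set G)) A) (ha : a ∈ A)
    (hk : k ∈ ncl (J T) L) : OddOn V ⁅k, a⁆ := by
  have h1 := h.ncl_le hk
  have h2 := h.TL (hA.le ha)
  have h3 : ⁅k, a⁆ ∈ L := mul_mem (mul_mem (mul_mem h1 h2) (inv_mem h1)) (inv_mem h2)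
  rw [h.sec.oddOn_iff h3, h.sec.hat_comm h1 h2]
  exact h.odd_hat_comm hA hh ha (h.hat_mem_NrmD hk)

/-- For a 2-group `T`, `Ĵ` centralizes the transvections in it and fixes their centres. -/
theorem comm_tv (hT : IsPGroup 2 T) {t g : h.sec.Kq} {u : h.sec.Mo} (ht : t ∈ h.sec.imgK T)
    (hu : IsTv t u) (hg : g ∈ h.sec.imgK (J T)) : g * t = t * g ∧ g • u = u :=
  h.red.comm_tv_of_isPGroup (h.sec.isPGroup_imgK hT) ht (h.sec.imgK_mono (TJ.J_le T) hg)
    (h.imgK_J_le_NrmD hg) hu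

/-- For a 2-group `T`, `Ĵ` is elementary abelian. -/
theorem imgK_J_sq (hT : IsPGroup 2 T) : ∀ g ∈ h.sec.imgK (J T), g * g = 1 := by
  have h1 : h.sec.imgK (J T) ≤ omegaCenterOf (h.sec.imgK (J T)) :=
    h.imgK_J_le fun A a hA _ ha u hu => mem_oc.2
      ⟨h.sec.hat_mem_imgK (hA.le_J ha) (h.TL (hA.le ha)), fun g hg =>
        (h.comm_tv hT (h.sec.hat_mem_imgK (hA.le ha) (h.TL (hA.le ha))) hu hg).1, hu.sq⟩
  exact fun g hg => oc_sq (h1 hg)

/-- FFJ (e). -/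
theorem ffe (hT : IsSylowIn 2 T L) (hN : L ⊓ normalizer (J T : Set G) ≤ X)
    (hd : ∀ A a d, MaxEA 2 T A → Half (A ⊓ centralizer (V : Set G)) A → a ∈ A → d ∈ L →
      d ∈ normalizer ((T ⊓ centralizer (V : Set G) : Subgroup G) : Set G) → Odd (orderOf d) →
      a * d * a⁻¹ = d⁻¹ → d ∉ centralizer (V : Set G) → d ∈ X) :
    L ≤ centralizer (V : Set G) ⊔ (L ⊓ X) := by
  have hfr : ∀ g ∈ L, ∃ k ∈ ncl (J T) L, ∃ n ∈ L ⊓ normalizer (J T : Set G), g = k * n :=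
    fun g hg => by
      obtain ⟨k, hk, n, hn, e⟩ := frattini_J hT h.ncl_le (le_normalizer_ncl _ _) (le_ncl _ _) hg
      exact ⟨k, hk, n, ⟨by simpa [e] using mul_mem (inv_mem (h.ncl_le hk)) hg, hn⟩, e⟩
  have hX : ∀ c ∈ L, c ∈ X → h.sec.hat c ∈ h.sec.imgK X := fun c h1 h2 => h.sec.hat_mem_imgK h2 h1
  have h1 : h.sec.imgK (J T) ≤ (h.sec.imgK X).normalCore := by
    refine h.imgK_J_le fun A a hA hh ha u hu g => ?_
    obtain ⟨g, hg, rfl⟩ := h.sec.exists_hat g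
    obtain ⟨k, hk, n, hn, rfl⟩ := hfr g hg
    have hA' := maxEA_cj_of_mem_normalizer hA hn.2
    have hh' := half_cent_cj hh (h.pred.le_normalizer hn.1)
    have ha' : n * a * n⁻¹ ∈ cj n A := conj_mem_cj.2 ha
    have haL := h.TL (hA.le ha)
    have hkL := h.ncl_le hk
    set a' := n * a * n⁻¹
    have haL' := h.TL (hA'.le ha')
    obtain ⟨c, hc, k₁, hk₁, e⟩ := (Solv.mem_sup_of_le_normalizer (inf_le_left.trans
      (h.pred.le_normalizer.trans (normalizer_le_normalizer_centralizer V)))).1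
      (le_centralizer_sup_normalizer hT h.pred.le_normalizer hkL)
    have e1 : h.sec.hat k = h.sec.hat k₁ := (h.sec.hat_eq_hat' hkL hk₁.1).2 (by simpa [← e] using hc)
    have ha₁ := le_inf_normalizer_inf_centralizer h.TL h.pred.le_normalizer (hA'.le ha')
    have hc₁ : ⁅k₁, a'⁆ ∈ L ⊓ normalizer ((T ⊓ centralizer (V : Set G) : Subgroup G) : Set G) :=
      mul_mem (mul_mem (mul_mem hk₁ ha₁) (inv_mem hk₁)) (inv_mem ha₁)
    have ho : Odd (orderOf (h.sec.hat ⁅k₁, a'⁆)) := by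
      rw [h.sec.hat_comm hk₁.1 haL', ← e1]
      exact h.odd_hat_comm hA' hh' ha' (h.hat_mem_NrmD hk)
    obtain ⟨d, h2, h3, h4⟩ := h.sec.exists_odd_zpowers hc₁.1 ho
    have h5 := zpowers_le.2 hc₁ h2
    have h6 : h.sec.hat d ∈ h.sec.imgK X := by
      by_cases hC : d ∈ centralizer (V : Set G)
      · rw [(h.sec.hat_eq_one' h5.1).2 hC]; exact one_mem _
      · exact hX d h5.1 (hd _ a' d hA' hh' ha' h5.1 h5.2 h3
          (inverts_of_mem_zpowers (inverts_comm (ea_sq hA'.ea ha')) h2) hC)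
    have h7 := mul_mem h6 (hX a' haL' (hN ⟨haL', TJ.le_normalizer_J T (hA'.le ha')⟩))
    rw [h4, h.sec.hat_comm hk₁.1 haL', ← e1, commutatorElement_def, inv_mul_cancel_right,
      h.sec.hat_conj hn.1 haL] at h7
    rw [h.sec.hat_mul hkL hn.1]
    convert h7 using 1
    group
  have h2 : ncl (J T) L ≤ h.sec.preK (h.sec.imgK X) :=
    (MSS.ncl_le ((h.sec.imgK_le_iff h.J_le).1 h1) (h.sec.le_normalizer_preK inferInstance)).trans
      (h.sec.preK_mono (normalCore_le _))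
  refine le_trans (fun g hg => ?_) h.sec.preK_imgK_le
  obtain ⟨k, hk, n, hn, rfl⟩ := hfr g hg
  exact mul_mem (h2 hk) (h.sec.mem_preK.2 ⟨hn.1, hX n hn.1 (hN hn)⟩)

end FFH

/-- The standard instance of FFJ. -/
theorem ffh_yOf [Finite G] {T L : Subgroup G} (hs : Group.IsSolvable L)
    (h1 : largestPReducedOf 2 L ≤ T) (h2 : T ≤ L) : FFH (largestPReducedOf 2 L) T L :=
  ⟨yOf_ea L, h1, h2, hs, yOf_pRed L⟩

theorem ffh_yOf_sylow [Finite G] {T L : Subgroup G} (hs : Group.IsSolvable L)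
    (hT : IsSylowIn 2 T L) : FFH (largestPReducedOf 2 L) T L :=
  ffh_yOf hs ((yOf_le_pCoreOf L).trans (pCoreOf_le_of_isSylowIn hT)) hT.le

end Cfsg.Lib.Ngrp
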