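import Cfsg.Agent.Ngrp.NatJ1
import Cfsg.Agent.Ngrp.NatFF

/-!
Components `JCd` are components of the module `Y_L`.
-/

set_option autoImplicit false

namespace Cfsg.Lib.Ngrp
open Subgroup Cfsg.Lib.Trans Cfsg.Lib.Trans.TJ Cfsg.Lib.Local Cfsg.Lib.Local.JC
open Cfsg.Lib.Local.MSS (ncl PRed)
open scoped commutatorElement

section Mod

variable {K V : Type*} [Group K] [CommGroup V] [MulDistribMulAction K V] [Finite V]

theorem four_le_fx_of_comm (hV : ∀ v : V, v * v = 1) {g e : K} {W : Subgroup V}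
    (hc : Nat.card W = 4) (hW : Invt e W) (hf : W ⊓ fx V e = ⊥) (hg : g * g = 1)
    (hgW : Invt g W) (h : e * g = g * e) : W ≤ fx V g := by
  obtain ⟨w, hw, h1⟩ := (Subgroup.bot_or_exists_ne_one _).resolve_left
    (inf_fx_ne_bot_of_sq hV hg hgW fun h0 => by simp [h0] at hc)
  have h2 := inv_fx_of_comm h w hw.2
  intro x hx
  rcases (four_elems_smul hV hc hW hf hw.1 h1).1 hx with rfl | rfl | rfl | rfl
  exacts [one_mem _, hw.2, h2, mul_mem hw.2 h2]

/-- An involution of `NrmD` commuting with `e ∈ NrmD` of odd order centralises `[V, e]`. -/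
theorem Red.cV_le_fx_of_comm [Finite K] (hr : Red K V) {g e : K} (hg : g ∈ NrmD K V)
    (h2 : g * g = 1) (he : e ∈ NrmD K V) (ho : Odd (orderOf e)) (hc : g * e = e * g) :
    cV V e ≤ fx V g := fun w hw => by
  have h1 := (inv_cV_of_comm hc).cm_mem hw
  refine eq_one_of_mem_cV_fx hr.expo ho h1 (mem_fx.2 (he.2 _ fun d hd => ?_))
  have hed := comm_of_odd_of_or ho (he.1 d hd)
  have hi := Red.invt_of_mem_NrmD hg hd
  rcases hg.1 d hd with e1 | e1
  · have h3 : d * g = g * d := (mul_inv_eq_iff_eq_mul.1 e1).symm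
    rw [← cm_eq_one_iff, cm_cm_comm h3, cm_eq_one_iff, ← mem_fx]
    exact four_le_fx_of_comm hr.expo hd.card (inv_cV_self d) (hd.fpf hr) h2 hi h3 (cm_mem_cV _ _)
  · have h3 : cV V d ≤ fx V e := by
      by_contra hn
      exact hr.not_cV_le_fx h2 (hd.odd hr) e1 hd.ne_one (four_le_fx_of_comm hr.expo hd.card
        (inv_cV_of_comm hed) (fpf_of_not_le hr.expo ho (inv_cV_of_comm hed) hd.card.le hn) h2 hi
        hc.symm)
    exact cm_eq_one_iff.1 (eq_one_of_mem_cV_fx hr.expo ho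
      ((inv_cV_of_comm hed.symm).cm_mem h1) (h3 (cm_mem_cV _ _)))

end Mod

variable {G : Type*} [Group G] [Finite G] {T T' W W' A J₀ L V Z : Subgroup G}
  {d d' a u w x g : G}

theorem card_commutator_le_four (hZ : IsElementaryAbelian 2 Z) (ha : a ∈ normalizer (Z : Set G))
    (hd : d ∈ normalizer (Z : Set G)) (h2 : a * a = 1) (ho : Odd (orderOf d))
    (hinv : a * d * a⁻¹ = d⁻¹)
    (ht : ∀ v ∈ ⁅Z, zpowers d⁆, a * v * a⁻¹ = v ∨ a * v * a⁻¹ = u * v) :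
    Nat.card (⁅Z, zpowers d⁆ : Subgroup G) ≤ 4 := by
  have s := sec_bot hZ (le_refl (normalizer (Z : Set G)))
  rw [← s.pre_cV hd] at ht ⊢
  rw [s.card_pre', rm2_cV_card s.Mo_sq (s.hat_sq ha h2) (s.odd_hat hd ho) (s.hat_inverts ha hd hinv)]
  have h3 : (cV s.Mo (s.hat d)).map (cm s.Mo (s.hat a)) ≤ zpowers (s.bar u) := by
    rintro _ ⟨x, hx, rfl⟩
    obtain ⟨v, hv, rfl⟩ := s.exists_bar x
    rw [s.cm_hat ha hv, commutatorElement_def]
    rcases ht v (s.mem_pre.2 ⟨hv, hx⟩) with e | e <;> rw [e]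
    · rw [mul_inv_cancel, s.bar_one]; exact one_mem _
    · rw [mul_inv_cancel_right]; exact mem_zpowers _
  exact Nat.pow_le_pow_left ((Subgroup.card_le_of_le h3).trans
    (card_zpowers_le_of_expo s.Mo_sq _)) 2

theorem exists_mul_comm_of_odd (hZ : IsElementaryAbelian 2 Z) (hd : d ∈ normalizer (Z : Set G))
    (ho : Odd (orderOf d)) {z : G} (hz : z ∈ Z) :
    ∃ w ∈ ⁅Z, zpowers d⁆, z * w * d = d * (z * w) := by
  have s := sec_bot hZ (le_refl (normalizer (Z : Set G)))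
  obtain ⟨w, hw, c, hc, e⟩ := exists_dec s.Mo_sq (s.odd_hat hd ho) (s.bar z)
  obtain ⟨v, hv, rfl⟩ := s.exists_bar w
  refine ⟨v, s.pre_cV hd ▸ s.mem_pre.2 ⟨hv, hw⟩, ((s.bar_mem_fx' hd (mul_mem hz hv)).1 ?_).symm⟩
  rwa [s.bar_mul hz hv, e, mul_right_comm, s.Mo_sq, one_mul]

theorem FD.commutator_eq (h : FD W d) (hZ : IsElementaryAbelian 2 Z) (hW : W ≤ Z)
    (ha : a ∈ normalizer (Z : Set G)) (hd : d ∈ normalizer (Z : Set G)) (h2 : a * a = 1)
    (hinv : a * d * a⁻¹ = d⁻¹)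
    (ht : ∀ v ∈ ⁅Z, zpowers d⁆, a * v * a⁻¹ = v ∨ a * v * a⁻¹ = u * v) : ⁅Z, zpowers d⁆ = W :=
  (Subgroup.eq_of_le_of_card_ge (h.le_commutator hW)
    (h.card ▸ card_commutator_le_four hZ ha hd h2 h.odd hinv ht)).symm

namespace FFH

variable (r : FFH V T L)
include r

theorem hat_J (hx : x ∈ J T) : r.sec.hat x ∈ NrmD r.sec.Kq r.sec.Mo :=
  r.hat_mem_NrmD (MSS.le_ncl _ _ hx)

theorem hat_inverted (ha : a ∈ J T) (hd : d ∈ L) (ho : Odd (orderOf d))
    (hinv : a * d * a⁻¹ = d⁻¹) : r.sec.hat d ∈ NrmD r.sec.Kq r.sec.Mo :=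
  r.hat_mem_NrmD (mem_of_inverts ho hinv (MSS.le_normalizer_ncl _ _ hd) (MSS.le_ncl _ _ ha))

theorem comm_eq (hT : IsPGroup 2 T) (h : JCd T W d) (hd : d ∈ L) (hW : W ≤ V) :
    ⁅V, zpowers d⁆ = W := by
  obtain ⟨A, J₀, a, u, h⟩ := h.exists_jd hT
  have h1 := r.hat_inverted h.aJT hd h.odd h.inv
  have ho := r.sec.odd_hat hd h.odd
  refine h.fd.commutator_eq r.ea hW (r.sec.nV (r.J_le h.aJT)) (r.sec.nV hd) h.a_sq h.inv (u := u)
    fun v hv => ?_
  rw [← r.sec.pre_cV hd, r.sec.mem_pre] at hv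
  refine h.tv (r.VT hv.1) (ea_sq r.ea hv.1) fun j hj => ?_
  have hj0 := h.le hj
  have hjL := r.J_le (h.leJ hj0)
  refine (r.sec.bar_mem_fx' hjL hv.1).1 (r.red.cV_le_fx_of_comm (r.hat_J (h.leJ hj0))
    (r.sec.hat_sq hjL (ea_sq h.ea0 hj)) h1 ho ?_ hv.2)
  rw [← commutatorElement_eq_one_iff_mul_comm]
  refine Red.eq_one_of_odd_of_isPGroup (r.sec.isPGroup_imgK (A := J₀)
    (hT.to_le (h.leJ.trans (TJ.J_le T)))) ?_ (r.red.odd_of_mem_Ogp ?_)
  · rw [← r.sec.hat_comm hjL hd]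
    exact r.sec.hat_mem_imgK (commutator_mem_left h.dJ hj0)
      (r.J_le (h.leJ (commutator_mem_left h.dJ hj0)))
  · exact commutator_mem_right (by rw [normalizer_eq_top]; trivial) (r.red.mem_Ogp_of_odd h1 ho)

theorem pre_eq (hT : IsPGroup 2 T) (h : JCd T W d) (hd : d ∈ L) (hW : W ≤ V) :
    r.sec.pre (cV r.sec.Mo (r.sec.hat d)) = W := by rw [r.sec.pre_cV hd, r.comm_eq hT h hd hW]

theorem cmp (hT : IsPGroup 2 T) (h : JCd T W d) (hd : d ∈ L) (hW : W ≤ V) :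
    Cmp r.sec.Mo (r.sec.hat d) := by
  obtain ⟨A, J₀, a, h1, h2, h3, -⟩ := h.ex
  exact ⟨Ogp_le_fitting (r.red.mem_Ogp_of_odd (r.hat_inverted (h1.le_J h2) hd h.odd h3)
    (r.sec.odd_hat hd h.odd)), by rw [← r.sec.card_pre', r.pre_eq hT h hd hW, h.card]⟩

theorem bar_mem (hT : IsPGroup 2 T) (h : JCd T W d) (hd : d ∈ L) (hW : W ≤ V) (hw : w ∈ W) :
    r.sec.bar w ∈ cV r.sec.Mo (r.sec.hat d) :=
  (r.sec.mem_pre.1 ((r.pre_eq hT h hd hW).ge hw)).2

theorem jw (hT : IsPGroup 2 T) (h : JCd T W d) (hd : d ∈ L) (hW : W ≤ V) (h' : JCd T W' d')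
    (hd' : d' ∈ L) (hW' : W' ≤ V) : W = W' ∨ (W ⊓ W' = ⊥ ∧ d ∈ centralizer (W' : Set G) ∧
      d' ∈ centralizer (W : Set G) ∧ W ≤ centralizer (W' : Set G)) := by
  rcases (r.cmp hT h hd hW).dich r.red (r.cmp hT h' hd' hW') with e | e
  · exact Or.inl (by rw [← r.pre_eq hT h hd hW, ← r.pre_eq hT h' hd' hW', e.cV_eq])
  · have h1 : d ∈ centralizer (W' : Set G) := fun w hw =>
      ((r.sec.bar_mem_fx' hd (hW' hw)).1 (e.right (r.bar_mem hT h' hd' hW' hw))).symm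
    exact Or.inr ⟨eq_bot_iff.2 fun w hw => h.fd.eq_one hw.1 (h1 w hw.2), h1, fun w hw =>
      ((r.sec.bar_mem_fx' hd' (hW hw)).1 (e.left (r.bar_mem hT h hd hW hw))).symm,
      fun w hw w' hw' => ea_comm r.ea (hW' hw') (hW hw)⟩

theorem mem_normalizer (hT : IsPGroup 2 T) (h : JCd T W d) (hd : d ∈ L) (hW : W ≤ V) (hg : g ∈ L)
    (hw : w ∈ W) (h1 : w ≠ 1) (h2 : g * w * g⁻¹ ∈ W) : g ∈ normalizer (W : Set G) := by
  rw [← r.pre_eq hT h hd hW]
  refine r.sec.mem_normalizer_pre hg (inv_cV_of_or ((r.cmp hT h hd hW).sameD_conj_of_mem r.red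
    (r.bar_mem hT h hd hW hw) (mt (r.sec.bar_eq_one' (hW hw)).1 h1) ?_))
  rw [r.sec.hat_smul hg (hW hw)]
  exact r.bar_mem hT h hd hW h2

/-- JE: existence of components. -/
theorem je (hA : MaxEA 2 T A) (hh : Half (A ⊓ centralizer (V : Set G)) A) (ha : a ∈ A)
    (hd : d ∈ L) (hn : d ∈ normalizer ((T ⊓ centralizer (V : Set G) : Subgroup G) : Set G))
    (ho : Odd (orderOf d)) (hinv : a * d * a⁻¹ = d⁻¹) (hc : d ∉ centralizer (V : Set G)) :
    JCd T ⁅V, zpowers d⁆ d := by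
  have haL := r.TL (hA.le ha)
  have ha2 := ea_sq hA.ea ha
  have hac : a ∉ centralizer (V : Set G) := fun e => hc (mem_of_inverts ho hinv
    (normalizer_le_normalizer_centralizer V (r.sec.nV hd)) e)
  obtain ⟨u, hu⟩ := r.ffc hA hh ha hac
  have hd1 := mt (r.sec.hat_eq_one' hd).1 hc
  have hcmp := (r.red.tv_of_inverts hu (Ogp_le_fitting (r.red.mem_Ogp_of_odd
    (r.hat_inverted (hA.le_J ha) hd ho hinv) (r.sec.odd_hat hd ho))) hd1
    (r.sec.hat_inverts haL hd hinv)).1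
  have hWV : ⁅V, zpowers d⁆ ≤ V := r.sec.pre_cV hd ▸ r.sec.pre_le
  have f : FD ⁅V, zpowers d⁆ d := by
    refine ⟨ea_mono r.ea hWV, by rw [← r.sec.pre_cV hd, r.sec.card_pre', hcmp.card], ho,
      Solv.right_le_normalizer_commutator _ _ (mem_zpowers d), fun e => hd1 ?_⟩
    refine r.red.eq_one_of_odd (r.sec.odd_hat hd ho) fun x hx => ?_
    obtain ⟨v, hv, rfl⟩ := r.sec.exists_bar x
    exact (r.sec.bar_mem_fx' hd hv).2 (e v (r.sec.pre_cV hd ▸ r.sec.mem_pre.2 ⟨hv, hx⟩)).symm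
  have hA0 := r.ffb hA
  have hR : A ⊓ centralizer (V : Set G) ⊔ V ≤ J (T ⊓ centralizer (V : Set G)) :=
    (hA0.of_le (le_inf hA0.le (sup_le inf_le_right (ea_le_centralizer r.ea))) inf_le_left).le_J
  have haR := normalizer_le_normalizer_J (p := 2) _
    (MSS.le_inf_normalizer_inf_centralizer r.TL r.sec.nV (hA.le ha)).2
  have hdR := normalizer_le_normalizer_J (p := 2) _ hn
  refine ⟨f.ea, f.card, ho, fun x hx => ?_, f.nd, f.act, fun z hz => ?_,
    A, J (T ⊓ centralizer (V : Set G)), a, hA, ha, hinv, r.J_cent_le, hdR, haR,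
    sup_le (fun x hx => hR (mem_sup_left ⟨hx.1, by_contra fun e => ?_⟩))
      (hWV.trans (le_sup_right.trans hR))⟩
  · rw [← r.sec.pre_cV hd]
    exact r.sec.mem_normalizer_pre (r.J_le hx) (Red.invt_of_mem_NrmD (r.hat_J hx) hcmp)
  · obtain ⟨u, hu, h1, h2⟩ := r.ffc' hA hh ha hac
    obtain ⟨v, hv, h3⟩ : ∃ v ∈ V, ⁅a, v⁆ = u := by
      by_contra h3
      push Not at h3
      exact hac fun v hv => (commutatorElement_eq_one_iff_mul_comm.1
        ((h2 v hv).resolve_right (h3 v hv))).symm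
    have hVZ : V ≤ omegaCenterOf (J (T ⊓ centralizer (V : Set G))) := fun y hy =>
      mem_oc.2 ⟨hR (mem_sup_right hy), fun t ht => ((TJ.J_le _ ht).2 y hy).symm, ea_sq r.ea hy⟩
    have hdZ := normalizer_le_normalizer_oc _ hdR
    have h0 : ∀ b ∈ A, a * b * a⁻¹ = b := fun b hb => by
      rw [ea_comm hA.ea ha hb, mul_inv_cancel_right]
    have h4 : a * v * a⁻¹ = u * v := by rw [← h3, commutatorElement_def, inv_mul_cancel_right]
    have e := f.commutator_eq (ea_oc _) (hWV.trans hVZ) (normalizer_le_normalizer_oc _ haR) hdZ ha2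
      hinv (u := u) fun y hy => by
        have hy' := Solv.commutator_le_left_of_le_normalizer (zpowers_le.2 hdZ) hy
        rcases repl_two hA hh (TJ.J_le _ (oc_le _ hy')).1 (oc_sq hy')
          (fun b hb => ((mem_oc.1 hy').2.1 b (hR (mem_sup_left hb))).symm) (r.VT hv) (ea_sq r.ea hv)
          (fun b hb => hb.2 v hv) (ea_comm (ea_oc _) hy' (hVZ hv)) with e | e | e
        · exact Or.inl (h0 _ e.1)
        · exact absurd (by simpa [h0 _ e.1] using h4.symm) h1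
        · have h5 := h0 _ e.1
          rw [← conj_mul, h4, ← mul_assoc, mul_left_inj, ← eq_mul_inv_iff_mul_eq,
            inv_eq_of_sq (ea_sq r.ea hu)] at h5
          exact Or.inr (h5.trans (ea_comm (ea_oc _) hy' (hVZ hu)))
    rw [← e]
    exact exists_mul_comm_of_odd (ea_oc _) hdZ ho (mem_oc.2 ⟨hR (oc_J_le hA0 hz),
      centralizer_le r.J_cent_le (mem_oc.1 hz).2.1, oc_sq hz⟩)
  · have h1 := centralizer_le hWV (hh.2 x hx.1 a ha (fun h => e h.2) fun h => hac h.2).2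
    exact f.not_mem_cent hinv (by simpa using mul_mem (inv_mem (mem_inf.1 hx).2) h1)

theorem je_le (hT : IsSylowIn 2 T L) {M : Subgroup G} (h2 : L ⊓ normalizer (J T : Set G) ≤ M)
    (h3 : ∀ W d, JCd T W d → d ∈ L →
      d ∈ normalizer ((T ⊓ centralizer (V : Set G) : Subgroup G) : Set G) → W ≤ V → d ∈ M) :
    L ≤ centralizer (V : Set G) ⊔ (L ⊓ M) :=
  r.ffe hT h2 fun _ _ d hA hh ha hd hn ho hinv hc => h3 _ d (r.je hA hh ha hd hn ho hinv hc) hd hn
    (Solv.commutator_le_left_of_le_normalizer (zpowers_le.2 (r.sec.nV hd)))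

/-- If `J(T)` does not centralise `V` there is a component in `V`. -/
theorem exists_jcd (hT : IsSylowIn 2 T L) (hn : ¬ J T ≤ centralizer (V : Set G)) :
    ∃ W d, JCd T W d ∧ d ∈ L ∧
      d ∈ normalizer ((T ⊓ centralizer (V : Set G) : Subgroup G) : Set G) ∧ W ≤ V := by
  by_contra h
  push Not at h
  have h1 := r.je_le hT (M := normalizer (J T : Set G)) inf_le_right
    fun W d h1 h2 h3 h4 => absurd h4 (h W d h1 h2 h3)
  have h2 : PRed 2 V (L ⊓ normalizer (J T : Set G)) :=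
    r.pred.of_le_sup_centralizer (inf_le_left.trans le_sup_right) h1
  exact hn (h2.le_centralizer_of_isPGroup (le_inf r.J_le le_normalizer) inf_le_right
    (hT.isPGroup.to_le (TJ.J_le T)))

end FFH

theorem je (hs : Group.IsSolvable L) (hV : IsElementaryAbelian 2 V) (hVT : V ≤ T) (hTL : T ≤ L)
    (hr : PRed 2 V L) (hA : MaxEA 2 T A) (hh : Half (A ⊓ centralizer (V : Set G)) A) (ha : a ∈ A)
    (hd : d ∈ L) (hn : d ∈ normalizer ((T ⊓ centralizer (V : Set G) : Subgroup G) : Set G))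
    (ho : Odd (orderOf d)) (hinv : a * d * a⁻¹ = d⁻¹) (hc : d ∉ centralizer (V : Set G)) :
    JCd T ⁅V, zpowers d⁆ d := FFH.je ⟨hV, hVT, hTL, hs, hr⟩ hA hh ha hd hn ho hinv hc

theorem je_le (hs : Group.IsSolvable L) (hT : IsSylowIn 2 T L) {M : Subgroup G}
    (h1 : L ⊓ centralizer (largestPReducedOf 2 L : Set G) ≤ M)
    (h2 : L ⊓ normalizer (J T : Set G) ≤ M)
    (h3 : ∀ W d, JCd T W d → d ∈ L → d ∈ normalizer
      ((T ⊓ centralizer (largestPReducedOf 2 L : Set G) : Subgroup G) : Set G) →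
      W ≤ largestPReducedOf 2 L → d ∈ M) : L ≤ M := fun x hx => by
  obtain ⟨c, hc, m, hm, rfl⟩ := (Solv.mem_sup_of_le_normalizer (inf_le_left.trans
    ((MSS.self_le_normalizer_yOf L).trans (normalizer_le_normalizer_centralizer _)))).1
    ((ffh_yOf_sylow hs hT).je_le hT h2 h3 hx)
  exact mul_mem (h1 ⟨by simpa using mul_mem hx (inv_mem hm.1), hc⟩) hm.2

theorem jw (hs : Group.IsSolvable L) (hc : CharP 2 L) (hT : IsSylowIn 2 T L) (h : JCd T W d)
    (h' : JCd T W' d') (hd : d ∈ L) (hd' : d' ∈ L) : W = W' ∨ (W ⊓ W' = ⊥ ∧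
      d ∈ centralizer (W' : Set G) ∧ d' ∈ centralizer (W : Set G) ∧
      W ≤ centralizer (W' : Set G)) :=
  (ffh_yOf_sylow hs hT).jw hT.isPGroup h hd (h.le_yOf hc hT hd) h' hd' (h'.le_yOf hc hT hd')

theorem JCd.mem_normalizer (hs : Group.IsSolvable L) (hc : CharP 2 L) (hT : IsSylowIn 2 T L)
    (h : JCd T W d) (hd : d ∈ L) (hg : g ∈ L) (hw : w ∈ W) (h1 : w ≠ 1)
    (h2 : g * w * g⁻¹ ∈ W) : g ∈ normalizer (W : Set G) :=
  (ffh_yOf_sylow hs hT).mem_normalizer hT.isPGroup h hd (h.le_yOf hc hT hd) hg hw h1 h2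

theorem JCd.comm_yOf (hs : Group.IsSolvable L) (hc : CharP 2 L) (hT : IsSylowIn 2 T L)
    (h : JCd T W d) (hd : d ∈ L) : ⁅largestPReducedOf 2 L, zpowers d⁆ = W :=
  (ffh_yOf_sylow hs hT).comm_eq hT.isPGroup h hd (h.le_yOf hc hT hd)

end Cfsg.Lib.Ngrp
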