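import Cfsg.Agent.Ngrp.NatC2
import Cfsg.Agent.Ngrp.NatJ2

/-!
# Case (C) with `|Y| = 4` gives the natural geometry
-/

set_option autoImplicit false

namespace Cfsg.Lib.Ngrp
open Subgroup Cfsg.Lib.Trans Cfsg.Lib.Local Cfsg.Lib.Local.MSS Cfsg.Lib.Local.JC Cfsg.Lib.Trans.TJ

variable {G : Type*} [Group G] [Finite G] {S : Sylow 2 G} {Y H : Subgroup G}

theorem CaseC.natG (h : CaseC S Y H) (h4 : Nat.card Y = 4) : ∃ z, NatG S z Y := by
  have m := h.toMaxY
  obtain ⟨z, hz, z1⟩ := (Subgroup.bot_or_exists_ne_one _).resolve_left m.Z_ne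
  have hzY := m.Z_le hz
  have hn : ¬ Y ≤ omegaCenterOf (S : Subgroup G) := fun e =>
    h.K_not_le ((h.K_le_cent_Z.trans (centralizer_le e)).trans (centralizer_le_normalizer _))
  have hZ : omegaCenterOf (S : Subgroup G) = zpowers z :=
    le_antisymm (fun t ht => (mem_zpowers_two (oc_sq hz)).2 (by
      by_contra hc
      rw [not_or] at hc
      exact hn (four_eq_of_card m.ea h4 hzY (m.Z_le ht) z1 hc.1 (Ne.symm hc.2) ▸ four_le hz ht)))
      (zpowers_le.2 hz)
  have hSz : (S : Subgroup G) ≤ centralizer {z} := fun s hs =>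
    mem_centralizer_singleton_iff.2 (oc_le_centralizer _ hz s hs)
  refine ⟨z, h.ah, z1, hZ, m.ea, h4, hzY, m.YS, h.le, fun e => hn fun y hy => ?_, fun e => ?_,
    fun D hD h0 h1 => m.up hD h0 (inf_le_left.trans h1), fun V hV cV hVS hSV hNV => ?_⟩
  · have h1 := m.pred.le_centralizer le_rfl le_normalizer (MSS.resOf_le_iff.2 fun g hg ho => by
      by_contra hc
      exact FD.conj_ne ⟨m.ea, h4, Nat.coprime_two_right.1 ho, hg, hc⟩ hzY z1
        (mul_inv_eq_iff_eq_mul.2 (mem_centralizer_singleton_iff.1 (e hg))))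
    exact mem_oc.2 ⟨m.YS hy, fun s hs => (h1 (h.le hs) y hy).symm, ea_sq m.ea hy⟩
  · exact h.K_not_le ((h.K_le_cent_Z.trans (centralizer_le (Set.singleton_subset_iff.2 hz))).trans e)
  · have hV0 : V ≠ ⊥ := fun e => by simp [e] at cV
    have hL : Over S (normalizer (V : Set G)) := over_normalizer (ea_isPGroup hV) hV0 hSV
    have hzV : z ∈ V := by
      obtain ⟨u, hu, u1, hc⟩ := FD.exists_fix hV hV0 hSV (resOf_le_of_isPGroup S.isPGroup' _)
      have := (mem_zpowers_two (oc_sq hz)).1 (hZ ▸ mem_oc.2 ⟨hVS hu, hc, ea_sq hV hu⟩)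
      exact this.resolve_left u1 ▸ hu
    have hC : centralizer (V : Set G) ≤ centralizer {z} :=
      centralizer_le (Set.singleton_subset_iff.2 hzV)
    obtain ⟨d, hd, ho, hc⟩ : ∃ d ∈ normalizer (V : Set G), (orderOf d).Coprime 2 ∧
        d ∉ centralizer (V : Set G) := by
      by_contra hc
      push Not at hc
      exact hNV (resOf_sup_isSylowIn hL.syl ▸ sup_le ((MSS.resOf_le_iff.2 hc).trans hC) hSz)
    have hY : V = largestPReducedOf 2 (normalizer (V : Set G)) :=
      eq_of_le_of_card_ge (le_yOf le_normalizer hV ⟨le_rfl, fun D h1 h2 h3 =>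
        FD.le_cent ⟨hV, cV, Nat.coprime_two_right.1 ho, hd, hc⟩ h1 h3 (h2 hd)⟩)
        (by rw [cV, ← h4]; exact h.max _ hL)
    have r := hL.ffh h.ah
    rw [← hY] at r
    have h1 := r.je_le hL.syl (M := normalizer (Y : Set G)) (inf_le_right.trans h.nj)
      fun W d hW _ _ _ => h.jc W d hW
    obtain ⟨n, hn, hnz⟩ := SetLike.not_le_iff_exists.1 fun e => hNV (h1.trans (sup_le hC e))
    refine eq_of_le_of_card_ge ?_ (by rw [cV, h4])
    rw [← four_eq_of_card hV cV hzV (mem_normalizer_conj hn.1 hzV) z1 (by simpa using z1)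
      fun e => hnz (mem_centralizer_singleton_iff.2 (mul_inv_eq_iff_eq_mul.1 e.symm))]
    exact four_le hzY (mem_normalizer_conj hn.2 hzY)

end Cfsg.Lib.Ngrp
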