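import Cfsg.Agent.Ngrp.NatJ4
import Cfsg.Agent.Local.JTop
import Cfsg.Agent.Local.InvCent

/-!
# No unique maximal 2-local subgroup over a Sylow 2-subgroup (theorem T0 of plan 184)
-/

set_option autoImplicit false

namespace Cfsg.Lib.Ngrp
open Subgroup Cfsg.Lib.Trans Cfsg.Lib.Trans.TJ Cfsg.Lib.Local Cfsg.Lib.Local.JC

variable {G : Type*} [Group G] [Finite G]

/-- A Sylow subgroup in which the normalisers of two four-groups meet in their join `T`, of order
eight, is `T` or has rank two. -/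
theorem rank_two_of_d8 (S : Sylow 2 G) {T W V : Subgroup G} (hW : IsElementaryAbelian 2 W)
    (hV : IsElementaryAbelian 2 V) (cW : Nat.card W = 4) (cV : Nat.card V = 4) (hWT : W ≤ T)
    (hVT : V ≤ T) (h8 : Nat.card T = 8) (hWV : ¬ W ≤ centralizer (V : Set G))
    (hNW : (S : Subgroup G) ⊓ normalizer (W : Set G) = T)
    (hNV : (S : Subgroup G) ⊓ normalizer (V : Set G) = T) (hne : ¬ (S : Subgroup G) ≤ T) :
    PRankLE 2 2 G := fun A hA hA2 => by
  by_contra hc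
  have hea : IsElementaryAbelian 2 A := ea_of_sq fun a ha => by rw [← pow_two, hA2 a ha]
  obtain ⟨g, -, hg⟩ := (isSylowIn_top S).exists_cj_le (ea_isPGroup hea) le_top
  obtain ⟨⟨z, zS⟩, ⟨e, eS⟩, zz, ee, z1, e1, ez, cz, ce⟩ := exists_normal_four_of_elementary
    S.isPGroup' ((cj g A).subgroupOf S) (by rw [card_subgroupOf_of_le hg, card_cj]; omega)
    fun e he => Subtype.ext (ea_sq (ea_map hea _) he)
  simp only [Subtype.ext_iff, ne_eq, Subtype.forall, MulMemClass.coe_mul, OneMemClass.coe_one,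
    InvMemClass.coe_inv] at zz ee z1 e1 ez cz ce
  have hTS : T ≤ S := hNW ▸ inf_le_left
  have key : ∀ U U' : Subgroup G, IsElementaryAbelian 2 U → Nat.card U = 4 → U ≤ T → U' ≤ T →
      ¬ U' ≤ centralizer (U : Set G) → (S : Subgroup G) ⊓ normalizer (U : Set G) = T →
      T ⊓ centralizer (U : Set G) ≤ U ∧ z ∈ U ∧ e ∈ T ∧ e ∉ centralizer (U : Set G) := by
    intro U U' hU c4 hUT hU' hn hN
    have h1 : T ⊓ centralizer (U : Set G) ≤ U := by
      have h2 : T ⊓ centralizer (U : Set G) < T := inf_lt_left.2 fun h => hn (hU'.trans h)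
      have h3 := card_lt_of_lt h2
      obtain ⟨k, hk⟩ := card_dvd_of_le h2.le
      refine (eq_of_le_of_card_ge (le_inf hUT (ea_le_centralizer hU)) ?_).ge
      rw [h8] at h3 hk
      rw [c4]
      rcases k with _ | _ | k <;> nlinarith
    have hz : z ∈ U := by
      have : z ∈ centralizer (U : Set G) := fun x hx => cz x (hTS (hUT hx))
      exact h1 ⟨hN ▸ ⟨zS, centralizer_le_normalizer _ this⟩, this⟩
    refine ⟨h1, hz, hN ▸ ⟨eS, mem_normalizer_of_cj_le (cj_le_iff.2 fun x hx => ?_)⟩, fun h => ?_⟩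
    · rcases ce x⁻¹ (inv_mem (hTS (hUT hx))) with h | h
      · rwa [show e * x * e⁻¹ = x * (x⁻¹ * e * x⁻¹⁻¹) * e⁻¹ by group, h, mul_inv_cancel_right]
      · rw [show e * x * e⁻¹ = x * (x⁻¹ * e * x⁻¹⁻¹) * e⁻¹ by group, h, ← mul_assoc,
          mul_inv_cancel_right]
        exact U.mul_mem hx hz
    · have he := h1 ⟨hN ▸ ⟨eS, centralizer_le_normalizer _ h⟩, h⟩
      refine hne (hN ▸ le_inf le_rfl fun s hs => mem_normalizer_of_cj_le ?_)
      rw [← four_eq_of_card hU c4 hz he z1 e1 (Ne.symm ez), four, cj_sup, cj_zpowers, cj_zpowers,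
        cz s hs, mul_inv_cancel_right]
      refine four_le (left_mem_four _ _) ?_
      rcases ce s hs with h' | h' <;> rw [h']
      · exact right_mem_four _ _
      · exact mul_mem (left_mem_four _ _) (right_mem_four _ _)
  have hVW : ¬ V ≤ centralizer (W : Set G) := fun h => hWV (le_centralizer_iff.1 h)
  obtain ⟨k1, k2, k3, k4⟩ := key W V hW cW hWT hVT hVW hNW
  obtain ⟨-, l2, -, l4⟩ := key V W hV cV hVT hWT hWV hNV
  obtain ⟨v, hv, hvW⟩ := SetLike.not_le_iff_exists.1 hVW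
  have fz : ∀ t ∈ T, t * z * t⁻¹ = z := fun t ht => mul_inv_eq_iff_eq_mul.2 (cz t (hTS ht))
  have nW : T ≤ normalizer (W : Set G) := hNW ▸ inf_le_right
  have h1 := k1 ⟨T.mul_mem k3 (hVT hv), mul_mem_cent_four hW cW k2 z1 (nW k3) (nW (hVT hv))
    (fz e k3) (fz v (hVT hv)) k4 hvW⟩
  have h2 : e * v ∉ V := fun h => l4 (ea_le_centralizer hV ((V.mul_mem_cancel_right hv).1 h))
  have h3 : v * (e * v) = e * v * v := by
    have := ea_sq hW h1
    rw [mul_assoc e v v, ea_sq hV hv, mul_one, ← mul_right_inj e, ee, ← this]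
    group
  refine hvW fun x hx => ?_
  rw [← four_eq_of_card hW cW k2 h1 z1 (fun h => h2 (h ▸ V.one_mem)) fun h => h2 (h ▸ l2)] at hx
  exact (sup_zpowers_le_centralizer (fun b hb => (mem_zpowers_two zz).1 hb |>.elim
    (fun h => by rw [h, mul_one, one_mul]) fun h => h ▸ cz v (hTS (hVT hv))) h3 x hx).symm

/-- `M` contains the normalisers of all nontrivial `S`-invariant 2-subgroups, and `T` is a maximal
2-subgroup of `M` lying in a 2-local subgroup not inside `M`. -/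
structure Uq (S : Sylow 2 G) (M T : Subgroup G) : Prop where
  uq : ∀ D : Subgroup G, IsPGroup 2 D → D ≠ ⊥ → (S : Subgroup G) ≤ normalizer (D : Set G) →
    normalizer (D : Set G) ≤ M
  S_le : (S : Subgroup G) ≤ M
  max : T ∈ maxStraddlingTwoSubgroups M

namespace Uq

variable {S : Sylow 2 G} {M T : Subgroup G}

theorem pg (h : Uq S M T) : IsPGroup 2 T := h.max.1.1

theorem ne_bot (h : Uq S M T) : T ≠ ⊥ := h.max.1.2.1

theorem le (h : Uq S M T) : T ≤ M := h.max.1.2.2.1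

theorem J_pg (h : Uq S M T) : IsPGroup 2 (J T) := h.pg.to_le (J_le T)

theorem J_ne_bot (h : Uq S M T) : J T ≠ ⊥ := TJ.J_ne_bot h.pg h.ne_bot

theorem exists_le (h : Uq S M T) : ∃ S' : Sylow 2 G, Uq S' M T ∧ T ≤ S' := by
  obtain ⟨m, hm, hm'⟩ := (isSylowIn_of_le S h.S_le).exists_cj_le h.pg h.le
  refine ⟨m⁻¹ • S, ⟨fun D hD h0 hS => ?_, ?_, h.max⟩, ?_⟩
  · rw [Trans.coe_sylow_smul, cj_inv_le_iff_le_cj, cj_normalizer] at hS
    have := h.uq _ (isPGroup_cj hD m) (mt cj_eq_bot.1 h0) hS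
    rwa [← cj_normalizer, cj_le_iff_le_cj_inv, cj_eq_of_mem (inv_mem hm)] at this
  · rw [Trans.coe_sylow_smul]
    exact cj_le_of_mem_of_le (inv_mem hm) h.S_le
  · rw [Trans.coe_sylow_smul]
    exact cj_le_iff_le_cj_inv.mp hm'

theorem max_J (h : Uq S M T) {U : Subgroup G} (hU : U ∈ straddlingTwoSubgroups M)
    (hJ : J T ≤ U) : J U = J T ∧ Nat.card U ≤ Nat.card T := by
  obtain ⟨h1, h2⟩ := h.max.2 U hU
  obtain ⟨A, hA⟩ := exists_maxEA 2 T
  obtain ⟨B, hB⟩ := exists_maxEA 2 U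
  have h3 := hB.card_le (hA.le_J.trans hJ) hA.ea
  rw [maxOrder_eq hA, maxOrder_eq hB] at h1 h2
  obtain ⟨h4, h5⟩ := h2 (le_antisymm h1 h3)
  have h6 : J T ≤ J U := J_le_J_of_le hJ fun A' B' hA' hB' => by
    rw [hA'.card_eq hA, hB'.card_eq hB]
    exact h1
  have h7 := (eq_of_le_of_card_ge h6 h4).symm
  exact ⟨h7, h5 (by rw [← J, ← J, h7])⟩

theorem lt (h : Uq S M T) (hTS : T ≤ S) : T < S := by
  obtain ⟨_, ⟨D, hD, h0, rfl⟩, h1, h2⟩ := h.max.1.2.2.2
  exact lt_of_le_of_ne hTS fun e => h2 (h.uq D hD h0 (e ▸ h1))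

theorem lt_N (h : Uq S M T) (hTS : T ≤ S) : T < (S : Subgroup G) ⊓ normalizer (J T : Set G) :=
  (lt_inf_normalizer S.isPGroup' (h.lt hTS)).trans_le
    (inf_le_inf_left _ (normalizer_le_normalizer_J T))

theorem normalizer_J_le (h : Uq S M T) : normalizer (J T : Set G) ≤ M := by
  obtain ⟨S, h, hTS⟩ := h.exists_le
  by_contra hc
  have hTU := h.lt_N hTS
  exact (card_lt_of_lt hTU).not_ge (h.max_J (U := (S : Subgroup G) ⊓ normalizer (J T : Set G))
    ⟨S.isPGroup'.to_le inf_le_left, fun h1 => h.ne_bot (eq_bot_iff.mpr (h1 ▸ hTU.le)),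
      inf_le_left.trans h.S_le, _, isTwoLocal_normalizer h.J_pg h.J_ne_bot, inf_le_right, hc⟩
    ((J_le T).trans hTU.le)).2

theorem syl_facts (h : Uq S M T) {L U : Subgroup G} (hL : IsTwoLocal L) (hLM : ¬ L ≤ M)
    (hU : IsPGroup 2 U) (hUL : U ≤ L) (hJ : J T ≤ U) :
    J U = J T ∧ Nat.card U ≤ Nat.card T := by
  have hJ' : J T ≤ U ⊓ M := le_inf hJ ((J_le T).trans h.le)
  have h1 : U ⊓ M ∈ straddlingTwoSubgroups M := ⟨hU.to_le inf_le_left,
    fun h1 => h.J_ne_bot (eq_bot_iff.mpr (h1 ▸ hJ')), inf_le_right, L, hL, inf_le_left.trans hUL, hLM⟩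
  have h2 := h.max_J h1 hJ'
  rcases (inf_le_left : U ⊓ M ≤ U).lt_or_eq with h3 | h3
  · refine absurd (inf_le_inf_left _ ?_) (lt_inf_normalizer hU h3).not_ge
    refine (normalizer_le_normalizer_J (p := 2) _).trans ?_
    rw [← J, h2.1]
    exact h.normalizer_J_le
  · rwa [h3] at h2

theorem syl_of_le (h : Uq S M T) {L : Subgroup G} (hL : IsTwoLocal L) (hLM : ¬ L ≤ M)
    (hTL : T ≤ L) : IsSylowIn 2 T L :=
  isSylowIn_of_maximal hTL h.pg fun _ hQ hTQ hQL =>
    (eq_of_le_of_card_ge hTQ (h.syl_facts hL hLM hQ hQL ((J_le T).trans hTQ)).2).ge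

theorem false (h : Uq S M T) (ah : AH G) (hG : ∀ H : Subgroup G, H.index ≠ 2)
    (hr : ¬ PRankLE 2 2 G) : False := by
  obtain ⟨S, h, hTS⟩ := h.exists_le
  obtain ⟨L, hL, hTL, hLM⟩ := h.max.1.2.2.2
  have hT := h.syl_of_le hL hLM hTL
  have hc := ah.charP hL
  obtain ⟨W, d, hW, hd, hdN, hdM⟩ : ∃ W d, JCd T W d ∧ d ∈ L ∧ d ∈ normalizer
      ((T ⊓ centralizer (largestPReducedOf 2 L : Set G) : Subgroup G) : Set G) ∧ d ∉ M := by
    by_contra hn
    push Not at hn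
    refine hLM (je_le (ah.solv L hL) hT (inf_le_right.trans ?_)
      (inf_le_right.trans h.normalizer_J_le) fun W d h1 h2 h3 _ => hn W d h1 h2 h3)
    have h0 : (S : Subgroup G) ≠ ⊥ := fun e => h.ne_bot (eq_bot_iff.2 (e ▸ hTS))
    refine ((centralizer_le ?_).trans (centralizer_le_normalizer _)).trans
      (h.uq _ (S.isPGroup'.to_le (oc_le _)) (oc_ne_bot S.isPGroup' h0)
        (le_normalizer.trans (normalizer_le_normalizer_oc _)))
    refine fun z hz => MSS.omega_center_le_yOf hc hT (mem_oc.2 ⟨?_, ?_, oc_sq hz⟩ : z ∈ omegaCenterOf T)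
    · exact pCoreOf_le_sylowIn hT (ah.cent_le hL
        (centralizer_le ((pCoreOf_le_sylowIn hT).trans hTS) (oc_le_centralizer _ hz)))
    · exact centralizer_le hTS (oc_le_centralizer _ hz)
  have hlt := h.lt_N hTS
  by_cases h4 : 4 ≤ Nat.card (omegaCenterOf (J T))
  · obtain ⟨D, hD, h0, h1, h2⟩ := z48 ah hG h.pg (P := fun d => d ∉ M)
      (fun g hg d hd e => hd (by
        simpa [mul_assoc] using M.mul_mem (M.mul_mem (M.inv_mem (h.normalizer_J_le hg)) e)
          (h.normalizer_J_le hg)))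
      (fun d hd L hL hJ hdL => by
        obtain ⟨U, hU, hJU⟩ := exists_isSylowIn_ge h.J_pg hJ
        exact ⟨U, hU, (h.syl_facts hL (fun e => hd (e hdL)) hU.isPGroup hU.le hJU).1⟩) h4
    exact (card_lt_of_lt hlt).not_ge (h.syl_facts (isTwoLocal_normalizer hD h0)
      (fun e => hdM (e (h2 W d hW hdM))) (S.isPGroup'.to_le inf_le_left) (inf_le_right.trans h1)
      ((J_le T).trans hlt.le)).2
  have h2 : Nat.card (omegaCenterOf (J T)) = 2 := by
    have h5 := dvd_card_of_isPGroup_ne_bot (h.J_pg.to_le (oc_le _)) (oc_ne_bot h.J_pg h.J_ne_bot)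
    have h6 : 0 < Nat.card (omegaCenterOf (J T)) := Nat.card_pos
    omega
  have hY := z2 (ah.solv L hL) hc hT h2 hW hd
  have nW : T ≤ normalizer (W : Set G) := hY ▸ hTL.trans (MSS.self_le_normalizer_yOf L)
  rw [hY] at hdN
  obtain ⟨x, hx, hxT⟩ := SetLike.exists_of_lt (lt_inf_normalizer S.isPGroup' (h.lt hTS))
  have hW0 : W ≠ ⊥ := fun e => by simpa [e] using hW.card
  have hNW : (S : Subgroup G) ⊓ normalizer (W : Set G) = T :=
    (h.syl_of_le (isTwoLocal_normalizer (ea_isPGroup hW.ea) hW0) (fun e => hdM (e hW.nd)) nW).eq_inf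
      S.isPGroup' hTS
  have hxT' := cj_eq_of_mem_normalizer hx.2
  have hNV : (S : Subgroup G) ⊓ normalizer (cj x W : Set G) = T := by
    rw [← cj_normalizer, ← cj_eq_of_mem hx.1, ← cj_inf, hNW, hxT']
  have hV := hW.cj_of_mem (normalizer_le_normalizer_J T hx.2)
  obtain ⟨k1, k2, k3⟩ := z2_pair ah h.pg h2 hW hV nW (hNV ▸ inf_le_right) hdN
    (by rw [← cj_centralizer, ← hxT', ← cj_inf, ← cj_normalizer]; exact conj_mem_cj.2 hdN)
    (fun e => hxT (hNW ▸ ⟨hx.1, cj_eq_self_iff.1 e.symm⟩))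
    fun L hL hTL hdL => h.syl_of_le hL (fun e => hdM (e hdL)) hTL
  exact hr (rank_two_of_d8 S hW.ea hV.ea hW.card hV.card (k1 ▸ le_sup_left) (k1 ▸ le_sup_right) k2
    k3 hNW hNV (h.lt hTS).not_ge)

end Uq

/-- Theorem T0. -/
theorem t0 [IsSimpleGroup G] (hG : ¬ IsMulCommutative G) (ah : AH G) (hr : ¬ PRankLE 2 2 G)
    (hse : ¬ ∃ H : Subgroup G, IsStronglyEmbedded H) (S : Sylow 2 G) (M : Subgroup G)
    (hM : Over S M) : ¬ ∀ L, Over S L → L ≤ M := fun h => by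
  have uq : ∀ D : Subgroup G, IsPGroup 2 D → D ≠ ⊥ → (S : Subgroup G) ≤ normalizer (D : Set G) →
      normalizer (D : Set G) ≤ M := fun D hD h0 hS =>
    h _ ⟨hS, core_ne_bot_of_twoLocal (isTwoLocal_normalizer hD h0)⟩
  have hL : IsTwoLocal M := ⟨_, isPGroup_pCoreOf M, hM.2, le_antisymm (le_normalizer_pCoreOf M)
    (uq _ (isPGroup_pCoreOf M) hM.2 (hM.1.trans (le_normalizer_pCoreOf M)))⟩
  obtain ⟨x, hx⟩ : ∃ x, x ∉ center G := by
    by_contra hn
    push Not at hn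
    exact hG ⟨⟨fun a b => mem_center_iff.1 (hn b) a⟩⟩
  have hO : pCore 2 G = ⊥ := (inferInstance : (pCore 2 G).Normal).eq_bot_or_eq_top.resolve_right
    fun e => by
      have h1 : IsPGroup 2 (⊤ : Subgroup G) := by
        rw [← e, ← pCoreOf_top]; exact isPGroup_pCoreOf ⊤
      have := (h1.of_equiv topEquiv).center_nontrivial
      rw [center_eq_bot_of_isSimpleGroup hx] at this
      exact false_of_nontrivial_of_subsingleton (⊥ : Subgroup G)
  obtain ⟨T, hT⟩ := exists_mem_max (M := M) (Set.nonempty_iff_ne_empty.2 fun e =>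
    hse ⟨M, isStronglyEmbedded_iff_se.2 ((se_iff_strad hO hL).2 e)⟩)
  exact Uq.false ⟨uq, hM.1, hT⟩ ah (index_ne_two_of_isSimpleGroup hx) hr

end Cfsg.Lib.Ngrp
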