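import Cfsg.Agent.Ngrp.NatJ5
import Cfsg.Agent.Ngrp.NatT0

/-!
The natural geometry exists as soon as case (C) is settled.
-/

set_option autoImplicit false

namespace Cfsg.Lib.Ngrp
open Subgroup Cfsg.Lib.Local

theorem exists_natG {G : Type*} [Group G] [Finite G] [IsSimpleGroup G]
    (hG : ¬ IsMulCommutative G) (ah : AH G) (hr : ¬ PRankLE 2 2 G)
    (hse : ¬ ∃ H : Subgroup G, IsStronglyEmbedded H)
    (nc : ∀ (S : Sylow 2 G) (Y H : Subgroup G), CaseC S Y H → ∃ z, NatG S z Y) :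
    ∃ (S : Sylow 2 G) (z : G) (Y : Subgroup G), NatG S z Y := by
  obtain ⟨x, hx⟩ : ∃ x : G, x ∉ center G := by
    by_contra h
    push Not at h
    exact hG ⟨⟨fun a b => mem_center_iff.1 (h b) a⟩⟩
  obtain ⟨S⟩ : Nonempty (Sylow 2 G) := inferInstance
  exact ⟨S, caseA ah (index_ne_two_of_isSimpleGroup hx) hr S (t0 hG ah hr hse S) (nc S)⟩

end Cfsg.Lib.Ngrp
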