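import Cfsg.Agent.Ngrp.NatS2

set_option autoImplicit false
set_option linter.unusedSectionVars false

namespace Cfsg.Lib.Ngrp
open Subgroup Cfsg.Lib.Trans Cfsg.Lib.Local Cfsg.Lib.Local.MSS Cfsg.Lib.Local.JC Cfsg.Lib.Trans.TJ
open Cfsg.Lib.Local.Tv Cfsg.Lib.Ngrp.Geo
open scoped commutatorElement Pointwise

variable {G : Type*} [Group G] [Finite G]

local notation "𝐍 " X:max => normalizer (X : Set G)
local notation "𝐂 " X:max => centralizer (X : Set G)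

/-- An element of an elementary abelian group acting as a transvection on `Y` does so on
`C_A(Y) Y`. -/
theorem tv_ext {A Y : Subgroup G} {a u : G} (hA : IsElementaryAbelian 2 A) (ha : a ∈ A)
    (hu : u ∈ Y) (ht : ∀ v ∈ Y, ⁅a, v⁆ = 1 ∨ ⁅a, v⁆ = u) {x : G} (hx : x ∈ A ⊓ 𝐂 Y ⊔ Y) :
    ⁅a, x⁆ = 1 ∨ ⁅a, x⁆ = u := by
  rw [← SetLike.mem_coe, coe_mul_of_left_le_normalizer_right _ _
    (inf_le_right.trans (centralizer_le_normalizer _))] at hx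
  obtain ⟨c, hc, y, hy, rfl⟩ := hx
  have h1 : ⁅a, c * y⁆ = c * ⁅a, y⁆ * c⁻¹ := by
    simp only [commutatorElement_def]
    rw [← mul_assoc a, ea_comm' hA ha hc.1]; group
  show ⁅a, c * y⁆ = 1 ∨ ⁅a, c * y⁆ = u
  rw [h1]
  rcases ht y hy with e | e <;> rw [e]
  · left; group
  · exact Or.inr (conj_eq_of_mem_centralizer hc.2 hu)

namespace CaseC

variable {S : Sylow 2 G} {Y H : Subgroup G} (h : CaseC S Y H) (hY : Y ≤ pCoreOf 2 H)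
include h

theorem J_le_Cz {τ : h.toMaxY.ffh.sec.Kq} {u : G} (hu : u ∈ Y)
    (hτ : τ ∈ h.toMaxY.ffh.sec.imgK S) (ht : IsTv τ (h.toMaxY.ffh.sec.bar u)) :
    J (S : Subgroup G) ≤ Cz u := fun _ hj =>
  mem_Cz.2 ((h.toMaxY.ffh.sec.hat_smul_eq_iff' (h.toMaxY.ffh.J_le hj) hu).1
    (h.toMaxY.ffh.comm_tv S.isPGroup' hτ ht
      (h.toMaxY.ffh.sec.hat_mem_imgK hj (h.toMaxY.ffh.J_le hj))).2)

include hY

theorem exists_beta' : ∃ β ∈ resOf 2 H, β ∈ 𝐍 Y ∧ h.toMaxY.ffh.sec.hat β ≠ 1 ∧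
    h.toMaxY.ffh.sec.hat β * h.toMaxY.ffh.sec.hat β = 1 := by
  obtain ⟨β, hβ, h1, h2⟩ := h.exists_beta hY
  have hM := h.QM hβ.1
  refine ⟨β, hβ.2, hM, fun e => h1 ((h.toMaxY.ffh.sec.hat_eq_one' hM).1 e), ?_⟩
  rwa [← h.toMaxY.ffh.sec.hat_mul hM hM, h.toMaxY.ffh.sec.hat_eq_one' (mul_mem hM hM)]

/-- Step (FF). -/
theorem ff0 {τ f : h.toMaxY.ffh.sec.Kq} {x : h.toMaxY.ffh.sec.Mo}
    (hτ : τ ∈ h.toMaxY.ffh.sec.imgK S) (ht : IsTv τ x) (hf : Cmp h.toMaxY.ffh.sec.Mo f)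
    (hx : x ∈ cV _ f) (v : h.toMaxY.ffh.sec.Mo)
    (hv : ∀ s ∈ h.toMaxY.ffh.sec.imgK S, (s * f * s⁻¹) • v = v) : v = 1 := by
  by_contra hne
  obtain ⟨t, ht1, ht2, ht3⟩ := exists_fixed_of_invt h.toMaxY.ffh.red.expo (h.toMaxY.ffh.sec.isPGroup_imgK S.isPGroup')
    (X := ⨅ s ∈ h.toMaxY.ffh.sec.imgK S, fx h.toMaxY.ffh.sec.Mo (s * f * s⁻¹)) (fun g hg w hw => by
      simp only [mem_iInf, mem_fx] at hw ⊢
      intro s hs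
      have h1 := hw (g⁻¹ * s) (mul_mem (inv_mem hg) hs)
      rw [← mul_smul, show s * f * s⁻¹ * g = g * (g⁻¹ * s * f * (g⁻¹ * s)⁻¹) by group, mul_smul,
        h1])
    (fun e => hne (by
      rw [← mem_bot, ← e]; simp only [mem_iInf, mem_fx]; exact hv))
  simp only [mem_iInf, mem_fx] at ht1
  have ht4 := ht1 1 (one_mem _)
  rw [one_mul, inv_one, mul_one] at ht4
  obtain ⟨z, hz, rfl⟩ := h.toMaxY.ffh.sec.exists_bar t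
  obtain ⟨u, hu, rfl⟩ := h.toMaxY.ffh.sec.exists_bar x
  obtain ⟨e, he, oe, rfl⟩ := h.toMaxY.ffh.sec.exists_hat_odd (hf.odd h.toMaxY.ffh.red)
  have hz1 : z ≠ 1 := fun e => ht2 (by rw [e, h.toMaxY.ffh.sec.bar_one])
  have hSz : (S : Subgroup G) ≤ Cz z := fun s hs => mem_Cz.2
    ((h.toMaxY.ffh.sec.hat_smul_eq_iff' (h.le hs) hz).1 (ht3 _ (h.toMaxY.ffh.sec.hat_mem_imgK hs (h.le hs))))
  have hKz : resOf 2 H ≤ Cz z := h.K_le_cent_Z.trans (le_Cz_of_mem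
    (mem_oc.2 ⟨h.toMaxY.YS hz, fun s hs => mem_Cz.1 (hSz hs), ea_sq h.toMaxY.ffh.ea hz⟩))
  have hk := h.k1 (over_Cz (ea_sq h.toMaxY.ffh.ea hz) hz1 hSz) hKz
  have hez : e ∈ Cz z := mem_Cz.2 ((h.toMaxY.ffh.sec.hat_smul_eq_iff' he hz).1 ht4)
  have h1 : e ∉ 𝐂 (Y ⊓ largestPReducedOf 2 (Cz z) : Subgroup G) := fun e' =>
    hf.ne_one ((h.toMaxY.ffh.sec.hat_eq_one' he).2
      (h.toMaxY.pj0 h.nj hz hz1 ((J_le _).trans hSz) he oe hez hf.mem e'))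
  have h2 : Invt (h.toMaxY.ffh.sec.hat e) (h.toMaxY.ffh.sec.img (Y ⊓ largestPReducedOf 2 (Cz z))) :=
    h.toMaxY.ffh.sec.invt_img he (le_normalizer_inf₂ (A := zpowers e) (zpowers_le.2 he)
      (zpowers_le.2 (self_le_normalizer_yOf _ hez)) (mem_zpowers e))
  have h3 : cV h.toMaxY.ffh.sec.Mo (h.toMaxY.ffh.sec.hat e) ≤ h.toMaxY.ffh.sec.img (Y ⊓ largestPReducedOf 2 (Cz z)) := by
    rw [mem_centralizer_iff] at h1
    push Not at h1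
    obtain ⟨y, hy, hy'⟩ := h1
    have h4 : cm h.toMaxY.ffh.sec.Mo (h.toMaxY.ffh.sec.hat e) (h.toMaxY.ffh.sec.bar y) ≠ 1 := fun e' =>
      hy' ((h.toMaxY.ffh.sec.hat_smul_eq_iff' he hy.1).1 (cm_eq_one_iff.1 e')).symm
    have h5 := h2.cm_mem (h.toMaxY.ffh.sec.bar_mem_img hy hy.1)
    intro w hw
    rcases (four_elems_smul h.toMaxY.ffh.red.expo hf.card (inv_cV_self _) (hf.fpf h.toMaxY.ffh.red) (cm_mem_cV _ _)
      h4).1 hw with rfl | rfl | rfl | rfl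
    exacts [one_mem _, h5, h2 _ h5, mul_mem h5 (h2 _ h5)]
  obtain ⟨β, hβK, hβM, hβ1, hβ2⟩ := h.exists_beta' hY
  obtain ⟨δ, hδF, hδ1, -, hinv⟩ := h.toMaxY.ffh.red.exists_inverted hβ2 hβ1
  have h6 : cV h.toMaxY.ffh.sec.Mo (h.toMaxY.ffh.sec.hat e) ≤ fx h.toMaxY.ffh.sec.Mo (h.toMaxY.ffh.sec.hat β) := fun w hw => by
    obtain ⟨y, hy, hy', rfl⟩ := h.toMaxY.ffh.sec.mem_img.1 (h3 hw)
    exact (h.toMaxY.ffh.sec.bar_mem_fx' hβM hy').2 (hk hβK y hy.2).symm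
  have h7 := le_fx_of_inverts hβ2 (h.toMaxY.ffh.red.odd_of_mem hδF) hinv
    (inv_cV_of_comm (h.toMaxY.ffh.red.comm_of_tv ht hf hx hδF)) h6 hx
  exact h.pj_K hu (fun e => ht.ne (by rw [e, h.toMaxY.ffh.sec.bar_one])) (h.J_le_Cz hu hτ ht)
    (hk.trans (le_Cz_of_mem ((h.toMaxY.ffh.sec.bar_mem_img' hu).1 (h3 hx)).2)) hδF hδ1 (mem_fx.1 h7) hβM hβK
    (k := 1) (by rw [pow_one, pow_two, hβ2]) hinv

section S3

variable (hJ : J ((S : Subgroup G) ⊓ centralizer (Y : Set G)) ≤ pCoreOf 2 H)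
include hJ

omit hY in
theorem maxEA_Q_of_R {A : Subgroup G} (hA : MaxEA 2 ((S : Subgroup G) ⊓ 𝐂 Y) A) :
    MaxEA 2 (pCoreOf 2 H) A :=
  (h.toMaxY.ffh.maxEA_up hA).of_le (hA.le_J.trans hJ) h.QS

omit hY in
theorem maxEA_S_of_Q {A : Subgroup G} (hA : MaxEA 2 (pCoreOf 2 H) A) :
    MaxEA 2 (S : Subgroup G) A := by
  obtain ⟨B, hB⟩ := exists_maxEA 2 ((S : Subgroup G) ⊓ 𝐂 Y)
  exact (h.toMaxY.ffh.maxEA_up hB).up (hB.le_J.trans hJ) h.QS hA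

omit hY in
theorem JR_le : J ((S : Subgroup G) ⊓ 𝐂 Y) ≤ J (pCoreOf 2 H) :=
  J_le_iff.2 fun _ hA => (h.maxEA_Q_of_R hJ hA).le_J

omit hY in
theorem JQ_le : J (pCoreOf 2 H) ≤ J (S : Subgroup G) :=
  J_le_iff.2 fun _ hA => (h.maxEA_S_of_Q hJ hA).le_J

omit hY in
theorem JQ_not_le : ¬ J (pCoreOf 2 H) ≤ 𝐂 Y := fun e => by
  have h1 : J (pCoreOf 2 H) = J ((S : Subgroup G) ⊓ 𝐂 Y) :=
    le_antisymm (J_le_iff.2 fun _ hA => ((h.maxEA_S_of_Q hJ hA).of_le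
      (le_inf (hA.le.trans h.QS) (hA.le_J.trans e)) inf_le_left).le_J) (h.JR_le hJ)
  refine h.out (le_trans ?_ h.toMaxY.nJR_le)
  rw [← h1]; exact h.nQ.trans (normalizer_le_normalizer_J _)

omit hY in
theorem mem_ZH {τ : h.toMaxY.ffh.sec.Kq} {u : G} (hu : u ∈ Y)
    (hτ : τ ∈ h.toMaxY.ffh.sec.imgK S) (ht : IsTv τ (h.toMaxY.ffh.sec.bar u)) :
    u ∈ omegaCenterOf (J (pCoreOf 2 H)) := by
  obtain ⟨B, hB⟩ := exists_maxEA 2 ((S : Subgroup G) ⊓ 𝐂 Y)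
  exact mem_oc.2 ⟨h.JR_le hJ (hB.le_J (h.toMaxY.ffh.le_of_maxEA hB hu)),
    fun j hj => mem_Cz.1 (h.J_le_Cz hu hτ ht (h.JQ_le hJ hj)), ea_sq h.toMaxY.ea hu⟩

omit hJ hY in
theorem nZH : H ≤ 𝐍 (omegaCenterOf (J (pCoreOf 2 H))) :=
  h.nQ.trans ((normalizer_le_normalizer_J _).trans (normalizer_le_normalizer_oc _))

theorem s3_cent (hK : resOf 2 H ≤ 𝐂 (omegaCenterOf (J (pCoreOf 2 H)))) : Nat.card Y = 4 := by
  set F := h.toMaxY.ffh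
  obtain ⟨A, a, hA, hh, ha, hc⟩ := (F.mono hY h.QM).exists_half_of_not_le (h.JQ_not_le hJ)
  obtain ⟨x, ht⟩ := F.ffc (h.maxEA_S_of_Q hJ hA) hh ha hc
  have haS := h.QS (hA.le ha)
  have hτ := F.sec.hat_mem_imgK haS (h.le haS)
  obtain ⟨f, hf, -, hx, -⟩ := F.red.tv_exists ht
  have hX := h.ff0 hY hτ ht hf hx
  obtain ⟨β, hβK, hβM, hβ1, hβ2⟩ := h.exists_beta' hY
  have key : ∀ s ∈ F.sec.imgK S, ∃ t ∈ Y, F.sec.bar t = s • x ∧ J (S : Subgroup G) ≤ Cz t ∧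
      resOf 2 H ≤ Cz t := fun s hs => by
    obtain ⟨t, ht', e⟩ := F.sec.exists_bar (s • x)
    have h1 := ht.conj s
    rw [← e] at h1
    have h2 := mul_mem (mul_mem hs hτ) (inv_mem hs)
    exact ⟨t, ht', e, h.J_le_Cz ht' h2 h1, hK.trans (le_Cz_of_mem (h.mem_ZH hJ ht' h2 h1))⟩
  obtain ⟨s, hs, hinv⟩ := ff_inv F.red ht hf hx hX hβ2 hβ1 fun s hs => by
    obtain ⟨t, ht', e, -, h1⟩ := key s hs
    rw [← e]; exact (F.sec.hat_smul_eq_iff' hβM ht').2 (mem_Cz.1 (h1 hβK))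
  rw [← F.sec.card_Mo]
  refine ff_four hf hX fun s' hs' => ?_
  have all : ∀ s' ∈ F.sec.imgK S, SameD (s * f * s⁻¹) (s' * f * s'⁻¹) := fun s' hs' => by
    refine ((hf.conj s).dich F.red (hf.conj s')).resolve_right fun e => ?_
    obtain ⟨t, ht', e', h1, h2⟩ := key s' hs'
    refine h.pj_K ht' (fun e'' => smul_ne_one' s' ht.ne (by rw [← e', e'', F.sec.bar_one])) h1 h2
      (hf.conj s).mem (hf.conj s).ne_one (mem_fx.1 (e.2 ?_)) hβM hβK (k := 1)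
      (by rw [pow_one, pow_two, hβ2]) hinv
    rw [cV_conj, e']; exact smul_mem_smul _ hx
  have h1 := all 1 (one_mem _)
  rw [one_mul, inv_one, mul_one] at h1
  exact h1.symm.trans (all s' hs')

theorem s3_not (hK : ¬ resOf 2 H ≤ 𝐂 (omegaCenterOf (J (pCoreOf 2 H)))) : False := by
  set F := h.toMaxY.ffh
  set Z := omegaCenterOf (J (pCoreOf 2 H)) with hZ
  have hCM : H ⊓ 𝐂 Z ≤ 𝐍 Y := ((h.normal_or inf_le_left (le_normalizer_inf₂ le_normalizer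
    (h.nZH.trans (normalizer_le_normalizer_centralizer _)))).resolve_left
      fun e => hK (e.trans inf_le_right)).1
  -- the member `A` of `𝒜(S)` outside `Q`
  obtain ⟨A, hA, hh, hAQ⟩ : ∃ A, MaxEA 2 (S : Subgroup G) A ∧ Half (A ⊓ 𝐂 Y) A ∧
      ¬ A ≤ pCoreOf 2 H := by
    by_contra hn
    push Not at hn
    exact h.J_not_le (F.ffa hn)
  have inR : ∀ {B : Subgroup G}, MaxEA 2 (S : Subgroup G) B →
      MaxEA 2 ((S : Subgroup G) ⊓ 𝐂 Y) (B ⊓ 𝐂 Y ⊔ Y) := fun hB =>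
    (F.ffb hB).of_le (sup_le (inf_le_inf_right _ hB.le) h.toMaxY.YR) inf_le_left
  obtain ⟨A₁, a, d, m⟩ := h.exists_adm hA.ea hA.le hAQ
  have haC : a ∉ 𝐂 Y := fun e =>
    m.not_mem_Q h (hJ ((inR hA).le_J (mem_sup_left ⟨m.ha, e⟩)))
  have haS := hA.le m.ha
  obtain ⟨x, ht⟩ := F.ffc hA hh m.ha haC
  obtain ⟨u, hu, rfl⟩ := F.sec.exists_bar x
  have hτ := F.sec.hat_mem_imgK haS (h.le haS)
  obtain ⟨f, hf, -, hx, -⟩ := F.red.tv_exists ht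
  have hX := h.ff0 hY hτ ht hf hx
  obtain ⟨-, hu1, htv, -⟩ := (F.sec.isTv_iff (h.le haS) hu).1 ht
  have huZ : u ∈ Z := h.mem_ZH hJ hu hτ ht
  -- the member `A'` of `𝒜(Q)` inducing the same transvection
  obtain ⟨A', a', hA', ha', e'⟩ : ∃ A' a', MaxEA 2 (pCoreOf 2 H) A' ∧ a' ∈ A' ∧
      F.sec.hat a' = F.sec.hat a := by
    obtain ⟨B, b, hB, hh', hb, hc⟩ := (F.mono hY h.QM).exists_half_of_not_le (h.JQ_not_le hJ)
    obtain ⟨y, ht'⟩ := F.ffc (h.maxEA_S_of_Q hJ hB) hh' hb hc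
    have hbS := h.QS (hB.le hb)
    obtain ⟨s₀, hs₀, e⟩ := ff_trans F.red ht hf hx hX (F.sec.isPGroup_imgK S.isPGroup') hτ ht'
      (F.sec.hat_mem_imgK hbS (h.le hbS))
    obtain ⟨s, hs, hsM, rfl⟩ := F.sec.mem_imgK.1 hs₀
    have h1 := maxEA_cj hB s⁻¹
    rw [cj_eq_of_mem_normalizer (inv_mem (h.nQ (h.SH hs)))] at h1
    refine ⟨_, s⁻¹ * b * s⁻¹⁻¹, h1, conj_mem_cj.2 hb, ?_⟩
    rw [F.sec.hat_conj (inv_mem hsM) (h.le hbS), F.sec.hat_inv hsM, e]; group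
  have ha'S := h.QS (hA'.le ha')
  have ha'Z : a' ∈ 𝐂 Z := le_centralizer_oc _ (hA'.le_J ha')
  have ht' : IsTv (F.sec.hat a') (F.sec.bar u) := e' ▸ ht
  -- the action on `Z_H`
  have sZ : Sec H Z ⊥ := sec_bot (ea_oc _) h.nZH
  have hdZ : d ∉ 𝐂 Z := fun e => m.dM (hCM ⟨m.dH h, e⟩)
  have haZ : a ∉ 𝐂 Z := fun e => hdZ (mem_of_inv_conj m.odd m.inv e
    (mem_normalizer_conj' (normalizer_le_normalizer_centralizer _ (h.nZH (m.dH h))) e))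
  have tZ : IsTv (sZ.hat a) (sZ.bar u) := (sZ.isTv_iff (h.SH haS) huZ).2
    ⟨by rw [m.a_sq]; exact one_mem _, hu1, fun v hv =>
      tv_ext hA.ea m.ha hu htv (oc_J_le (h.maxEA_Q_of_R hJ (inR hA)) hv), haZ⟩
  have hu' : d * u * d⁻¹ ∈ Z := sZ.conj_V (m.dH h) huZ
  have k1 : a * (d * u * d⁻¹) * a⁻¹ = d * u * d⁻¹ * u := by
    have h1 := tv_smul_centre sZ.Mo_sq tZ (sZ.odd_hat (m.dH h) m.odd)
      (sZ.hat_inverts (h.SH haS) (m.dH h) m.inv) fun e =>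
        hdZ ((sZ.hat_eq_one' (m.dH h)).1 (sZ.Kq_eq_one (cV_eq_bot_iff.1 e)))
    rwa [sZ.hat_smul (m.dH h) huZ, sZ.hat_smul (h.SH haS) hu', ← sZ.bar_mul hu' huZ,
      sZ.bar_inj (sZ.conj_V (h.SH haS) hu') (mul_mem hu' huZ)] at h1
  -- the action on `Z_R`
  have sR : Sec (𝐍 Y ⊓ 𝐍 ((S : Subgroup G) ⊓ 𝐂 Y : Subgroup G))
      (omegaCenterOf (J ((S : Subgroup G) ⊓ 𝐂 Y))) ⊥ := sec_bot (ea_oc _)
    (inf_le_right.trans ((normalizer_le_normalizer_J _).trans (normalizer_le_normalizer_oc _)))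
  have hZR : Z ≤ omegaCenterOf (J ((S : Subgroup G) ⊓ 𝐂 Y)) := fun z hz =>
    mem_oc.2 ⟨(inR hA).le_J (oc_J_le (h.maxEA_Q_of_R hJ (inR hA)) hz),
      fun j hj => oc_le_centralizer _ hz j (h.JR_le hJ hj), oc_sq hz⟩
  have hYR : Y ≤ omegaCenterOf (J ((S : Subgroup G) ⊓ 𝐂 Y)) :=
    h.toMaxY.oc.le.trans (oc_le_oc_J _)
  have ha'M := h.toMaxY.S_le_M1 ha'S
  have ha'2 := ea_sq hA'.ea ha'
  obtain ⟨-, -, htv', ha'C⟩ := (F.sec.isTv_iff (h.le ha'S) hu).1 ht'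
  have tR : IsTv (sR.hat a') (sR.bar u) := (sR.isTv_iff ha'M (hYR hu)).2
    ⟨by rw [ha'2]; exact one_mem _, hu1, fun v hv =>
      tv_ext hA'.ea ha' hu htv' (oc_J_le (inR (h.maxEA_S_of_Q hJ hA')) hv),
      fun e => ha'C (centralizer_le hYR e)⟩
  obtain ⟨d₁, hd₁, o₁, i₁, rfl⟩ := h.toMaxY.lift ha'M ha'2 (hf.odd F.red)
    (F.red.tv_inverts_of_mem ht' hf hx)
  obtain ⟨w, hw, k2, k3⟩ : ∃ w ∈ Z, a * w * a⁻¹ = w * u ∧ d₁ * w = w * d₁ := by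
    rcases tv_fix_or sR.Mo_sq tR (sR.odd_hat hd₁ o₁) (sR.hat_inverts ha'M hd₁ i₁)
      ((sR.hat_smul_eq_iff' ha'M (hZR hu')).2 (ha'Z _ hu').symm) with e | e
    · exact ⟨_, hu', k1, (sR.hat_smul_eq_iff' hd₁ (hZR hu')).1 e⟩
    · rw [← sR.bar_mul (hZR hu') (hZR huZ)] at e
      refine ⟨_, mul_mem hu' huZ, ?_, (sR.hat_smul_eq_iff' hd₁ (hZR (mul_mem hu' huZ))).1 e⟩
      have h1 : a * u * a⁻¹ = u := Cz_conj (h.J_le_Cz hu hτ ht (hA.le_J m.ha))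
      calc a * (d * u * d⁻¹ * u) * a⁻¹ = a * (d * u * d⁻¹) * a⁻¹ * (a * u * a⁻¹) := by group
        _ = _ := by rw [k1, h1]
  have hr : a * a' ∈ (S : Subgroup G) ⊓ 𝐂 Y := by
    refine ⟨mul_mem haS ha'S, (F.sec.hat_eq_one' (h.le (mul_mem haS ha'S))).1 ?_⟩
    rw [F.sec.hat_mul (h.le haS) (h.le ha'S), e', ht.sq]
  have k4 := mem_normalizer_conj (h.nZH (h.SH (mem_normalizer_conj hd₁.2 hr).1)) hw
  have k5 : d₁ * (a * a') * d₁⁻¹ * w * (d₁ * (a * a') * d₁⁻¹)⁻¹ = w * (d₁ * u * d₁⁻¹) := by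
    have h1 : d₁⁻¹ * w * d₁ = w := by rw [mul_assoc, ← k3]; group
    have h2 : d₁ * w * d₁⁻¹ = w := by rw [k3]; group
    calc d₁ * (a * a') * d₁⁻¹ * w * (d₁ * (a * a') * d₁⁻¹)⁻¹
        = d₁ * (a * (a' * (d₁⁻¹ * w * d₁) * a'⁻¹) * a⁻¹) * d₁⁻¹ := by group
      _ = d₁ * w * d₁⁻¹ * (d₁ * u * d₁⁻¹) := by
        rw [h1, conj_eq_of_mem_centralizer ha'Z hw, k2]; group
      _ = _ := by rw [h2]
  rw [k5, mul_mem_cancel_left hw] at k4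
  have k6 := tv_smul_centre F.red.expo ht' (hf.odd F.red) (F.red.tv_inverts_of_mem ht' hf hx)
    hf.ne_bot
  rw [F.sec.hat_smul hd₁.1 hu, (F.sec.hat_smul_eq_iff' (h.le ha'S) (F.sec.conj_V hd₁.1 hu)).2
    (ha'Z _ k4).symm] at k6
  exact ht.ne (mul_eq_left.1 k6.symm)

end S3

/-- SHORT: if `Y ≤ O₂(H)` then `Y` is a four-group. -/
theorem short : Nat.card Y = 4 := by
  rcases h.s1 hY with e | hc
  · exact e
  by_cases hJ : J ((S : Subgroup G) ⊓ 𝐂 Y) ≤ pCoreOf 2 H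
  · by_cases hK : resOf 2 H ≤ 𝐂 (omegaCenterOf (J (pCoreOf 2 H)))
    · exact h.s3_cent hY hJ hK
    · exact (h.s3_not hY hJ hK).elim
  · rw [J_le_iff] at hJ
    push Not at hJ
    obtain ⟨A, hA, hAQ⟩ := hJ
    obtain ⟨A₁, a, d, m⟩ := h.exists_adm hA.ea (hA.le.trans inf_le_left) hAQ
    exact m.s2 h hA hY hc

end CaseC

end Cfsg.Lib.Ngrp
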