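import Cfsg.Agent.Ngrp.NatT1

/-!
# Case (C): `Y ≤ O₂(H)`
-/

set_option autoImplicit false
set_option linter.unusedSectionVars false

namespace Cfsg.Lib.Ngrp
open Subgroup Cfsg.Lib.Trans Cfsg.Lib.Local Cfsg.Lib.Local.MSS Cfsg.Lib.Local.JC Cfsg.Lib.Trans.TJ
open Cfsg.Lib.Local.Tv Cfsg.Lib.Ngrp.Geo
open scoped commutatorElement Pointwise

variable {G : Type*} [Group G] [Finite G]

local notation "𝐍 " X:max => normalizer (X : Set G)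
local notation "𝐂 " X:max => centralizer (X : Set G)

namespace Adm

variable {S : Sylow 2 G} {Y H Y₁ : Subgroup G} {a d : G} (m : Adm S Y H Y Y₁ a d)
  (h : CaseC S Y H)
include m h

section Frame

variable {k : ℕ} {β e : Fin k → h.toMaxY.ffh.sec.Kq}
  (hf : Frame (h.toMaxY.ffh.sec.imgK (cj d Y₁)) β e)
include hf

/-- The pair lemma for a member of the frame. -/
theorem tpl_frame (j : Fin k) {L : Subgroup G} (hs : Group.IsSolvable L) (hI : Y ⊔ cj d Y ≤ L)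
    {x : G} (hx : x ∈ L) (hxM : x ∈ 𝐍 Y) (ho : Odd (orderOf x))
    (e1 : h.toMaxY.ffh.sec.hat x = e j) : False := by
  have s := h.toMaxY.ffh.sec
  obtain ⟨b, hb, hb', e2⟩ := s.mem_imgK.1 (hf.mem j)
  obtain ⟨w, ⟨v, rfl⟩, h1⟩ := (m.nq h).exists_mem h.toMaxY.ffh.red hf j
  obtain ⟨y, hy, rfl⟩ := s.exists_bar v
  have h2 := mul_mem (mul_mem hb' hxM) (inv_mem hb')
  refine m.tpl h hs hI hx hxM ho (mem_sup_right hb) ((s.hat_eq_one' (mul_mem h2 hxM)).1 ?_) hy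
    fun h3 => h1 ?_
  · rw [s.hat_mul h2 hxM, s.hat_conj hb' hxM, e1, e2, hf.inv, inv_mul_cancel]
  · rw [← e1, s.cm_hat hxM hy]
    exact s.bar_mem_img h3 (m.le h3)

theorem eq_one_of_fx (j : Fin k) {c : G} (hc : c ∈ Y ⊓ cj d Y)
    (h1 : h.toMaxY.ffh.sec.bar c ∈ fx _ (e j)) : c = 1 := by
  by_contra h2
  obtain ⟨x, hx, ho, e1⟩ := h.toMaxY.ffh.sec.exists_hat_odd (hf.odd j)
  refine m.tpl_frame h hf j (ah_solvable_Cz h.ah (ea_sq m.ea hc.1) h2)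
    ((m.I_le_cent h).trans (le_Cz_of_mem hc)) (mem_Cz.2 ?_) hx ho e1
  exact (h.toMaxY.ffh.sec.bar_mem_fx' hx hc.1).1 (e1 ▸ h1)

theorem card_E (j : Fin k) : Nat.card (Y ⊓ cj d Y : Subgroup G) ≤ 2 := by
  have h1 := (m.nq h).card_E_le h.toMaxY.ffh.red hf j
  have h2 : h.toMaxY.ffh.sec.img (Y ⊓ cj d Y) ⊓ fx _ (e j) = ⊥ := eq_bot_iff.2 fun x hx => by
    obtain ⟨c, h3, -, rfl⟩ := h.toMaxY.ffh.sec.mem_img.1 hx.1
    rw [m.eq_one_of_fx h hf j h3 hx.2, Sec.bar_one]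
    exact one_mem _
  rwa [h2, card_bot, h.toMaxY.ffh.sec.card_img' inf_le_left] at h1

theorem E_eq (j : Fin k) : Y ⊓ cj d Y = omegaCenterOf (S : Subgroup G) := by
  refine (Subgroup.eq_of_le_of_card_ge (m.Z_le_E h) ((m.card_E h hf j).trans ?_)).symm
  exact (one_lt_card_iff_ne_bot _).2 h.toMaxY.Z_ne

theorem card_Y (j : Fin k) : Nat.card h.toMaxY.ffh.sec.Mo = 4 * 2 ^ k := by
  have h1 := (m.nq h).card_V h.toMaxY.ffh.red.expo hf.sq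
  have h2 := m.card_E h hf j
  have h3 : 1 < Nat.card (Y ⊓ cj d Y : Subgroup G) :=
    (one_lt_card_iff_ne_bot _).2 (m.E_eq h hf j ▸ h.toMaxY.Z_ne)
  rw [h.toMaxY.ffh.sec.card_img' inf_le_left, hf.card, le_antisymm h2 h3] at h1
  rw [h1]; ring

end Frame

theorem one_false {β e : Fin 1 → h.toMaxY.ffh.sec.Kq}
    (hf : Frame (h.toMaxY.ffh.sec.imgK (cj d Y₁)) β e) : False := by
  have s := h.toMaxY.ffh.sec
  have hr := h.toMaxY.ffh.red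
  have hc := ((m.nq h).cmp_one hr hf).1
  have h1 := m.card_Y h hf 0
  have h2 := card_cV_mul_fx (V := s.Mo) (e 0)
  rw [hc.card, h1] at h2
  have h3 : Nat.card (fx s.Mo (e 0)) = 2 := by omega
  obtain ⟨u, h4, h5⟩ := exists_eq_zpowers_of_card_two h3
  obtain ⟨c, hc', rfl⟩ := s.exists_bar u
  have h6 : s.bar c ∈ fx s.Mo (e 0) := h5 ▸ mem_zpowers _
  refine h4 ((s.bar_eq_one' hc').2 (m.eq_one_of_fx h hf 0 (m.Z_le_E h
    (mem_oc.2 ⟨m.AS hc', fun g hg => ?_, ea_sq m.ea hc'⟩)) h6))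
  refine (s.bar_mem_fx' (h.le hg) hc').1 (le_fx_of_card_le_two (inv_fx_of_or ?_) h3.le h6)
  exact hc.sameD_of_card_lt hr (hc.conj _) (by rw [h1]; norm_num)

theorem exists_frame : ∃ β e : Fin 2 → h.toMaxY.ffh.sec.Kq,
    Frame (h.toMaxY.ffh.sec.imgK (cj d Y₁)) β e := by
  obtain ⟨k, β, e, hf⟩ := h.toMaxY.ffh.red.exists_frame'
    (h.toMaxY.ffh.sec.imgK_sq_of_ea (m.eaB h))
  have h1 := (m.nq h).le_two h.toMaxY.ffh.red hf
  obtain rfl | rfl | rfl : k = 0 ∨ k = 1 ∨ k = 2 := by omega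
  · refine absurd (fun b hb => m.B_cent h hb ?_) (m.B_not_le h)
    exact (h.toMaxY.ffh.sec.hat_eq_one' (m.B_M h hb)).1
      (hf.faith _ (h.toMaxY.ffh.sec.hat_mem_imgK hb (m.B_M h hb)) fun i => i.elim0)
  · exact (m.one_false h hf).elim
  · exact ⟨β, e, hf⟩

section Two

variable {β e : Fin 2 → h.toMaxY.ffh.sec.Kq}
  (hf : Frame (h.toMaxY.ffh.sec.imgK (cj d Y₁)) β e)
include hf

theorem cV_eq_top (j : Fin 2) : cV h.toMaxY.ffh.sec.Mo (e j) = ⊤ :=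
  eq_top_of_card_eq _ (by rw [(m.nq h).card_cV h.toMaxY.ffh.red hf j, m.card_Y h hf j]; norm_num)

/-- `C_Y(B) = E`. -/
theorem mem_E_of_fix {w : G} (hw : w ∈ Y)
    (h1 : ∀ b ∈ h.toMaxY.ffh.sec.imgK (cj d Y₁), h.toMaxY.ffh.sec.bar w ∈ fx _ b) :
    w ∈ Y ⊓ cj d Y := by
  have s := h.toMaxY.ffh.sec
  have h2 := (m.nq h).card_le_two h.toMaxY.ffh.red hf 0 (P := zpowers (s.bar w) ⊔ s.img (Y ⊓ cj d Y))
    (by rw [m.cV_eq_top h hf]; exact le_top) fun b hb => sup_le (zpowers_le.2 (h1 b hb))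
      ((m.nq h).cE b hb)
  have h3 : s.img (Y ⊓ cj d Y) = zpowers (s.bar w) ⊔ s.img (Y ⊓ cj d Y) :=
    eq_of_le_of_card_le le_sup_right (h2.trans (by
      rw [s.card_img' inf_le_left, m.E_eq h hf 0]
      exact (one_lt_card_iff_ne_bot _).2 h.toMaxY.Z_ne))
  rw [← s.bar_mem_img' hw, h3]
  exact mem_sup_left (mem_zpowers _)

theorem N_le_Q : Y₁ ⊔ cj d Y₁ ≤ pCoreOf 2 H := fun n hn => by
  obtain ⟨u, hu, h1⟩ := m.exists_comm h (m.d_mem_I h) (by simp) hn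
  rw [m.E_eq h hf 0] at h1
  have h2 : omegaCenterOf (S : Subgroup G) ≤ pCoreOf 2 H := fun z hz =>
    h.charPH ⟨h.SH (oc_le _ hz), centralizer_le h.QS (oc_le_centralizer _ hz)⟩
  have := mul_mem (h2 h1) (m.comm_RH h (m.N_RH h hu))
  rwa [inv_mul_cancel_right] at this

theorem RH_eq : Y₁ ⊔ pCoreOf 2 H = pCoreOf 2 H :=
  sup_eq_right.2 (le_sup_left.trans (m.N_le_Q h hf))

theorem Y1_eq : Y₁ = Y ⊓ pCoreOf 2 H := by rw [← m.RH_eq h hf, m.inf_RH h]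

theorem B_eq : cj d Y₁ = cj d Y ⊓ pCoreOf 2 H := by rw [← m.RH_eq h hf, m.inf_RH' h]

theorem mem_cent_of_odd {x : G} (hx : x ∈ resOf 2 H ⊓ 𝐍 Y) (ho : Odd (orderOf x)) : x ∈ 𝐂 Y := by
  have s := h.toMaxY.ffh.sec
  have hr := h.toMaxY.ffh.red
  obtain ⟨c1, c2, c3, -⟩ := (m.nq h).cmp_two hr hf
  have ho' := s.odd_hat hx.2 ho
  obtain ⟨u, hu, v, hv, e1⟩ := c1.odd_mem_of_card_le hr c2 c3 (by rw [m.card_Y h hf 0]; norm_num) ho'
  obtain ⟨b, hb, h1⟩ := hf.exists_inverting_all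
  have h2 : x ∈ 𝐍 (cj d Y₁) := by
    have a1 : x ∈ 𝐍 (cj d Y) := by
      rw [← cj_normalizer]
      exact mem_cj.2 (mem_normalizer_conj' (h.norm_KM (m.dH h)) hx).2
    rw [m.B_eq h hf, ← cj_eq_self_iff, cj_inf, cj_eq_of_mem_normalizer a1,
      cj_eq_of_mem_normalizer (h.nQ (h.KH hx.1))]
  have hO : s.hat x ∈ Ogp s.Kq s.Mo :=
    e1 ▸ mul_mem (zpowers_le.2 c1.mem_Ogp hu) (zpowers_le.2 c2.mem_Ogp hv)
  have h3 : ⁅s.hat x, b⁆ = 1 := by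
    refine Red.eq_one_of_odd_of_isPGroup (s.isPGroup_imgK (isPGroup_of_ea (m.eaB h)))
      (mul_mem (mem_normalizer_conj (s.hat_mem_normalizer_imgK hx.2 h2) hb) (inv_mem hb))
      (hr.odd_of_mem_Ogp ?_)
    have := mul_mem hO (Ogp_normal.conj_mem _ (inv_mem hO) b)
    rwa [← mul_assoc, ← mul_assoc] at this
  have i1 : b * (e 0 * e 1) * b⁻¹ = (e 0 * e 1)⁻¹ := by
    rw [← conj_mul, h1, h1, hf.dd, mul_inv_rev]
  have i2 : b * (e 0 * (e 1)⁻¹) * b⁻¹ = (e 0 * (e 1)⁻¹)⁻¹ := by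
    rw [← conj_mul, ← conj_inv, h1, h1, mul_inv_rev, (show Commute (e 0) (e 1) from hf.dd 0 1).inv_left.inv_right.inv_right.eq]
  have h4 : b * s.hat x * b⁻¹ = (s.hat x)⁻¹ := by
    rw [e1, ← conj_mul, inverts_of_mem_zpowers i1 hu, inverts_of_mem_zpowers i2 hv,
      hr.Ogp_comm (zpowers_le.2 c1.mem_Ogp hu) (zpowers_le.2 c2.mem_Ogp hv), mul_inv_rev]
  rw [← commutatorElement_eq_one_iff_mul_comm.1 h3, mul_inv_cancel_right] at h4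
  exact (s.hat_eq_one' hx.2).1 (eq_one_of_odd_of_eq_inv ho' h4)

theorem KM_le : resOf 2 H ⊓ 𝐍 Y ≤ pCoreOf 2 H := by
  have h1 : resOf 2 (resOf 2 H ⊓ 𝐍 Y : Subgroup G) ≤ 𝐂 Y :=
    MSS.resOf_le_iff.2 fun x hx ho => m.mem_cent_of_odd h hf hx (Nat.coprime_two_right.1 ho)
  have h2 := (le_centralizer_ncl (MSS.le_normalizer_resOf h.norm_KM) h1).trans
    (centralizer_le (h.P_le_K.trans (h.K_le_ncl m.AS fun e => m.not_mem_Q h (e m.ha))))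
  have h3 := MSS.resOf_le_centralizer_of_commutator_le (h.pQ.to_le h.P_le_Q)
    (commutator_mono le_rfl ((MSS.resOf_le _).trans inf_le_left)) h2
  refine h.le_Q_of_le_K (MSS.isPGroup_of_resOf_le h.pQ ?_) inf_le_left
  exact (le_inf ((MSS.resOf_le _).trans (inf_le_left.trans h.KH)) h3).trans h.charPH

theorem Q_nN : pCoreOf 2 H ≤ 𝐍 (Y₁ ⊔ cj d Y₁ : Subgroup G) := by
  refine le_normalizer_sup₂ ?_ ?_
  · rw [m.Y1_eq h hf]; exact le_normalizer_inf₂ h.QM le_normalizer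
  · rw [m.B_eq h hf]; exact le_normalizer_inf₂ (le_sup_right.trans (m.RH_nY' h)) le_normalizer

theorem comm_Q_le : ⁅pCoreOf 2 H, zpowers d⁆ ≤ Y₁ ⊔ cj d Y₁ := by
  have h1 : zpowers d ≤ kerMod (m.I_nN h) (pCoreOf 2 H) := zpowers_le.2
    (mem_of_conj_mem m.odd m.inv
      ⟨mem_sup_left m.ha, fun _ hq => m.comm_I_RH h (Or.inl m.ha) (mem_sup_right hq)⟩
      ⟨mem_sup_right (m.a'_mem h), fun _ hq => m.comm_I_RH h (Or.inr (m.a'_mem h)) (mem_sup_right hq)⟩)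
  rw [commutator_comm]
  exact commutator_le.2 fun x hx q hq => (h1 hx).2 q hq

theorem K_nN : resOf 2 H ≤ 𝐍 (Y₁ ⊔ cj d Y₁ : Subgroup G) := fun k hk => by
  set H' := pCoreOf 2 H ⊔ zpowers d
  have h1 : H' ≤ H := sup_le h.QH (zpowers_le.2 (m.dH h))
  have h2 := MSS.commutator_ncl_le (H := H') (h1.trans h.nQ)
    (sup_le (m.Q_nN h hf) (zpowers_le.2 (m.I_nN h (m.d_mem_I h)))) le_sup_right (m.comm_Q_le h hf)
  have h3 : k * d * k⁻¹ ∈ ncl (zpowers d) H' := by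
    refine resOf_sup_le (p := 2) (Q := pCoreOf 2 H) (le_sup_left.trans (le_normalizer_ncl _ _))
      (MSS.resOf_le_of_isPGroup h.pQ _) (MSS.mem_resOf ?_ ?_)
    · have a1 := commutator_mem_commutator hk m.dK
      have := mul_mem (mem_sup_right (S := ncl (zpowers d) H') (m.KM_le h hf
        ⟨comm_mem_left hk (le_normalizer m.dK), h.comm_KK a1⟩))
        (mem_sup_left (le_ncl _ _ (mem_zpowers d)))
      rwa [commutatorElement_def, inv_mul_cancel_right] at this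
    · rw [show orderOf (k * d * k⁻¹) = orderOf d from (MulAut.conj k).orderOf_eq d]
      exact Nat.coprime_two_right.2 m.odd
  refine mem_normalizer_of_cj_le (cj_le_iff.2 fun n hn => ?_)
  obtain ⟨u, hu, h4⟩ := m.exists_comm h (m.d_mem_I h) (by simp) hn
  have h5 : k * (n * ⁅d, u⁆⁻¹) * k⁻¹ ∈ Y₁ ⊔ cj d Y₁ := by
    have a1 := h4
    rw [m.E_eq h hf 0] at a1
    rw [conj_eq_of_mem_centralizer (h.K_le_cent_Z hk) a1]
    exact (m.sec h).le h4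
  have h6 := inv_mem (h2 (commutator_mem_commutator
    (mem_normalizer_conj (h.nQ (h.KH hk)) (m.N_le_Q h hf hu)) h3))
  convert mul_mem h5 h6 using 1
  simp only [commutatorElement_def]
  group

theorem S_nN : (S : Subgroup G) ≤ 𝐍 (Y₁ ⊔ cj d Y₁ : Subgroup G) := by
  have : Y₁ ⊔ cj d Y₁ = ncl Y₁ (resOf 2 H) := le_antisymm
    (sup_le (le_ncl _ _) (cj_le_ncl _ m.dK)) (MSS.ncl_le le_sup_left (m.K_nN h hf))
  rw [this]
  refine normalizer_inf_le_normalizer_ncl ?_ (h.SH.trans h.nK)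
  rw [m.Y1_eq h hf]
  exact le_normalizer_inf₂ h.le (h.SH.trans h.nQ)

theorem comm_B_R {b r : G} (hb : b ∈ cj d Y₁) (hr : r ∈ (S : Subgroup G) ⊓ 𝐂 Y) : ⁅b, r⁆ ∈ Y := by
  have h1 := comm_mem_right (h.toMaxY.S_le_M1 (m.B_S h hb)).2 hr
  obtain ⟨y, hy, c, hc, e1⟩ := (m.mem_N h).1 (comm_mem_left (mem_sup_right hb) (m.S_nN h hf hr.1))
  rw [← e1] at h1 ⊢
  exact mul_mem (m.le hy) (m.B_cent h hc (by
    simpa using mul_mem (inv_mem (h.toMaxY.YC (m.le hy))) h1.2)).1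

theorem exists_e {b₀ b₁ : G} (h0 : b₀ ∈ cj d Y₁) (h1 : b₁ ∈ cj d Y₁)
    (e0 : h.toMaxY.ffh.sec.hat b₀ = β 0) (e1 : h.toMaxY.ffh.sec.hat b₁ = β 1) :
    ∃ x ∈ 𝐍 Y, Odd (orderOf x) ∧ h.toMaxY.ffh.sec.hat x = e 0 ∧ ⁅x, b₁⁆ ∈ Y := by
  have s := h.toMaxY.ffh.sec
  set R := (S : Subgroup G) ⊓ 𝐂 Y
  obtain ⟨x, hx, e2⟩ := h.toMaxY.exists_hat (e 0)
  have a0 := h.toMaxY.S_le_M1 (m.B_S h h0)
  have a1 := h.toMaxY.S_le_M1 (m.B_S h h1)
  have b1 := ea_sq (m.eaB h) h1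
  set u := ⁅x, b₁⁆ with hu
  have huM : u ∈ 𝐍 Y ⊓ 𝐍 R := mul_mem (mul_mem (mul_mem hx a1) (inv_mem hx)) (inv_mem a1)
  have huC : u ∈ 𝐂 Y := (s.hat_eq_one' huM.1).1 (by
    rw [s.hat_comm hx.1 a1.1, e1, e2, commutatorElement_eq_one_iff_mul_comm, hf.ad 1 0 (by decide)])
  obtain ⟨n, ⟨j, rfl⟩, h2⟩ := exists_odd_pow_mem (T := R) (L := 𝐍 Y ⊓ 𝐍 R ⊓ 𝐂 Y)
    ((isSylowIn_inf_centralizer h.toMaxY.syl le_rfl).mono
      (le_inf (inf_le_left.trans h.toMaxY.S_le_M1) inf_le_right) (inf_le_inf_right _ inf_le_left))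
    (inf_le_left.trans inf_le_right) ⟨huM, huC⟩
  have h3 : b₁ * u ^ (j + 1) * b₁⁻¹ = (u ^ (j + 1))⁻¹ :=
    inverts_of_mem_zpowers (inverts_comm b1) (pow_mem (mem_zpowers u) _)
  have hx' : (u ^ (j + 1))⁻¹ * x ∈ 𝐍 Y ⊓ 𝐍 R := mul_mem (inv_mem (pow_mem huM _)) hx
  have h4 : (u ^ (j + 1))⁻¹ * x ∈ kerMod (inf_le_right : 𝐍 Y ⊓ 𝐍 R ≤ 𝐍 R) {b₁} := by
    refine ⟨hx', fun v hv => ?_⟩
    rw [show v = b₁ from hv]
    convert inv_mem h2 using 1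
    calc ⁅(u ^ (j + 1))⁻¹ * x, b₁⁆ = (u ^ (j + 1))⁻¹ * u * (b₁ * u ^ (j + 1) * b₁⁻¹) := by
          rw [hu]; simp only [commutatorElement_def]; group
      _ = _ := by rw [h3]; group
  have e3 : s.hat ((u ^ (j + 1))⁻¹ * x) = e 0 := by
    rw [← e2]
    exact (s.hat_eq_hat' hx'.1 hx.1).2 (by simpa using pow_mem huC _)
  obtain ⟨y, h5, h6, h7, h8, -⟩ := s.hat_lift (L₁ := kerMod (inf_le_right : 𝐍 Y ⊓ 𝐍 R ≤ 𝐍 R) {b₁})
    (fun _ hg => hg.1.1) (a := b₀) ⟨a0, fun v hv => by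
      rw [show v = b₁ from hv, commutatorElement_eq_one_iff_mul_comm.2 (ea_comm (m.eaB h) h0 h1)]
      exact one_mem _⟩ (ea_sq (m.eaB h) h0) h4 (e3 ▸ hf.odd 0) (by rw [e3, e0]; exact hf.inv 0)
  refine ⟨y, h5.1.1, h6, h8.trans e3, ?_⟩
  have h9 : y ∈ kerMod (inf_le_left : 𝐍 Y ⊓ 𝐍 R ≤ 𝐍 Y) R := by
    refine mem_of_conj_mem h6 h7 ⟨a0, fun r hr => m.comm_B_R h hf h0 hr⟩
      ⟨mul_mem (mul_mem h5.1 a0) (inv_mem h5.1), fun r hr => ?_⟩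
    convert mem_normalizer_conj h5.1.1 (m.comm_B_R h hf h0 (mem_normalizer_conj' h5.1.2 hr)) using 1
    simp only [commutatorElement_def]
    group
  exact comm_mem_of_odd h.toMaxY.pR h6 h5.1.1 (inf_le_left.trans h.le) (h5.2 _ rfl)
    (h9.2 _ (h5.2 _ rfl))

theorem two_false : False := by
  have s := h.toMaxY.ffh.sec
  obtain ⟨b₀, h0, h0', e0⟩ := s.mem_imgK.1 (hf.mem 0)
  obtain ⟨b, h1, h1', e1⟩ := s.mem_imgK.1 (hf.mem 1)
  obtain ⟨x, hx, ho, e2, h2⟩ := m.exists_e h hf h0 h1 e0 e1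
  have b2 := ea_sq (m.eaB h) h1
  set F := Y ⊓ Cz b ⊔ zpowers b
  have hF : IsElementaryAbelian 2 F := ea_sup (ea_mono m.ea inf_le_left)
    (ea_zpowers (by rwa [pow_two])) (inf_le_right.trans (cent_zpowers b).ge)
  have hb : b ∈ F := mem_sup_right (mem_zpowers b)
  have hEF : Y ⊓ cj d Y ≤ F := fun w hw => mem_sup_left
    ⟨hw.1, mem_Cz.2 (ea_comm (m.eaY' h) hw.2 (m.B_le h h1))⟩
  have hn : ∀ g : G, (∀ w ∈ Y ⊓ Cz b, g * w * g⁻¹ ∈ F) → g * b * g⁻¹ ∈ F → g ∈ 𝐍 F :=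
    fun g a1 a2 => mem_normalizer_of_cj_le (by
      rw [cj_sup, cj_zpowers]; exact sup_le (cj_le_iff.2 a1) (zpowers_le.2 a2))
  have hY : ∀ g ∈ 𝐍 Y, ⁅g, b⁆ ∈ Y → g ∈ 𝐍 F := fun g a1 a2 => by
    have a3 : g * b * g⁻¹ = ⁅g, b⁆ * b := by rw [commutatorElement_def, inv_mul_cancel_right]
    have a4 : ⁅g, b⁆ * b = b * ⁅g, b⁆ := comm_of_sq_eq_one (ea_sq m.ea a2) b2 (by
      rw [← a3, conj_mul, b2]; simp)
    refine hn g (fun w hw => mem_sup_left ⟨mem_normalizer_conj a1 hw.1, mem_Cz.2 ?_⟩)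
      (a3 ▸ mul_mem (mem_sup_left ⟨a2, mem_Cz.2 a4⟩) hb)
    have a5 := mem_Cz.1 (conj_mem_Cz g hw.2)
    rw [a3, ← mul_assoc, ea_comm m.ea (mem_normalizer_conj a1 hw.1) a2, mul_assoc, mul_assoc ⁅g, b⁆,
      mul_left_cancel_iff] at a5
    exact a5
  have hne : s.hat b ≠ 1 := e1 ▸ hf.a_ne 1
  have hY1 : ∀ w ∈ Y ⊓ Cz b, w ∈ Y₁ := fun w hw => by
    by_contra a1
    have a2 := (m.nq h).cm_congr (s.hat_mem_imgK h1 h1') (w := s.bar w)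
      fun e => a1 ((s.bar_mem_img' hw.1).1 e)
    rw [cm_eq_one_iff.2 ((s.hat_smul_eq_iff' h1' hw.1).2 (mem_Cz.1 hw.2).symm), one_mul,
      inv_mem_iff] at a2
    exact hne ((m.nq h).inj _ (s.hat_mem_imgK h1 h1') a2)
  have hY' : ∀ g ∈ cj d Y, g ∈ 𝐍 F := fun g hg => by
    refine hn g (fun w hw => ?_) (by
      rw [ea_comm (m.eaY' h) hg (m.B_le h h1), mul_inv_cancel_right]; exact hb)
    have a1 := m.comm_Y'_RH h hg (mem_sup_left (hY1 w hw))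
    have a2 : g * w * g⁻¹ = ⁅g, w⁆ * w := by rw [commutatorElement_def, inv_mul_cancel_right]
    have a3 : ⁅g, w⁆ * w = w * ⁅g, w⁆ := comm_of_sq_eq_one (ea_sq (m.eaB h) a1) (ea_sq m.ea hw.1) (by
      rw [← a2, conj_mul, ea_sq m.ea hw.1]; simp)
    rw [a2]
    refine mul_mem ?_ (mem_sup_left hw)
    by_cases hE : w ∈ Y ⊓ cj d Y
    · rw [commutatorElement_eq_one_iff_mul_comm.2 (ea_comm (m.eaY' h) hg hE.2)]; exact one_mem _
    have a4 := m.B_M h a1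
    have f1 : s.bar w ∈ fx _ (β 1) := e1 ▸ (s.bar_mem_fx' h1' hw.1).2 (mem_Cz.1 hw.2).symm
    have f2 : s.bar w ∈ fx _ (s.hat ⁅g, w⁆) := (s.bar_mem_fx' a4 hw.1).2 a3
    have f3 : s.bar w ∉ fx _ (β 0) := fun f0 => hE (m.mem_E_of_fix h hf hw.1 fun c hc => by
      rcases hf.elems_two hc with rfl | rfl | rfl | rfl
      · rw [fx_one]; trivial
      · exact f0
      · exact f1
      · exact fx_inf_le_mul _ _ ⟨f0, f1⟩)
    rcases hf.elems_two (s.hat_mem_imgK a1 a4) with e | e | e | e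
    · exact hEF (m.B_cent h a1 ((s.hat_eq_one' a4).1 e))
    · exact absurd (e ▸ f2) f3
    · have := mul_mem (hEF (m.B_cent h (mul_mem a1 (inv_mem h1))
        ((s.hat_eq_hat' a4 h1').1 (e.trans e1.symm)))) hb
      rwa [inv_mul_cancel_right] at this
    · refine absurd ?_ f3
      have := fx_inf_le_mul _ _ ⟨e ▸ f2, f1⟩
      rwa [mul_assoc, hf.a_sq, mul_one] at this
  refine m.tpl_frame h hf 0 (ah_solvable_normalizer h.ah (isPGroup_of_ea hF) fun e => hne ?_)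
    (sup_le (fun y hy => hY y (le_normalizer hy) (comm_mem_left hy h1')) hY') (hY x hx h2) hx ho e2
  rw [show b = 1 from mem_bot.1 (e ▸ hb), s.hat_one]

end Two

end Adm

/-- TALL. -/
theorem CaseC.tall {S : Sylow 2 G} {Y H : Subgroup G} (h : CaseC S Y H) : Y ≤ pCoreOf 2 H := by
  by_contra hn
  obtain ⟨Y₁, a, d, m⟩ := h.exists_adm h.toMaxY.ea h.toMaxY.YS hn
  obtain ⟨β, e, hf⟩ := m.exists_frame h
  exact m.two_false h hf

end Cfsg.Lib.Ngrp
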