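import Cfsg.Agent.Ngrp.AmT2a

set_option autoImplicit false
set_option linter.unusedSectionVars false

namespace Cfsg.Lib.Ngrp.T2
open Subgroup Cfsg.Lib.Trans Cfsg.Lib.Local Cfsg.Lib.Local.JC Cfsg.Lib.Trans.TJ Cfsg.Lib.Ngrp.Geo
open scoped commutatorElement

theorem half_ncard {V : Type*} [Group V] [Finite V] {S X : Set V} (t : V)
    (h1 : ∀ x ∈ X, x * t ∈ X) (h2 : ∀ x ∈ X, x ∈ S → x * t ∉ S) :
    2 * (X ∩ S).ncard ≤ X.ncard := by
  have h3 : (X ∩ S).ncard ≤ (X \ S).ncard :=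
    Set.ncard_le_ncard_of_injOn (· * t) (fun x hx => ⟨h1 x hx.1, h2 x hx.1 hx.2⟩)
      (mul_left_injective t).injOn
  have := Set.ncard_inter_add_ncard_sdiff_eq_ncard X S
  omega

theorem card_closure_le {V : Type*} [CommGroup V] [Finite V] (hV : ∀ v : V, v * v = 1)
    (s : Set V) : Nat.card (closure s) ≤ 2 ^ s.ncard := by
  induction s, Set.toFinite s using Set.Finite.induction_on with
  | empty => simp
  | @insert a s ha _ ih =>
    rw [Set.ncard_insert_of_notMem ha, Set.insert_eq, Subgroup.closure_union, ← zpowers_eq_closure, pow_succ]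
    have h1 := card_sup_mul_inf (zpowers a) (closure s)
    have h2 := card_zpowers_le_of_expo hV a
    have h3 := Nat.card_pos (α := ↥(zpowers a ⊓ closure s))
    nlinarith

variable {G : Type*} [Group G] [Finite G]

/-- The singular vectors. -/
def Sing (z : G) : Set (VV z) := {v | ∃ w ∈ UU z, bar z w = v ∧ w * w = 1}

theorem sing_bar {z w : G} (h : Pt z) (hw : w ∈ UU z) : bar z w ∈ Sing z ↔ w * w = 1 := by
  refine ⟨?_, fun e => ⟨w, hw, rfl, e⟩⟩
  rintro ⟨x, hx, e, e2⟩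
  rcases (h.bar_eq_bar hw hx).1 e.symm with e1 | e1 <;> rw [e1]
  · exact e2
  · rw [mul_assoc, ← mul_assoc x, mem_Cz.1 (UU_le_Cz z hx), mul_assoc, e2, mul_one, h.sq]

theorem smul_mem_sing {z : G} (h : Pt z) (k : KK z) {v : VV z} (hv : v ∈ Sing z) :
    k • v ∈ Sing z := by
  obtain ⟨w, hw, rfl, e⟩ := hv
  obtain ⟨c, hc, rfl⟩ := exists_star k
  rw [star_smul hc hw, sing_bar h (conj_mem_UU_of_mem hc hw)]
  calc c * w * c⁻¹ * (c * w * c⁻¹) = c * (w * w) * c⁻¹ := by group
    _ = 1 := by rw [e]; group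

theorem not_sing {z w t : G} (h : Pt z) (hw : w ∈ UU z) (ht : t ∈ UU z) (ht2 : t * t = 1)
    (hn : w ∉ Cz t) (hs : bar z w ∈ Sing z) : bar z w * bar z t ∉ Sing z := by
  rw [← bar_mul hw ht, sing_bar h (mul_mem hw ht)]
  rw [sing_bar h hw] at hs
  intro e
  refine hn (mem_Cz.2 ?_)
  rw [eq_inv_of_mul_eq_one_left e, mul_inv_rev, inv_eq_of_sq hs, inv_eq_of_sq ht2]

omit [Finite G] in
theorem cj_EE {z c : G} (hc : c ∈ Cz z) (y : G) : cj c (EE z y) = EE z (c * y * c⁻¹) := by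
  rw [cj_inf, cj_UU, cj_UU, Cz_conj hc]

namespace NA

variable {z y : G} (h : NA z y) (hE : Nat.card (EE z y) = 8) (hU : Nat.card (UU z) = 32)
include h hE

theorem card_EE_of {r : G} (hr : Col z r) : Nat.card (EE z r) = 8 := by
  obtain ⟨g, hg, rfl⟩ := h.col.exists_conj_mem hr
  rw [← cj_EE hg, card_cj, hE]

include hU

theorem mem_EE_of_cent {x : G} (hx : x ∈ UU z) (hc : EE z y ≤ Cz x) : x ∈ EE z y := by
  have h1 := Solv.PG.card_mul_card_inf_centralizer_eq (A := UU z) (B := EE z y) (Z := zpowers z)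
    (commutator_le.2 fun u hu e he => comm_mem_UU hu he.1)
    (cent_zpowers z ▸ UU_le_Cz z) (cent_zpowers z ▸ inf_le_left.trans (UU_le_Cz z))
  have h2 : EE z y ⊓ centralizer (UU z : Set G) = zpowers z := le_antisymm
    (fun c hc => h.mem_zp_of_cent hc.1 fun a ha => mem_Cz.2 (hc.2 a ha))
    (le_inf h.zpowers_le (le_centralizer_iff.1 (cent_zpowers z ▸ UU_le_Cz z)))
  rw [h2, h.pt.card_zpowers, hE, hU] at h1
  have h3 : EE z y = UU z ⊓ centralizer (EE z y : Set G) := eq_of_le_of_card_ge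
    (le_inf inf_le_left fun e he x hx => ea_comm' h.ea_EE hx he) (by omega)
  rw [h3]; exact ⟨hx, fun e he => mem_Cz.1 (hc he)⟩

theorem planes {s r₁ r₂ : G} (hs : s ∉ zpowers z) (hr₁ : Col z r₁) (hr₂ : Col z r₂)
    (h0 : s ∈ EE z y) (h1 : s ∈ EE z r₁) (h2 : s ∈ EE z r₂) (n1 : EE z r₁ ≠ EE z y)
    (n2 : EE z r₂ ≠ EE z y) : EE z r₁ = EE z r₂ := by
  have hle : ∀ r, Col z r → s ∈ EE z r → EE z r ≤ UU z ⊓ Cz s := fun r hr hs' =>
    le_inf inf_le_left fun e he => mem_Cz.2 (ea_comm' (h.of_col hr).ea_EE he hs')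
  have hidx : IdxLeTwo (Cz s) (UU z) :=
    idxLeTwo_centralizer h.pt.sq (fun _ ht => mem_Cz.1 (UU_le_Cz z ht))
      fun _ ht => h.pt.conj_UU ht h0.1
  have hD := card_of_idx hidx fun e => hs (h.mem_zp_of_cent h0 e)
  have hi : IdxLeTwo (EE z y) (UU z ⊓ Cz s) := idx_of_card (hle y h.col h0) (by omega)
  have hex : ∀ r, Col z r → EE z r ≠ EE z y → ∃ x ∈ EE z r, x ∉ EE z y := fun r hr n =>
    SetLike.not_le_iff_exists.1 fun e =>
      n (eq_of_le_of_card_ge e (by rw [hE, h.card_EE_of hE hr]))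
  have gen : ∀ r, Col z r → EE z r ≠ EE z y → ∀ H : Subgroup G,
      (∀ x ∈ EE z r, x ∉ EE z y → x ∈ H) → EE z r ≤ H := fun r hr n H hH x hx => by
    obtain ⟨t, ht, ht'⟩ := hex r hr n
    by_cases e : x ∈ EE z y
    · have := mul_mem (inv_mem (hH t ht ht')) (hH _ (mul_mem ht hx)
        fun e' => ht' ((mul_mem_cancel_right e).1 e'))
      rwa [inv_mul_cancel_left] at this
    · exact hH x hx e
  refine eq_of_le_of_card_ge (gen r₁ hr₁ n1 _ fun x hx hx' => ?_)
    (by rw [h.card_EE_of hE hr₁, h.card_EE_of hE hr₂])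
  refine (h.of_col hr₂).mem_EE_of_cent (h.card_EE_of hE hr₂) hU hx.1
    (gen r₂ hr₂ n2 _ fun t ht ht' => mem_Cz.2 ?_)
  have k := h.sq_EE (hi t (hle _ hr₂ h2 ht) x (hle _ hr₁ h1 hx) ht' hx')
  rw [eq_inv_of_mul_eq_one_left k, mul_inv_rev, inv_eq_of_sq ((h.of_col hr₁).sq_EE hx),
    inv_eq_of_sq ((h.of_col hr₂).sq_EE ht)]

theorem ncard_sing {e : G} (he : e ∈ EE z y) (he' : e ∉ four z y) : (Sing z).ncard ≤ 10 := by
  have c1 := h.pt.card_UU
  have c2 := h.pt.card_img h.z_mem_U0 inf_le_left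
  have c3 := h.card_E
  have c4 := h.card_UU
  set V0 := img z (U0 z y) with hV0
  set E := img z (EE z y) with hEd
  have hEV : E ≤ V0 := img_mono (EE_le_U0 z y)
  have d1 : ((V0 : Set (VV z))ᶜ).ncard = 8 := by
    have := Set.ncard_add_ncard_compl (V0 : Set (VV z))
    rw [← Nat.card_coe_set_eq] at this
    change Nat.card V0 + _ = _ at this
    omega
  have d2 : ((V0 : Set (VV z)) \ E).ncard = 4 := by
    rw [Set.ncard_sdiff hEV, ← Nat.card_coe_set_eq, ← Nat.card_coe_set_eq]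
    change Nat.card V0 - Nat.card E = 4
    omega
  have d3 : (E : Set (VV z)).ncard = 4 := by
    rw [← Nat.card_coe_set_eq]; change Nat.card E = 4; omega
  have hyV : bar z y ∈ V0 := hEV (bar_mem_img h.y_mem h.col.mem_UU)
  have heE : bar z e ∈ E := bar_mem_img he he.1
  have k1 := half_ncard (S := Sing z) (X := (V0 : Set (VV z))ᶜ) (bar z y)
    (fun x hx e => hx ((mul_mem_cancel_right hyV).1 e)) fun x hx hs => by
      obtain ⟨w, hw, rfl⟩ := exists_bar x
      exact not_sing h.pt hw h.col.mem_UU h.col.sq (fun e => hx (bar_mem_img ⟨hw, e⟩ hw)) hs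
  have k2 := half_ncard (S := Sing z) (X := (V0 : Set (VV z)) \ E) (bar z e)
    (fun x hx => ⟨mul_mem hx.1 (hEV heE), fun e => hx.2 ((mul_mem_cancel_right heE).1 e)⟩)
    fun x hx hs => by
      obtain ⟨w, hw, rfl⟩ := exists_bar x
      refine not_sing h.pt hw he.1 (h.sq_EE he) (fun e1 => hx.2 (bar_mem_img ?_ hw)) hs
      refine h.mem_EE_of_cent hE hU hw ?_
      rw [← Solv.PG.sup_zpowers_eq_of_card_eq_prime_mul Nat.prime_two h.four_le
        (by rw [hE, h.col.fl.card]) he he']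
      exact sup_le (JC.four_le (Cz_symm (UU_le_Cz z hw)) (Cz_symm ((h.mem_V0 hw).1 hx.1).2))
        (Subgroup.zpowers_le.2 (Cz_symm e1))
  have k3 : Sing z ⊆ ((V0 : Set (VV z))ᶜ ∩ Sing z) ∪ ((((V0 : Set (VV z)) \ E) ∩ Sing z) ∪ E) :=
    fun x hx => by
      by_cases e1 : x ∈ V0
      · by_cases e2 : x ∈ E
        · exact Or.inr (Or.inr e2)
        · exact Or.inr (Or.inl ⟨⟨e1, e2⟩, hx⟩)
      · exact Or.inl ⟨e1, hx⟩
  have k4 := (Set.ncard_le_ncard k3).trans ((Set.ncard_union_le _ _).trans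
    (Nat.add_le_add_left (Set.ncard_union_le _ _) _))
  omega

theorem case_f : False := by
  obtain ⟨e, he, he'⟩ := SetLike.not_le_iff_exists.1 (fun e : EE z y ≤ four z y => by
    have := Trans.card_le_of_le e
    rw [hE, h.col.fl.card] at this; omega)
  have hez : e ∉ zpowers z := fun e1 => he' (Subgroup.zpowers_le.2 (left_mem_four z y) e1)
  have he1 : bar z e ≠ 1 := fun e1 => hez ((bar_eq_one he.1).1 e1)
  have hey : bar z y ≠ bar z e := fun e1 =>
    he' (by rcases (h.pt.bar_eq_bar he.1 h.col.mem_UU).1 e1.symm with e2 | e2 <;> rw [e2]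
            · exact right_mem_four z y
            · exact mul_mem (left_mem_four z y) (right_mem_four z y))
  set T := MulAction.stabilizer (KK z) (bar z y) with hT
  set T' := MulAction.stabilizer (KK z) (bar z e) with hT'
  have hmem : ∀ c ∈ Cz z, star z c ∈ T ↔ EE z (c * y * c⁻¹) = EE z y := fun c hc => by
    rw [← cj_EE hc, cj_eq_self_iff, h.normalizer_EE, ← h.col.star_smul_iff hc]; rfl
  have hmem' : ∀ c ∈ Cz z, star z c ∈ T' → e ∈ EE z (c * y * c⁻¹) := fun c hc h1 => by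
    have h2 : star z c⁻¹ • bar z e = bar z e := by rw [star_inv hc]; exact inv_mem h1
    rw [star_smul (inv_mem hc) he.1, h.pt.bar_eq_bar (conj_mem_UU_of_mem (inv_mem hc) he.1) he.1,
      inv_inv] at h2
    rw [← cj_EE hc, mem_cj]
    rcases h2 with e1 | e1 <;> rw [e1]
    · exact he
    · exact mul_mem h.z_mem he
  have i1 : IdxLeTwo T T' := fun s hs t ht hs' ht' => by
    obtain ⟨s, hsc, rfl⟩ := exists_star s
    obtain ⟨t, htc, rfl⟩ := exists_star t
    have k := h.planes hE hU hez (h.col.conj_of_mem htc) (h.col.conj_of_mem (inv_mem hsc)) he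
      (hmem' t htc ht) (hmem' _ (inv_mem hsc) (star_inv hsc ▸ inv_mem hs))
      (fun e1 => ht' ((hmem t htc).2 e1))
      (fun e1 => hs' (inv_mem_iff.1 (star_inv hsc ▸ (hmem _ (inv_mem hsc)).2 e1)))
    rw [← star_mul hsc htc, hmem _ (mul_mem hsc htc), ← cj_EE (mul_mem hsc htc), cj_mul,
      cj_EE htc, k, ← cj_EE (inv_mem hsc), cj_cj_inv]
  have hE4 : Nat.card (img z (EE z y)) = 4 := by have := h.card_E; omega
  have hact : ∀ t ∈ T, t ∉ T' → t • bar z e = bar z y * bar z e := fun t ht ht' => by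
    obtain ⟨c, hc, rfl⟩ := exists_star t
    have h1 := smul_mem_img hc (h.normalizer_le ((h.col.star_smul_iff hc).1 ht))
      (bar_mem_img he he.1)
    rcases (four_elems VV_sq hE4 (bar_mem_img h.y_mem h.col.mem_UU) (bar_mem_img he he.1)
      h.col.bar_ne_one he1 hey).1 h1 with e1 | e1 | e1 | e1
    · exact absurd e1 (smul_ne_one' _ he1)
    · exact absurd (smul_left_cancel _ ((MulAction.mem_stabilizer_iff.1 ht).trans e1.symm)) hey
    · exact absurd e1 ht'
    · exact e1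
  have i2 : IdxLeTwo T' T := fun s hs t ht hs' ht' => by
    rw [hT', MulAction.mem_stabilizer_iff, mul_smul, hact t ht ht', smul_mul',
      MulAction.mem_stabilizer_iff.1 hs, hact s hs hs', ← mul_assoc, VV_sq, one_mul]
  obtain ⟨a, ha, ha'⟩ := SetLike.not_le_iff_exists.1 fun e1 => he' (h.mem_four_of_cent he e1)
  have haM : a ∈ normalizer (four z y : Set G) := h.UU_le_M' ha.1
  have ha1 : star z a ∈ T := (h.col.star_smul_iff ha.2).2 haM
  have ha2 : star z a ∉ T' := fun e1 => ha' (mem_Cz_of_comm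
    (h.eq_one ((star_smul_eq_iff ha.2 he.1).1 e1) (comm_mem_UU ha.1 he.2)))
  have c1 := card_of_idx i2 fun e1 => ha2 (e1 ha1)
  have c2 := card_le_of_idx i1
  rw [inf_comm] at c2
  have c3 := T.card_mul_index
  have c4 := T'.card_mul_index
  have c5 := h.col.odd_index
  rw [← hT] at c5
  by_cases ho : bar z e ∈ MulAction.orbit (KK z) (bar z y)
  · obtain ⟨r, hr, e1⟩ := h.col.mem_orbit_iff.1 ho
    have hce : Col z e := hr.of_bar_eq he.1 e1.symm
    have hne : EE z e ≠ EE z y := fun e2 => ha2 ((hce.star_smul_iff ha.2).2 (by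
      rw [← (h.of_col hce).normalizer_EE, e2, h.normalizer_EE]; exact haM))
    have hle : T' ≤ T := fun t ht => by
      obtain ⟨c, hc, rfl⟩ := exists_star t
      by_contra hn
      have k := h.planes hE hU hez hce (h.col.conj_of_mem hc) he (h.of_col hce).y_mem
        (hmem' c hc ht) hne fun e2 => hn ((hmem c hc).2 e2)
      have k2 := cj_eq_of_mem_normalizer
        ((h.of_col hce).normalizer_le ((hce.star_smul_iff hc).1 ht))
      rw [← cj_EE hc, ← k2, cj_inj] at k
      exact hne k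
    rw [inf_eq_right.2 hle] at c1
    have c6 := hce.odd_index
    rw [← hT'] at c6
    have c7 : T'.index = 2 * T.index := Nat.eq_of_mul_eq_mul_left (Nat.card_pos (α := T')) (by
      rw [c4, ← c3, c1]; ring)
    rw [c7] at c6
    exact absurd c6 (by simp)
  · have d1 : T.index ≤ T'.index := by
      by_contra hn
      have := Nat.card_pos (α := T)
      nlinarith
    have hs : ∀ w ∈ EE z y, bar z w ≠ 1 →
        MulAction.orbit (KK z) (bar z w) ⊆ Sing z \ {1} := by
      rintro w hw h1 _ ⟨k, rfl⟩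
      exact ⟨smul_mem_sing h.pt k ((sing_bar h.pt hw.1).2 (h.sq_EE hw)), smul_ne_one' k h1⟩
    have d2 := Set.ncard_le_ncard (Set.union_subset (hs y h.y_mem h.col.bar_ne_one) (hs e he he1))
    rw [Set.ncard_union_eq (Set.disjoint_left.2 fun x h1 h2 => ho (by
      rw [← MulAction.orbit_eq_iff.2 h1, MulAction.orbit_eq_iff.2 h2]
      exact MulAction.mem_orbit_self _)), ← MulAction.index_stabilizer,
      ← MulAction.index_stabilizer, ← hT, ← hT', Set.ncard_sdiff_singleton_of_mem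
        (show (1 : VV z) ∈ Sing z from ⟨1, one_mem _, bar_one, one_mul 1⟩)] at d2
    have d3 := h.ncard_sing hE hU he he'
    have d4 : T.index ≤ 3 := by obtain ⟨n, hn⟩ := c5; omega
    have d5 := card_closure_le VV_sq (MulAction.orbit (KK z) (bar z y))
    rw [eq_top_of_col (W := closure _) fun r hr =>
      subset_closure (h.col.mem_orbit_iff.2 ⟨r, hr, rfl⟩), card_top,
      ← MulAction.index_stabilizer, ← hT] at d5
    have d6 := h.pt.card_UU
    have d7 : 2 ^ T.index ≤ 2 ^ 3 := Nat.pow_le_pow_right (by norm_num) d4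
    omega

end NA

end Cfsg.Lib.Ngrp.T2
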