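import Cfsg.Agent.Ngrp.AmT2g
import Cfsg.Agent.Ngrp.AmT2f
import Cfsg.Agent.Local.StronglyEmb

set_option autoImplicit false
set_option linter.unusedSectionVars false

namespace Cfsg.Lib.Ngrp.T2
open Subgroup Cfsg.Lib.Trans Cfsg.Lib.Local Cfsg.Lib.Local.JC Cfsg.Lib.Trans.TJ Cfsg.Lib.Ngrp.Geo
open scoped commutatorElement

variable {G : Type*} [Group G] [Finite G]

omit [Finite G] in
theorem comm_mem_of_idx {M T : Subgroup G} (h : IdxLeTwo M T) {s t : G} (hs : s ∈ T) (ht : t ∈ T) :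
    ⁅s, t⁆ ∈ M := by
  rw [commutatorElement_def, mul_assoc, h.mul_mem_iff (mul_mem hs ht)
    (mul_mem (inv_mem hs) (inv_mem ht)), h.mul_mem_iff hs ht,
    h.mul_mem_iff (inv_mem hs) (inv_mem ht), inv_mem_iff, inv_mem_iff]

namespace GG

variable {z y : G} (h : GG z y) {c c' u a : G}
include h

theorem inv_eq {x : G} (hu : u ∈ UU z) (hu' : u ∉ Cz y) (hu2 : u * u = 1) (hx2 : x * x = 1)
    (e : u * x ∈ EE z y) : x = u ∨ x = y * u * y⁻¹ := by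
  have k : u ∈ Cz (u * x) := by
    have := h.sq_EE e
    rw [mem_Cz, ← mul_assoc, hu2, one_mul, eq_inv_of_mul_eq_one_left this, mul_inv_rev,
      inv_eq_of_sq hx2, inv_eq_of_sq hu2, mul_assoc, hu2, mul_one]
  have k2 : x = u * (u * x) := by rw [← mul_assoc, hu2, one_mul]
  have hz : u ∈ Cz z := UU_le_Cz z hu
  rw [h.hE, h.col.mem_four] at e
  rcases e with e | e | e | e <;> rw [e] at k k2
  · exact Or.inl (k2.trans (mul_one u))
  · right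
    rw [k2, ← h.comm_y hu hu', commutatorElement_def, inv_eq_of_sq hu2, ← mul_assoc, ← mul_assoc,
      ← mul_assoc, hu2, one_mul]
  · exact absurd k hu'
  · exact absurd (Cz_symm ((mul_mem_cancel_left (Cz_symm hz)).1 (Cz_symm k))) hu'

theorem cz_of {r : G} (hc : Zc z c) (hr : r ∈ Cz c) : r ∈ Cz z :=
  Cz_symm (h.sq_c hc ▸ mul_mem (Cz_symm hr) (Cz_symm hr))

variable (hc : Zc z c) (hc' : Zc y c')
include hc hc'

theorem c_comm : c ∈ Cz c' := mem_Cz_of_comm (h.eq_one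
  (comm_inv_mem (h.comm_center hc.mem hc.cent (h.symm.c_mem hc')))
  (h.symm.comm_center hc'.mem hc'.cent (h.c_mem hc)))

variable (hu : u ∈ UU z) (hu' : u ∉ Cz y)
include hu hu'

omit hc in
theorem delta : ⁅u, c'⁆ ∈ U0 z y ∧ ⁅u, c'⁆ ∉ EE z y :=
  have h1 := h.symm.c_mem hc'
  ⟨h.comm_mem_U0 hu h1.2 (U0_le_Cz y z h1), fun e => h.symm.c_not hc' (EE_symm (h.a_inj hu hu' h1 e))⟩

omit hu hu' in
theorem ci {r : G} (hr : r ∈ Cz y) (hr' : r ∈ Cz c) : r ∈ Cz c' := by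
  obtain ⟨u, hu, hu'⟩ := h.exists_u
  obtain ⟨d1, d2⟩ := h.delta hc' hu.mem_UU hu'
  have hz := h.cz_of hc hr'
  have k1 : r ∈ Cz ⁅u, c'⁆ := Cz_symm ((mul_mem_cancel_left (Cz_symm hr')).1
    (Cz_symm (h.cent_EE hz hr (h.idxE c (h.c_mem hc) _ d1 (h.c_not hc) d2))))
  have k2 := hc'.conj u
  rw [h.conj_y hu.mem_UU hu', conj_eq_comm] at k2
  have k3 := (h.of_col h.col.mul_symm).conj_c k2
    (Cz_symm (mul_mem (Cz_symm hz) (Cz_symm hr)))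
  refine mem_Cz'.2 ((h.symm.conj_c hc' hr).resolve_right fun e => ?_)
  have hy : y ∈ Cz ⁅u, c'⁆ := Cz_symm d1.2
  rw [show r * (⁅u, c'⁆ * c') * r⁻¹ = r * ⁅u, c'⁆ * r⁻¹ * (r * c' * r⁻¹) by group, Cz_conj k1, e,
    ← mul_assoc, ← mem_Cz.1 hy, mul_assoc] at k3
  rcases k3 with e1 | e1
  · exact h.col.ne_one (by simpa using e1)
  · exact h.col.mul_ne_right (mul_right_cancel e1).symm

variable (hu2 : u * u = 1)
include hu2

omit hc in
theorem inv_conj {x : G} (hx : x ∈ UU z) (hx' : x ∉ Cz y) (hx2 : x * x = 1) :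
    ∃ n ∈ zpowers c', n * u * n⁻¹ = x := by
  have hy : y ∈ zpowers c' := h.symm.sq_c hc' ▸ mul_mem (mem_zpowers c') (mem_zpowers c')
  have h1 := h.symm.c_mem hc'
  have h0 := h.mul_mem_U0 hu hu' hx hx'
  by_cases e : u * x ∈ EE z y
  · rcases h.inv_eq hu hu' hu2 hx2 e with e1 | e1
    · exact ⟨1, one_mem _, by simp [e1]⟩
    · exact ⟨y, hy, e1.symm⟩
  · obtain ⟨d1, d2⟩ := h.delta hc' hu hu'
    have hy' : c' ∈ Cz y := U0_le_Cz y z h1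
    have k := h.idxE _ (inv_mem d1) _ h0 (fun e1 => d2 (inv_mem_iff.1 e1)) e
    rw [show ⁅u, c'⁆⁻¹ * (u * x) = c' * u * c'⁻¹ * x by rw [commutatorElement_def]; group] at k
    rcases h.inv_eq (conj_mem_UU_of_mem h1.2 hu)
      (fun e1 => hu' ((mul_mem_cancel_left hy').1 ((mul_mem_cancel_right (inv_mem hy')).1 e1)))
      (by rw [show c' * u * c'⁻¹ * (c' * u * c'⁻¹) = c' * (u * u) * c'⁻¹ by group, hu2]; group)
      hx2 k with e1 | e1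
    · exact ⟨c', mem_zpowers c', e1.symm⟩
    · exact ⟨y * c', mul_mem hy (mem_zpowers c'), by rw [e1]; group⟩

omit hc in
theorem adj1 {r : G} (hr : r ∈ Cz z) (hr' : r ∈ Cz y) : ∃ n ∈ zpowers c', n⁻¹ * r ∈ Cz u := by
  obtain ⟨n, hn, e⟩ := h.inv_conj hc' hu hu' hu2 (conj_mem_UU_of_mem hr hu)
    (fun e1 => hu' ((mul_mem_cancel_left hr').1 ((mul_mem_cancel_right (inv_mem hr')).1 e1)))
    (by rw [show r * u * r⁻¹ * (r * u * r⁻¹) = r * (u * u) * r⁻¹ by group, hu2]; group)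
  refine ⟨n, hn, mem_Cz'.2 ?_⟩
  rw [show n⁻¹ * r * u * (n⁻¹ * r)⁻¹ = n⁻¹ * (r * u * r⁻¹) * n by group, ← e]; group

variable (ha : a ∈ UU y) (ha' : a ∉ Cz z) (ha2 : a * a = 1)
include ha ha' ha2

theorem adj {r : G} (hr : r ∈ Cz z) (hr' : r ∈ Cz y) :
    ∃ m ∈ zpowers c, ∃ n ∈ zpowers c', m⁻¹ * (n⁻¹ * r) ∈ Cz u ∧ m⁻¹ * (n⁻¹ * r) ∈ Cz a := by
  obtain ⟨n, hn, e⟩ := h.adj1 hc' hu hu' hu2 hr hr'
  have h1 : n ∈ U0 y z := Subgroup.zpowers_le.2 (h.symm.c_mem hc') hn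
  have h2 : n ∈ Cz z := h1.2
  obtain ⟨m, hm, e'⟩ := h.symm.adj1 hc ha ha' ha2 (mul_mem (inv_mem (U0_le_Cz y z h1)) hr')
    (mul_mem (inv_mem h2) hr)
  exact ⟨m, hm, n, hn, mul_mem (inv_mem (Subgroup.zpowers_le.2 (Cz_symm (hc.cent hu)) hm)) e, e'⟩

omit hu2 ha2 in
theorem triv {x : G} (h1 : x ∈ Cz u) (h2 : x ∈ Cz a) (h3 : x ∈ Cz c) (h4 : x ∈ Cz c') : x = 1 := by
  have hz := h.cz_of hc h3
  have hy := h.symm.cz_of hc' h4
  refine h.eq_one_of_cent ?_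
    (h.UU_le hu hu' (h.c_mem hc) (h.c_not hc) (Cz_symm h1) (Cz_symm h3) (Cz_symm hz) (Cz_symm hy))
    (h.symm.UU_le ha ha' (h.symm.c_mem hc') (h.symm.c_not hc') (Cz_symm h2) (Cz_symm h4)
      (Cz_symm hy) (Cz_symm hz))
  rw [← h.thin.centralizer_eq h.col.fl]
  exact h.col.mem_centralizer_iff.2 ⟨hz, hy⟩

theorem dec {r : G} (hr : r ∈ Cz y) (hr' : r ∈ Cz c) :
    ∃ m ∈ zpowers c, ∃ n ∈ zpowers c', r = n * m := by
  obtain ⟨m, hm, n, hn, e1, e2⟩ := h.adj hc hc' hu hu' hu2 ha ha' ha2 (h.cz_of hc hr') hr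
  have k := h.c_comm hc hc'
  have := h.triv hc hc' hu hu' ha ha' e1 e2
    (mul_mem (inv_mem (Subgroup.zpowers_le.2 (self_mem_Cz c) hm))
      (mul_mem (inv_mem (Subgroup.zpowers_le.2 (Cz_symm k) hn)) hr'))
    (mul_mem (inv_mem (Subgroup.zpowers_le.2 k hm))
      (mul_mem (inv_mem (Subgroup.zpowers_le.2 (self_mem_Cz c') hn)) (h.ci hc hc' hr hr')))
  exact ⟨m, hm, n, hn, by rw [← mul_one (n * m), ← this]; group⟩

omit hu hu' hu2 ha ha' ha2 in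
theorem inv_mem_UU {s : G} (hs : s ∈ normalizer (four z y : Set G)) (hs' : s ∈ Cz c)
    (hs2 : s * s = 1) : s ∈ UU z := by
  obtain ⟨u, hu, hu'⟩ := h.exists_u
  obtain ⟨a, ha, ha'⟩ := h.symm.exists_u
  have hU := hu.mem_UU
  have D := fun r => h.dec (r := r) hc hc' hU hu' hu.sq ha.mem_UU ha' ha.sq
  have k1 : ∀ m ∈ zpowers c, m ∈ UU z ∧ m * m ∈ zpowers z := fun m hm =>
    have := Subgroup.zpowers_le.2 hc.mem hm
    ⟨this, sq_mem_UU this⟩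
  have k2 : ∀ n ∈ zpowers c', n ∈ U0 y z ∧ n * n ∈ zpowers y := fun n hn =>
    have := Subgroup.zpowers_le.2 (h.symm.c_mem hc') hn
    ⟨this, sq_mem_UU this.1⟩
  have k3 : ∀ m ∈ zpowers c, ∀ n ∈ zpowers c', m * n = n * m := fun m hm n hn =>
    mem_Cz.1 (Subgroup.zpowers_le.2 (Cz_symm (Subgroup.zpowers_le.2
      (Cz_symm (h.c_comm hc hc')) hn)) hm)
  rcases (h.col.mem_normalizer_iff (h.cz_of hc hs')).1 hs with e | e
  · obtain ⟨m, hm, n, hn, rfl⟩ := D s (mem_Cz'.2 e) hs'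
    rw [mul_assoc, ← mul_assoc m, k3 m hm n hn, mul_assoc, ← mul_assoc n] at hs2
    have := h.eq_one (eq_inv_of_mul_eq_one_left hs2 ▸ inv_mem (k1 m hm).2) (k2 n hn).2
    exact mul_mem (h.symm.mem_EE_of_sq hc' (k2 n hn).1 this).2 (k1 m hm).1
  · obtain ⟨m, hm, n, hn, e1⟩ := D (u * s) (mem_Cz'.2 (by
      rw [show u * s * y * (u * s)⁻¹ = u * (s * y * s⁻¹) * u⁻¹ by group, e,
        show u * (z * y) * u⁻¹ = u * z * u⁻¹ * (u * y * u⁻¹) by group, Cz_conj hu.mem_Cz,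
        h.conj_y hU hu', h.zy])) (mul_mem (hc.cent hU) hs')
    have e2 : s = u * (n * m) := by rw [← e1, ← mul_assoc, hu.sq, one_mul]
    have e3 : m * u = u * m := mem_Cz.1 (Subgroup.zpowers_le.2 (Cz_symm (hc.cent hU)) hm)
    have e4 : ⁅u, n⁆ * (n * n) * (m * m) = 1 := by
      rw [← hs2, e2, commutatorElement_def, inv_eq_of_sq hu.sq]
      calc u * n * u * n⁻¹ * (n * n) * (m * m) = u * n * (u * (n * m)) * m := by group
        _ = u * n * (m * u) * n * m := by rw [e3, ← k3 m hm n hn]; group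
        _ = _ := by group
    have e5 : ⁅u, n⁆ ∈ EE z y := by
      rw [mul_assoc] at e4
      exact eq_inv_of_mul_eq_one_left e4 ▸
        inv_mem (mul_mem (h.zpowers_le' (k2 n hn).2) (h.zpowers_le (k1 m hm).2))
    exact e2 ▸ mul_mem hU (mul_mem (h.a_inj hU hu' (k2 n hn).1 e5).1 (k1 m hm).1)

omit hu hu' hu2 ha ha' ha2 in
theorem col_of_sq {x : G} (hx : x ∈ UU z) (hx2 : x * x = 1) (h1 : x ≠ 1) (h2 : x ≠ z) :
    Col z x := by
  by_cases e : x ∈ Cz y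
  · exact h.col.fl.col (h.hE ▸ h.mem_EE_of_sq hc ⟨hx, e⟩ hx2) h1 h2
  · obtain ⟨u, hu, hu'⟩ := h.exists_u
    obtain ⟨n, hn, rfl⟩ := h.inv_conj hc' hu.mem_UU hu' hu.sq hx e hx2
    exact hu.conj_of_mem (Subgroup.zpowers_le.2 (h.symm.c_mem hc') hn).2

omit hu hu' hu2 ha ha' ha2 in
theorem exists_inverting (hr : ¬ PRankLE 2 2 G) : ∃ r ∈ Cz z, r ∈ Cz y ∧ r ∉ Cz c := by
  by_contra! hn
  refine hr fun A hA hA2 => ?_
  obtain ⟨S, hS, hS1, hS2⟩ := h.col.fl.exists_sylow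
  obtain ⟨u, hu, hu'⟩ := h.exists_u
  have hAe : ∀ x ∈ A, x * x = 1 := fun x hx => by rw [← pow_two]; exact hA2 x hx
  obtain ⟨g, -, hg⟩ := exists_conj_le_sylow S le_top le_top (isPGroup_of_ea (ea_of_sq hAe))
  have k0 : ∀ x ∈ cj g A, x * x = 1 := fun x => ea_sq (ea_cj' (ea_of_sq hAe) g)
  have k1 : cj g A ≤ UU z := fun x hx => by
    have hxS : x ∈ (S : Subgroup G) := by
      have := hg _ (mem_cj.1 hx); rwa [show g * (g⁻¹ * x * g) * g⁻¹ = x by group] at this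
    refine h.inv_mem_UU hc hc' (hS2 hxS) ?_ (k0 x hx)
    by_cases e : x ∈ Cz y
    · exact hn x (hS1 hxS) e
    · refine (mul_mem_cancel_left (hc.cent hu.mem_UU)).1 (hn _ (mul_mem hu.mem_Cz (hS1 hxS)) ?_)
      rw [mem_Cz', show u * x * y * (u * x)⁻¹ = u * (x * y * x⁻¹) * u⁻¹ by group,
        ((h.col.mem_normalizer_iff (hS1 hxS)).1 (hS2 hxS)).resolve_left fun e1 => e (mem_Cz'.2 e1),
        show u * (z * y) * u⁻¹ = u * z * u⁻¹ * (u * y * u⁻¹) by group, Cz_conj hu.mem_Cz,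
        h.conj_y hu.mem_UU hu', h.zy]
  have k2 : cj g A ⊓ Cz y ≤ EE z y := fun x hx => h.mem_EE_of_sq hc ⟨k1 hx.1, hx.2⟩ (k0 x hx.1)
  have k3 := card_le_of_idx (M := Cz y) (T := cj g A) fun s hs t ht => h.idx s (k1 hs) t (k1 ht)
  have k4 := h.card_four
  by_contra hlt
  rw [← card_cj g A] at hlt
  obtain ⟨n, hn⟩ := IsPGroup.iff_card.1 (isPGroup_of_ea (ea_of_sq k0))
  have k5 : 8 ≤ Nat.card (cj g A) := by
    rw [hn] at hlt ⊢
    exact Nat.pow_le_pow_right (n := 2) (i := 3) (by norm_num)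
      ((Nat.pow_lt_pow_iff_right (by norm_num)).1 (not_le.1 hlt))
  have k6 := eq_of_le_of_card_ge k2 (by omega)
  have k7 : cj g A ≤ EE z y := fun x hx =>
    k2 ⟨hx, mem_Cz.2 (ea_comm' (ea_of_sq k0) hx (k6.ge h.y_mem).1)⟩
  have := Trans.card_le_of_le k7
  omega

omit hc hc' hu hu' hu2 ha ha' ha2 in
theorem case_g (hG : ∀ H : Subgroup G, H.index ≠ 2) (hr : ¬ PRankLE 2 2 G) : False := by
  obtain ⟨c, hc⟩ := h.exists_Zc
  obtain ⟨c', hc'⟩ := h.symm.exists_Zc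
  obtain ⟨u, hu, hu'⟩ := h.exists_u
  obtain ⟨a, ha, ha'⟩ := h.symm.exists_u
  obtain ⟨r, hr1, hr2, hr3⟩ := h.exists_inverting hc hc' hr
  obtain ⟨m, hm, n, hn, e1, e2⟩ := h.adj hc hc' hu.mem_UU hu' hu.sq ha.mem_UU ha' ha.sq hr1 hr2
  have hm1 : m ∈ U0 z y := Subgroup.zpowers_le.2 (h.c_mem hc) hm
  have hn1 : n ∈ U0 y z := Subgroup.zpowers_le.2 (h.symm.c_mem hc') hn
  have hm2 : m ∈ Cz y := hm1.2
  have hn2 : n ∈ Cz z := hn1.2
  have t1 := mul_mem (inv_mem (U0_le_Cz z y hm1)) (mul_mem (inv_mem hn2) hr1)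
  have t2 := mul_mem (inv_mem hm2) (mul_mem (inv_mem (U0_le_Cz y z hn1)) hr2)
  have t3 : m⁻¹ * (n⁻¹ * r) ∉ Cz c := fun e => hr3 ((mul_mem_cancel_left
    (inv_mem (Subgroup.zpowers_le.2 (Cz_symm (h.c_comm hc hc')) hn))).1
    ((mul_mem_cancel_left (inv_mem (Subgroup.zpowers_le.2 (self_mem_Cz c) hm))).1 e))
  generalize m⁻¹ * (n⁻¹ * r) = t at e1 e2 t1 t2 t3
  have t4 := (h.idxC hc).mul_self_mem t1
  have t5 := h.triv hc hc' hu.mem_UU hu' ha.mem_UU ha' (mul_mem e1 e1) (mul_mem e2 e2) t4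
    (h.ci hc hc' (mul_mem t2 t2) t4)
  have t6 : t ≠ 1 := fun e => t3 (e ▸ one_mem _)
  obtain ⟨S, hS, hS1, hS2⟩ := h.col.fl.exists_sylow
  obtain ⟨x, hx, hx1, hx2⟩ := thompson_idx' hG S (M := Cz c)
    (fun s hs t ht => h.idxC hc s (hS1 hs) t (hS1 ht))
    (orderOf_eq_prime (by rw [pow_two, t5]) t6)
  obtain ⟨g, rfl⟩ := isConj_iff.1 hx
  have q1 : ∀ g s : G, s * s = 1 → g * s * g⁻¹ * (g * s * g⁻¹) = 1 := fun g s e => by
    rw [show g * s * g⁻¹ * (g * s * g⁻¹) = g * (s * s) * g⁻¹ by group, e]; group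
  have hp : Pt (g * t * g⁻¹) := by
    by_cases e : g * t * g⁻¹ = z
    · exact e ▸ h.pt
    · exact (h.col_of_sq hc hc' (h.inv_mem_UU hc hc' (hS2 hx1) hx2 (q1 g t t5)) (q1 g t t5)
        (conj_ne_one t6) e).pt'
  obtain ⟨g', hg'⟩ := hp.exists_conj h.pt
  have k1 : cj (g' * g) (UU z ⊓ Cz t) ≤ Cz z := by
    refine (cj_mono _ inf_le_right).trans (le_of_eq ?_)
    rw [cj_Cz, ← hg']; exact congrArg Cz (by group)
  have k0 : IsPGroup 2 (UU z ⊓ Cz t : Subgroup G) := (isPGroup_UU z).to_inf_left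
  obtain ⟨k, hk, hk'⟩ := exists_conj_le_sylow S hS1 k1 (isPGroup_cj k0 (g' * g))
  have k2 : k * (g' * g) * t * (k * (g' * g))⁻¹ = z := by
    rw [← Cz_conj hk, ← hg']; group
  have k3 : ∀ s ∈ UU z, t ∈ Cz s → k * (g' * g) * s * (k * (g' * g))⁻¹ ∈ (S : Subgroup G) :=
    fun s hs hs' => by
      have := hk' _ (conj_mem_cj.2 (mem_inf.2 ⟨hs, Cz_symm hs'⟩))
      rwa [show k * (g' * g * s * (g' * g)⁻¹) * k⁻¹ = k * (g' * g) * s * (k * (g' * g))⁻¹ by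
        group] at this
  generalize k * (g' * g) = w at k2 k3
  have k4 := comm_mem_of_idx (h.idxC hc) (hS1 (k3 u hu.mem_UU e1)) (hS1 (k3 y h.col.mem_UU t2))
  rw [← conjugate_commutatorElement, h.comm_y hu.mem_UU hu'] at k4
  have k5 := (h.col_of_sq hc hc' (h.inv_mem_UU hc hc' (hS2 (k3 z h.pt.mem_UU t1)) k4
    (q1 w z h.pt.sq)) (q1 w z h.pt.sq) (conj_ne_one h.pt.ne) fun e =>
      t3 (by rw [← conj_inj (e.trans k2.symm)]; exact hc.cent h.pt.mem_UU)).symm.conj w⁻¹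
  have k6 : w⁻¹ * z * w⁻¹⁻¹ = t := by rw [← k2]; group
  rw [k6, show w⁻¹ * (w * z * w⁻¹) * w⁻¹⁻¹ = z by group] at k5
  exact t3 (hc.cent k5.mem_UU)

end GG

theorem NA.false {z y : G} (h : NA z y) (hG : ∀ H : Subgroup G, H.index ≠ 2)
    (hr : ¬ PRankLE 2 2 G) : False := by
  have h1 := h.not_card_one
  have h2 := h.not_card_gt
  have h3 := Nat.card_pos (α := imgK z (U0 y z))
  have h4 := h.card_EE
  have h5 := h.card_UU
  have h6 := Trans.card_le_of_le h.four_le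
  rw [h.card_U0, h.card_A0, show Nat.card (imgK z (U0 y z)) = 2 by omega] at h5
  rw [h.col.fl.card] at h6
  obtain ⟨n, hn⟩ := IsPGroup.iff_card.1 h.isPGroup_EE
  have h7 : n = 2 ∨ n = 3 := by
    have k1 : 2 ^ 2 ≤ 2 ^ n := by omega
    have k2 : 2 ^ n ≤ 2 ^ 3 := by omega
    rw [Nat.pow_le_pow_iff_right (by norm_num)] at k1 k2
    omega
  rcases h7 with rfl | rfl
  · exact GG.case_g ⟨h, h.EE_eq hn, by omega⟩ hG hr
  · exact h.case_f hn (by omega)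

theorem nat_t2 {S : Sylow 2 G} {z : G} {Y : Subgroup G} (h : NatG S z Y)
    (hG : ∀ H : Subgroup G, H.index ≠ 2) (hr : ¬ PRankLE 2 2 G) :
    IsElementaryAbelian 2 (natU z Y) := by
  rw [natU_eq h]
  by_contra hn
  obtain ⟨y, hy⟩ := (nat_fl h).pt.exists_col
  exact NA.false ⟨hy, fun e => hn (e z)⟩ hG hr

end Cfsg.Lib.Ngrp.T2
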