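import Cfsg.Agent.Ngrp.AmRb4

/-! The critical distance is one. -/

set_option autoImplicit false

namespace Cfsg.Lib.Ngrp.Geo
open Subgroup Cfsg.Lib.Trans Cfsg.Lib.Local Cfsg.Lib.Local.JC Cfsg.Lib.Trans.TJ
open scoped commutatorElement

variable {G : Type*} [Group G] [Finite G]

/-- The configuration of Lemma A does not occur. -/
def NoA (G : Type*) [Group G] [Finite G] (β : ℕ) : Prop :=
  ∀ y z : G, CP β y z → ∀ k : KK z, k ∈ fittingSubgroup (KK z) → Nat.card (cV (VV z) k) = 4 →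
    y ∈ pre z (cV (VV z) k) → (∀ a ∈ UU y, ∀ w ∈ pre z (cV (VV z) k), ⁅a, w⁆ ∈ zpowers y) →
    (∃ a ∈ UU y, ∃ w ∈ pre z (cV (VV z) k), ⁅a, w⁆ ≠ 1) → False

namespace CP

variable {β : ℕ} {y z : G} (h : CP β y z)
include h

theorem comm_mul_r {a w w' : G} (ha : a ∈ UU y) (hw : w ∈ UU z) (hw' : w' ∈ UU z) :
    ⁅a, w * w'⁆ = ⁅a, w⁆ * ⁅a, w'⁆ := by
  have e : ⁅a, w * w'⁆ = ⁅a, w⁆ * (w * ⁅a, w'⁆ * w⁻¹) := by
    simp only [commutatorElement_def]; group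
  rw [e, h.abU.comm hw (h.comm_mem' ha hw'), mul_inv_cancel_right]

theorem comm_symm {a w : G} (ha : a ∈ UU y) (hw : w ∈ UU z) : ⁅w, a⁆ = ⁅a, w⁆ := by
  rw [← commutatorElement_inv, inv_eq_of_sq (h.abU.sq (h.comm_mem ha hw))]

theorem comm_mul_l {a a' w : G} (ha : a ∈ UU y) (ha' : a' ∈ UU y) (hw : w ∈ UU z) :
    ⁅a * a', w⁆ = ⁅a, w⁆ * ⁅a', w⁆ := by
  rw [← h.comm_symm (mul_mem ha ha') hw, h.symm.comm_mul_r hw ha ha', h.comm_symm ha hw,
    h.comm_symm ha' hw]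

theorem exists_notX (hk : Nat.card (imgK z (UU y)) = 2) : ∃ a ∈ UU y, a ∉ XX z := by
  by_contra hn
  push Not at hn
  have : imgK z (UU y) = ⊥ := eq_bot_iff.2 fun k hk => by
    obtain ⟨c, h1, -, rfl⟩ := mem_imgK.1 hk
    exact star_of_mem (hn c h1)
  rw [this, card_bot] at hk
  omega

theorem star_eq_of (hk : Nat.card (imgK z (UU y)) = 2) {a a' : G} (ha : a ∈ UU y)
    (ha' : a' ∈ UU y) (h1 : a ∉ XX z) (h2 : a' ∉ XX z) : a' * a ∈ XX z := by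
  have h3 := (eq_zpowers_of_card_two hk (star_mem_imgK ha (h.le_Cz ha))
    (fun e => h1 ((star_eq_one (h.le_Cz ha)).1 e)) (star_mem_imgK ha' (h.le_Cz ha'))).resolve_left
    fun e => h2 ((star_eq_one (h.le_Cz ha')).1 e)
  have := (star_eq_star (h.le_Cz ha') (h.le_Cz ha)).1 h3
  rwa [inv_eq_of_sq (h.abU.sq ha)] at this

theorem star_sq {a : G} (ha : a ∈ UU y) : star z a * star z a = 1 := by
  rw [← star_mul (h.le_Cz ha) (h.le_Cz ha), h.abU.sq ha, star_one]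

theorem comm_cases (hk : Nat.card (imgK y (UU z)) = 2) {a b w : G} (ha : a ∈ UU y)
    (hb : b ∈ UU z) (hbX : b ∉ XX y) (hw : w ∈ UU z) :
    ∃ w0 ∈ UU z, (⁅a, w0⁆ = 1 ∨ ⁅a, w0⁆ = y) ∧ (⁅a, w⁆ = ⁅a, w0⁆ ∨ ⁅a, w⁆ = ⁅a, w0⁆ * ⁅a, b⁆) := by
  by_cases h1 : w ∈ XX y
  · exact ⟨w, hw, h.pt.mem_zpowers.1 (comm_mem_of_XX' h1 ha), Or.inl rfl⟩
  · refine ⟨w * b, mul_mem hw hb, h.pt.mem_zpowers.1 (comm_mem_of_XX'
      (h.symm.star_eq_of hk hb hw hbX h1) ha), Or.inr ?_⟩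
    rw [← h.comm_mul_r ha (mul_mem hw hb) hb, mul_assoc, h.abU.sq hb, mul_one]

theorem exists_notX_cV (hA : NoA G β) {a : G} (ha : a ∈ UU y) {k : KK z}
    (hk : k ∈ fittingSubgroup (KK z)) (h1 : k ≠ 1) (hi : star z a * k * (star z a)⁻¹ = k⁻¹) :
    ∃ w ∈ UU z, bar z w ∈ cV (VV z) k ∧ w ∉ XX y := by
  by_contra hn
  push Not at hn
  have ho := (red z).odd_of_mem hk
  have h2 : (cV (VV z) k).map (cm (VV z) (star z a)) ≤ zpowers (bar z y) := by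
    rintro _ ⟨x, hx, rfl⟩
    obtain ⟨w, hw, rfl⟩ := exists_bar x
    rw [cm_star (h.le_Cz ha) hw]
    rcases h.pt.mem_zpowers.1 (comm_mem_of_XX' (hn w hw hx) ha) with e | e <;> rw [e]
    · rw [bar_one]; exact one_mem _
    · exact mem_zpowers _
  have h3 := (red z).two_le_card_map (h.star_sq ha) ho hi h1
  have h4 := (Trans.card_le_of_le h2).trans (card_zpowers_le_of_expo VV_sq _)
  obtain ⟨x, hx, h5⟩ := SetLike.not_le_iff_exists.1 ((red z).not_cV_le_fx (h.star_sq ha) ho hi h1)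
  obtain ⟨w, hw, rfl⟩ := exists_bar x
  rw [bar_mem_fx (h.le_Cz ha) hw] at h5
  have h6 : ⁅a, w⁆ = y := (h.pt.mem_zpowers.1 (comm_mem_of_XX' (hn w hw hx) ha)).resolve_left
    fun e => h5 (e ▸ one_mem _)
  refine hA y z h k hk (by rw [rm2_cV_card VV_sq (h.star_sq ha) ho hi, le_antisymm h4 h3]; rfl)
    (mem_pre.2 ⟨h6 ▸ h.comm_mem' ha hw, ?_⟩) (fun a' ha' w' hw' =>
      comm_mem_of_XX' (hn w' (mem_pre.1 hw').1 (mem_pre.1 hw').2) ha')
    ⟨a, ha, w, mem_pre.2 ⟨hw, hx⟩, h6 ▸ h.pt.ne⟩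
  rw [← h6, ← cm_star (h.le_Cz ha) hw]
  exact (inv_cV_of_inverts hi).cm_mem hx

theorem not_invt (hA : NoA G β) (h2 : 2 ≤ β) (hy : y ∈ UU z) {b : G} (hb : b ∈ UU z) {k : KK y}
    (hk : k ∈ fittingSubgroup (KK y)) (h1 : k ≠ 1) (hi : star y b * k * (star y b)⁻¹ = k⁻¹) :
    ¬ ∀ t ∈ centralizer (UU z : Set G), Invt (star y t) (cV (VV y) k) := by
  intro ht
  obtain ⟨a, ha, h3, h4⟩ := h.symm.exists_notX_cV hA hb hk h1 hi
  refine h4 (h.abU.nc (h.le_Cz ha) fun q hq t htq => ?_)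
  have h5 : t ∈ centralizer (UU z : Set G) := h.min.commU (n := 1) h2 hq.symm.near htq
  have h6 : t ∈ Cz y := le_Cz_of_mem hy h5
  have h7 := comm_mem_UU_of_Cz h6 ha
  have h8 : ⁅a, t⁆ ∈ centralizer (UU z : Set G) := h.min.TT_le_UU (i := 1) (n := 0) h2
    (h.pt'.near 0) (mul_mem (conj_mem_TT_of_mem (h.le_Cz ha) (hq.near.UU_le htq))
      (inv_mem (hq.near.UU_le htq)))
  rw [← commutatorElement_inv, inv_mem_iff] at h8 ⊢
  have h9 : bar y ⁅t, a⁆ ∈ cV (VV y) k ⊓ fx (VV y) (star y b) := by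
    refine ⟨?_, (bar_mem_fx (h.le_Cz' hb) h7).2 ?_⟩
    · rw [← cm_star h6 ha]; exact (ht t h5).cm_mem h3
    · rw [commutatorElement_eq_one_iff_mul_comm.2 (h8 b hb)]; exact one_mem _
  rw [rm2_cV_inf_fx VV_sq (h.symm.star_sq hb) ((red y).odd_of_mem hk) hi] at h9
  obtain ⟨x, -, e⟩ := h9
  obtain ⟨w, hw, rfl⟩ := exists_bar x
  rw [cm_star (h.le_Cz' hb) hw] at e
  rcases (h.pt.bar_eq_bar h7 (h.symm.comm_mem' hb hw)).1 e.symm with e1 | e1 <;> rw [e1]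
  · exact h.symm.comm_mem hb hw
  · exact mul_mem hy (h.symm.comm_mem hb hw)

theorem cV_cases (hk : Nat.card (imgK z (UU y)) = 2) {a b : G} (ha : a ∈ UU y) (haX : a ∉ XX z)
    (hb : b ∈ UU z) : cV (VV y) (star y b) ≤ zpowers (bar y ⁅a, b⁆) ∨
      (z ∈ pre y (cV (VV y) (star y b)) ∧
        cV (VV y) (star y b) ≤ zpowers (bar y z) ⊔ zpowers (bar y ⁅a, b⁆)) := by
  have key : ∀ x ∈ cV (VV y) (star y b), ∃ w0 ∈ UU y, (⁅b, w0⁆ = 1 ∨ ⁅b, w0⁆ = z) ∧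
      (x = bar y ⁅b, w0⁆ ∨ x = bar y ⁅b, w0⁆ * bar y ⁅a, b⁆) := by
    rintro _ ⟨x, rfl⟩
    obtain ⟨w, hw, rfl⟩ := exists_bar x
    obtain ⟨w0, h1, h2, h3⟩ := h.symm.comm_cases hk hb ha haX hw
    refine ⟨w0, h1, h2, ?_⟩
    rw [cm_star (h.le_Cz' hb) hw]
    rcases h3 with e | e <;> rw [e]
    · exact Or.inl rfl
    · right; rw [h.comm_symm ha hb, bar_mul (h.symm.comm_mem' hb h1) (h.comm_mem ha hb)]
  by_cases h0 : ∃ w0 ∈ UU y, ⁅b, w0⁆ = z
  · obtain ⟨w0, h1, h2⟩ := h0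
    refine Or.inr ⟨(mem_pre_cV h.pt (h.le_Cz' hb)).2 ⟨w0, h1, Or.inl h2.symm⟩, fun x hx => ?_⟩
    obtain ⟨w, -, e | e, e' | e'⟩ := key x hx <;> rw [e', e]
    · rw [bar_one]; exact one_mem _
    · rw [bar_one, one_mul]; exact mem_sup_right (mem_zpowers _)
    · exact mem_sup_left (mem_zpowers _)
    · exact mul_mem_sup (mem_zpowers _) (mem_zpowers _)
  · refine Or.inl fun x hx => ?_
    obtain ⟨w, h1, e | e, e' | e'⟩ := key x hx
    · rw [e', e, bar_one]; exact one_mem _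
    · rw [e', e, bar_one, one_mul]; exact mem_zpowers _
    · exact absurd ⟨w, h1, e⟩ h0
    · exact absurd ⟨w, h1, e⟩ h0

theorem exists_x (hA : NoA G β) (h2 : 2 ≤ β) (hk : Nat.card (imgK z (UU y)) = 2) (hy : y ∈ UU z)
    {a b : G} (ha : a ∈ UU y) (haX : a ∉ XX z) (hb : b ∈ UU z) (hbX : b ∉ XX y) :
    Nat.card (cV (VV y) (star y b)) = 4 ∧ z ∈ pre y (cV (VV y) (star y b)) ∧
      ∃ x ∈ fittingSubgroup (KK y), Invt x (cV (VV y) (star y b)) ∧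
        cV (VV y) (star y b) ⊓ fx (VV y) x = ⊥ := by
  have hc := h.cV_cases hk ha haX hb
  have h4 : Nat.card (cV (VV y) (star y b)) ≤ 4 := by
    have a1 := card_zpowers_le_of_expo (VV_sq (p := y)) (bar y ⁅a, b⁆)
    have a2 := card_zpowers_le_of_expo (VV_sq (p := y)) (bar y z)
    rcases hc with e | ⟨-, e⟩
    · exact (Trans.card_le_of_le e).trans (by omega)
    · refine (Trans.card_le_of_le e).trans ?_
      have := card_sup_mul_inf (zpowers (bar y z)) (zpowers (bar y ⁅a, b⁆))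
      exact (Nat.le_mul_of_pos_right _ Nat.card_pos).trans (this.le.trans (Nat.mul_le_mul a2 a1))
  have hb1 : star y b ≠ 1 := fun e => hbX ((star_eq_one (h.le_Cz' hb)).1 e)
  have hcom : ∀ t ∈ centralizer (UU z : Set G), star y t * star y b = star y b * star y t :=
    fun t ht => by
      rw [← star_mul (le_Cz_of_mem hy ht) (h.le_Cz' hb),
        ← star_mul (h.le_Cz' hb) (le_Cz_of_mem hy ht), ht b hb]
  have hn : ∀ d, Cmp (VV y) d → star y b * d * (star y b)⁻¹ ≠ d⁻¹ := by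
    intro d hd hi
    refine h.not_invt hA h2 hy hb hd.mem hd.ne_one hi fun t ht => ?_
    obtain ⟨x, hx, h5⟩ := SetLike.not_le_iff_exists.1
      ((red y).not_cV_le_fx (h.symm.star_sq hb) (hd.odd (red y)) hi hd.ne_one)
    obtain ⟨w, hw, rfl⟩ := exists_bar x
    refine hd.invt_of_fix (red y) ((inv_cV_of_inverts hi).cm_mem hx)
      (fun e => h5 (mem_fx.2 (cm_eq_one_iff.1 e))) ?_
    rw [cm_star (h.le_Cz' hb) hw, star_smul (le_Cz_of_mem hy ht) (h.symm.comm_mem' hb hw),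
      conj_eq_of_mem_centralizer ht (h.symm.comm_mem hb hw)]
  obtain ⟨x, x1, x2, x3⟩ : ∃ x ∈ fittingSubgroup (KK y), x * star y b = star y b * x ∧
      ¬ cV (VV y) (star y b) ≤ fx (VV y) x := by
    by_contra h5
    push Not at h5
    obtain ⟨d, d1, d2, d3, -, -, -, -, d4, -⟩ := (red y).rm7 (h.symm.star_sq hb) hb1 h4 hn h5
    exact h.not_invt hA h2 hy hb d1 (fun e => by rw [e, orderOf_one] at d2; omega) d3
      fun t ht => (d4 _ (hcom t ht)).2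
  have x4 := inv_cV_of_comm (V := VV y) x2
  have x5 := fpf_of_not_le VV_sq ((red y).odd_of_mem x1) x4 h4 x3
  have x6 := le_antisymm h4 (four_le_of_fpf VV_sq x4 x5 ((red y).cV_ne_bot hb1))
  refine ⟨x6, (hc.resolve_left fun e => ?_).1, x, x1, x4, x5⟩
  have := (Trans.card_le_of_le e).trans (card_zpowers_le_of_expo VV_sq _)
  omega

end CP

theorem AbU.trans_pre (hU : AbU G) {p : G} (hp : Pt p) {P : Subgroup (VV p)} (h4 : Nat.card P = 4)
    {x : KK p} (hx : x ∈ fittingSubgroup (KK p)) (h1 : Invt x P) (h2 : P ⊓ fx (VV p) x = ⊥)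
    {w w' : G} (hw : w ∈ pre p P) (hw' : w' ∈ pre p P) (n1 : w ∉ zpowers p) (n2 : w' ∉ zpowers p) :
    ∃ k ∈ normalizer (pre p P : Set G), k * w * k⁻¹ = w' := by
  obtain ⟨a1, a2⟩ := mem_pre.1 hw
  obtain ⟨b1, b2⟩ := mem_pre.1 hw'
  have a3 : bar p w ≠ 1 := fun e => n1 ((bar_eq_one a1).1 e)
  have b3 : bar p w' ≠ 1 := fun e => n2 ((bar_eq_one b1).1 e)
  obtain ⟨c, hc, rfl⟩ := exists_star x
  obtain ⟨g, g1, g2, g3⟩ : ∃ g ∈ Cz p, g ∈ normalizer (pre p P : Set G) ∧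
      star p g • bar p w = bar p w' := by
    have hn := mem_normalizer_pre_of_invt hc h1
    rcases four_trans VV_sq h4 h1 h2 a2 a3 b2 b3 with e | e | e
    · exact ⟨1, one_mem _, one_mem _, by rw [star_one, one_smul, e]⟩
    · exact ⟨c, hc, hn, e.symm⟩
    · exact ⟨c⁻¹, inv_mem hc, inv_mem hn, by rw [star_inv hc, e]⟩
  rw [star_smul g1 a1] at g3
  rcases (hp.bar_eq_bar (conj_mem_UU_of_mem g1 a1) b1).1 g3 with e | e
  · exact ⟨g, g2, e⟩
  · obtain ⟨t, t1, t2⟩ := hU.exists_move hp b1 hx (smul_ne_of_fpf h2 b2 b3)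
    refine ⟨t * g, mul_mem (XX_le_normalizer_pre t1) g2, ?_⟩
    rw [conj_conj, e, conj_mul_eq, Cz_conj t1.1, conj_eq_comm_mul, t2, ← mul_assoc, hp.sq, one_mul]

theorem CP.not_mem_UU {β : ℕ} (hA : NoA G β) (h2 : 2 ≤ β)
    (hk : ∀ y z : G, CP β y z → Nat.card (imgK z (UU y)) = 2) {y z : G} (h : CP β y z) :
    y ∉ UU z := by
  intro hy
  have hU := h.abU
  obtain ⟨a, ha, haX⟩ := h.exists_notX (hk y z h)
  obtain ⟨b, hb, hbX⟩ := h.symm.exists_notX (hk z y h.symm)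
  obtain ⟨c1, z1, x1, f1, i1, n1⟩ := h.exists_x hA h2 (hk y z h) hy ha haX hb hbX
  obtain ⟨c2, z2, x2, f2, i2, n2⟩ := h.symm.exists_x hA h2 (hk z y h.symm) (mem_pre.1 z1).1 hb hbX
    ha haX
  have hu : ⁅a, b⁆ ∈ pre y (cV (VV y) (star y b)) :=
    (mem_pre_cV h.pt (h.le_Cz' hb)).2 ⟨a, ha, Or.inl (h.comm_symm ha hb).symm⟩
  have e : pre z (cV (VV z) (star z a)) = pre y (cV (VV y) (star y b)) := by
    refine Subgroup.eq_of_le_of_card_ge (fun w hw => ?_)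
      (by rw [h.pt.card_pre, h.pt'.card_pre, c1, c2])
    obtain ⟨v, hv, e⟩ := (mem_pre_cV h.pt' (h.le_Cz ha)).1 hw
    have : ⁅a, v⁆ ∈ pre y (cV (VV y) (star y b)) := by
      obtain ⟨w0, -, e1 | e1, e2 | e2⟩ := h.comm_cases (hk z y h.symm) ha hb hbX hv <;> rw [e2, e1]
      · exact one_mem _
      · rw [one_mul]; exact hu
      · exact h.pt.mem_pre_self
      · exact mul_mem h.pt.mem_pre_self hu
    rcases e with e | e <;> rw [e]
    · exact this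
    · exact mul_mem z1 this
  have t1 := fun w w' => hU.trans_pre (w := w) (w' := w') h.pt c1 f1 i1 n1
  have t2 := fun w w' => hU.trans_pre (w := w) (w' := w') h.pt' c2 f2 i2 n2
  have ym := (mem_pre.1 z2).2
  rw [e] at t2 z2
  have hXN : XX z ≤ normalizer (pre y (cV (VV y) (star y b)) : Set G) := e ▸ XX_le_normalizer_pre
  have hle : pre y (cV (VV y) (star y b)) ≤ UU z := e ▸ pre_le_UU
  have h8 : Nat.card (pre y (cV (VV y) (star y b))) = 8 := by rw [h.pt.card_pre, c1]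
  generalize pre y (cV (VV y) (star y b)) = D at t1 t2 z1 z2 hXN hle h8
  have hD : IsElementaryAbelian 2 D := ea_of_sq fun w hw => hU.sq (hle hw)
  have hyz := mul_mem z2 z1
  have key : ∀ w ∈ D, w ≠ 1 → ∃ k ∈ normalizer (D : Set G), k * w * k⁻¹ = y * z := by
    intro w hw h1
    by_cases h3 : w = z
    · refine t1 _ _ hw hyz (h3 ▸ h.symm.not_mem_zpowers) fun e1 => h.symm.not_mem_zpowers ?_
      exact (mul_mem_cancel_left (mem_zpowers y)).1 e1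
    · refine t2 _ _ hw hyz (fun e1 => (h.pt'.mem_zpowers.1 e1).elim h1 h3)
        fun e1 => h.not_mem_zpowers ?_
      exact (mul_mem_cancel_right (mem_zpowers z)).1 e1
  obtain ⟨t, t3, t4⟩ := hU.exists_move h.pt' hy f2 (smul_ne_of_fpf n2 ym
    fun e1 => h.not_mem_zpowers ((bar_eq_one hy).1 e1))
  have t5 := rm3'_amb hD h8 le_rfl (ah_solvable_normalizer h.ah (isPGroup_of_ea hD)
    fun e1 => h.pt.ne (mem_bot.1 (e1 ▸ z2))) (fun w hw h1 w' hw' h1' => by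
      obtain ⟨k, k1, k2⟩ := key w hw h1
      obtain ⟨k', k1', k2'⟩ := key w' hw' h1'
      exact ⟨k'⁻¹ * k, mul_mem (inv_mem k1') k1, by rw [conj_conj, k2, ← k2']; group⟩) (hXN t3)
    (fun w hw => (commutatorElement_eq_one_iff_mul_comm.1 (by
      rw [comm_mul_left t3 t3 (hle hw)]
      exact hU.sq (h.pt'.zpowers_le_UU (comm_mem_of_XX t3 (hle hw))))).symm)
  rw [commutatorElement_eq_one_iff_mul_comm.2 (t5 y z2).symm] at t4
  exact h.pt'.ne t4.symm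

theorem CP.exists_sd {β : ℕ} {y z : G} (h : CP β y z) (k1 : Nat.card (imgK z (UU y)) = 2)
    (k2 : Nat.card (imgK y (UU z)) = 2) (ny : y ∉ UU z) (nz : z ∉ UU y) {a : G} (ha : a ∈ UU y)
    (haX : a ∉ XX z) : ∃ b u d, Sd β y z a b u d ∧
      ∀ a' ∈ UU y, ∀ w ∈ UU z, ⁅a', w⁆ = 1 ∨ ⁅a', w⁆ = u := by
  have hU := h.abU
  have aC := h.le_Cz ha
  obtain ⟨b0, hb0, hbX⟩ := h.symm.exists_notX k2
  have c1 : ∀ w ∈ UU z, w ∈ XX y → ∀ a' ∈ UU y, ⁅a', w⁆ = 1 := fun w hw h1 a' ha' =>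
    (h.pt.mem_zpowers.1 (comm_mem_of_XX' h1 ha')).resolve_right fun e => ny (e ▸ h.comm_mem' ha' hw)
  have c2 : ∀ a' ∈ UU y, a' ∈ XX z → ∀ w ∈ UU z, ⁅a', w⁆ = 1 := fun a' ha' h1 w hw =>
    (h.pt'.mem_zpowers.1 (comm_mem_of_XX h1 hw)).resolve_right fun e => nz (e ▸ h.comm_mem ha' hw)
  have c3 : ∀ w ∈ UU z, w ∉ XX y → ⁅a, w⁆ = ⁅a, b0⁆ := fun w hw h1 => by
    have := c1 _ (mul_mem hw hb0) (h.symm.star_eq_of k2 hb0 hw hbX h1) a ha
    rw [h.comm_mul_r ha hw hb0] at this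
    rw [eq_inv_of_mul_eq_one_left this, inv_eq_of_sq (hU.sq (h.comm_mem ha hb0))]
  have c4 : ∀ a' ∈ UU y, ∀ w ∈ UU z, ⁅a', w⁆ = 1 ∨ ⁅a', w⁆ = ⁅a, b0⁆ := by
    intro a' ha' w hw
    by_cases h1 : a' ∈ XX z
    · exact Or.inl (c2 a' ha' h1 w hw)
    by_cases h2 : w ∈ XX y
    · exact Or.inl (c1 w hw h2 a' ha')
    have := c2 _ (mul_mem ha' ha) (h.star_eq_of k1 ha ha' haX h1) w hw
    rw [h.comm_mul_l ha' ha hw] at this
    right
    rw [eq_inv_of_mul_eq_one_left this, inv_eq_of_sq (hU.sq (h.comm_mem ha hw)), c3 w hw h2]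
  have uz := h.comm_mem' ha hb0
  have uy := h.comm_mem ha hb0
  generalize ⁅a, b0⁆ = u at c3 c4 uz uy
  have a1 : star z a ≠ 1 := fun e => haX ((star_eq_one aC).1 e)
  have tv := isTv_of_le VV_sq (h.star_sq ha) (u := bar z u) (by
    rintro _ ⟨x, rfl⟩
    obtain ⟨w, hw, rfl⟩ := exists_bar x
    rw [cm_star aC hw]
    rcases c4 a ha w hw with e | e <;> rw [e]
    · rw [bar_one]; exact one_mem _
    · exact mem_zpowers _) ((red z).cV_ne_bot a1)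
  obtain ⟨k, f1, f2, -, f3⟩ := (red z).exists_inverted (h.star_sq ha) a1
  obtain ⟨g1, g2, g3, -, g4⟩ := (red z).tv_of_inverts tv f1 f2 f3
  obtain ⟨d, dC, od, di, rfl, -⟩ := star_lift aC (hU.sq ha) (g1.odd (red z)) f3
  have hb := conj_mem_UU_of_mem dC uz
  have sb := star_smul dC uz
  have fpf := g1.fpf (red z)
  have bX : d * u * d⁻¹ ∉ XX y := fun e => by
    have h1 : bar z (d * u * d⁻¹) ∈ zpowers (bar z u) := by
      rw [← g4]
      refine ⟨sb ▸ inv_cV_self _ _ g2, (bar_mem_fx aC hb).2 ?_⟩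
      rw [c1 _ hb e a ha]; exact one_mem _
    rw [← sb] at h1
    rcases (mem_zpowers_iff_of_expo VV_sq).1 h1 with e1 | e1
    · exact smul_ne_one' _ tv.ne e1
    · exact smul_ne_of_fpf fpf g2 tv.ne e1
  have ab : a * (d * u * d⁻¹) * a⁻¹ = u * (d * u * d⁻¹) := by rw [conj_eq_comm_mul, c3 _ hb bX]
  have d3 : d ^ 3 ∈ Cz u := h.pt'.mem_Cz_of_fix (pow_mem dC 3)
    (Odd.of_dvd_nat od (orderOf_pow_dvd 3)) uz (by rw [star_pow dC, g1.cube (red z), one_smul])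
  have db : d * (d * u * d⁻¹) * d⁻¹ = u * (d * u * d⁻¹) := by
    have e1 : a * (d * u * d⁻¹) * a⁻¹ = (a * d * a⁻¹) * (a * u * a⁻¹) * (a * d * a⁻¹)⁻¹ := by group
    have e2 : a * u * a⁻¹ = u := by rw [hU.comm ha uy]; group
    rw [← ab, e1, di, e2]
    conv_rhs => rw [← Cz_conj d3]
    simp only [pow_succ, pow_zero, one_mul]; group
  refine ⟨d * u * d⁻¹, u, d, ⟨h, ha, uz, uy, hb, ab, fun w hw => ?_, dC, od, di, rfl, db,
    fun w hw => ?_, fun e => tv.ne (e ▸ bar_one), g1.mem, g1.card⟩, c4⟩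
  · have k : ∀ v ∈ UU z, v ∈ XX y → v ∈ centralizer (UU y : Set G) := fun v hv h1 a' ha' =>
      commutatorElement_eq_one_iff_mul_comm.1 (c1 v hv h1 a' ha')
    by_cases h1 : w ∈ XX y
    · exact Or.inl (k w hw h1)
    · exact Or.inr (k _ (mul_mem hw hb) (h.symm.star_eq_of k2 hb hw bX h1))
  · obtain ⟨x, hx, c, hc, e⟩ := exists_dec VV_sq (g1.odd (red z)) (bar z w)
    have k : ∀ v ∈ UU z, x = bar z v → w * v ∈ Cz d := fun v hv e1 =>
      Cz_symm (h.pt'.mem_Cz_of_fix dC od (mul_mem hw hv) (by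
        rw [bar_mul hw hv, e, ← e1, mul_right_comm, VV_sq, one_mul]; exact mem_fx.1 hc))
    rcases (four_elems_smul VV_sq g1.card (inv_cV_self _) fpf g2 tv.ne).1 hx with e1 | e1 | e1 | e1
    · exact Or.inl (by simpa using k 1 (one_mem _) (e1.trans bar_one.symm))
    · exact Or.inr (Or.inl (k u uz e1))
    · exact Or.inr (Or.inr (Or.inl (k _ hb (e1.trans sb))))
    · exact Or.inr (Or.inr (Or.inr (k _ (mul_mem uz hb) (by rw [e1, sb, bar_mul uz hb]))))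

theorem Sd.comm_eq {β : ℕ} {y z a b u d : G} (h : Sd β y z a b u d) : ⁅a, b⁆ = u := by
  rw [commutatorElement_def, h.ab, mul_inv_cancel_right]

theorem Sd.same {β : ℕ} {y y' z a b u d a' b' d' : G} (h : Sd β y z a b u d)
    (h' : Sd β y' z a' b' u d') : b * b' ∈ four z u := by
  have hm := @mem_four _ _ _ _ (b * b') h.pz.sq h.u_sq (h.abU.comm h.pz.mem_UU h.hu)
  have h3 := mul_mem h.hb h'.hb
  rcases rm4K h.fit h'.fit h.c4 h'.c4 with ⟨e, -⟩ | e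
  · rcases h.mem_cV.1 (e ▸ h'.b_mem) with e' | e' | e' | e'
    · exact absurd e' h'.bar_b
    · exact absurd e'.symm h'.bar_ne
    · rcases (h.pz.bar_eq_one h3).1 (by rw [bar_mul h.hb h'.hb, e', VV_sq]) with e1 | e1
      · exact hm.2 (Or.inl e1)
      · exact hm.2 (Or.inr (Or.inl e1))
    · rcases (h.pz.bar_eq_bar h3 h.hu).1 (by
        rw [bar_mul h.hb h'.hb, e', mul_left_comm, VV_sq, mul_one]) with e1 | e1
      · exact hm.2 (Or.inr (Or.inr (Or.inl e1)))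
      · exact hm.2 (Or.inr (Or.inr (Or.inr e1)))
  · exact absurd (eq_one_of_mem_cV_fx VV_sq (odd_orderOf_star h'.dC h'.odd) h'.u_mem (e h.u_mem))
      h.bar_u

theorem allRb {β : ℕ} (hA : NoA G β) (h2 : 2 ≤ β)
    (hk : ∀ y z : G, CP β y z → Nat.card (imgK z (UU y)) = 2) : AllRb G β := by
  intro y z h
  have k1 := hk y z h
  have k2 := hk z y h.symm
  have ny := h.not_mem_UU hA h2 hk
  have nz := h.symm.not_mem_UU hA h2 hk
  have nX : ∀ {y z a b u d : G}, Sd β y z a b u d → y ∉ UU z → b ∉ XX y := fun s n e =>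
    (s.py.mem_zpowers.1 (s.comm_eq ▸ comm_mem_of_XX' e s.ha)).elim s.un fun e' => n (e' ▸ s.hu)
  obtain ⟨b0, hb0, hbX⟩ := h.symm.exists_notX k2
  obtain ⟨a, u, e0, s0, c0⟩ := h.symm.exists_sd k2 k1 nz ny hb0 hbX
  obtain ⟨b, u1, d, s1, -⟩ := h.exists_sd k1 k2 ny nz s0.hb (nX s0 nz)
  obtain ⟨a', u2, e, s2, -⟩ := h.symm.exists_sd k2 k1 nz ny s1.hb (nX s1 ny)
  obtain rfl : u1 = u := by
    have := c0 b s1.hb a s1.ha
    rw [h.comm_symm s1.ha s1.hb, s1.comm_eq] at this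
    exact this.resolve_left s1.un
  obtain rfl : u2 = u1 := by
    have := c0 b s1.hb a' s2.hb
    rw [s2.comm_eq] at this
    exact this.resolve_left s2.un
  exact ⟨a, b, u2, d, a', e, s1, s2, s0.same s2, ny⟩

/-- The critical distance is one, given Lemma A and the rank bound. -/
theorem beta_eq_one {β : ℕ} {y z : G}
    (hA : ∀ y z : G, CP β y z → ∀ k : KK z, k ∈ fittingSubgroup (KK z) →
      Nat.card (cV (VV z) k) = 4 → y ∈ pre z (cV (VV z) k) →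
      (∀ a ∈ UU y, ∀ w ∈ pre z (cV (VV z) k), ⁅a, w⁆ ∈ zpowers y) →
      (∃ a ∈ UU y, ∃ w ∈ pre z (cV (VV z) k), ⁅a, w⁆ ≠ 1) → β = 1)
    (hk : ∀ y z : G, CP β y z → Nat.card (imgK z (UU y)) = 2) (h : CP β y z) : β = 1 := by
  by_contra h1
  have := h.pos
  exact h1 ((allRb (fun y z h k a b c d e => h1 (hA y z h k a b c d e)) (by omega) hk).eq_one h)

end Cfsg.Lib.Ngrp.Geo
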