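import Cfsg.Agent.Ngrp.AmRank
import Cfsg.Agent.Ngrp.AmRb5

/-! The critical pairs are the collinear pairs; the two remaining shapes. -/

set_option autoImplicit false

namespace Cfsg.Lib.Ngrp.Geo
open Subgroup Cfsg.Lib.Trans Cfsg.Lib.Local Cfsg.Lib.Local.JC Cfsg.Lib.Trans.TJ Cfsg.Lib.Local.Tv
open scoped commutatorElement Pointwise

variable {G : Type*} [Group G] [Finite G]

theorem CP.beta_one {β : ℕ} {y z : G} (h : CP β y z) : β = 1 := by
  refine beta_eq_one (fun y z h k hk h4 hy h1 h2 => ?_) (fun _ _ h => h.card_imgK_eq) h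
  by_contra hβ
  obtain ⟨a, ha, w, hw, h2⟩ := h2
  refine h.lemA_false (by have := h.pos; omega) ⟨hk, h4⟩ hy (fun w hw a ha => ?_)
    ⟨w, hw, a, ha, fun e => h2 ?_⟩
  · rw [← commutatorElement_inv]; exact inv_mem (h1 a ha w hw)
  · rw [← commutatorElement_inv, e, inv_one]

theorem AbU.cp (hU : AbU G) {y z : G} (h : Col y z) : CP 1 y z := by
  obtain ⟨β, p, q, hp⟩ := exists_CP h.pt (hU y)
  obtain rfl := hp.beta_one
  obtain ⟨g, rfl, rfl⟩ := (hp.col hp).exists_conj h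
  exact hp.conj g

namespace Col

variable {z y : G} (h : Col z y)
include h

theorem mem_four_iff_bar {x : G} (hx : x ∈ UU z) :
    x ∈ four z y ↔ bar z x ∈ zpowers (bar z y) := by
  rw [h.mem_four, mem_zpowers_iff_of_expo VV_sq, h.pt.bar_eq_one hx, h.pt.bar_eq_bar hx h.mem_UU,
    or_assoc]

theorem normalizer_le {H : Subgroup G} (h1 : ∀ s ∈ Cz z, s ∈ Cz y → s ∈ H) (h2 : XX z ≤ H)
    (h3 : XX y ≤ H) : normalizer (four z y : Set G) ≤ H := by
  obtain ⟨t, ht, e⟩ := h.exists_XX_swap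
  obtain ⟨t', ht', e'⟩ := h.symm.exists_XX_swap
  have hn := h.fl.XX_le
  have hn' := h.fl'.XX_le
  have k1 : ∀ g ∈ normalizer (four z y : Set G), g ∈ Cz z → g ∈ H := fun g hg hg' => by
    rcases (h.mem_normalizer_iff hg').1 hg with e1 | e1
    · exact h1 g hg' (mem_Cz'.2 e1)
    · refine (mul_mem_cancel_left (inv_mem (h2 ht))).1
        (h1 _ (mul_mem (inv_mem ht.1) hg') (mem_Cz'.2 ?_))
      rw [conj_conj, e1, ← e]; group
  have k2 : ∀ g ∈ normalizer (four z y : Set G), g * z * g⁻¹ = z * y → g ∈ H := fun g hg e1 => by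
    refine (mul_mem_cancel_left (inv_mem (h3 ht'))).1
      (k1 _ (mul_mem (inv_mem (hn' ht')) hg) (mem_Cz'.2 ?_))
    rw [conj_conj, e1, h.comm, ← e']; group
  intro g hg
  rcases h.mem_four.1 (mem_normalizer_conj hg (left_mem_four z y)) with e1 | e1 | e1 | e1
  · exact (conj_ne_one h.pt.ne e1).elim
  · exact k1 g hg (mem_Cz'.2 e1)
  · exact (mul_mem_cancel_left (h2 ht)).1 (k2 _ (mul_mem (hn ht) hg) (by rw [conj_conj, e1, e]))
  · exact k2 g hg e1

omit h in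
theorem mem_normalizer_of_mem {g : G} (h1 : g * z * g⁻¹ ∈ four z y) (h2 : g * y * g⁻¹ ∈ four z y) :
    g ∈ normalizer (four z y : Set G) :=
  mem_normalizer_of_cj_le (cj_four g z y ▸ four_le h1 h2)

/-- A normal subgroup of `N(Y)` inside `U_z` centralized by `C(Y)` modulo `z` lies in `Y`. -/
theorem le_four (hU : AbU G) {D : Subgroup G} (hD : D ≤ UU z)
    (hn : normalizer (four z y : Set G) ≤ normalizer (D : Set G))
    (h1 : ∀ s ∈ Cz z, s ∈ Cz y → ∀ c ∈ D, ⁅s, c⁆ ∈ zpowers z) : D ≤ four z y := by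
  intro c hc
  obtain ⟨g, g1, g2⟩ := h.exists_flip
  have hg := hn (mem_normalizer_of_mem (g := g) (by rw [g1]; exact right_mem_four z y)
    (by rw [g2]; exact left_mem_four z y))
  have h2 : ∀ s ∈ Cz z, s ∈ Cz y → s ∈ Cz c := fun s hs hs' => by
    have h3 := h1 _ (g2 ▸ conj_mem_Cz g hs') (g1 ▸ conj_mem_Cz g hs) _ (mem_normalizer_conj hg hc)
    rw [← conjugate_commutatorElement, ← g2, ← cj_zpowers, conj_mem_cj] at h3
    rcases h.pt.mem_zpowers.1 (h1 s hs hs' c hc) with e | e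
    · exact Geo.mem_Cz.2 (commutatorElement_eq_one_iff_mul_comm.1 e)
    · exact (h.symm.not_mem_zpowers (e ▸ h3)).elim
  obtain ⟨t, ht, e⟩ := h.exists_XX_swap
  obtain ⟨S, hS, hS1, hS2⟩ := h.fl.exists_sylow
  have key : ∀ x ∈ UU z, (∀ s ∈ Cz z, s ∈ Cz y → s ∈ Cz x) → t ∈ Cz x → x ∈ four z y :=
    fun x hx k1 k2 => by
      by_cases h0 : x = 1
      · exact h0 ▸ one_mem _
      rw [nat_eq_of_central hS (hU.sq hx) h0 fun s hs => ?_]
      · exact left_mem_four z y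
      rcases (h.mem_normalizer_iff (hS1 hs)).1 (hS2 hs) with e1 | e1
      · exact k1 s (hS1 hs) (mem_Cz'.2 e1)
      · refine (mul_mem_cancel_left (inv_mem k2)).1
          (k1 _ (mul_mem (inv_mem ht.1) (hS1 hs)) (mem_Cz'.2 ?_))
        rw [conj_conj, e1, ← e]; group
  rcases h.pt.conj_XX ht (hD hc) with e1 | e1
  · exact key c (hD hc) h2 (mem_Cz'.2 e1)
  · refine (mul_mem_cancel_right (right_mem_four z y)).1 (key _ (mul_mem (hD hc) h.mem_UU)
      (fun s hs hs' => Cz_mul (h2 s hs hs') hs') (mem_Cz'.2 ?_))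
    rw [conj_mul_eq, e1, e, mul_assoc z, ← mul_assoc c, hU.comm (hD hc) h.pt.mem_UU, mul_assoc z,
      ← mul_assoc, h.pt.sq, one_mul]

end Col

namespace CP

variable {y z a : G} (h : CP 1 y z) (ha : a ∈ UU y) (ha' : a ∉ XX z)
include h ha ha'

theorem star_comm_of_mem {s : G} (hs : s ∈ Cz z) (hs' : s ∈ Cz y) :
    star z s * star z a = star z a * star z s := by
  refine mul_inv_eq_iff_eq_mul.1 ?_
  rw [← star_conj hs (h.le_Cz ha)]
  refine h.star_eq_of_not_mem (conj_mem_UU_of_mem hs' ha) ha (fun e => ha' ?_) ha'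
  simpa [mul_assoc] using conj_mem_XX_of_mem (inv_mem hs) e

theorem comm_of_fix {k : KK z} (hk : k • bar z y = bar z y) : k * star z a = star z a * k := by
  obtain ⟨c, hc, rfl⟩ := exists_star k
  obtain ⟨s, hs, hs', e⟩ := (h.col h).symm.exists_star_eq hc (((h.col h).symm.star_smul_iff hc).1 hk)
  exact e ▸ h.star_comm_of_mem ha ha' hs hs'

omit ha' in
theorem pre_le {b : G} (hb : b ∈ UU z) (hb' : b ∉ XX y) :
    pre z (cV (VV z) (star z a) ⊔ zpowers (bar z y)) ≤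
      pre y (cV (VV y) (star y b) ⊔ zpowers (bar y z)) := by
  intro x hx
  have hc := h.col h
  obtain ⟨hx, hx'⟩ := mem_pre.1 hx
  obtain ⟨v, hv, w, hw, e⟩ := Subgroup.mem_sup.1 hx'
  obtain ⟨u, hu, rfl⟩ := exists_comm_of_mem_cV (h.le_Cz ha) hv
  have h1 := h.comm_mem' ha hu
  have h2 : ⁅a, u⁆⁻¹ * x ∈ four z y := by
    rwa [hc.symm.mem_four_iff_bar (mul_mem (inv_mem h1) hx), bar_mul (inv_mem h1) hx, bar_inv h1,
      ← e, inv_mul_cancel_left]
  refine (mul_mem_cancel_left (mem_pre.2 ⟨inv_mem (h.comm_mem ha hu), mem_sup_left ?_⟩)).1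
    (four_le (mem_pre.2 ⟨hc.mem_UU, mem_sup_right (mem_zpowers _)⟩) h.pt.mem_pre_self h2)
  rw [commutatorElement_inv, bar_comm (h.le_Cz' hu) ha]
  by_cases h3 : u ∈ XX y
  · rw [star_of_mem h3, cm_one]; exact one_mem _
  · rw [h.symm.star_eq_of_not_mem hu hb h3 hb']; exact cm_mem_cV _ _

theorem normalizer_le_pre : normalizer (four z y : Set G) ≤
    normalizer (pre z (cV (VV z) (star z a) ⊔ zpowers (bar z y)) : Set G) := by
  obtain ⟨b, hb, hb'⟩ := SetLike.not_le_iff_exists.1 h.symm.not_le_XX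
  refine (h.col h).symm.normalizer_le (fun s hs hs' => mem_normalizer_pre_of_invt hs
    ((inv_cV_of_comm (h.star_comm_of_mem ha ha' hs hs')).sup (.of_le_fx (zpowers_le.2 ?_))))
    XX_le_normalizer_pre ?_
  · rw [mem_fx, star_smul hs (h.col h).symm.mem_UU, Cz_conj hs']
  · rw [(h.pre_le ha hb hb').antisymm (h.symm.pre_le hb ha ha')]
    exact XX_le_normalizer_pre

omit ha' in
theorem fix_y : star z a • bar z y = bar z y := by
  rw [star_smul (h.le_Cz ha) (h.col h).symm.mem_UU, Cz_conj (UU_le_Cz y ha)]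

omit ha' in
theorem card_cV_le_four : Nat.card (cV (VV z) (star z a)) ≤ 4 := by
  have := h.card_cV_le (star_mem_imgK ha (h.le_Cz ha))
  rwa [h.symm.card_imgK_eq] at this

theorem star_ne : star z a ≠ 1 := fun e => ha' ((star_eq_one (h.le_Cz ha)).1 e)

variable (h8 : ∀ k : KK z, Cmp (VV z) k → bar z y ∉ cV (VV z) k)
include h8

theorem exists_move : ∃ s : KK z, s • bar z y = bar z y ∧ ¬ cV (VV z) (star z a) ≤ fx (VV z) s := by
  by_contra hn
  push Not at hn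
  have hc := (h.col h).symm
  have h1 := hc.le_four h.abU pre_le_UU (h.normalizer_le_pre ha ha') fun s hs hs' c hc' => by
    have h2 : star z s • bar z y = bar z y := by rw [star_smul hs hc.mem_UU, Cz_conj hs']
    exact (bar_mem_fx hs (pre_le_UU hc')).1
      (sup_le (hn _ h2) (zpowers_le.2 (mem_fx.2 h2)) (mem_pre.1 hc').2)
  have h2 : IsTv (star z a) (bar z y) := by
    refine isTv_of_le VV_sq (h.star_sq ha) (fun v hv => ?_) ((red z).cV_ne_bot (h.star_ne ha ha'))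
    obtain ⟨u, hu, rfl⟩ := exists_bar v
    exact (hc.mem_four_iff_bar hu).1 (h1 (mem_pre.2 ⟨hu, mem_sup_left hv⟩))
  obtain ⟨d, hd, -, h3, -⟩ := (red z).tv_exists h2
  exact h8 d hd h3

theorem card_cV_eq_four : Nat.card (cV (VV z) (star z a)) = 4 := by
  obtain ⟨s, hs, h1⟩ := h.exists_move ha ha' h8
  obtain ⟨n, e⟩ := exists_card_eq_two_pow VV_sq (cV (VV z) (star z a))
  have h2 := h.card_cV_le_four ha
  have h3 : ¬ Nat.card (cV (VV z) (star z a)) ≤ 2 := fun e =>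
    h1 (le_fx_of_card_le_two (inv_cV_of_comm (h.comm_of_fix ha ha' hs)) e)
  rw [e] at h2 h3 ⊢
  rcases n with _ | _ | _ | n
  exacts [absurd (by decide) h3, absurd (by decide) h3, rfl, by omega]

theorem bar_mem_cV : bar z y ∈ cV (VV z) (star z a) := by
  have h1 := card_cV_le_index_mul (star z a) (img z (UU z ⊓ XX y))
  rw [h.card_cV_eq_four ha ha' h8, h.index_U0, h.symm.card_imgK_eq] at h1
  obtain ⟨⟨_, x, hx, rfl⟩, h2⟩ := ne_bot_iff_exists_ne_one.1
    ((one_lt_card_iff_ne_bot ((img z (UU z ⊓ XX y)).map (cm (VV z) (star z a)))).1 (by omega))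
  rcases h.cm_U0 (star_mem_imgK ha (h.le_Cz ha)) hx with e | e
  · exact (h2 (Subtype.ext e)).elim
  · exact e.2 ▸ cm_mem_cV _ _

theorem normalizer_le_pre' : normalizer (four z y : Set G) ≤
    normalizer (pre z (cV (VV z) (star z a)) : Set G) := by
  have := h.normalizer_le_pre ha ha'
  rwa [sup_eq_left.2 (zpowers_le.2 (h.bar_mem_cV ha ha' h8))] at this

theorem fix_of_comm {k : KK z} (hk : k * star z a = star z a * k) : k • bar z y = bar z y := by
  obtain ⟨c, hc, rfl⟩ := exists_star k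
  refine ((h.col h).symm.star_smul_iff hc).2 ((h.col h).symm.fl.mx
    ((isPGroup_UU z).to_le pre_le_UU) (fun e => h.pt'.ne (mem_bot.1 (e ▸ h.pt'.mem_pre_self)))
    (h.normalizer_le_pre' ha ha' h8) (mem_normalizer_pre_of_invt hc (inv_cV_of_comm hk)))

theorem le_fx_of_odd {k : KK z} (ho : Odd (orderOf k)) (hk : k * star z a = star z a * k) :
    cV (VV z) (star z a) ≤ fx (VV z) k :=
  le_fx_of_fix VV_sq ho (inv_cV_of_comm hk) (h.card_cV_le_four ha) (h.bar_mem_cV ha ha' h8)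
    (h.col h).symm.bar_ne_one (h.fix_of_comm ha ha' h8 hk)

omit h8 in
/-- The solvability obstruction in the centralizer of a fixed point of the rotation. -/
theorem false_of_fix {δ : KK z} (hδ : Cmp (VV z) δ) (hi : star z a * δ * (star z a)⁻¹ = δ⁻¹)
    {g c : G} (og : Odd (orderOf g)) (g1 : g * z * g⁻¹ = y) (g2 : g * y * g⁻¹ = z * y)
    (hc : c ∈ UU y ⊓ UU z) (hc' : c ∉ four z y) (hg : g ∈ Cz c) (h1 : bar z c ∈ fx (VV z) δ)
    (h2 : bar z c * bar z y ∈ cV (VV z) δ) : False := by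
  have hl := (h.col h).symm
  have hU := h.abU
  have haz := h.le_Cz ha
  obtain ⟨d, hd, od, inv, rfl, -⟩ := star_lift haz (hU.sq ha) (hδ.odd (red z)) hi
  have hdc := h.pt'.mem_Cz_of_fx hd od hc.2 h1
  have hx := mul_mem (inf2 hc) hl.mem_UU
  rw [← bar_mul hc.2 hl.mem_UU] at h2
  have h3 : bar z (c * y) ≠ 1 := fun e => hc' ((mul_mem_cancel_right (right_mem_four z y)).1
    ((hl.mem_four_iff_bar hx).2 (e ▸ one_mem _)))
  have hA : UU y ≤ Cz c := fun _ hu => mem_Cz.2 (hU.comm hu hc.1)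
  have hB : UU z ≤ Cz c := fun _ hu => mem_Cz.2 (hU.comm hu hc.2)
  have key : ∀ n ∈ Cz z ⊓ Cz c, star z n = star z d → ∃ t ∈ Cz c, ⁅t, n⁆ ∈ Cz z ⊓ Cz c ∧
      ⁅t, n⁆ * y * ⁅t, n⁆⁻¹ = z * y := fun n hn e => by
    obtain ⟨t, ht, h4, h5, -⟩ := hU.exists_comm_cmp h.pt' hd hn.1 hδ e hx (one_mem _) h2
      (bar_one (p := z) ▸ one_mem _) h3 (bar_one (p := z) ▸ h3)
    have h6 := h4 c hc.2 (Cz_symm hdc)
    have h7 : ⁅t, n⁆ ∈ Cz c := mul_mem (mul_mem (mul_mem h6 hn.2) (inv_mem h6)) (inv_mem hn.2)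
    refine ⟨t, h6, ⟨(comm_mem_XX ht hn.1).1, h7⟩, mul_left_cancel (a := c) ?_⟩
    rw [← mul_assoc c z, hU.comm hc.2 h.pt'.mem_UU, mul_assoc z, ← h5, ← conj_eq_comm_mul,
      conj_mul_eq, Cz_conj h7]
  have hnorm : ∀ {t : G}, t ∈ Cz z → t * y * t⁻¹ = z * y → t ∈ normalizer (four z y : Set G) :=
    fun ht e => (hl.mem_normalizer_iff ht).2 (Or.inr e)
  obtain ⟨t, -, ht, e⟩ := key d ⟨hd, hdc⟩ rfl
  generalize ⁅t, d⁆ = τ at ht e
  have e' : τ * (z * y) * τ⁻¹ = y := by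
    rw [conj_mul_eq, Cz_conj ht.1, e, ← mul_assoc, h.pt'.sq, one_mul]
  have g3 : g * (z * y) * g⁻¹ = z := by
    rw [conj_mul_eq, g1, g2, ← mul_assoc, ← hl.comm, mul_assoc, hl.sq, mul_one]
  have e1 : τ⁻¹ * y * τ⁻¹⁻¹ = z * y := conj_inj (g := τ) (by rw [e']; group)
  have e2 : τ⁻¹ * (z * y) * τ⁻¹⁻¹ = y := by rw [← e]; group
  have hgn : g ∈ normalizer (four z y : Set G) := Col.mem_normalizer_of_mem
    (by rw [g1]; exact right_mem_four z y)
    (by rw [g2]; exact mul_mem (left_mem_four z y) (right_mem_four z y))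
  refine PL' (Cz c) (ah_solvable_Cz h.ah (hU.sq hc.1) fun e => hc' (e ▸ one_mem _))
    (X₂ := centralizer (four z y : Set G) ⊓ Cz c) (a₁ := a) (a₂ := τ) inf_le_right inf_le_right
    (le_normalizer_inf_XX z _) (fun x hx => ?_) (mem_inf.2 ⟨hd, hdc⟩) (mem_inf.2 ⟨hgn, hg⟩)
    (fun e => hδ.ne_one (star_of_mem e.1)) od og (by rw [pow_orderOf_eq_one]; exact one_mem _)
    (by rw [pow_orderOf_eq_one]; exact one_mem _) (by rw [inv, inv_mul_cancel]; exact one_mem _)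
    (mem_inf.2 ⟨hl.mem_centralizer_iff.2 ⟨mem_Cz'.2 ?_, mem_Cz'.2 ?_⟩,
      mul_mem (mul_mem (mul_mem ht.2 hg) (inv_mem ht.2)) hg⟩) ?_ ?_
  · refine mem_normalizer_of_cj_le (cj_le_iff.2 fun w hw => mem_inf.2 ⟨?_,
      mul_mem (mul_mem hx.2 hw.2) (inv_mem hx.2)⟩)
    exact mem_normalizer_conj (normalizer_le_normalizer_centralizer _ hx.1) hw.1
  · rw [conj_conj, conj_conj, conj_conj, g1, e1, g3, Cz_conj ht.1]
  · rw [conj_conj, conj_conj, conj_conj, g2, e2, g2, e']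
  · rintro N - hN ⟨n, hn, h4, h5⟩
    obtain ⟨t', h6, h7, h8⟩ := key n h4 ((star_eq_star h4.1 hd).2 h5.1)
    refine ⟨⁅t', n⁆, ?_, ⟨hnorm h7.1 h8, h7.2⟩, mem_inf.2 ⟨hl.mem_centralizer_iff.2
      ⟨mul_mem h7.1 (inv_mem ht.1), mem_Cz'.2 ?_⟩, mul_mem h7.2 (inv_mem ht.2)⟩⟩
    · rw [← commutatorElement_inv]; exact inv_mem (comm_mem_of_normal hN hn h6)
    · rw [conj_conj, e1, conj_mul_eq, Cz_conj h7.1, h8, ← mul_assoc, h.pt'.sq, one_mul]
  · rintro N - hN ⟨n, hn, h4, h5⟩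
    obtain ⟨h6, h7⟩ := hl.mem_centralizer_iff.1 h5.1
    have n1 : n * z * n⁻¹ = y := by
      rw [show n = n * g⁻¹ * g by group, conj_conj, g1, Cz_conj h7]
    have n2 : n * (z * y) * n⁻¹ = z := by
      rw [show n = n * g⁻¹ * g by group, conj_conj, g3, Cz_conj h6]
    obtain ⟨b, hb, hb'⟩ := SetLike.not_le_iff_exists.1 (hU.cp hl.mul).not_le_XX
    have h8 : n * b * n⁻¹ ∈ UU y := n1 ▸ conj_mem_UU n hb
    have h9 : n * b * n⁻¹ ∉ XX z := fun e => hb' (by
      rwa [← n2, ← cj_XX, conj_mem_cj] at e)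
    have h10 : ⁅n, b⁆ ∈ Cz z := mul_mem (h.le_Cz h8) (inv_mem (UU_le_Cz z hb))
    have h11 : ⁅n, b⁆ ∈ Cz c := mul_mem (hA h8) (inv_mem (hB hb))
    refine ⟨⁅n, b⁆, comm_mem_of_normal hN hn (hB hb), ⟨h10, h11⟩,
      mem_inf.2 ⟨(star_eq_star h10 haz).1 ?_, mul_mem h11 (inv_mem (hA ha))⟩⟩
    rw [commutatorElement_def, star_mul (h.le_Cz h8) (inv_mem (UU_le_Cz z hb)),
      star_of_mem (inv_mem (UU_le_XX z hb)), mul_one, h.star_eq_of_not_mem h8 ha h9 ha']

theorem not_inverts {δ : KK z} (hδ : Cmp (VV z) δ) : star z a * δ * (star z a)⁻¹ ≠ δ⁻¹ := by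
  intro hi
  have hr := red z
  have hl := (h.col h).symm
  have hP := h.card_cV_eq_four ha ha' h8
  have hy := h.bar_mem_cV ha ha' h8
  have hsq := h.star_sq ha
  obtain ⟨s, hs, h1⟩ := h.exists_move ha ha' h8
  have hsa := h.comm_of_fix ha ha' hs
  obtain ⟨⟨u, hu⟩, u1⟩ := ne_bot_iff_exists_ne_one.1 ((one_lt_card_iff_ne_bot _).1
    (hr.two_le_card_map hsq (hδ.odd hr) hi hδ.ne_one))
  replace u1 : u ≠ 1 := fun e => u1 (Subtype.ext e)
  have u2 := map_cm_le_cV _ _ hu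
  have u3 := (inv_cV_of_inverts hi).map_le hu
  have u4 : bar z y ≠ u := fun e => h8 δ hδ (e ▸ u3)
  have hel := fun x => four_elems (x := x) VV_sq hP hy u2 hl.bar_ne_one u1 u4
  have h2 : s • u = bar z y * u := by
    rcases (hel _).1 (inv_cV_of_comm hsa _ u2) with e | e | e | e
    · exact (smul_ne_one' s u1 e).elim
    · exact (u4 (MulAction.injective s (hs.trans e.symm))).elim
    · refine (h1 fun x hx => mem_fx.2 ?_).elim
      rcases (hel x).1 hx with e' | e' | e' | e' <;> rw [e']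
      exacts [smul_one _, hs, e, by rw [smul_mul', hs, e]]
    · exact e
  have h3 : bar z y * u ∈ cV (VV z) (s * δ * s⁻¹) := by
    rw [cV_conj, ← h2]; exact smul_mem_smul s u3
  have h4 := hδ.sep hr (hδ.conj s) fun e => h8 δ hδ
    ((mul_mem_cancel_right u3).1 (e.cV_eq (V := VV z) ▸ h3))
  have hi' : star z a * (s * δ * s⁻¹) * (star z a)⁻¹ = (s * δ * s⁻¹)⁻¹ := by
    rw [← conj_conj, ← hsa, conj_conj, hi, conj_inv]
  obtain ⟨g, og, g1, g2⟩ := hl.exists_rot_odd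
  have hgn : g ∈ normalizer (four z y : Set G) := Col.mem_normalizer_of_mem
    (by rw [g1]; exact right_mem_four z y)
    (by rw [g2]; exact mul_mem (left_mem_four z y) (right_mem_four z y))
  have hout : ∀ x ∈ pre z (cV (VV z) (star z a)), x ∉ four z y →
      bar z x = u ∨ bar z x = bar z y * u := fun x hx hx' => by
    rw [hl.mem_four_iff_bar (pre_le_UU hx), mem_zpowers_iff_of_expo VV_sq] at hx'
    have := (hel _).1 (mem_pre.1 hx).2
    tauto
  obtain ⟨c, hc, rfl⟩ := exists_bar u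
  have c1 := mem_pre.2 ⟨hc, u2⟩
  have c2 : c ∉ four z y := fun e => ((mem_zpowers_iff_of_expo VV_sq).1
    ((hl.mem_four_iff_bar hc).1 e)).elim u1 u4.symm
  have c3 := mem_normalizer_conj (h.normalizer_le_pre' ha ha' h8 hgn) c1
  obtain ⟨m, hm, h5⟩ := hl.exists_fixed g1 g2 (c := c) (by
    have h5 := pre_le_UU c3
    rw [commutatorElement_def, hl.mem_four_iff_bar (mul_mem h5 (inv_mem hc)), bar_mul h5 (inv_mem hc), bar_inv hc]
    rcases hout _ c3 fun e => c2 ((mem_normalizer_iff.1 hgn c).2 e) with e | e <;> rw [e]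
    · rw [mul_inv_cancel]; exact one_mem _
    · rw [mul_inv_cancel_right]; exact mem_zpowers _)
  have h6 : m * c ∈ pre z (cV (VV z) (star z a)) :=
    mul_mem (four_le h.pt'.mem_pre_self (mem_pre.2 ⟨hl.mem_UU, hy⟩) hm) c1
  have h7 : m * c ∉ four z y := fun e => c2 ((mul_mem_cancel_left hm).1 e)
  have h9 : m * c ∈ UU y ⊓ UU z := by
    have := h.cV_le_img (star_mem_imgK ha (h.le_Cz ha)) (mem_pre.1 h6).2
    rwa [h.pt'.bar_mem_img_iff (mem_inf.2 ⟨hl.symm.mem_UU, h.pt'.mem_UU⟩) (pre_le_UU h6)] at this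
  rcases hout _ h6 h7 with e | e
  · exact h.false_of_fix ha ha' (hδ.conj s) hi' og g1 g2 h9 h7 (Cz_symm h5) (e ▸ h4.left u3)
      (by rwa [e, mul_comm])
  · exact h.false_of_fix ha ha' hδ hi og g1 g2 h9 h7 (Cz_symm h5) (e ▸ h4.right h3)
      (by rwa [e, mul_comm, ← mul_assoc, VV_sq, one_mul])

theorem shape : Thin G ∧ Nat.card (UU z) = 32 ∧ Nat.card (KK z) = 20 := by
  have hr := red z
  have hl := (h.col h).symm
  have hy := h.bar_mem_cV ha ha' h8
  obtain ⟨d, hd, od, -, -, -, h1, h2, -, h3, h4⟩ := hr.rm7 (h.star_sq ha) (h.star_ne ha ha')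
    (h.card_cV_le_four ha) (fun _ hδ => h.not_inverts ha ha' h8 hδ)
    fun x hx e => h.le_fx_of_odd ha ha' h8 (hr.odd_of_mem hx) e
  have hy' : bar z y ∈ cV (VV z) d := h2 ▸ mem_sup_left hy
  have hT : Thin G := hl.thin_of_fix hy' (inv_cV_self d)
    (fun e => hl.bar_ne_one (eq_one_of_mem_cV_fx VV_sq (hr.odd_of_mem hd) hy' (mem_fx.2 e)))
    fun g og hg => by
      have h5 := h.comm_of_fix ha ha' hg
      have h6 := h.le_fx_of_odd ha ha' h8 og h5
      refine h2 ▸ sup_le h6 fun x hx => ?_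
      have := inv_fx_of_comm (h3 g h5 og).symm _ (h6 (mem_smul_iff.1 hx))
      rwa [smul_inv_smul] at this
  have hF : fittingSubgroup (KK z) = zpowers d := le_antisymm (fun f hf => by
    obtain ⟨x, hx, c, hc, h5, rfl⟩ := h4 f hf
    rwa [hT.eq_one_of_odd hl (hr.odd_of_mem hc) (h.fix_of_comm ha ha' h8 h5), mul_one])
    (zpowers_le.2 hd)
  have h5 : cV (VV z) d = ⊤ := hl.eq_top hy' fun k w hw =>
    cV_le_of_mem_zpowers (hF ▸ (inferInstance : (fittingSubgroup (KK z)).Normal).conj_mem d hd k)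
      (cV_conj (V := VV z) k d ▸ smul_mem_smul k hw)
  refine ⟨hT, by rw [h.pt'.card_UU, ← card_top, ← h5, h1], ?_⟩
  obtain ⟨s, hs, h6⟩ := h.exists_move ha ha' h8
  obtain ⟨n, hn⟩ := IsPGroup.iff_card.1 (hT.isPGroup_stabilizer hl)
  have h7 : ¬ Nat.card (MulAction.stabilizer (KK z) (bar z y)) ≤ 2 := fun e => by
    have h10 := eq_of_le_of_card_ge (zpowers_le.2 (show star z a ∈ MulAction.stabilizer _ _ from
      h.fix_y ha)) (by rwa [Nat.card_zpowers, orderOf_eq_prime (p := 2) ((sq _).trans (h.star_sq ha))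
        (h.star_ne ha ha')])
    exact h6 ((cV_le_fx_of_sq VV_sq (h.star_sq ha)).trans (fx_le_of_mem_zpowers (h10 ▸ hs)))
  have h9 : 4 ∣ Nat.card (KK z) := by
    refine dvd_trans ?_ (card_subgroup_dvd_card (MulAction.stabilizer (KK z) (bar z y)))
    rw [hn] at h7 ⊢
    exact pow_dvd_pow 2 (by_contra fun e => h7 (Nat.pow_le_pow_right two_pos (by omega : n ≤ 1)) :
      2 ≤ n)
  have h10 := hr.card_dvd_of_fitting_eq hF
  have h11 := orderOf_dvd_natCard d
  rcases od with e | e <;> rw [e] at h10 h11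
  · exact absurd (h9.trans h10) (by decide)
  · exact Nat.dvd_antisymm h10 (Nat.Coprime.mul_dvd_of_dvd_of_dvd (by decide) h9 h11)

end CP

theorem AbU.shape (hU : AbU G) {z : G} (hz : Pt z) : Thin G ∧
    ((Nat.card (UU z) = 8 ∧ Nat.card (KK z) = 6) ∨ (Nat.card (UU z) = 32 ∧ Nat.card (KK z) = 20)) := by
  obtain ⟨y, hy⟩ := hz.exists_col
  by_cases h8 : ∀ k : KK z, Cmp (VV z) k → bar z y ∉ cV (VV z) k
  · obtain ⟨a, ha, ha'⟩ := SetLike.not_le_iff_exists.1 (hU.cp hy.symm).not_le_XX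
    exact ((hU.cp hy.symm).shape ha ha' h8).imp_right Or.inr
  push Not at h8
  obtain ⟨k, hk, h1⟩ := h8
  exact (hy.r1 hk h1).imp_right fun e => Or.inl e.2

theorem nat_b3 {S : Sylow 2 G} {z : G} {Y : Subgroup G} (h : NatG S z Y)
    (hU : IsElementaryAbelian 2 (natU z Y)) : NatB3 S z Y ∧
      ((Nat.card (natU z Y) = 8 ∧ Nat.card (Cz z) = 6 * Nat.card (pCoreOf 2 (Cz z))) ∨
        (Nat.card (natU z Y) = 32 ∧ Nat.card (Cz z) = 20 * Nat.card (pCoreOf 2 (Cz z)))) := by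
  have hz := (nat_fl h).pt
  have hA := hz.abU (natU_eq h ▸ hU)
  obtain ⟨hT, h1⟩ := hA.shape hz
  refine ⟨⟨h, hU, hT.card_normalizer h, fun c hc => ?_, ?_⟩, ?_⟩
  · rw [natU_eq h, ← hT.XX_eq hz, mem_XX, and_iff_right hc]
  · obtain ⟨y, hy, rfl⟩ := (nat_fl h).exists_col
    obtain ⟨g, g1, g2⟩ := hy.exists_flip
    refine ⟨g, Col.mem_normalizer_of_mem (by rw [g1]; exact right_mem_four z y)
      (by rw [g2]; exact left_mem_four z y), ?_⟩
    rw [natU_eq h, cj_UU, g1, ← hT.XX_eq hz]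
    exact (hA.cp hy.symm).not_le_XX
  · rw [natU_eq h, card_Cz, ← hT.XX_eq hz]
    exact h1.imp (And.imp_right fun e => by rw [e]) (And.imp_right fun e => by rw [e])

end Cfsg.Lib.Ngrp.Geo
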