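import Cfsg.Agent.Ngrp.TitsA6
import Cfsg.Agent.Solv.PGroupBasic

set_option autoImplicit false
set_option linter.unusedSectionVars false

namespace Cfsg.Lib.Ngrp.Ti
open Subgroup Cfsg.Lib.Trans Cfsg.Lib.Local Cfsg.Lib.Local.JC Cfsg.Lib.Trans.TJ Cfsg.Lib.Ngrp.Geo
open scoped commutatorElement

variable {G : Type*} [Group G] [Finite G]

namespace Ft

variable {z p a f u m s t : G} (h : Ft z p a f u m s t) {c x e q g : G}
include h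

theorem tA : t ∈ Cz a := by
  have k : t ∈ Cz (t * t) := Cz_mul (self_mem_Cz t) (self_mem_Cz t)
  rcases h.ta with e | e <;> rw [e] at k
  · exact k
  · exact Cz_symm ((mul_mem_cancel_right (Cz_symm h.tC)).1 (Cz_symm k))

theorem bX : m * s * m⁻¹ ∈ XX p := h.mXz (h.Q0_le h.hs.mem)

theorem bC : m * s * m⁻¹ ∈ Cz z := h.mCp h.hs.cp

theorem tp : t ∈ Cz p := by
  have k : t * p * t⁻¹ = t * (m * s * m⁻¹)⁻¹ * p * (t * (m * s * m⁻¹)⁻¹)⁻¹ := by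
    nth_rw 1 [← Cz_conj (inv_mem (XX_le_Cz p h.bX))]; group
  rcases h.pt.conj_XX (h.Q0_le h.ty) h.pU with e | e <;> rw [← k] at e
  · exact mem_Cz'.2 e
  · have k1 := conj_mem_UU t h.aU
    rw [e, Cz_conj h.tA] at k1
    have k2 := h.tg.mem_UU_mul h.col.mul_right h.aU k1
    rw [h.col.comm, ← mul_assoc, h.col.sq, one_mul] at k2
    exact absurd (UU_le_XX z k2) h.aX

theorem tX : t ∈ XX p := h.mem_Xp h.tC h.tp (comm_of_cz h.tA ▸ one_mem _)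

theorem yX : t * (m * s * m⁻¹)⁻¹ ∈ XX p := mul_mem h.tX (inv_mem h.bX)

theorem tP (k : ℕ) : t * cf f k p * t⁻¹ = cf f (2 * k) p := by rw [conj_cf h.tf, Cz_conj h.tp]

theorem kap : ∃ k ∈ Q0 z f u, m * k * m⁻¹ ∈ Q0 z f u ∧ k ∉ Cz (cf f 1 p * cf f 2 p) := by
  have hs := h.hs
  refine ⟨_, mul_mem (mem_normalizer_conj' (h.C_norm h.bC) hs.mem) (inv_mem hs.mem), ?_,
    fun e => hs.n24 ?_⟩
  · rw [show ∀ b : G, m * (b⁻¹ * s * b * s⁻¹) * m⁻¹ = (m * b * m⁻¹)⁻¹ *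
      (m * s * m⁻¹ * (m * b * m⁻¹) * (m * s * m⁻¹)⁻¹) from fun b => by group, h.mm]
    exact mul_mem (inv_mem hs.mem) (mem_normalizer_conj (h.C_norm h.bC) hs.mem)
  · have k := conj_mem_Cz (m * s * m⁻¹) ((mul_mem_cancel_right (inv_mem hs.c12)).1 e)
    have hy := h.Q0_le h.ty
    generalize m * s * m⁻¹ = b at k hy
    rw [show b * (b⁻¹ * s * b) * b⁻¹ = s by group, show ∀ w : G, b * w * b⁻¹ =
      (t * b⁻¹)⁻¹ * (t * w * t⁻¹) * (t * b⁻¹)⁻¹⁻¹ from fun w => by group, conj_mul_eq t, h.tP,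
      h.tP] at k
    exact (cz_conj_XX (inv_mem hy) (mul_mem (h.PU _) (h.PU _)) (XX_le_Cz z (h.Q0_le hs.mem))).1 k

/-- `Q₀ ⊓ X_p` lies in the conjugate of `Q₀`. -/
theorem K1 (hq : q ∈ Q0 z f u) (hx : q ∈ XX p) : m * q * m⁻¹ ∈ Q0 z f u := by
  have hw := mul_mem (h.PU 1) (h.PU 2)
  have s0 : ∀ q ∈ Q0 z f u, q ∈ XX p → q ∈ Cz (cf f 1 p * cf f 2 p) → q ∈ Cz (cf f 1 p) →
      m * q * m⁻¹ ∈ Q0 z f u := fun q hq hx e e1 =>
    h.A0_le (h.mUz (h.mem_U' hq (XX_le_Cz p hx) e1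
      (Cz_symm ((mul_mem_cancel_left (Cz_symm e1)).1 (Cz_symm e))) (h.cz_14 (h.Q0_le hq) hx)))
      (h.mXp hx)
  have s1 : ∀ q ∈ Q0 z f u, q ∈ XX p → q ∈ Cz (cf f 1 p * cf f 2 p) → m * q * m⁻¹ ∈ Q0 z f u :=
    fun q hq hx e => by
      by_cases e1 : q ∈ Cz (cf f 1 p)
      · exact s0 q hq hx e e1
      · have := s0 _ (mul_mem h.uQ hq) (mul_mem (UU_le_XX p h.uU) hx)
          (mul_mem ((XX_mul_iff' h.pt h.uX (h.PU 1) (h.PU 2)).2 (by simp [h.uP])) e)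
          ((XX_mul_iff h.pt h.uX (h.Q0_le hq) (h.PU 1)).2 (by simp [h.uP, e1]))
        rwa [conj_mul_eq, mul_mem_cancel_left (h.U_le_Q0 (h.mUp h.uU))] at this
  by_cases e : q ∈ Cz (cf f 1 p * cf f 2 p)
  · exact s1 q hq hx e
  · obtain ⟨k, k1, k2, k3⟩ := h.kap
    have := s1 _ (mul_mem k1 hq) (mul_mem (h.mm k ▸ h.mXz (h.Q0_le k2)) hx)
      ((XX_mul_iff h.pt (h.Q0_le k1) (h.Q0_le hq) hw).2 (iff_of_false k3 e))
    rwa [conj_mul_eq, mul_mem_cancel_left k2] at this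

theorem sig_eq : m * t * m⁻¹ = m * (t * (m * s * m⁻¹)⁻¹) * m⁻¹ * s := by
  nth_rw 2 [← h.mm s]; group

theorem sig : m * t * m⁻¹ ∈ Q0 z f u := h.sig_eq ▸ mul_mem (h.K1 h.ty h.yX) h.hs.mem

theorem colA : Col z (m * a * m⁻¹) := by have := h.col'.conj m; rwa [h.mp] at this

theorem tt : t * t = a * z := h.ta.resolve_left fun e =>
  h.not_col_sq h.sig (h.mCz h.tC)
    (by rw [h.sig_eq, mul_mem_cancel_left (h.cz_14 (h.mXp h.yX) (h.mXz (h.Q0_le h.ty)))]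
        exact h.hs.n14)
    (by rw [← conj_mul_eq, e]; exact h.colA)

theorem zXa : z ∉ XX a := h.tg.not_mem_XX h.col' h.col.symm fun e => by
  rcases h.col'.mem_four.1 e with e | e | e | e
  · exact h.pt.ne e
  · exact h.col.ne e.symm
  · exact h.aY (e ▸ left_mem_four z p)
  · exact h.aY ((mul_mem_cancel_left (right_mem_four z p)).1 (e ▸ left_mem_four z p))

theorem uY : u ∉ four a p := fun e => by
  rcases h.col'.symm.mem_four.1 e with e | e | e | e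
  · exact h.uN (e ▸ one_mem _)
  · exact h.aX (e ▸ h.uX)
  · exact h.uN (e ▸ h.pU)
  · exact h.aX ((mul_mem_cancel_right (UU_le_XX z h.pU)).1 (e ▸ h.uX))

theorem tu : t * u * t⁻¹ = u * p := by
  rw [conj_eq_comm_mul, comm_eq_of_not h.pt' h.tX h.uU fun e => h.tg.comm_not_mem h.col'.symm h.tA
    (comm_of_cz h.tp ▸ one_mem _)
    (by rw [h.tt, mul_mem_cancel_left (UU_le_XX a h.col'.pt'.mem_UU)]; exact h.zXa)
    h.uA h.uU h.uY (comm_of_cz e ▸ one_mem _), mem_Cz.1 h.up]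

theorem rc : RC z a f p u t :=
  ⟨h.rh, (mem_Cz.1 h.tC).symm, h.tf.trans (pow_two f), h.tt, mem_Cz.1 h.tp, h.tu⟩

omit h in
theorem mem_C0 : z ∈ C0 z a f p u t ∧ a ∈ C0 z a f p u t ∧ f ∈ C0 z a f p u t ∧
    p ∈ C0 z a f p u t ∧ u ∈ C0 z a f p u t ∧ t ∈ C0 z a f p u t := by
  refine ⟨?_, ?_, ?_, ?_, ?_, ?_⟩ <;> exact subset_closure (by simp)

omit h in
theorem C0_le_iff {L : Subgroup G} :
    C0 z a f p u t ≤ L ↔ z ∈ L ∧ a ∈ L ∧ f ∈ L ∧ p ∈ L ∧ u ∈ L ∧ t ∈ L := by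
  simp [C0, Set.insert_subset_iff]

theorem Q0_le_C0 : Q0 z f u ≤ C0 z a f p u t := by
  obtain ⟨h1, -, h3, h4, h5, -⟩ := mem_C0 (z := z) (a := a) (f := f) (p := p) (u := u) (t := t)
  have k : ∀ k, ∀ x ∈ C0 z a f p u t, cf f k x ∈ C0 z a f p u t := fun k x hx =>
    mul_mem (mul_mem (pow_mem h3 k) hx) (inv_mem (pow_mem h3 k))
  exact h.Q0_le_iff.2 ⟨h.UU_le h1 fun j _ => k j p h4, k 1 u h5, k 2 u h5, k 3 u h5, k 4 u h5⟩

theorem C0_le_Cz : C0 z a f p u t ≤ Cz z :=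
  C0_le_iff.2 ⟨self_mem_Cz z, h.aC, h.fC, h.col.mem_Cz, h.uC, h.tC⟩

theorem t_norm : t ∈ normalizer (zpowers f : Set G) :=
  mem_normalizer_of_cj_le (by
    rw [cj_zpowers, h.tf, zpowers_le]; exact pow_mem (mem_zpowers f) 2)

theorem dec_C0 (hg : g ∈ C0 z a f p u t) (hp : g ∈ Cz p) :
    ∃ q ∈ Q0 z f u, ∃ n : ℤ, g = q * t ^ n := by
  have k0 : Q0 z f u ≤ Q0 z f u ⊔ zpowers f ⊔ zpowers t := le_sup_left.trans le_sup_left
  have kt : t ∈ Q0 z f u ⊔ zpowers f ⊔ zpowers t := mem_sup_right (mem_zpowers t)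
  have k1 : C0 z a f p u t ≤ Q0 z f u ⊔ zpowers f ⊔ zpowers t := C0_le_iff.2 ⟨k0 h.zQ,
    (mul_mem_cancel_right (k0 h.zQ)).1 (h.tt ▸ mul_mem kt kt),
    mem_sup_left (mem_sup_right (mem_zpowers f)), k0 (h.U_le_Q0 h.pU), k0 h.uQ, kt⟩
  obtain ⟨_, hk, n, rfl⟩ := (Solv.PG.mem_sup_zpowers_iff
    (normalizer_inf_normalizer_le_normalizer_sup _ _ ⟨h.C_norm h.tC, h.t_norm⟩)).1 (k1 hg)
  obtain ⟨q, hq, i, rfl⟩ := (Solv.PG.mem_sup_zpowers_iff h.f_norm).1 hk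
  obtain ⟨j, hj⟩ := mem_powers_iff_mem_zpowers.2 (zpow_mem (mem_zpowers f) i)
  simp only at hj
  rw [mul_mem_cancel_right (zpow_mem h.tp n), ← hj] at hp
  have k2 : cf f j p = q⁻¹ * p * q := by nth_rw 2 [← Cz_conj hp]; rw [cf]; group
  have k3 : j % 5 = 0 := by
    by_contra e
    exact h.P_not e (k2 ▸ mem_normalizer_conj' (h.col.fl.XX_le (h.Q0_le hq)) (right_mem_four z p))
  refine ⟨q, hq, n, ?_⟩
  rw [← hj, ← pow_mod_orderOf, h.order_f, k3, pow_zero, mul_one]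

theorem mR (hg : g ∈ C0 z a f p u t) (hp : g ∈ Cz p) : m * g * m⁻¹ ∈ C0 z a f p u t := by
  obtain ⟨q, hq, n, rfl⟩ := h.dec_C0 hg hp
  rw [mul_mem_cancel_right (zpow_mem h.tp n)] at hp
  obtain ⟨j, hj⟩ := h.tg.exists_pow h.col.symm h.hs.cp
    (comm_of_cz (XX_le_Cz z (h.Q0_le h.hs.mem)) ▸ one_mem _) h.hs.sq hp
    (comm_of_cz (XX_le_Cz z (h.Q0_le hq)) ▸ one_mem _)
  have k1 := h.Q0_le_C0 (h.K1 (mul_mem hq (inv_mem (pow_mem h.hs.mem j))) hj)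
  have k2 : m * s * m⁻¹ ∈ C0 z a f p u t :=
    inv_mem_iff.1 ((mul_mem_cancel_left mem_C0.2.2.2.2.2).1 (h.Q0_le_C0 h.ty))
  rw [show m * (q * t ^ n) * m⁻¹ = m * (q * (s ^ j)⁻¹) * m⁻¹ * (m * s ^ j * m⁻¹) *
    (m * t ^ n * m⁻¹) by group, ← conj_pow, ← conj_zpow]
  exact mul_mem (mul_mem k1 (pow_mem k2 j)) (zpow_mem (h.Q0_le_C0 h.sig) n)

theorem ma : ∃ k, 1 ≤ k ∧ k ≤ 4 ∧ (m * a * m⁻¹ = cf f k p ∨ m * a * m⁻¹ = cf f k p * z) := by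
  obtain ⟨k, hk, e⟩ := h.exists_P h.colA
  refine ⟨k, Nat.pos_of_ne_zero fun e0 => h.aX ?_, by omega,
    e.imp_right fun e => e.trans (h.colP k).comm⟩
  rw [e0, cf_zero] at e
  refine h.mm a ▸ h.mXp ?_
  rcases e with e | e <;> rw [e]
  · exact UU_le_XX p h.pt'.mem_UU
  · exact UU_le_XX p h.col.mul_right.mem_UU

theorem Cz_le {L : Subgroup G} (h1 : C0 z a f p u t ≤ L) (h2 : ∀ e ∈ XX z, e ∈ Cz f → e ∈ L) :
    Cz z ≤ L := fun c hc => by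
  obtain ⟨-, -, h3, -, -, h6⟩ := C0_le_iff.1 h1
  obtain ⟨k, -, e⟩ := h.exists_P (h.col.conj_of_mem hc)
  have k1 : ⁅(f ^ k)⁻¹ * c, p⁆ ∈ zpowers z := by
    rw [show ⁅(f ^ k)⁻¹ * c, p⁆ = (f ^ k)⁻¹ * (c * p * c⁻¹) * f ^ k * p⁻¹ by
      rw [commutatorElement_def]; group]
    rcases e with e | e <;> rw [e, cf]
    · convert one_mem (zpowers z) using 1; group
    · rw [← mul_assoc, mem_Cz.1 (inv_mem (pow_mem h.fC k))]
      convert mem_zpowers z using 1; group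
  obtain ⟨j, hj⟩ := h.tg.exists_pow h.col h.tC (comm_of_cz h.tp ▸ one_mem _)
    (by rw [h.tt, mul_mem_cancel_right (UU_le_XX z h.pt.mem_UU)]; exact h.aX)
    (mul_mem (inv_mem (pow_mem h.fC k)) hc) k1
  obtain ⟨y, hy, e, he, he', e1⟩ := h.dec hj
  have := mul_mem (h1 (h.Q0_le_C0 hy)) (h2 e he he')
  rwa [← e1, mul_mem_cancel_right (inv_mem (pow_mem h6 j)),
    mul_mem_cancel_left (inv_mem (pow_mem h3 k))] at this

theorem ext (he : e ∈ XX z) (he' : e ∈ Cz f) (hn : e ∉ zpowers z) : Ext z a f p u t e where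
  ez := mem_Cz.1 (XX_le_Cz z he)
  ea := mem_Cz.1 (h.E_a he he')
  ef := mem_Cz.1 he'
  ep := mem_Cz.1 (cz_of_CU (h.E_CU he he') h.pU)
  eu := by rw [conj_eq_comm_mul, h.E_u he he' hn, mem_Cz.1 h.up]
  ee := h.E_mul he he' hn he he' hn
  et := h.E_mul (conj_mem_XX_of_mem h.tC he) (h.conj_E h.t_norm he')
    (fun k => hn ((mem_normalizer_iff.1 (Cz_le_normalizer_zpowers z h.tC) e).2 k))
    (inv_mem he) (inv_mem he') fun k => hn (inv_mem_iff.1 k)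
  cent := le_antisymm (h.Cz_le le_sup_left fun e' k k' => by
      have hz : zpowers z ≤ C0 z a f p u t ⊔ zpowers e := zpowers_le.2 (mem_sup_left mem_C0.1)
      by_cases k1 : e' ∈ zpowers z
      · exact hz k1
      · exact (mul_mem_cancel_left (mem_sup_right (mem_zpowers e))).1
          (hz (h.E_mul he he' hn k k' k1)))
    (sup_le h.C0_le_Cz (zpowers_le.2 (XX_le_Cz z he)))

theorem cent : centralizer {z} = C0 z a f p u t ∨ ∃ e, Ext z a f p u t e := by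
  by_cases k : ∃ e ∈ XX z, e ∈ Cz f ∧ e ∉ zpowers z
  · obtain ⟨e, h1, h2, h3⟩ := k
    exact Or.inr ⟨e, h.ext h1 h2 h3⟩
  · push Not at k
    exact Or.inl (le_antisymm
      (h.Cz_le le_rfl fun e h1 h2 => zpowers_le.2 mem_C0.1 (k e h1 h2)) h.C0_le_Cz)

end Ft

/-- The geometry yields the relations of the amalgam. -/
theorem exists_TC0 {S : Sylow 2 G} {z : G} {Y : Subgroup G} (h : NatB3 S z Y)
    (hU : Nat.card (natU z Y) = 32) : ∃ a f p u t m, TC0 z a f p u t m := by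
  obtain ⟨p, hp⟩ := (nat_fl h.toNatG).pt.exists_col
  obtain ⟨a, f, u, h1⟩ := (tg_of_nat h hU).exists_fr hp
  obtain ⟨m, m1, m2, m3, m4⟩ := h1.exists_m
  obtain ⟨s, t, h2⟩ := Fm.exists_t ⟨h1, m1, m2, m3, m4⟩
  exact ⟨a, f, p, u, t, m, h2.rc, h1.pt.ne, m1, m2, m3, fun g hg e => h2.mR hg (mem_Cz.2 e), h2.ma,
    fun e => S.not_dvd_index (e.trans (index_dvd_of_le (nat_le_Cz h.toNatG))), h2.cent⟩

end Cfsg.Lib.Ngrp.Ti
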