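import Cfsg.Agent.Ngrp.TitsM2

/-! From the local data given by the geometry to the relations of the amalgam. -/

set_option autoImplicit false
set_option maxRecDepth 100000
set_option Elab.async false

namespace Cfsg.Lib.Ngrp.Ti

open Subgroup Cfsg.Lib.Spor Cfsg.Lib.Spor.Bulk Cfsg.Lib.Fus.Grp
open scoped commutatorElement

variable {G : Type*} [Group G] {R : ℕ → G → Prop} {g : ℕ → G}

theorem codes_two {R' : ℕ → G → Prop} (K : Codes R mu o) (K' : Codes R' mu o) {cs cs' : List ℕ}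
    {gs : List G} (hd : List.Forall₂ R cs gs) (hd' : List.Forall₂ R' cs' gs) (m : ℕ) {x x' : ℕ}
    {k : G} (hx : R x k) (hx' : R' x' k) :
    ∃ s, R (evM mu cs m x) s ∧ R' (evM mu cs' m x') s := by
  induction hd generalizing cs' m x x' k with
  | nil => cases hd'; exact ⟨k, hx, hx'⟩
  | @cons c y cs gs hc _ ih =>
    cases hd' with
    | @cons c' _ cs' _ hc' hd' =>
    have e : ∀ c cs x, evM mu (c :: cs) m x = cond (Nat.beq (Nat.land m 1) 1)
      (evM mu cs (Nat.shiftRight m 1) (mu x c)) (evM mu cs (Nat.shiftRight m 1) x) :=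
      fun _ _ _ => rfl
    rw [e, e]
    cases Nat.beq (Nat.land m 1) 1
    exacts [ih hd' _ hx hx', ih hd' _ (K.mul hx hc) (K'.mul hx' hc')]

theorem codes_transfer {R' : ℕ → G → Prop} (K : Codes R mu o) (K' : Codes R' mu o)
    {cs cs' : List ℕ} {gs : List G} (hd : List.Forall₂ R cs gs) (hd' : List.Forall₂ R' cs' gs)
    {c m : ℕ} {y : G} (hy : R c y) (e : Nat.beq c (evM mu cs m o) = true) :
    R' (evM mu cs' m o) y := by
  obtain ⟨s, h1, h2⟩ := codes_two K K' hd hd' m K.one K'.one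
  rwa [K.beq hy h1 e]

/-- codes of the conjugates -/
def Cj (R : ℕ → G → Prop) (w : G) (c : ℕ) (x : G) : Prop := R c (w * x * w⁻¹)

theorem codes_cj (K : Codes R mu o) (w : G) : Codes (Cj R w) mu o :=
  ⟨fun {_ _ x y} ha hb => by
    have := K.mul ha hb
    rwa [show w * x * w⁻¹ * (w * y * w⁻¹) = w * (x * y) * w⁻¹ by group] at this,
   by simpa [Cj] using K.one, fun ha hb => by rw [← K.eq_iff ha hb]; simp⟩

/-- images of the letters `t s a q p z` -/
noncomputable def im0 (T S : ℕ) : ℕ → ℕ :=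
  getN o [o, o, T, o, S, o, tc 7, tc 6, o, o, o, o, o, tc 14, tc 13]

/-- a word for `k` -/
def w8 : List ℕ := [13, 14, 2, 2, 2, 7, 2, 7, 13, 14, 6, 7, 6, 7, 2, 2, 2, 4, 2, 4, 4, 4]

/-- a word for `u` -/
def w10 : List ℕ := [13, 14, 4, 4, 4, 6, 4, 6]

/-- a word for `v` -/
def w11 : List ℕ := [13, 14, 2, 2, 2, 7, 2, 7]

/-- a word for `y` -/
def w12 : List ℕ := [13, 14, 6, 7, 6, 7]

/-- images of the polycyclic sequence -/
noncomputable def imL (T S : ℕ) : List ℕ :=
  [T, S, tc 7, tc 6, wcc (im0 T S) w8, wcc (im0 T S) w10, wcc (im0 T S) w11, wcc (im0 T S) w12,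
    tc 14, tc 13]

/-- an involution normalising the centralizer of `p` -/
structure T1 (g : ℕ → G) (m : G) : Prop where
  m2 : m * m = 1
  mz : m * g 14 * m⁻¹ = g 13
  nor : ∀ x ∈ genL (gR g), m * x * m⁻¹ ∈ genL (gR g)
  cube : (m * g 1) ^ 3 ∈ genL (gR g)

theorem conj_back {m x y : G} (h : m * m = 1) (e : m * x * m⁻¹ = y) : m * y * m⁻¹ = x := by
  rw [← e]
  calc _ = m * m * x * (m * m)⁻¹ := by group
    _ = x := by rw [h]; group

theorem Base.nor_x (B : Base okC g R) : ∀ x ∈ genL (gR g), g 1 * x * (g 1)⁻¹ ∈ genL (gR g) := by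
  cases B.pcS with
  | cons _ conj _ _ => exact conj

theorem T1.shift (B : Base okC g R) {m c : G} (h : T1 g m) (hc : c ∈ genL (gR g))
    (e : c * (m * c * m⁻¹) = 1) : T1 g (c * m) := by
  have n1 : ∀ x ∈ genL (gR g), m * g 1 * x * (m * g 1)⁻¹ ∈ genL (gR g) := fun x hx => by
    simpa only [mul_assoc, mul_inv_rev] using h.nor _ (B.nor_x x hx)
  refine ⟨?_, ?_, fun x hx => ?_, ?_⟩
  · calc _ = c * (m * c * m⁻¹) * (m * m) := by group
      _ = 1 := by rw [e, h.m2, one_mul]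
  · calc _ = c * (m * g 14 * m⁻¹) * c⁻¹ := by group
      _ = _ := by rw [h.mz, (B.comm_R0 hc).1, mul_inv_cancel_right]
  · simpa only [mul_assoc, mul_inv_rev] using mul_mem (mul_mem hc (h.nor x hx)) (inv_mem hc)
  · have := mul_mem (mul_mem (mul_mem hc (n1 c hc)) (n1 _ (n1 c hc))) h.cube
    rw [mul_assoc]
    generalize m * g 1 = w at this
    convert this using 1
    simp only [pow_succ]
    group

section im

variable {m : G} {T S : ℕ}

theorem T1.imW (B : Base okC g R) (h : T1 g m) (ha : m * g 6 * m⁻¹ = g 7)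
    (hT : Cj R m T (g 2)) (hS : Cj R m S (g 4)) {l : ℕ} {W : List ℕ}
    (e : band (allL (fun x => [2, 4, 6, 7, 13, 14].elem x) W)
      (band (okC l) (Nat.beq (tc l) (wc W))) = true) : Cj R m (wcc (im0 T S) W) (g l) := by
  have h0 : ∀ x ∈ [2, 4, 6, 7, 13, 14], okC x = true ∧ Cj R m (im0 T S x) (g x) :=
    List.forall_iff_forall_mem.1 ⟨⟨rfl, hT⟩, ⟨rfl, hS⟩,
      ⟨rfl, show R (tc 7) _ from ha ▸ B.lt 7 rfl⟩,
      ⟨rfl, show R (tc 6) _ from conj_back h.m2 ha ▸ B.lt 6 rfl⟩,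
      ⟨rfl, show R (tc 14) _ from conj_back h.m2 h.mz ▸ B.lt 14 rfl⟩,
      ⟨rfl, show R (tc 13) _ from h.mz ▸ B.lt 13 rfl⟩⟩
  have h1 := fun x hx => h0 x (List.mem_of_elem_eq_true (allL_iff.1 (band_left e) x hx))
  rw [B.codes.beq (B.lt l (band_left (band_right e))) (codes_wv B.codes fun x hx => B.lt x (h1 x hx).1)
    (band_right (band_right e))]
  exact codes_wv (codes_cj B.codes m) fun x hx => (h1 x hx).2

theorem T1.dIm (B : Base okC g R) (h : T1 g m) (ha : m * g 6 * m⁻¹ = g 7)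
    (hT : Cj R m T (g 2)) (hS : Cj R m S (g 4)) : List.Forall₂ (Cj R m) (imL T S) (gR g) :=
  .cons hT <| .cons hS <| .cons (show R (tc 7) _ from ha ▸ B.lt 7 rfl) <|
    .cons (show R (tc 6) _ from conj_back h.m2 ha ▸ B.lt 6 rfl) <|
    .cons (h.imW B ha hT hS (by decide +kernel)) <| .cons (h.imW B ha hT hS (by decide +kernel)) <|
    .cons (h.imW B ha hT hS (by decide +kernel)) <| .cons (h.imW B ha hT hS (by decide +kernel)) <|
    .cons (show R (tc 14) _ from conj_back h.m2 h.mz ▸ B.lt 14 rfl) <|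
    .cons (show R (tc 13) _ from h.mz ▸ B.lt 13 rfl) .nil

end im

/-- code of the conjugate by `x` -/
noncomputable def cx (c : ℕ) : ℕ := mu (mu (tc 1) c) (tc 1)

/-- image of a sub-product under the standard automorphism -/
noncomputable def a0 (m : ℕ) : ℕ := evM mu (imL (tc 4) (tc 2)) m o

/-- the two codes commute -/
noncomputable def cmB (c d : ℕ) : Bool := Nat.beq (mu c d) (mu d c)

theorem cmB_iff (K : Codes R mu o) {c d : ℕ} {x y : G} (hx : R c x) (hy : R d y) :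
    cmB c d = true ↔ x * y = y * x := K.beq_iff (K.mul hx hy) (K.mul hy hx)

theorem T1.sat (B : Base okC g R) (h : T1 g (g 17)) (ha : g 17 * g 6 * (g 17)⁻¹ = g 7)
    (ht : g 17 * g 2 * (g 17)⁻¹ = g 4) : Sat g 18 tiIota tiR := by
  have K := B.codes
  have hT : Cj R (g 17) (tc 4) (g 2) := show R _ _ from ht ▸ B.lt 4 rfl
  have hS : Cj R (g 17) (tc 2) (g 4) := show R _ _ from conj_back h.m2 ht ▸ B.lt 2 rfl
  have hi : g 17 = (g 17)⁻¹ := eq_inv_of_mul_eq_one_left h.m2
  have hx : g 1 = (g 1)⁻¹ := B.inv (l := 1) rfl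
  have rel : ∀ (w : List ℕ) (l : ℕ) (W : List ℕ), band (band (allL (fun x => [2, 4, 6, 7, 13, 14].elem x) W)
      (band (okC l) (Nat.beq (tc l) (wc W)))) (band (allL okC w)
      (Nat.beq (mu (wcc (im0 (tc 4) (tc 2)) W) (wc w)) o)) = true →
      wv g (w ++ [17, l, 17]) = 1 := fun w l W e => by
    have := K.beq (K.mul (h.imW B ha hT hS (band_left e)) (B.wv (band_left (band_right e)))) K.one
      (band_right (band_right e))
    rw [← hi] at this
    simpa using this
  have step : ∀ {c y} (m : ℕ), R c y → Nat.beq (cx c) (evM mu (gR tc) m o) = true →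
      R (a0 m) (g 17 * g 1 * y * (g 17 * g 1)⁻¹) := fun {c y} m hy e => by
    have := codes_transfer K (codes_cj K (g 17)) B.dR (h.dIm B ha hT hS)
      (K.mul (K.mul (B.lt 1 rfl) hy) (hx ▸ B.lt 1 rfl : R (tc 1) (g 1)⁻¹)) e
    simpa only [Cj, a0, mul_assoc, mul_inv_rev] using this
  have three : ∀ l m1 m2 m3, band (okC l) (band (Nat.beq (cx (tc l)) (evM mu (gR tc) m1 o))
      (band (Nat.beq (cx (a0 m1)) (evM mu (gR tc) m2 o)) (band (Nat.beq (cx (a0 m2))
      (evM mu (gR tc) m3 o)) (Nat.beq (a0 m3) (tc l))))) = true →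
      (g 17 * g 1) ^ 3 * g l = g l * (g 17 * g 1) ^ 3 := fun l m1 m2 m3 e => by
    have e1 := band_right e
    have e2 := band_right e1
    have e3 := band_right e2
    have := K.beq (step m3 (step m2 (step m1 (B.lt l (band_left e)) (band_left e1)) (band_left e2))
      (band_left e3)) (B.lt l (band_left e)) (band_right e3)
    generalize g 17 * g 1 = w at this
    rw [← mul_inv_eq_iff_eq_mul]
    refine Eq.trans ?_ this
    simp only [pow_succ, pow_zero, one_mul, mul_inv_rev, mul_assoc]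
  have cube : (g 17 * g 1) ^ 3 = 1 := by
    obtain ⟨c, hc, e⟩ := B.forall_R0 (f := fun c => !(cmB c (tc 2) && cmB c (tc 4)) || Nat.beq c o ||
      [768, 512, 256].any fun m => Nat.beq (cx c) (evM mu (gR tc) m o) && !Nat.beq (a0 m) c)
      (by decide +kernel) _ h.cube
    rw [(cmB_iff K hc (B.lt 2 rfl)).2 (three 2 171 293 2 (by decide +kernel)),
      (cmB_iff K hc (B.lt 4 rfl)).2 (three 4 586 951 1 (by decide +kernel))] at e
    simp only [Bool.and_self, Bool.not_true, Bool.false_or, Bool.or_eq_true, List.any_eq_true,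
      Bool.and_eq_true, Bool.not_eq_true'] at e
    rcases e with e | ⟨m, -, e1, e2⟩
    · exact K.beq hc K.one e
    · rw [(K.beq_iff (step m hc e1) hc).2 (by rw [← pow_succ', pow_succ, mul_inv_cancel_right])] at e2
      cases e2
  refine ⟨B.sat.zero, fun l hl => ?_, fun w hw => ?_⟩
  · by_cases h17 : l = 17
    · subst h17; exact hi
    · exact B.sat.inv l (by omega)
  · rw [← List.take_append_drop 70 tiR, List.mem_append] at hw
    refine hw.elim (B.sat.rel w) (List.forall_iff_forall_mem.1 (show List.Forall (fun w => wv g w = 1)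
      [[5, 17, 2, 17], [3, 17, 4, 17], [7, 17, 6, 17], [6, 17, 7, 17], [9, 12, 13, 14, 17, 8, 17],
        [11, 17, 10, 17], [10, 17, 11, 17], [12, 17, 12, 17], [14, 17, 13, 17], [13, 17, 14, 17],
        [1, 17, 1, 17, 1, 17]] from ?_) w)
    refine ⟨rel [5] 2 [2] (by decide +kernel), rel [3] 4 [4] (by decide +kernel),
      rel [7] 6 [6] (by decide +kernel), rel [6] 7 [7] (by decide +kernel),
      rel [9, 12, 13, 14] 8 w8 (by decide +kernel), rel [11] 10 w10 (by decide +kernel),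
      rel [10] 11 w11 (by decide +kernel), rel [12] 12 w12 (by decide +kernel),
      rel [14] 13 [13] (by decide +kernel), rel [13] 14 [14] (by decide +kernel), ?_⟩
    simpa [pow_succ, mul_assoc] using cube

/-- check of a correcting element -/
noncomputable def certB (T : ℕ) (cs : List ℕ) (mB : ℕ) : Bool :=
  frc (evM mu (gR tc) mB o) fun B => Nat.beq (mu B (evM mu cs mB o)) o && cmB B (tc 7) &&
    (Nat.beq (mu B T) (mu (tc 4) B) || Nat.beq (mu B (mu T (tc 13))) (mu (tc 4) B))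

/-- check of a candidate for the images of `t` and `s` -/
noncomputable def candB (mT mS : ℕ) : Bool :=
  frc (evM mu (gR tc) mT o) fun T => frc (evM mu (gR tc) mS o) fun S =>
    frc (wcc (im0 T S) w10) fun U => !Nat.beq (mu T U) (mu (mu U (tc 14)) T) ||
      PK.forceL (imL T S) fun cs => !Nat.beq (evM mu cs mT o) (tc 2) ||
        [0, 16, 128, 144].any (certB T cs)

theorem Base.sqrt (B : Base okC g R) {d : ℕ} {x y : G} (hx : x ∈ genL (gR g)) (hy : R d y)
    (e : x * x = y) {L : List ℕ} (h : allE mu (fun c => !Nat.beq (mu c c) d ||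
      L.any fun m => Nat.beq c (evM mu (gR tc) m o)) (gR tc) o = true) :
    ∃ m ∈ L, R (evM mu (gR tc) m o) x := by
  obtain ⟨c, hc, h1⟩ := B.forall_R0 h x hx
  rw [(B.codes.beq_iff (B.codes.mul hc hc) hy).2 e] at h1
  obtain ⟨m, hm, h2⟩ := List.any_eq_true.1 h1
  exact ⟨m, hm, Nat.eq_of_beq_eq_true h2 ▸ hc⟩

theorem T1.exists_r (B : Base okC g R) {m : G} (h : T1 g m) (ha : m * g 6 * m⁻¹ = g 7) :
    ∃ r, T1 g r ∧ r * g 6 * r⁻¹ = g 7 ∧ (r * g 2 * r⁻¹ = g 4 ∨ r * (g 2 * g 14) * r⁻¹ = g 4) := by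
  have K := B.codes
  have K' := codes_cj K m
  have hq : Cj R m (tc 6) (g 7) := show R _ _ from conj_back h.m2 ha ▸ B.lt 6 rfl
  have hp : Cj R m (tc 14) (g 13) := show R _ _ from conj_back h.m2 h.mz ▸ B.lt 14 rfl
  have ha' : Cj R m (tc 7) (g 6) := show R _ _ from ha ▸ B.lt 7 rfl
  have hz : Cj R m (tc 13) (g 14) := show R _ _ from h.mz ▸ B.lt 13 rfl
  obtain ⟨e1, e2, e3⟩ := B.eqs [(.mul (.gen 2) (.gen 2), .mul (.gen 6) (.gen 14)),
    (.mul (.gen 4) (.gen 4), .mul (.gen 7) (.gen 13)),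
    (.mul (.gen 2) (.gen 10), .mul (.mul (.gen 10) (.gen 13)) (.gen 2))] (by decide +kernel)
  obtain ⟨mT, h1, hT⟩ := B.sqrt (h.nor (g 2) (mem_genL (by simp [gR]))) (K'.mul ha' hz)
    (by rw [← show g 2 * g 2 = g 6 * g 14 from e1]; group)
    (L := [2, 10, 194, 202, 258, 266, 450, 458, 514, 522, 706, 714, 770, 778, 962, 970])
    (by decide +kernel)
  obtain ⟨mS, h2, hS⟩ := B.sqrt (h.nor (g 4) (mem_genL (by simp [gR]))) (K'.mul hq hp)
    (by rw [← show g 4 * g 4 = g 7 * g 13 from e2]; group)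
    (L := [1, 5, 161, 165, 257, 261, 417, 421, 513, 517, 673, 677, 769, 773, 929, 933])
    (by decide +kernel)
  have h3 := allL_iff.1 (allL_iff.1 (show allL (fun mT => allL (candB mT)
    [1, 5, 161, 165, 257, 261, 417, 421, 513, 517, 673, 677, 769, 773, 929, 933])
    [2, 10, 194, 202, 258, 266, 450, 458, 514, 522, 706, 714, 770, 778, 962, 970] = true by
      decide +kernel) mT h1) mS h2
  have D := h.dIm B ha hT hS
  have hU : Cj R m _ (g 10) := h.imW B ha hT hS (W := w10) (by decide +kernel)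
  simp only [candB, frc_eq, PK.forceL_eq] at h3
  rw [(K'.beq_iff (K'.mul hT hU) (K'.mul (K'.mul hU hp) hT)).2 e3,
    (K.beq_iff (codes_transfer K K' B.dR D hT (Nat.beq_refl _)) (B.lt 2 rfl)).2
      (conj_back h.m2 rfl)] at h3
  obtain ⟨mB, -, h4⟩ := List.any_eq_true.1 h3
  simp only [certB, frc_eq, Bool.and_eq_true, Bool.or_eq_true] at h4
  obtain ⟨b, hb, hB⟩ := K.evM_one B.dR mB
  have key : ∀ {c x}, Cj R m c x → Nat.beq (mu (evM mu (gR tc) mB o) c)
      (mu (tc 4) (evM mu (gR tc) mB o)) = true → b * m * x * (b * m)⁻¹ = g 4 := fun {c x} hx e => by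
    rw [← mul_inv_cancel_right (g 4) b, ← K.beq (K.mul hB hx) (K.mul (B.lt 4 rfl) hB) e]
    group
  refine ⟨b * m, h.shift B hb (K.beq (K.mul hB (codes_transfer K K' B.dR D hB (Nat.beq_refl _)))
    K.one h4.1.1), ?_, h4.2.imp (key hT) (key (K'.mul hT hz))⟩
  calc _ = b * (m * g 6 * m⁻¹) * b⁻¹ := by group
    _ = _ := by rw [ha, (cmB_iff K hB (B.lt 7 rfl)).1 h4.1.2, mul_inv_cancel_right]

theorem T1.exists_q (B : Base okC g R) {m : G} (h : T1 g m) {e : Ex}
    (ha : m * g 6 * m⁻¹ = e.ev g) (mB : ℕ) (hc : band (e.all okC) (frc (evM mu (gR tc) mB o) fun c =>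
      band (cmB c (tc 6)) (Nat.beq (mu c (Ti.ec e)) (mu (tc 7) c))) = true) :
    ∃ m', T1 g m' ∧ m' * g 6 * m'⁻¹ = g 7 := by
  have K := B.codes
  obtain ⟨b, hb, hB⟩ := K.evM_one B.dR mB
  have h1 := (cmB_iff K hB (B.lt 6 rfl)).1 (band_left (band_right hc))
  have h2 := K.beq (K.mul hB (B.ec (band_left hc))) (K.mul (B.lt 7 rfl) hB) (band_right (band_right hc))
  refine ⟨_, h.shift B (mul_mem hb (h.nor _ (inv_mem hb))) ?_, ?_⟩
  · calc _ = b * m * b⁻¹ * b * m⁻¹ * (m * m) * b⁻¹ * (m * m)⁻¹ := by group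
      _ = 1 := by rw [h.m2]; group
  · calc _ = b * (m * (b⁻¹ * (g 6 * b)) * m⁻¹) * b⁻¹ := by group
      _ = _ := by rw [← h1, inv_mul_cancel_left, ha, h2, mul_inv_cancel_right]

section twist

variable {z a f p u t e : G}

theorem RC.twist (h : RC z a f p u t) : RC z a f p u (t * z) := by
  have k : ∀ x, z * x = x * z → t * z * x * (t * z)⁻¹ = t * x * t⁻¹ := fun x hx => by
    rw [mul_assoc t, hx]; group
  refine ⟨h.toRH, by rw [← mul_assoc, h.zt], by rw [k f h.zf, h.tf], ?_, ?_, by rw [k u h.zu, h.tu]⟩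
  · rw [mul_assoc, ← mul_assoc z, h.zt, mul_assoc, h.z2, mul_one, h.tt]
  · rw [mul_assoc, h.zp, ← mul_assoc, h.tp, mul_assoc]

theorem C0_twist : C0 z a f p u (t * z) = C0 z a f p u t := by
  have k : ∀ t, z ∈ C0 z a f p u t ∧ t ∈ C0 z a f p u t := fun t =>
    ⟨subset_closure (by simp), subset_closure (by simp)⟩
  have k2 : ∀ t t', t' ∈ C0 z a f p u t → C0 z a f p u t' ≤ C0 z a f p u t := fun t t' h => by
    refine (closure_le _).2 ?_
    rintro _ (rfl | rfl | rfl | rfl | rfl | rfl)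
    exacts [subset_closure (by simp), subset_closure (by simp), subset_closure (by simp),
      subset_closure (by simp), subset_closure (by simp), h]
  exact le_antisymm (k2 _ _ (mul_mem (k t).2 (k t).1))
    (k2 _ _ (by simpa using mul_mem (k (t * z)).2 (inv_mem (k (t * z)).1)))

theorem Ext.twist (h : Ext z a f p u t e) : Ext z a f p u (t * z) e := by
  refine ⟨h.ez, h.ea, h.ef, h.ep, h.eu, h.ee, ?_, by rw [C0_twist]; exact h.cent⟩
  convert h.et using 1
  rw [commutatorElement_def, commutatorElement_def, mul_assoc t, ← h.ez]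
  group

end twist

theorem TC0.exists_TP {z a f p u t m : G} (h : TC0 z a f p u t m) : ∃ g : ℕ → G, TP g := by
  obtain ⟨R, M⟩ := h.toRC.exists_mod h.ne 1
  have B := M.toBase
  have h1 : T1 (tg z a f p u t 1) m := by
    refine ⟨h.m2, h.mz, fun x hx => B.mem_R0 (h.mR x (M.genL_le B.dR hx) (B.comm_R0 hx).1) ?_,
      by rw [show (m * tg z a f p u t 1 1) ^ 3 = 1 from h.mx]; exact one_mem _⟩
    have e : x * z = z * x := (B.comm_R0 hx).2
    show m * x * m⁻¹ * p = p * (m * x * m⁻¹)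
    rw [← h.mz]
    calc _ = m * (x * z) * m⁻¹ := by group
      _ = _ := by rw [e]; group
  obtain ⟨m', h2, h3⟩ : ∃ m', T1 (tg z a f p u t 1) m' ∧ m' * a * m'⁻¹ = cf f 1 p := by
    obtain ⟨k, k1, k2, hk | hk⟩ := h.ma
    · refine h1.exists_q B (e := xcf k (.gen 13)) hk (getN 0 [0, 0, 5, 1, 4] k) ?_
      interval_cases k <;> decide +kernel
    · refine h1.exists_q B (e := .mul (xcf k (.gen 13)) (.gen 14)) hk (getN 0 [0, 32, 21, 17, 36] k) ?_
      interval_cases k <;> decide +kernel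
  obtain ⟨r, h4, h5, h6 | h6⟩ := h2.exists_r B h3
  · obtain ⟨R', M'⟩ := h.toRC.exists_mod h.ne r
    exact ⟨tg z a f p u t r, T1.sat M'.toBase ⟨h4.m2, h4.mz, h4.nor, h4.cube⟩ h5 h6, h.ne, h.odd,
      h.cent⟩
  · obtain ⟨R', M'⟩ := h.toRC.twist.exists_mod h.ne r
    have e : genL (gR (tg z a f p u (t * z) r)) = genL (gR (tg z a f p u t 1)) :=
      le_antisymm (fun x hx => B.mem_R0 (C0_twist.le (M'.genL_le M'.toBase.dR hx))
        (M'.toBase.comm_R0 hx).1)
        fun x hx => M'.toBase.mem_R0 (C0_twist.ge (M.genL_le B.dR hx)) (B.comm_R0 hx).1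
    refine ⟨tg z a f p u (t * z) r, T1.sat M'.toBase ⟨h4.m2, h4.mz, e ▸ h4.nor, e ▸ h4.cube⟩ h5 h6,
      h.ne, h.odd, h.cent.imp (fun hc => hc.trans C0_twist.symm) fun ⟨e, he⟩ => ⟨e, he.twist⟩⟩

end Cfsg.Lib.Ngrp.Ti
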