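import Cfsg.Agent.Ngrp.TitsWFact
import Cfsg.Agent.Ngrp.TitsWCert
import Cfsg.Agent.Char.BSQuat
import Cfsg.Agent.Bender.CoreBasic2
import Cfsg.Agent.Perm.Icosa
import Cfsg.Agent.Gold.PrBase

/-! A group containing the amalgam with the smaller centralizer has a subgroup `A₅`. -/

set_option autoImplicit false
set_option maxRecDepth 100000

namespace Cfsg.Lib.Ngrp.Ti

open Subgroup Cfsg.Lib.Trans Cfsg.Lib.Spor Cfsg.Lib.Spor.Bulk Cfsg.Lib.Fus.Grp

variable {G : Type*} [Group G] [Finite G] {R : ℕ → G → Prop} {g : ℕ → G}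

theorem exists_sylow_five (hG : Nat.card G = 17971200) {z f t : G} (z2 : z * z = 1) (z1 : z ≠ 1)
    (hf : orderOf f = 5) (zf : z * f = f * z) (zt : z * t = t * z) (t4 : t ^ 4 = 1)
    (tf : t * f * t⁻¹ = f * f)
    (hc : ∀ c ∈ centralizer {z}, c ∈ centralizer {f} → c ^ 5 ∈ zpowers z) :
    ∃ P : Subgroup G, Nat.card P = 25 ∧ f ∈ P ∧ (∀ e ∈ P, z * e * z⁻¹ ∈ P) ∧
      ∀ e ∈ P, t * e * t⁻¹ ∈ P := by
  have : Fact (Nat.Prime 5) := ⟨by norm_num⟩
  have hz := Geo.isPGroup_zpowers_two z2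
  obtain ⟨K, k1, k2, k3, -⟩ := Char.exists_odd_complement_of_cyclic (centralizer {f}) (mc.2 zf) hz
    fun P h1 h2 h3 => by
      by_contra h4
      obtain ⟨n, ⟨n1, n2⟩, n3⟩ := SetLike.exists_of_lt
        (lt_inf_normalizer h2 (lt_of_le_not_ge (zpowers_le.2 h3) h4))
      rw [Geo.normalizer_zpowers_eq z2] at n2
      obtain ⟨k, hk⟩ := h2 ⟨n, n1⟩
      exact n3 (zpowers_le.2 (hc n n2 (h1 n1)) (mem_zpowers_pow_iff.2
        ((Nat.Coprime.pow_right k (by norm_num : Nat.Coprime 5 2)).coprime_dvd_right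
          (orderOf_dvd_of_pow_eq_one (x := n) (congrArg Subtype.val hk)))))
  have h5 : IsPGroup 5 (zpowers f) := IsPGroup.of_card (n := 1) (by rw [Nat.card_zpowers, hf]; rfl)
  have hN : ∀ c, c * f * c⁻¹ ∈ zpowers f → c ∈ Gold.Ns K ⊓ Gold.Ns (zpowers f) := fun c e => by
    have h1 : c ∈ normalizer (zpowers f : Set G) := mem_normalizer_fintype fun y hy => by
      obtain ⟨k, rfl⟩ := mem_zpowers_iff.1 hy
      rw [← conj_zpow]; exact zpow_mem e k
    refine ⟨mem_normalizer_fintype fun y hy => (k1 _).2 ⟨?_, ?_⟩, h1⟩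
    · obtain ⟨k, hk⟩ := mem_zpowers_iff.1 ((mem_normalizer_iff.1 (inv_mem h1) f).1 (mem_zpowers f))
      refine (OF.conj_mem_iff (a := f ^ k) (by rw [hk]; group)).2 (mc.2 ?_)
      exact (Commute.zpow_right (mc.1 ((k1 y).1 hy).1) k).eq
    · rw [show c * y * c⁻¹ = MulAut.conj c y from rfl, MulEquiv.orderOf_eq]; exact ((k1 y).1 hy).2
  have hT : zpowers z ⊔ zpowers t ≤ Gold.Ns K ⊓ Gold.Ns (zpowers f) :=
    sup_le (zpowers_le.2 (hN z (by rw [zf, mul_inv_cancel_right]; exact mem_zpowers f)))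
      (zpowers_le.2 (hN t (tf ▸ mul_mem (mem_zpowers f) (mem_zpowers f))))
  have ht : IsPGroup 2 (zpowers t) := fun y => ⟨2, by
    obtain ⟨_, k, rfl⟩ := y
    refine Subtype.ext (show (t ^ k) ^ 4 = 1 from ?_)
    rw [← zpow_natCast, ← zpow_mul, mul_comm, zpow_mul, zpow_natCast, t4, one_zpow]⟩
  obtain ⟨P, p1, p2, p3⟩ := Bender.exists_inv_sylow k2 (Gold.isPGroup_sup_of_comm hz ht
    (zpowers_le.2 (mem_centralizer_iff.2 fun y hy => by
      obtain ⟨k, rfl⟩ := mem_zpowers_iff.1 hy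
      exact (Commute.zpow_left zt.symm k).eq))) (hT.trans inf_le_left)
    (zpowers_le.2 ((k1 f).2 ⟨mc.2 rfl, by rw [hf]; decide⟩)) h5 (hT.trans inf_le_right)
  refine ⟨P, ?_, p2 (mem_zpowers f),
    fun e => (mem_normalizer_iff.1 (p3 (mem_sup_left (mem_zpowers z))) e).1,
    fun e => (mem_normalizer_iff.1 (p3 (mem_sup_right (mem_zpowers t))) e).1⟩
  obtain ⟨S, hS⟩ := h5.exists_le_sylow
  have c1 : Nat.card S = 5 ^ 2 := by
    rw [S.card_eq_multiplicity, hG, show (17971200 : ℕ) = 5 ^ 2 * 718848 by norm_num,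
      Nat.factorization_mul (by norm_num) (by norm_num), Nat.Prime.factorization_pow (by norm_num),
      Finsupp.add_apply, Finsupp.single_eq_same, Nat.factorization_eq_zero_of_not_dvd (by norm_num)]
  have c2 : (S : Subgroup G) ≤ centralizer {f} := fun s hs => mc.2 (congrArg Subtype.val
    ((IsPGroup.isMulCommutative_of_card_eq_prime_sq c1).is_comm.comm ⟨s, hs⟩ ⟨f, hS (mem_zpowers f)⟩))
  have c3 := card_dvd_of_le c2
  rw [c1, k3, orderOf_eq_prime (by rwa [sq]) z1] at c3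
  have c4 := (Nat.Coprime.dvd_of_dvd_mul_right (by norm_num) c3)
  rw [← card_mul_relIndex p1.le] at c4
  have c5 := (((Nat.Prime.coprime_iff_not_dvd (by norm_num)).2 p1.not_dvd).pow_left 2).dvd_of_dvd_mul_right c4
  have c6 := (isSylowIn_top S).card_le p1.isPGroup le_top
  have := Nat.le_of_dvd Nat.card_pos c5
  omega

theorem exists_five {z f t : G} (z2 : z * z = 1) (hf : orderOf f = 5) (zf : z * f = f * z)
    (zt : z * t = t * z) (hz : Nat.card (centralizer ({z} : Set G)) = 10240)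
    {P : Subgroup G} (c1 : Nat.card P = 25) (fP : f ∈ P) (zP : ∀ e ∈ P, z * e * z⁻¹ ∈ P)
    (tP : ∀ e ∈ P, t * e * t⁻¹ ∈ P) : ∃ e, orderOf e = 5 ∧ e * f = f * e ∧ z * e * z⁻¹ = e⁻¹ ∧
      t * e * t⁻¹ ∈ zpowers e := by
  have : Fact (Nat.Prime 5) := ⟨by norm_num⟩
  have cm : ∀ a ∈ P, ∀ b ∈ P, a * b = b * a := fun a ha b hb => congrArg Subtype.val
    ((IsPGroup.isMulCommutative_of_card_eq_prime_sq (p := 5) c1).is_comm.comm ⟨a, ha⟩ ⟨b, hb⟩)
  let I : Subgroup G :=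
    { carrier := {e | e ∈ P ∧ z * e * z⁻¹ = e⁻¹}
      one_mem' := ⟨one_mem _, by group⟩
      mul_mem' := fun {a b} ha hb => ⟨mul_mem ha.1 hb.1, by
        rw [← conj_mul, ha.2, hb.2, ← mul_inv_rev, cm a ha.1 b hb.1]⟩
      inv_mem' := fun {a} ha => ⟨inv_mem ha.1, by rw [← conj_inv, ha.2]⟩ }
  obtain ⟨c, hc, hc'⟩ := SetLike.not_le_iff_exists.1 fun h : P ≤ centralizer {z} => by
    have := card_dvd_of_le h
    rw [c1, hz] at this
    omega
  have e1 : z * c * z⁻¹ * c⁻¹ ∈ I := ⟨mul_mem (zP c hc) (inv_mem hc), by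
    rw [inv_eq_of_mul_eq_one_right z2, mul_inv_rev, mul_inv_rev, mul_inv_rev,
      inv_eq_of_mul_eq_one_right z2, ← mul_assoc, ← mul_assoc, ← mul_assoc, z2]; group⟩
  have e2 : z * c * z⁻¹ * c⁻¹ ≠ 1 := fun e =>
    hc' (mc.2 (mul_inv_eq_iff_eq_mul.1 (mul_inv_eq_one.1 e)).symm)
  generalize z * c * z⁻¹ * c⁻¹ = e at e1 e2
  have e3 : I < P := lt_of_le_of_ne (fun _ h => h.1) fun h => by
    have h1 := (show f ∈ I from h ▸ fP).2
    rw [zf, mul_inv_cancel_right, eq_inv_iff_mul_eq_one, ← sq, ← orderOf_dvd_iff_pow_eq_one,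
      hf] at h1
    omega
  have e4 := card_lt_of_lt e3
  have e5 := card_dvd_of_le e3.le
  have e6 := card_dvd_of_le (zpowers_le.2 e1)
  have e7 : orderOf e ≠ 1 := by simpa using e2
  rw [Nat.card_zpowers] at e6
  rw [c1] at e4 e5
  obtain ⟨i, hi, e8⟩ := (Nat.dvd_prime_pow (by norm_num : Nat.Prime 5) (m := 2)).1 e5
  have e9 : orderOf e = 5 ∧ Nat.card I = 5 := by
    rw [e8] at e6
    interval_cases i
    · exact (e7 (Nat.dvd_one.1 e6)).elim
    · exact ⟨((Nat.dvd_prime (by norm_num)).1 e6).resolve_left e7, e8⟩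
    · omega
  refine ⟨e, e9.1, cm e e1.1 f fP, e1.2, ?_⟩
  rw [eq_of_le_of_card_ge (zpowers_le.2 e1) (by rw [Nat.card_zpowers, e9.1, e9.2])]
  refine ⟨tP e e1.1, ?_⟩
  rw [conj_inv, ← e1.2, ← mul_assoc, ← mul_assoc, zt, mul_assoc, ← mul_inv_rev, zt]; group

theorem exists_icosa {b c : G} (hb : b * b = 1) (hc : c ^ 3 = 1) (h : (b * c) ^ 5 = 1) (h1 : b ≠ 1)
    (hG : 60 < Nat.card G) : ∃ H : Subgroup G, H ≠ ⊤ ∧ ¬ Group.IsSolvable H := by
  have mb : b ∈ closure {b, c} := subset_closure (by simp)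
  have mc : c ∈ closure {b, c} := subset_closure (by simp)
  have gen : ∀ K : Subgroup (closure {b, c} : Subgroup G), ⟨b, mb⟩ ∈ K → ⟨c, mc⟩ ∈ K → K = ⊤ :=
    fun K k1 k2 => eq_top_iff.2 fun x _ => by
      obtain ⟨y, hy, e⟩ := (closure_le (K.map (closure {b, c}).subtype)).2 (by
        rintro _ (rfl | rfl)
        exacts [⟨_, k1, rfl⟩, ⟨_, k2, rfl⟩]) x.2
      exact Subtype.ext e ▸ hy
  refine ⟨closure {b, c}, fun e => ?_, fun hs => ?_⟩
  · have := (Perm.card_le_of_icosa (Γ := closure {b, c}) (x := ⟨c, mc⟩)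
      (y := (⟨b, mb⟩ * ⟨c, mc⟩)⁻¹) (z := 1) one_pos (fun K k1 k2 _ => gen K (by
        simpa only [inv_inv, mul_inv_cancel_right] using mul_mem (inv_mem k2) (inv_mem k1)) k1) (Subtype.ext hc)
      (by rw [inv_pow, inv_eq_one]; exact Subtype.ext h) (by simp) (by simp) (by simp)
      (by rw [mul_inv_rev, mul_inv_cancel_left, inv_pow, inv_eq_one, sq]; exact Subtype.ext hb)).2
    rw [e, card_top] at this
    omega
  · have : Nontrivial (closure {b, c} : Subgroup G) := ⟨⟨⟨b, mb⟩, 1, by simpa using h1⟩⟩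
    refine (Group.IsSolvable.commutator_lt_top_of_nontrivial (closure {b, c} : Subgroup G)).ne ?_
    obtain ⟨B, hB⟩ : ∃ B, B = Abelianization.of (⟨b, mb⟩ : closure {b, c}) := ⟨_, rfl⟩
    obtain ⟨C, hC⟩ : ∃ C, C = Abelianization.of (⟨c, mc⟩ : closure {b, c}) := ⟨_, rfl⟩
    have e1 : B ^ 2 = 1 := by rw [hB, ← map_pow, ← map_one Abelianization.of, sq]; congr 1; exact Subtype.ext hb
    have e2 : C ^ 3 = 1 := by rw [hC, ← map_pow, ← map_one Abelianization.of]; congr 1; exact Subtype.ext hc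
    have e3 : (B * C) ^ 5 = 1 := by
      rw [hB, hC, ← map_mul, ← map_pow, ← map_one Abelianization.of]; congr 1; exact Subtype.ext h
    have e4 : B = 1 := by
      have : B * (B ^ 2) ^ 7 * (C ^ 3) ^ 5 = ((B * C) ^ 5) ^ 3 := by
        simp only [mul_pow, ← pow_mul, ← pow_succ']
      simpa [e1, e2, e3] using this
    have e5 : C = 1 := by
      have : C * (C ^ 3) ^ 3 = ((B * C) ^ 5) ^ 2 := by
        simp only [e4, one_mul, ← pow_mul, ← pow_succ']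
      simpa [e2, e3] using this
    rw [← Abelianization.ker_of]
    exact gen _ (hB.symm.trans e4) (hC.symm.trans e5)

namespace TM

variable (h : TM g R)
include h

omit [Finite G] in
theorem cent_f {c : G} (hc : c ∈ centralizer {g 14}) (hf : c ∈ centralizer {g 15}) :
    ∃ j < 5, c = g 15 ^ j ∨ c = g 15 ^ j * g 14 := by
  obtain ⟨j, hj, s, hs, rfl⟩ := h.B.mem_C0 (h.cent ▸ hc)
  obtain ⟨d, h1, h2⟩ := h.B.forall_S0 all_cf s hs
  rw [(cmW_iff h.K h1 (h.B.lt 15 rfl)).2 ((mul_mem_cancel_left (pow_mem (mc.2 rfl) j)).1 hf)] at h2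
  simp only [Bool.not_true, Bool.false_or, Bool.or_eq_true] at h2
  exact ⟨j, hj, h2.imp (fun e => by rw [h.K.beq h1 h.K.one e, mul_one])
    fun e => by rw [h.K.beq h1 (h.B.lt 14 rfl) e]⟩

omit [Finite G] in
theorem five {φ : G} (hφ : φ ∈ centralizer {g 14}) (h5 : orderOf φ = 5)
    (e1 : wv g [14, 13, 12, 6] * φ * (wv g [14, 13, 12, 6])⁻¹ = φ⁻¹)
    (e2 : wv g [13, 11, 6, 2] * φ * (wv g [13, 11, 6, 2])⁻¹ ∈ zpowers φ) :
    ∃ W ∈ [[7], [12, 10, 7], [13, 12, 10, 7], [13, 7]],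
      wv g W * g 15 * wv g W.reverse ∈ zpowers φ := by
  have a1 := h.B.wv (L := [14, 13, 12, 6]) rfl
  have a2 := h.B.wv (L := [13, 11, 6, 2]) rfl
  have a3 := h.B.wv (L := [3, 6, 11, 13]) rfl
  have b1 : wv g [14, 13, 12, 6] * wv g [14, 13, 12, 6] = 1 :=
    h.K.beq (h.K.mul a1 a1) h.K.one (by decide +kernel)
  rw [codes_inv h.K a2 a3 (by decide +kernel)] at a3
  generalize wv g [14, 13, 12, 6] = a at *
  obtain ⟨c, h1, h2⟩ := h.exists_code (mul_mem (h.mem a1) hφ) (by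
    rw [inv_eq_of_mul_eq_one_right b1] at e1
    rw [← mul_assoc, e1, inv_mul_cancel]) fun e => by
      have := orderOf_dvd_of_pow_eq_one (show φ ^ 2 = 1 by
        rw [← inv_eq_of_mul_eq_one_right e, inv_pow, sq, b1, inv_one])
      rw [h5] at this
      omega
  have h3 := allL_iff.1 all_five c (List.mem_append.2 h2)
  have h4 := h.K.mul a1 h1
  rw [← mul_assoc, b1, one_mul] at h4
  obtain ⟨k, hk⟩ := mem_zpowers_iff.1 e2
  have h7 : Nat.beq (mu (wc [14, 13, 12, 6]) c) o = false :=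
    Bool.eq_false_iff.2 fun e => by simp [h.K.beq h4 h.K.one e] at h5
  rw [fiveB, frc_eq, (h.K.beq_iff (codes_pw h.K h4 5) h.K.one).2 (h5 ▸ pow_orderOf_eq_one φ),
    (cmW_iff h.K h4 (h.K.mul (h.K.mul a2 h4) a3)).2 (mc.2 (hk ▸ Commute.self_zpow φ k)), h7] at h3
  simp only [Bool.not_true, Bool.false_or, Bool.or_false, Bool.not_eq_true', ← Bool.not_eq_true,
    allL_iff, not_forall, not_not, memB_iff, List.mem_map] at h3
  obtain ⟨W, hW, i, -, e⟩ := h3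
  have h6 := (by decide : ∀ W ∈ [[7], [12, 10, 7], [13, 12, 10, 7], [13, 7]],
    (∀ l ∈ W, okC l = true) ∧ ∀ l ∈ W.reverse, okC l = true) W hW
  exact ⟨W, hW, (h.K.eq_iff (codes_pw h.K h4 i) (h.K.mul (h.K.mul (h.B.wv (allL_iff.2 h6.1))
    (h.B.lt 15 rfl)) (h.B.wv (allL_iff.2 h6.2)))).2 e ▸ pow_mem (mem_zpowers φ) i⟩

theorem exists_comm (ah : AH G) : ∃ W ∈ [[7], [12, 10, 7], [13, 12, 10, 7], [13, 7]],
    g 17 * g 15 * (g 17)⁻¹ * (wv g W * g 15 * wv g W.reverse) * (g 17 * g 15 * (g 17)⁻¹)⁻¹ ∈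
      centralizer {g 15} := by
  have : Fact (Nat.Prime 5) := ⟨by norm_num⟩
  have c := h.B.rc
  have hf : orderOf (g 15) = 5 :=
    orderOf_eq_prime c.f5 (h.one ▸ h.B.ne (.gen 15) (.gen 0) (by decide +kernel))
  obtain ⟨P, p1, p2, p3, p4⟩ := exists_sylow_five (h.of.card_eq ah) h.z2 h.tp.ne hf c.zf c.zt
    ((h.B.eq (.pow (.gen 2) 4) (.gen 0) (by decide +kernel)).trans h.one) c.tf fun x h1 h2 => by
      obtain ⟨j, -, rfl | rfl⟩ := h.cent_f h1 h2
      · rw [← pow_mul, mul_comm, pow_mul, c.f5, one_pow]; exact one_mem _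
      · rw [(Commute.pow_left c.zf.symm j).mul_pow, ← pow_mul, mul_comm, pow_mul, c.f5, one_pow,
          one_mul]
        exact pow_mem (mem_zpowers _) 5
  obtain ⟨e, e1, e2, e3, e4⟩ := exists_five h.z2 hf c.zf c.zt h.card p1 p2 p3 p4
  have e5 : e ^ 5 = 1 := e1 ▸ pow_orderOf_eq_one e
  have e6 : g 6 * g 14 * e * (g 6 * g 14)⁻¹ = e⁻¹ := by
    classical
    have h1 := e4
    rw [mem_zpowers_iff_mem_range_orderOf, e1] at h1
    obtain ⟨j, hj, h2⟩ := Finset.mem_image.1 h1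
    have h3 : g 6 * g 14 * e * (g 6 * g 14)⁻¹ = e ^ (j * j) := by
      rw [pow_mul, h2, conj_pow, h2, ← c.tt]; group
    have h4 : e ^ (j * j) ≠ e := fun h4 => by
      have := orderOf_dvd_natCard (⟨e, mc.2 (mul_inv_eq_iff_eq_mul.1 (h3.trans h4)).symm⟩ :
        centralizer {g 6 * g 14})
      rw [← orderOf_coe, e1, Block.card_centralizer_eq_of_isConj h.conj_az, h.of.card_y ah] at this
      omega
    have h5 : e ≠ 1 := fun e => by simp [e] at e1
    rw [h3, eq_inv_iff_mul_eq_one, ← pow_succ]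
    rw [Finset.mem_range] at hj
    interval_cases j
    · exact (h5 (by simpa using h2.symm)).elim
    · simp at h4
    · exact e5
    · rw [show 3 * 3 + 1 = 5 * 2 from rfl, pow_mul, e5, one_pow]
    · exact (h4 (by rw [show 4 * 4 = 5 * 3 + 1 from rfl, pow_succ, pow_mul, e5, one_pow,
        one_mul])).elim
  have e7 : e ∈ centralizer {g 6} := by
    rw [← e3, mul_inv_rev, show g 6 * g 14 * e * ((g 14)⁻¹ * (g 6)⁻¹) =
      g 6 * (g 14 * e * (g 14)⁻¹) * (g 6)⁻¹ by group, e3, mul_inv_eq_iff_eq_mul] at e6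
    exact inv_mem_iff.1 (mc.2 e6.symm)
  obtain ⟨w, hw⟩ : ∃ w, w = g 17 * g 15 * (g 17)⁻¹ := ⟨_, rfl⟩
  have w1 : w⁻¹ * g 6 * w⁻¹⁻¹ = g 14 := by
    rw [← h.rq, ← h.fp, ← h.of.rp, hw]; group
  have w2 : w⁻¹ * g 14 * w⁻¹⁻¹ = wv g [14, 13, 12, 6] := by
    have h1 := h.tp.cr_wv (W := [14, 13, 12, 7]) (by decide)
    have h2 : (g 15)⁻¹ * g 13 * g 15 = wv g [14, 13, 12, 7] := h.K.beq (h.K.mul (h.B.ec
      (e := .mul (.inv (.gen 15)) (.gen 13)) rfl) (h.B.lt 15 rfl)) (h.B.wv rfl) (by decide +kernel)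
    have h3 : wv g ([14, 13, 12, 7].map sgm) = wv g [14, 13, 12, 6] :=
      h.K.beq (h.B.wv rfl) (h.B.wv rfl) (by decide +kernel)
    rw [← h3, ← h1, ← h2, ← h.of.rp, hw]; group
  have w3 : w⁻¹ * g 2 * w⁻¹⁻¹ = wv g [13, 11, 6, 2] := by
    have h1 := h.tp.cr_wv (W := [14, 10, 7, 4]) (by decide)
    have h2 : (g 15)⁻¹ * g 4 * g 15 = wv g [14, 10, 7, 4] := h.K.beq (h.K.mul (h.B.ec
      (e := .mul (.inv (.gen 15)) (.gen 4)) rfl) (h.B.lt 15 rfl)) (h.B.wv rfl) (by decide +kernel)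
    have h3 : g 17 * g 4 * (g 17)⁻¹ = g 2 := h.tp.cr (b := 3) (by decide) (by decide)
    refine Eq.trans ?_ h1
    rw [← h2, ← h3, hw]; group
  obtain ⟨W, hW, h1⟩ := h.five ((OF.conj_mem_iff w1).2 e7)
    (by rw [show w⁻¹ * e * w⁻¹⁻¹ = MulAut.conj w⁻¹ e from rfl, MulEquiv.orderOf_eq, e1])
    (by rw [← w2, conj_inv, conj_mul, conj_mul, e3, conj_inv])
    (by
      obtain ⟨k, hk⟩ := mem_zpowers_iff.1 e4
      rw [← w3, conj_inv, conj_mul, conj_mul, ← hk, ← conj_zpow]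
      exact zpow_mem (mem_zpowers _) k)
  obtain ⟨k, hk⟩ := mem_zpowers_iff.1 h1
  refine ⟨W, hW, ?_⟩
  rw [← hk, ← hw, conj_zpow, show w * (w⁻¹ * e ^ k * w⁻¹⁻¹) * w⁻¹ = e ^ k by group]
  exact zpow_mem (mc.2 e2) k

omit [Finite G] in
theorem sat {W : List ℕ} (h1 : wv g W.reverse = (wv g W)⁻¹)
    (h2 : g 17 * g 15 * (g 17)⁻¹ * (wv g W * g 15 * wv g W.reverse) * (g 17 * g 15 * (g 17)⁻¹)⁻¹ ∈
      centralizer {g 15}) : Sat g 18 tiIota (tiR ++ [[17, 16, 17] ++ W.reverse ++ [16] ++ W ++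
        [17, 15, 17, 16, 17, 16, 17] ++ W.reverse ++ [15] ++ W ++ [17, 15, 17, 15]]) := by
  refine ⟨h.one, h.tp.sat.inv, fun L hL => (List.mem_append.1 hL).elim (h.tp.sat.rel L) fun e => ?_⟩
  have e1 : g 16 = (g 15)⁻¹ := h.tp.sat.inv 15 (by norm_num)
  have e2 := (mc.1 h2).symm
  rw [← mul_inv_eq_one, h1] at e2
  simp only [mul_inv_rev, inv_inv, inv_eq_of_mul_eq_one_right h.tp.r2, mul_assoc] at e2
  simpa only [List.mem_singleton.1 e, wv_append, wv_cons, wv_nil, one_mul, h1, e1, mul_assoc] using e2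

theorem exists_nonsolvable (ah : AH G) : ∃ H : Subgroup G, H ≠ ⊤ ∧ ¬ Group.IsSolvable H := by
  have hL : ∀ l ∈ ([1, 2, 3, 4, 5, 6, 7, 8, 9, 10, 11, 12, 13, 14, 15, 16] : List ℕ),
      g l ∈ centralizer {g 14} := fun l hl => h.mem (h.B.lt l (by revert l; decide))
  have hr : wv g [17] ∉ centralizer {g 14} := fun e => h.of.pz (by
    rw [← h.rz, mul_inv_eq_iff_eq_mul]; simpa using mc.1 e)
  obtain ⟨W, hW, h1⟩ := h.exists_comm ah
  have h6 := (by decide : ∀ W ∈ [[7], [12, 10, 7], [13, 12, 10, 7], [13, 7]],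
    (∀ l ∈ W, okC l = true) ∧ ∀ l ∈ W.reverse, okC l = true) W hW
  have h2 := h.sat (codes_inv h.K (h.B.wv (allL_iff.2 h6.1)) (h.B.wv (allL_iff.2 h6.2))
    (by clear h1 h6; revert W; decide +kernel)) h1
  simp only [List.mem_cons, List.not_mem_nil, or_false] at hW
  rcases hW with rfl | rfl | rfl | rfl
  rotate_left
  · exact (hr (cq1 h2 forall_mem_nil' hL _ (by decide +kernel))).elim
  · exact (hr (cq2 h2 forall_mem_nil' hL _ (by decide +kernel))).elim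
  · exact (hr (cq3 h2 forall_mem_nil' hL _ (by decide +kernel))).elim
  have h3 := cq0 h2 forall_mem_nil' hL
  obtain ⟨V, hV⟩ : ∃ V, V = (List.replicate 5 [1, 17, 2, 16, 17, 15, 3]).flatten := ⟨_, rfl⟩
  have a0 := h3 V (hV ▸ by decide +kernel)
  have a1 := h3 ([17, 15, 17] ++ V ++ [17, 16, 17]) (hV ▸ by decide +kernel)
  have a2 := h3 ([17, 15, 17, 15] ++ V ++ [16, 17, 16, 17]) (hV ▸ by decide +kernel)
  have a3 := h3 ([17, 15, 17, 15, 17] ++ V ++ [17, 16, 17, 16, 17]) (hV ▸ by decide +kernel)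
  have e1 : g 16 = (g 15)⁻¹ := h.tp.sat.inv 15 (by norm_num)
  have e2 : g 3 = (g 2)⁻¹ := h.tp.sat.inv 2 (by norm_num)
  have ri := inv_eq_of_mul_eq_one_right h.tp.r2
  have e3 : wv g V = (((g 2)⁻¹ * g 15) * g 17 * ((g 2)⁻¹ * g 15)⁻¹ * (g 17 * g 1)) ^ 5 := by
    rw [hV, wv_replicate]; simp [e1, e2, mul_assoc]
  have w1 : g 17 * g 15 * g 17 * g 14 * (g 17 * g 15 * g 17)⁻¹ = g 6 := by
    rw [← h.rq, ← h.fp, ← h.rz]; group
  have key : ∀ {d y : G}, d * g 14 * d⁻¹ = y → d⁻¹ * wv g V * d ∈ centralizer {g 14} →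
      wv g V ∈ centralizer {y} := fun e m => by simpa [mul_assoc] using (OF.conj_mem_iff e).2 m
  have b1 := key w1 (by simpa [e1, ri, mul_assoc] using a1)
  have b2 := key (d := g 15 * (g 17 * g 15 * g 17)) (y := g 15 * g 6 * (g 15)⁻¹)
    (by rw [← w1]; group) (by simpa [e1, ri, mul_assoc] using a2)
  have b3 := key (d := g 17 * (g 15 * (g 17 * g 15 * g 17)))
    (y := g 17 * (g 15 * g 6 * (g 15)⁻¹) * (g 17)⁻¹)
    (by rw [← w1]; group) (by simpa [e1, ri, mul_assoc] using a3)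
  have b4 : wv g V ∈ centralizer {g 15} := by
    have e : g 15 = (g 6 * (g 15 * g 6 * (g 15)⁻¹)) ^ 2 := h.B.eq (.gen 15) (.pow (.mul (.gen 6) (.mul (.mul (.gen 15) (.gen 6))
      (.inv (.gen 15)))) 2) (by decide +kernel)
    refine mc.2 (Eq.symm (mc.1 ?_))
    exact e ▸ pow_mem (mul_mem (mc.2 (mc.1 b1).symm) (mc.2 (mc.1 b2).symm)) 2
  refine exists_icosa (b := ((g 2)⁻¹ * g 15) * g 17 * ((g 2)⁻¹ * g 15)⁻¹) (c := g 17 * g 1)
    (by rw [conj_mul, h.tp.r2]; group) h.of.rx ?_ (fun e => hr ?_) (by rw [h.of.card_eq ah]; norm_num)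
  · rw [← e3]
    obtain ⟨j, hj, e⟩ := h.cent_f a0 b4
    have hj := codes_pw h.K (h.B.lt 15 rfl) j
    rcases e with e | e <;> rw [e] at b1 b3 ⊢
    · rw [← cmW_iff h.K hj (h.B.lt 6 rfl)] at b1
      obtain rfl : j = 0 := by revert b1; interval_cases j <;> decide +kernel
      exact pow_zero _
    · rw [← cmW_iff h.K (h.K.mul hj (h.B.lt 14 rfl)) (h.B.lt 6 rfl)] at b1
      obtain rfl : j = 0 := by revert b1; interval_cases j <;> decide +kernel
      rw [pow_zero, one_mul, ← h.of.rp, OF.conj_mem_iff rfl,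
        ← cmW_iff h.K (h.B.lt 13 rfl) (h.B.cjc (l := 15) rfl (h.B.lt 6 rfl))] at b3
      exact absurd b3 (by decide +kernel)
  · simp [conj_eq_one_iff.1 e]

end TM

theorem TP.main (h : TP g) (ah : AH G)
    (hc : centralizer {g 14} = C0 (g 14) (g 6) (g 15) (g 13) (g 10) (g 2)) :
    Nat.card G = 17971200 ∧ ∃ H : Subgroup G, H ≠ ⊤ ∧ ¬ Group.IsSolvable H :=
  let ⟨_, M⟩ := h.exists_mod
  ⟨(TM.mk h M hc).of.card_eq ah, (TM.mk h M hc).exists_nonsolvable ah⟩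

end Cfsg.Lib.Ngrp.Ti
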