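import Cfsg.Agent.Ngrp.TitsM2
import Cfsg.Agent.Trans.TransferTools

/-! The amalgam with a centralizer of order 20480 does not occur in a group without subgroup of
index two. -/

set_option autoImplicit false
set_option maxRecDepth 100000
set_option Elab.async false

namespace Cfsg.Lib.Ngrp.Ti

open Subgroup Cfsg.Lib.Spor Cfsg.Lib.Spor.Bulk Cfsg.Lib.Fus.Grp Cfsg.Lib.Trans
open scoped commutatorElement

/-- the permutation inducing the outer automorphism -/
def xE : ℕ := 167139379297658817850774464015399749325671929639251771363142747726787502716891901669073978900480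

/-- conjugation by `xE` -/
noncomputable def xEta (c : ℕ) : ℕ := mu (mu xE c) xE

/-- conjugates of `p` -/
def xP : List (ℕ × ℕ × ℕ) := [
  (0x1412c3e9181e104488f0370e6348c82f8b4190142588c2090e0c8aa169361183c1b81e0a0a002800, 0, 0),
  (0x4d88248800438963e80a398dc2d0460f0d22a8a04105a4b0781b86423050320be0c828078143c118, 0, 1),
  (0x4d8823e9181e096488f0398dc2d0462f8d2190a04108c4b10e0c8aa168503203c1b8280781402800, 1, 0),
  (0x1412c48800439043e80a370e6348c80f0b42a8142585a208781b86423136118be0c81e0a0a03c118, 1, 1),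
  (0x4d8823e9181e0964880a398dc348c82f8b42a8144105a4b10e1b864230501183c0c81e0a0a03c000, 2, 0),
  (0x1412c48800439043e8f0370e62d0460f0d2190a02588c208780c8aa16936320be1b8280781402918, 2, 1),
  (0x1412c489181e0963e8f0398dc2d0c80f0d2190a04105a2090e1b8aa23136118be0c81e0a01402800, 3, 0),
  (0x4d8823e800439044880a370e6348462f8b42a8142588c4b0780c864168503203c1b828078a03c118, 3, 1),
  (0x4d92c3e918438964880a370e6348460f0b4190a04108c208781b8aa16850320be0c81e0a0143c000, 4, 0),
  (0x14082488001e1043e8f0398dc2d0c82f8d22a8142585a4b10e0c864231361183c1b828078a002918, 4, 1)]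

/-- conjugates of `y` -/
def xY : List (ℕ × ℕ × ℕ) := [
  (0x4d92c488001e0963e8f0370e6348462f8b42a8a04105a2090e0c864230503203c1b81e0a01402918, 0, 0),
  (0x1412c3e80043896488f0398dc348462f8b4190144105a208781b8aa231363203c0c828078a002918, 0, 2),
  (0x140823e918439044880a398dc2d0c80f0d2190142588c4b0781b8aa16936118be0c828078a03c000, 0, 4),
  (0x4d882489181e1043e80a370e62d0c80f0d22a8a02588c4b10e0c86416850118be1b81e0a0143c000, 0, 3),
  (0x4d88248800438963e8f0398dc348c80f0b4190144108c4b0780c8aa16850118be1b81e0a0a002918, 1, 0),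
  (0x4d92c3e8001e104488f0398dc2d0460f0d22a8142588c2090e1b86416850320be0c81e0a0a002918, 1, 2),
  (0x1412c3e9181e1044880a370e62d0462f8d22a8a02585a2090e1b864231363203c0c828078143c000, 1, 4),
  (0x1408248918438963e80a370e6348c82f8b4190a04105a4b0780c8aa231361183c1b828078143c000, 1, 3),
  (0x4d8823e80043904488f0370e62d0c82f8d2190a02585a4b0781b8aa230501183c0c81e0a01402918, 2, 0),
  (0x4d92c488001e0963e80a370e62d0c82f8d2190144108c2090e1b8aa168501183c0c828078a03c118, 2, 2),
  (0x1412c489181e0963e80a398dc348460f0b42a8144108c2090e0c86416936320be1b828078a03c000, 2, 4),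
  (0x140823e91843904488f0398dc348460f0b42a8a02585a4b0780c86423136320be1b81e0a01402800, 2, 3),
  (0x4d92c3e8001e1044880a398dc348c80f0b4190a02585a2090e0c8aa23050118be1b828078143c118, 3, 0),
  (0x1412c3e800438964880a398dc2d0c82f8d22a8a04108c208780c864169361183c1b81e0a0143c118, 3, 2),
  (0x1408248918438963e8f0370e62d0462f8d22a8144108c4b0781b864169363203c0c81e0a0a002800, 3, 4),
  (0x4d882489181e1043e8f0370e6348460f0b4190142585a4b10e1b8aa23050320be0c828078a002800, 3, 3),
  (0x140823e8001e096488f0370e6348c80f0b42a8a04108c4b10e1b86416936118be0c8280781402918, 4, 0),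
  (0x14082488001e1043e80a398dc348462f8b4190a02588c4b10e1b8aa169363203c0c81e0a0143c118, 4, 2),
  (0x4d92c48918439043e80a398dc2d0462f8d2190142585a208780c8aa230503203c1b81e0a0a03c000, 4, 4),
  (0x4d92c3e91843896488f0370e62d0c80f0d22a8144105a208780c86423050118be1b828078a002800, 4, 3)]

/-- conjugates of `a z` -/
def xA : List (ℕ × ℕ × ℕ) := [
  (0x280be2a9180a104190b40c86e028c84b0f0489362588c0f01e370fa16814118823990e1e05034800, 0, 0),
  (0x488d24d8464385a140be398dc4b0003c08205064230962d0781b8a0410fa4600a0c828078aa0f0c8, 0, 1),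
  (0x1912c051041b918280f0078283485a2f8b4140fa000462083243936320aa2303c1e0dc3992202896, 0, 4),
  (0x2803c2a91807904190d21b8323c0c82080a489362588c2f828398fa168141192c37078438502d000, 0, 16),
  (0x50be19118079042a8b41b832028c84b0f03e8502588c0f02839922168a011882370784393634800, 0, 128),
  (0x4d8f04888c370c83e92c1e10e2f9043483c2a8a011918028e60786400050258b40a0321b8142085a, 0, 5),
  (0x2a92c281040c918050f00a01e3485a2f8b44d922000462086e1e050320642303c438e6370fa02896, 0, 6),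
  (0x3e8d2140c84388c4d8be398dc4b1183c082280aa169042d0781b814259220000a0c828078640f046, 0, 17),
  (0x503c191180a1042a8d20c86e3c0c82080a3e8502588c2f81e37122168a01192c3990e1e1362d000, 0, 18),
  (0x2a92c280961b800050f0078283488c2f8b44d922460c82083243850118641683c1e0dc398fa02904, 0, 20),
  (0x488b44d8c84388c1403c398dc209180292c0506416904348781b8a0258fa000f00c828078aa2f846, 0, 129),
  (0x4d80a4885a370463e8821e10e0f0962d0be2a8a0320003c0e60786446050410d20a0321b8144b08c, 0, 7),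
  (0x3e8b4140464385a4d83c398dc208000292c280aa23096348781b81441122460f00c828078642f8c8, 0, 19),
  (0x4d80a4888c398c83e882438780f1042d0be2a8a0119183c0dc0a06400050258d20786e0c8144b05a, 0, 21),
  (0x1912c050960c800280f00a01e3488c2f8b4140fa460c82086e1e136118aa1683c438e63712202904, 0, 148),
  (0x4d8f04885a398463e92c438782f8963483c2a8a032000028dc0a06446050410b40786e0c8142088c, 0, 149),
  (0x3c0321e1183e864439361688c118b42f8c8258a02a8dc1b922209043980a3483c4b0280781414000, 1, 0),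
  (0x3992c34814119042d08c4d850488780a0fa2a800258f0208c81b864028dc4381e0c8be0f118168a0, 1, 1),
  (0x4d896118282d082320f0398dc1e0fa2810e0c8be4b08c410d21906e16850488142a9180003c0281e, 1, 4),
  (0x286e1e1183e8aa438502305a118b42f8c8410a0190e60c9224b096370f03483c20828078144d800, 1, 16),
  (0x3c06e43918488aa1e1361688c320d22f846410a0190dc0c8fa4b0963980a2d03c208280781414000, 1, 128),
  (0x168644883c4386e3e8dc028f0348c8000b4208280c8502a8784112c4d88c11918258a00501e398be, 1, 5),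
  (0x4d904320283492c118f0398dc43922280781b8be2088c258b42a832168503e814191180003c0281e, 1, 6),
  (0x3992c2d0a0321043488c4d8503e90e079222a918258f0208461b864028dc1e0280c83c2f80016814, 1, 17),
  (0x283243918488641e0502305a320d22f846258a02a8e61b8fa20904370f02d03c4b028078144d800, 1, 18),
  (0x4d8963201e34882118f0398dc43922050780c83c4b08c410b41906e168503e8a02a800460be02828, 1, 20),
  (0x3712c348a0119042d05a1413648878078fa2a9182580a208c81b8643c0e6438280c83c2f80023014, 1, 129),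
  (0x23064488be4386e3e8e63c00a348c8460b42081e0c9362a8784112c1405a1180025814280283703c, 1, 7),
  (0x3712c2d014321043485a141363e90e0a1222a8002580a208461b8643c0e61e01e0c8be0f118230a0, 1, 19),
  (0x230aa4883c438323e8e63c00a348c8000b44b0281b93619078258821405a11918410a00501e370be, 1, 21),
  (0x4d9041181e2d12c320f0398dc1e0fa0510e1b83c2088c258d22a83216850488a019000460be02828, 1, 148),
  (0x168aa488be438323e8dc028f0348c8460b44b01e1b85019078258824d88c1180041014280283983c, 1, 149),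
  (0x3205a079184110e0a0a0398dc349360c8b42a8f01e082230960f0644b0461406e2f8fa4880a05000, 2, 0),
  (0xf12c488d23c0143e90e190aa4603214000370962808c2080a118e6168be1b93632028079041e0b4, 2, 1),
  (0x4d9224b064280f0209042d0d2370c82f8e60010e028283e8141b918078501183c0c88c16878258aa, 2, 4),
  (0x1188c0a1184110e078a0398dc348501b8b42a8f01e12c168962f864208c84d8320f1223e80a05000, 2, 16),
  (0x3208c0a1182587807814398dc349360c8b42a80a4392c169040f064208461406e2f9223e8f028000, 2, 128),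
  (0x1b81e230dc43904168f0001182a8be32064348a0259220a0784d8b43e8320f046140824b014028e6, 2, 5),
  (0x4d8fa208640500a4b0962d0d2370c82f8e6000783c01e488a01b9180a0501183c0c85a2310e410aa, 2, 6),
  (0xf12c488b4028a03e8782a8640003214118399040508c208f0118dc168be1b9363202807896438d2, 2, 17),
  (0x1185a07918258780a014398dc348501b8b42a80a43882231042f8644b0c84d8320f0fa488f028000, 2, 18),
  (0x4d9224b0aa0500a20896348b4398c82f8dc460783c0283e8a01b800078501183c0c88c1690e41064, 2, 20),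
  (0x2f92c488b43c0143e90e2a8640006e4d918398962808c2080a320dc1683c0c85011828079041e0d2, 2, 129),
  (0xc81e230e643904168f0460001903c118aa2d0a0259220a078140d23e86e2f8c84d8824b014028dc, 2, 7),
  (0x2f92c488d2028a03e878190aa4606e4d800371040508c208f0320e61683c0c8501182807896438b4, 2, 19),
  (0xc828168dc43904230f0001182a83c11864348a0258fa07878140b44886e2f8c84d92c20814028e6, 2, 21),
  (0x4d8fa208aa280f04b104348b4398c82f8dc4610e0281e488141b8000a0501183c0c85a2307825864, 2, 148),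
  (0x1b828168e643904230f046000190be320aa2d0a0258fa078784d8d2488320f0461412c20814028dc, 2, 149),
  (0x2d0e648918190283e8f04b082140a0169361e0c80783c370aa1b90e2f8d20508c0c9042584602800, 3, 0),
  (0x410a01b80a439360c800118c80a0dc2f81e2a92c1408c0507848864168963983c3e8d22d082460f0, 3, 1),
  (0xa12c000fa230b446032398dc258c82a9042f8a03490e2085a0283c1e01e118643c136140141b922, 3, 4),
  (0x2d0dc489182a8283e8f02092c140142313643846078be398641b8780f0d22805a0c904258c802800, 3, 16),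
  (0x348e6489182a81e3e8f04b0824d8a023050438c80a0be370641b8780f0b40505a0c8964104602800, 3, 128),
  (0x4d8460286e2f9043c0fa2801434882438b4168e6258643203c4608c2a8504b07800028078dc48832, 3, 5),
  (0x792c000fa168d246032398dc410c8190960f0a02d0782088c028be43828118aa3c0504d8141b922, 3, 6),
  (0x258a00c8f0438501b918118c8078dc2f8282a92c4d88c050783e864169043983c488b4348820000a, 3, 17),
  (0x348dc489181901e3e8f02092c4d814168501e0460a03c398aa1b90e2f8b42808c0c896410c802800, 3, 18),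
  (0x792c46122230d20006e398dc410c82a8962f8a02d10e2085a3c03c1e02811864028504d8140c8fa, 3, 20),
  (0x410140c8f0439361b918320460a0e62f81e2a8821408c280783e864168963703c488d22d12c0000a, 3, 129),
  (0x4d8c83c0322f90402922050a03492c438b4168dc258641183c0008c2a8502087846028078e63e86e, 3, 7),
  (0x258141b80a438500c80032046078e62f8282a8824d88c2807848864169043703c3e8b43492c460f0, 3, 19),
  (0x4d8c80286e0f1043c0fa050a03492c1e0b4230dc258aa118be4605a190502090e00028078e648832, 3, 21),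
  (0xa12c46122168b40006e398dc258c8191040f0a0348782088c3c0be4381e118aa02936140140c8fa, 3, 148),
  (0x4d8463c0320f1040292228014348821e0b4230e6258aa320be0005a190504b10e46028078dc3e86e, 3, 149),
  (0x4d92c25918438fa410c82f83c050f0398a0078b44886e20878230280c850028dc168642a8d211800, 4, 0),
  (0x10e488504b1043e8aa398dc230282f85a3c06e258d21e0822800a2d1180783c050c81183219136, 4, 1),
  (0x4b1363990e4603c37028488fa34864258b4118a02f88c140001b8c8168822a9040c8f00281407878, 4, 4),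
  (0x4d92c4111843922258c80f0be280f037014078d23e83220878168281b850028e6230642a8b411800, 4, 16),
  (0x4d92c4111843922258460f0be0500a370a00a0b43e86e208782301e0c8503c0e6168aa190d232000, 4, 128),
  (0x438002f8824d8e60f0f0410961b8c8488322a88c370a0460503486405078118fa2d0280785a0292c, 4, 5),
  (0x4b1363710e460be3981e3e922348aa410b4320a00f08c140001b84616882190960c80a3c0140a078, 4, 6),
  (0x4607848936209043e864398dc2301e2f85a0286e258d24392c280f02d0000a03c05046320322a850, 4, 17),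
  (0x4d92c25918438fa410462f83c2800a398140a0d248832208781681e1b8503c0dc230aa190b432000, 4, 18),
  (0x20850398780003c3701e488fa348aa258b4320a02f88c4d9181b8461692c191040c80a3c0140a10e, 4, 20),
  (0x4607848936209043e8aa398dc168282f88c3c032258b44392c0500a348000783c280c81186e19050, 4, 129),
  (0x1e1182f92c140e60f0f0410960c8c84886e2a85a37014001362d0642810e118fa348280788c02882, 4, 7),
  (0x10e488504b1043e864398dc1681e2f88c02832258b41e082050f0349180a03c280463206e2a936, 4, 19),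
  (0x438000f0824d8dc2f8f0259040c8c83e86e2a85a39814460502d0642807811922348280788c0292c, 4, 21),
  (0x2085037078000be398283e92234864410b4118a00f08c4d9181b8c81692c2a8960c8f0028140790e, 4, 148),
  (0x1e1180f12c140dc2f8f0259041b8c83e8322a88c398a000136348640510e119222d0280785a02882, 4, 149)]

/-- each entry is a conjugate of `x` -/
noncomputable def xCls (x : ℕ) (T : List (ℕ × ℕ × ℕ)) : Bool :=
  allL (fun e => frc (evM mu (gS tc) e.2.2 (pwc (tc 15) e.2.1)) fun h =>
    Nat.beq (mu e.1 h) (mu h x)) T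

/-- the code occurs in the table -/
noncomputable def xMem (w : ℕ) (T : List (ℕ × ℕ × ℕ)) : Bool := PK.anyL T fun e => Nat.beq e.1 w

variable {G : Type*} [Group G] {R : ℕ → G → Prop} {g : ℕ → G}

/-- the group of order 10240 generated by the letters -/
abbrev xC (g : ℕ → G) : Subgroup G := C0 (g 14) (g 6) (g 15) (g 13) (g 10) (g 2)

theorem xCls_sound (M : Mod g R) {c w : ℕ} {x y : G} (hx : R c x) (hy : R w y)
    {T : List (ℕ × ℕ × ℕ)} (h : xCls c T = true) (hw : xMem w T = true) :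
    ∃ k ∈ xC g, y = k * x * k⁻¹ := by
  obtain ⟨e, he, h1⟩ := (PK.anyL_iff _ _).1 hw
  obtain rfl : e.1 = w := Nat.eq_of_beq_eq_true h1
  have h2 := allL_iff.1 h e he
  rw [frc_eq] at h2
  obtain ⟨s, -, h3⟩ := M.codes.evM_sound M.dS e.2.2 (codes_pw M.codes (M.lt 15 rfl) e.2.1)
  exact ⟨_, M.mem h3, eq_mul_inv_of_mul_eq (M.codes.beq (M.codes.mul hy h3) (M.codes.mul h3 hx) h2)⟩

theorem xEta_sound (M : Mod g R) {e : G} {L : Set G}
    (hL : ∀ x ∈ L, ∃ c, R c x ∧ R (xEta c) (e * x * e⁻¹)) {x : G} (hx : x ∈ closure L) {c : ℕ}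
    (hc : R c x) : R (xEta c) (e * x * e⁻¹) := by
  obtain ⟨π, hπ⟩ : ∃ π, Dn xE π := PK.exists_den_of_isPerm ctx32 (by decide +kernel)
  have hππ : π = π⁻¹ := codes_inv codesP hπ hπ (by decide +kernel)
  obtain ⟨ρ, -, -, hρ⟩ := M.exists_rho
  have hd : ∀ {d σ}, Dn d σ → Dn (xEta d) (π * σ * π⁻¹) := fun hd =>
    hππ ▸ codesP.mul (codesP.mul hπ hd) hπ
  have key : ∃ (h : x ∈ xC g) (h' : e * x * e⁻¹ ∈ xC g), ρ ⟨_, h'⟩ = π * ρ ⟨x, h⟩ * π⁻¹ := by
    clear hc
    induction hx using closure_induction with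
    | mem y hy =>
      obtain ⟨d, h1, h2⟩ := hL y hy
      obtain ⟨h3, h4⟩ := (hρ _ _).1 h1
      obtain ⟨h5, h6⟩ := (hρ _ _).1 h2
      exact ⟨h3, h5, (codesP.eq_iff h6 (hd h4)).2 rfl⟩
    | one => exact ⟨one_mem _, by simp, by simp [show (⟨1, one_mem _⟩ : xC g) = 1 from rfl]⟩
    | mul y z _ _ hy hz =>
      obtain ⟨h1, h2, h3⟩ := hy
      obtain ⟨h4, h5, h6⟩ := hz
      have e1 : e * (y * z) * e⁻¹ = e * y * e⁻¹ * (e * z * e⁻¹) := by group
      refine ⟨mul_mem h1 h4, e1 ▸ mul_mem h2 h5, ?_⟩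
      have e2 : (⟨e * (y * z) * e⁻¹, e1 ▸ mul_mem h2 h5⟩ : xC g) = ⟨_, h2⟩ * ⟨_, h5⟩ :=
        Subtype.ext e1
      rw [e2, show (⟨y * z, mul_mem h1 h4⟩ : xC g) = ⟨y, h1⟩ * ⟨z, h4⟩ from rfl, map_mul, map_mul,
        h3, h6]
      group
    | inv y _ hy =>
      obtain ⟨h1, h2, h3⟩ := hy
      have e1 : e * y⁻¹ * e⁻¹ = (e * y * e⁻¹)⁻¹ := by group
      refine ⟨inv_mem h1, e1 ▸ inv_mem h2, ?_⟩
      have e2 : (⟨e * y⁻¹ * e⁻¹, e1 ▸ inv_mem h2⟩ : xC g) = ⟨_, h2⟩⁻¹ := Subtype.ext e1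
      rw [e2, show (⟨y⁻¹, inv_mem h1⟩ : xC g) = ⟨y, h1⟩⁻¹ from rfl, map_inv, map_inv, h3]
      group
  obtain ⟨h1, h2, h3⟩ := key
  obtain ⟨h4, h5⟩ := (hρ _ _).1 hc
  exact (hρ _ _).2 ⟨h2, h3 ▸ hd h5⟩

/-- The relations involving the letter `r`. -/
structure XR (g : ℕ → G) : Prop where
  rr : g 17 * g 17 = 1
  rt : g 17 * g 2 * g 17 = g 4
  rs : g 17 * g 4 * g 17 = g 2
  ra : g 17 * g 6 * g 17 = g 7
  rq : g 17 * g 7 * g 17 = g 6
  rk : g 17 * g 8 * g 17 = g 8 * g 12 * g 13 * g 14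
  ru : g 17 * g 10 * g 17 = g 11
  rv : g 17 * g 11 * g 17 = g 10
  ry : g 17 * g 12 * g 17 = g 12
  rp : g 17 * g 13 * g 17 = g 14
  rz : g 17 * g 14 * g 17 = g 13
  rx : (g 17 * g 1) ^ 3 = 1

theorem TP.xr (h : TP g) : XR g := by
  have i := h.sat.inv
  have i1 : g 1 = (g 1)⁻¹ := i 1 (by norm_num)
  have i3 : g 3 = (g 2)⁻¹ := i 2 (by norm_num)
  have i5 : g 5 = (g 4)⁻¹ := i 4 (by norm_num)
  have i6 : g 6 = (g 6)⁻¹ := i 6 (by norm_num)
  have i7 : g 7 = (g 7)⁻¹ := i 7 (by norm_num)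
  have i9 : g 9 = (g 8)⁻¹ := i 8 (by norm_num)
  have i10 : g 10 = (g 10)⁻¹ := i 10 (by norm_num)
  have i11 : g 11 = (g 11)⁻¹ := i 11 (by norm_num)
  have i12 : g 12 = (g 12)⁻¹ := i 12 (by norm_num)
  have i13 : g 13 = (g 13)⁻¹ := i 13 (by norm_num)
  have i14 : g 14 = (g 14)⁻¹ := i 14 (by norm_num)
  have i17 : g 17 = (g 17)⁻¹ := i 17 (by norm_num)
  have k : ∀ a b, [a, 17, b, 17] ∈ tiR → g 17 * g b * g 17 = (g a)⁻¹ := fun a b hab =>
    eq_inv_of_mul_eq_one_left (by simpa [wv] using h.sat.rel _ hab)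
  have k8 := h.sat.rel [9, 12, 13, 14, 17, 8, 17] (by decide)
  have k1 := h.sat.rel [1, 17, 1, 17, 1, 17] (by decide)
  simp only [wv, one_mul] at k8 k1
  refine ⟨mul_eq_one_iff_eq_inv.2 i17, by rw [k 5 2 (by decide), i5, inv_inv],
    by rw [k 3 4 (by decide), i3, inv_inv], by rw [k 7 6 (by decide), ← i7],
    by rw [k 6 7 (by decide), ← i6], ?_, by rw [k 11 10 (by decide), ← i11],
    by rw [k 10 11 (by decide), ← i10], by rw [k 12 12 (by decide), ← i12],
    by rw [k 14 13 (by decide), ← i14], by rw [k 13 14 (by decide), ← i13], ?_⟩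
  · rw [i9, mul_inv_eq_one, ← eq_mul_inv_iff_mul_eq, ← i12, ← eq_mul_inv_iff_mul_eq, ← i13,
      ← eq_mul_inv_iff_mul_eq, ← i14] at k8
    exact k8
  · rw [← k1, pow_three]; simp only [mul_assoc]

theorem XR.mem_R0 (X : XR g) {x : G} (hx : x ∈ genL (gR g)) : g 17 * x * g 17 ∈ genL (gR g) := by
  have hr : (g 17)⁻¹ = g 17 := inv_eq_of_mul_eq_one_right X.rr
  have m : ∀ l ∈ [2, 4, 6, 7, 8, 10, 11, 12, 13, 14], g l ∈ genL (gR g) := fun l hl =>
    mem_genL (List.mem_map_of_mem (f := g) hl)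
  induction hx using closure_induction with
  | mem y hy =>
    simp only [gR, Set.mem_ofPred_eq, List.mem_cons, List.not_mem_nil, or_false] at hy
    rcases hy with rfl | rfl | rfl | rfl | rfl | rfl | rfl | rfl | rfl | rfl
    · rw [X.rt]; exact m _ (by decide)
    · rw [X.rs]; exact m _ (by decide)
    · rw [X.ra]; exact m _ (by decide)
    · rw [X.rq]; exact m _ (by decide)
    · rw [X.rk]
      exact mul_mem (mul_mem (mul_mem (m _ (by decide)) (m _ (by decide))) (m _ (by decide)))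
        (m _ (by decide))
    · rw [X.ru]; exact m _ (by decide)
    · rw [X.rv]; exact m _ (by decide)
    · rw [X.ry]; exact m _ (by decide)
    · rw [X.rp]; exact m _ (by decide)
    · rw [X.rz]; exact m _ (by decide)
  | one => rw [mul_one, X.rr]; exact one_mem _
  | mul y z _ _ hy hz =>
    have : g 17 * (y * z) * g 17 = g 17 * y * g 17 * (g 17 * z * g 17) := by
      rw [show g 17 * y * g 17 * (g 17 * z * g 17) = g 17 * y * (g 17 * g 17) * z * g 17 by group,
        X.rr]; group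
    exact this ▸ mul_mem hy hz
  | inv y _ hy =>
    have := inv_mem hy
    rwa [mul_inv_rev, mul_inv_rev, hr, ← mul_assoc] at this

theorem XR.comm (X : XR g) {e a : G} (h : e * a = a * e) :
    g 17 * e * g 17 * (g 17 * a * g 17) = g 17 * a * g 17 * (g 17 * e * g 17) := by
  have k : ∀ y z : G, g 17 * y * g 17 * (g 17 * z * g 17) = g 17 * (y * z) * g 17 := fun y z => by
    rw [show g 17 * y * g 17 * (g 17 * z * g 17) = g 17 * y * (g 17 * g 17) * z * g 17 by group,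
      X.rr]; group
  rw [k, k, h]

theorem mem_zpowers_two {z x : G} (hz : z * z = 1) (hx : x ∈ zpowers z) : x = 1 ∨ x = z := by
  obtain ⟨n, rfl⟩ := mem_zpowers_iff.1 hx
  have h2 : z ^ (2 : ℤ) = 1 := by rw [zpow_two, hz]
  rcases Int.even_or_odd' n with ⟨k, rfl | rfl⟩
  · left; rw [zpow_mul, h2, one_zpow]
  · right; rw [zpow_add, zpow_mul, h2, one_zpow, one_mul, zpow_one]

section

variable {e : G}

theorem Ext.eta_H (he : Ext (g 14) (g 6) (g 15) (g 13) (g 10) (g 2) e) (M : Mod g R) :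
    ∀ x ∈ ({g 14, g 6, g 15, g 13, g 10} : Set G), ∃ c, R c x ∧ R (xEta c) (e * x * e⁻¹) := by
  have k : ∀ l, okC l = true → Nat.beq (xEta (tc l)) (tc l) = true → e * g l = g l * e →
      ∃ c, R c (g l) ∧ R (xEta c) (e * g l * e⁻¹) := fun l hl h1 h2 =>
    ⟨_, M.lt l hl, by
      rw [Nat.eq_of_beq_eq_true h1, h2, mul_inv_cancel_right]; exact M.lt l hl⟩
  rintro _ (rfl | rfl | rfl | rfl | rfl)
  · exact k 14 rfl (by decide +kernel) he.ez
  · exact k 6 rfl (by decide +kernel) he.ea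
  · exact k 15 rfl (by decide +kernel) he.ef
  · exact k 13 rfl (by decide +kernel) he.ep
  · refine ⟨_, M.lt 10 rfl, ?_⟩
    rw [he.eu, Nat.eq_of_beq_eq_true (show Nat.beq (xEta (tc 10)) (mu (tc 10) (tc 13)) = true by
      decide +kernel)]
    exact M.codes.mul (M.lt 10 rfl) (M.lt 13 rfl)

theorem Ext.conj_mem (he : Ext (g 14) (g 6) (g 15) (g 13) (g 10) (g 2) e) {x : G} (hx : x ∈ xC g) :
    e * x * e⁻¹ ∈ xC g := by
  have m : ∀ y ∈ ({g 14, g 6, g 15, g 13, g 10, g 2} : Set G), y ∈ xC g := fun y hy =>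
    subset_closure hy
  induction hx using closure_induction with
  | mem y hy =>
    rcases hy with rfl | rfl | rfl | rfl | rfl | rfl
    · rw [he.ez, mul_inv_cancel_right]; exact m _ (by simp)
    · rw [he.ea, mul_inv_cancel_right]; exact m _ (by simp)
    · rw [he.ef, mul_inv_cancel_right]; exact m _ (by simp)
    · rw [he.ep, mul_inv_cancel_right]; exact m _ (by simp)
    · rw [he.eu]; exact mul_mem (m _ (by simp)) (m _ (by simp))
    · have h1 : ⁅g 2, e⁆ ∈ xC g := (zpowers_le.2 (m _ (by simp))) he.et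
      have := mul_mem (inv_mem h1) (m (g 2) (by simp))
      rwa [commutatorElement_def, show (g 2 * e * (g 2)⁻¹ * e⁻¹)⁻¹ * g 2 = e * g 2 * e⁻¹ by group]
        at this
  | one => simp
  | mul y z _ _ hy hz => simpa [mul_assoc] using mul_mem hy hz
  | inv y _ hy => simpa [mul_assoc] using inv_mem hy

theorem Ext.sq_mem (he : Ext (g 14) (g 6) (g 15) (g 13) (g 10) (g 2) e) : e * e ∈ xC g :=
  (zpowers_le.2 (subset_closure (by simp))) he.ee

theorem Ext.mem_iff (he : Ext (g 14) (g 6) (g 15) (g 13) (g 10) (g 2) e) {x : G} :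
    x ∈ centralizer {g 14} ↔ x ∈ xC g ∨ e⁻¹ * x ∈ xC g := by
  rw [he.cent]
  exact mem_sup_zpowers_iff (fun b hb => he.conj_mem hb) he.sq_mem

theorem Ext.conj_mem' (he : Ext (g 14) (g 6) (g 15) (g 13) (g 10) (g 2) e) {b x : G}
    (hb : b ∈ centralizer {g 14}) (hx : x ∈ xC g) : b * x * b⁻¹ ∈ xC g := by
  rcases he.mem_iff.1 hb with h | h
  · exact mul_mem (mul_mem h hx) (inv_mem h)
  · have := he.conj_mem (mul_mem (mul_mem h hx) (inv_mem h))
    rwa [show e * (e⁻¹ * b * x * (e⁻¹ * b)⁻¹) * e⁻¹ = b * x * b⁻¹ by group] at this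

theorem Ext.mul_mem (he : Ext (g 14) (g 6) (g 15) (g 13) (g 10) (g 2) e) {x y : G}
    (hx : x ∈ centralizer {g 14}) (hy : y ∈ centralizer {g 14}) (hx' : x ∉ xC g)
    (hy' : y ∉ xC g) : x * y ∈ xC g := by
  have h1 := (he.mem_iff.1 hx).resolve_left hx'
  have h2 := (he.mem_iff.1 hy).resolve_left hy'
  have := Subgroup.mul_mem _ (Subgroup.mul_mem _ (he.conj_mem h1) he.sq_mem) h2
  rwa [show e * (e⁻¹ * x) * e⁻¹ * (e * e) * (e⁻¹ * y) = x * y by group] at this

theorem Ext.not_mem (he : Ext (g 14) (g 6) (g 15) (g 13) (g 10) (g 2) e) (M : Mod g R) :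
    e ∉ xC g := fun h => by
  obtain ⟨c, h1, h2⟩ := M.forall_R0 (f := fun c => !Nat.beq (mu c (tc 15)) (mu (tc 15) c) ||
    !Nat.beq (mu c (tc 10)) (mu (mu (tc 10) (tc 13)) c)) (by decide +kernel) e (M.mem_R0 h he.ep)
  rw [(M.codes.beq_iff (M.codes.mul h1 (M.lt 15 rfl)) (M.codes.mul (M.lt 15 rfl) h1)).2 he.ef,
    (M.codes.beq_iff (M.codes.mul h1 (M.lt 10 rfl))
      (M.codes.mul (M.codes.mul (M.lt 10 rfl) (M.lt 13 rfl)) h1)).2 (by rw [← he.eu]; group)] at h2
  cases h2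

theorem xRho : allE mu (fun c => !Nat.beq (mu c (tc 6)) (mu (tc 6) c) ||
    !Nat.beq (mu c (tc 7)) (mu (tc 7) c) || !Nat.beq (mu c (tc 10)) (mu (mu (tc 10) (tc 13)) c) ||
    (PK.anyL [8, 72, 136, 200, 264, 328, 392, 456] (fun m => Nat.beq (evM mu (gQ tc) m o) c) &&
      Nat.beq (mu (xEta c) c) (mu (tc 13) (tc 14)) &&
      (Nat.beq (mu (tc 4) (xEta c)) (xEta (mu c (tc 4))) ||
        Nat.beq (mu (tc 4) (xEta c)) (mu (tc 14) (xEta (mu c (tc 4))))))) (gR tc) o = true := by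
  decide +kernel

theorem Ext.sq_comm (he : Ext (g 14) (g 6) (g 15) (g 13) (g 10) (g 2) e) (M : Mod g R) (X : XR g) :
    e * e = g 14 ∧ e * g 2 = g 2 * e := by
  have K := M.codes
  have rc := M.toBase.rc
  have hq : g 7 = cf (g 15) 1 (g 13) := M.toBase.eq_tg 1 (l := 7) (by norm_num)
  have hv : g 11 = cf (g 15) 3 (g 13) * cf (g 15) 4 (g 13) * g 14 :=
    M.toBase.eq_tg 1 (l := 11) (by norm_num)
  have hcf : ∀ k, Commute e (cf (g 15) k (g 13)) := fun k =>
    (((show Commute e (g 15) from he.ef).pow_right k).mul_right he.ep).mul_right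
      ((show Commute e (g 15) from he.ef).pow_right k).inv_right
  have eq : e * g 7 = g 7 * e := hq ▸ hcf 1
  have ev : e * g 11 = g 11 * e := hv ▸ (((hcf 3).mul_right (hcf 4)).mul_right he.ez)
  obtain ⟨E, hE⟩ : ∃ E, E = g 17 * e * g 17 := ⟨_, rfl⟩
  have hE' : e = g 17 * E * g 17 := by
    rw [hE, show g 17 * (g 17 * e * g 17) * g 17 = g 17 * g 17 * e * (g 17 * g 17) by group, X.rr]
    group
  have c1 := X.comm he.ep
  have c2 := X.comm he.ez
  have c3 := X.comm he.ea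
  have c4 := X.comm eq
  have c5 := X.comm ev
  rw [← hE] at c1 c2 c3 c4 c5
  rw [X.rp] at c1
  rw [X.rz] at c2
  rw [X.ra] at c3
  rw [X.rq] at c4
  rw [X.rv] at c5
  have hρ : e⁻¹ * E ∈ xC g := by
    refine (he.mem_iff.1 (mem_centralizer_singleton_iff.2 c1)).resolve_left fun h => ?_
    exact he.not_mem M (hE' ▸ M.genL_le M.dR (X.mem_R0 (M.mem_R0 h c2)))
  have cm : ∀ {a : G}, e * a = a * e → E * a = a * E → e⁻¹ * E * a = a * (e⁻¹ * E) := fun h1 h2 =>
    (((show Commute e _ from h1).inv_left).mul_left h2)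
  obtain ⟨c, h1, h2⟩ := M.forall_R0 xRho _ (M.mem_R0 hρ (cm he.ep c2))
  have hu : e⁻¹ * E * g 10 = g 10 * g 13 * (e⁻¹ * E) := by
    have h3 : e * (g 10 * g 13) = g 10 * e := by
      rw [← mul_assoc, ← mul_inv_cancel_right (e * g 10) e⁻¹, inv_inv, he.eu, mul_assoc _ e, he.ep,
        ← mul_assoc, mul_assoc (g 10), rc.p2, mul_one]
    rw [mul_assoc, c5, ← mul_assoc, ← mul_assoc, mul_left_inj, inv_mul_eq_iff_eq_mul, ← mul_assoc, h3,
      mul_inv_cancel_right]
  rw [(K.beq_iff (K.mul h1 (M.lt 6 rfl)) (K.mul (M.lt 6 rfl) h1)).2 (cm he.ea c4),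
    (K.beq_iff (K.mul h1 (M.lt 7 rfl)) (K.mul (M.lt 7 rfl) h1)).2 (cm eq c3),
    (K.beq_iff (K.mul h1 (M.lt 10 rfl)) (K.mul (K.mul (M.lt 10 rfl) (M.lt 13 rfl)) h1)).2 hu] at h2
  simp only [Bool.not_true, Bool.false_or, Bool.and_eq_true, Bool.or_eq_true, PK.anyL_iff] at h2
  obtain ⟨⟨⟨m, -, h3⟩, h4⟩, h5⟩ := h2
  have mH : ∀ l, okH l = true → g l ∈ H0 (g 14) (g 6) (g 15) (g 13) (g 10) := fun l hl =>
    M.toBase.toH.eq_tgH 1 1 hl ▸ tg_memH _ _ _ _ _ 1 1 hl
  have hH : e⁻¹ * E ∈ H0 (g 14) (g 6) (g 15) (g 13) (g 10) := by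
    obtain ⟨s, hs, h6⟩ := K.evM_one M.toBase.toH.dQ m
    rw [← K.beq h6 h1 h3]
    refine (closure_le _).2 (fun x hx => ?_) hs
    simp only [gQ, Set.mem_ofPred_eq, List.mem_cons, List.not_mem_nil, or_false] at hx
    rcases hx with rfl | rfl | rfl | rfl | rfl | rfl | rfl | rfl | rfl <;> exact mH _ rfl
  have η1 := xEta_sound M (he.eta_H M) hH h1
  have η2 := xEta_sound M (he.eta_H M) (Subgroup.mul_mem _ hH (mH 4 rfl)) (K.mul h1 (M.lt 4 rfl))
  have pz : g 13 ≠ g 14 := M.toBase.ne (.gen 13) (.gen 14) (by decide +kernel)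
  have p1 : g 13 ≠ 1 := fun h => by
    have := (K.beq_iff (M.lt 13 rfl) K.one).2 h
    revert this; decide +kernel
  have h6 := K.beq (K.mul η1 h1) (K.mul (M.lt 13 rfl) (M.lt 14 rfl)) h4
  constructor
  · refine (mem_zpowers_two rc.z2 he.ee).resolve_left fun h => pz ?_
    have h7 : E * E = 1 := by
      rw [hE, show g 17 * e * g 17 * (g 17 * e * g 17) = g 17 * e * (g 17 * g 17) * e * g 17 by group,
        X.rr, mul_one, mul_assoc (g 17), h, mul_one, X.rr]
    rw [show e * (e⁻¹ * E) * e⁻¹ * (e⁻¹ * E) = E * (e * e)⁻¹ * E by group, h, inv_one, mul_one,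
      h7] at h6
    rw [← mul_right_inj (g 13), rc.p2, h6]
  · have k : ∀ y z : G, g 17 * y * g 17 * (g 17 * z * g 17) = g 17 * (y * z) * g 17 := fun y z => by
      rw [show g 17 * y * g 17 * (g 17 * z * g 17) = g 17 * y * (g 17 * g 17) * z * g 17 by group,
        X.rr]; group
    rcases h5 with h5 | h5
    · have h7 := K.beq (K.mul (M.lt 4 rfl) η1) η2 h5
      have h8 : g 4 * E = E * g 4 := by
        rw [← mul_left_inj e⁻¹]
        calc g 4 * E * e⁻¹ = g 4 * (e * (e⁻¹ * E) * e⁻¹) := by group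
          _ = E * g 4 * e⁻¹ := by rw [h7]; group
      rw [hE', ← X.rs, k, k, h8]
    · have h7 := K.beq (K.mul (M.lt 4 rfl) η1) (K.mul (M.lt 14 rfl) η2) h5
      have h8 : g 4 * E = g 14 * (E * g 4) := by
        rw [← mul_left_inj e⁻¹]
        calc g 4 * E * e⁻¹ = g 4 * (e * (e⁻¹ * E) * e⁻¹) := by group
          _ = g 14 * (E * g 4) * e⁻¹ := by rw [h7]; group
      have h9 : g 2 * e = g 13 * (e * g 2) := by
        rw [hE', ← X.rs, ← X.rz, k, k, k, h8]
      have h10 : ⁅g 2, e⁆ = g 13 := by rw [commutatorElement_def, h9]; group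
      exact absurd (h10 ▸ mem_zpowers_two rc.z2 he.et) (not_or.2 ⟨p1, pz⟩)

theorem xInv : Ti.allC (gS tc) (fun c => !Nat.beq (mu (xEta c) c) (tc 14)) = true := by
  decide +kernel

theorem xSq : Ti.allC (gS tc) (fun c => frc (mu c c) fun w => Nat.beq w o ||
    !Nat.beq (mu w w) o || Nat.beq w (tc 14) || xMem w xP || xMem w xY || xMem w xA) = true := by
  decide +kernel

theorem Ext.mem_of_sq (he : Ext (g 14) (g 6) (g 15) (g 13) (g 10) (g 2) e) (M : Mod g R) (X : XR g)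
    {w : G} (hw : w ∈ centralizer {g 14}) (h : w * w = 1) : w ∈ xC g := by
  obtain ⟨h1, h2⟩ := he.sq_comm M X
  refine (he.mem_iff.1 hw).resolve_right fun h3 => ?_
  obtain ⟨c, h4, h5⟩ := M.forall_C0 xInv h3
  have η := xEta_sound M (e := e) (L := {g 14, g 6, g 15, g 13, g 10, g 2}) (by
    rintro x (hx | hx | hx | hx | hx | rfl)
    · exact he.eta_H M x (by simp [hx])
    · exact he.eta_H M x (by simp [hx])
    · exact he.eta_H M x (by simp [hx])
    · exact he.eta_H M x (by simp [hx])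
    · exact he.eta_H M x (by simp [hx])
    · refine ⟨_, M.lt 2 rfl, ?_⟩
      rw [h2, mul_inv_cancel_right, Nat.eq_of_beq_eq_true
        (show Nat.beq (xEta (tc 2)) (tc 2) = true by decide +kernel)]
      exact M.lt 2 rfl) h3 h4
  rw [(M.codes.beq_iff (M.codes.mul η h4) (M.lt 14 rfl)).2 (by
    rw [show e * (e⁻¹ * w) * e⁻¹ * (e⁻¹ * w) = w * (e * e)⁻¹ * w by group, h1,
      inv_eq_of_mul_eq_one_right M.toBase.rc.z2, mem_centralizer_singleton_iff.1 hw, mul_assoc, h,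
      mul_one])] at h5
  cases h5

theorem Ext.not_conj [Finite G] (he : Ext (g 14) (g 6) (g 15) (g 13) (g 10) (g 2) e) (M : Mod g R)
    (X : XR g) (b : G) : b * g 14 * b⁻¹ ≠ g 12 := fun h => by
  have hy : g 17 * g 1 * g 12 = g 12 * (g 17 * g 1) := by
    have h1 : g 1 * g 12 = g 12 * g 1 :=
      M.toBase.eq (.mul (.gen 1) (.gen 12)) (.mul (.gen 12) (.gen 1)) (by decide +kernel)
    have h2 : g 17 * g 12 = g 12 * g 17 := by
      rw [← mul_left_inj (g 17), X.ry, mul_assoc, X.rr, mul_one]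
    rw [mul_assoc, h1, ← mul_assoc, h2, mul_assoc]
  have hne : g 17 * g 1 ≠ 1 := fun h0 => by
    have h1 : g 1 * g 14 = g 14 * g 1 :=
      M.toBase.eq (.mul (.gen 1) (.gen 14)) (.mul (.gen 14) (.gen 1)) (by decide +kernel)
    have h2 : g 1 = g 17 := by rw [← mul_right_inj (g 17), h0, X.rr]
    refine M.toBase.ne (.gen 13) (.gen 14) (by decide +kernel) ?_
    change g 13 = g 14
    rw [← X.rz, ← h2, h1, mul_assoc, h2, X.rr, mul_one]
  obtain ⟨w, hw⟩ : ∃ w, w = b⁻¹ * (g 17 * g 1) * b := ⟨_, rfl⟩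
  have w3 : w ^ 3 = 1 := by
    rw [hw, show b⁻¹ * (g 17 * g 1) * b = b⁻¹ * (g 17 * g 1) * b⁻¹⁻¹ by rw [inv_inv], conj_pow, X.rx]
    group
  have w1 : w ≠ 1 := fun h0 => hne (by
    rw [hw] at h0
    calc g 17 * g 1 = b * (b⁻¹ * (g 17 * g 1) * b) * b⁻¹ := by group
      _ = 1 := by rw [h0]; group)
  have wc : w ∈ centralizer {g 14} := by
    rw [mem_centralizer_singleton_iff, hw]
    calc b⁻¹ * (g 17 * g 1) * b * g 14 = b⁻¹ * (g 17 * g 1 * (b * g 14 * b⁻¹)) * b := by group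
      _ = b⁻¹ * (b * g 14 * b⁻¹ * (g 17 * g 1)) * b := by rw [h, hy]
      _ = _ := by group
  have wm : w ∈ xC g := by
    by_contra h0
    have h1 := he.mul_mem wc wc h0 h0
    have h2 := Subgroup.mul_mem _ h1 h1
    rw [show w * w * (w * w) = w ^ 3 * w by simp only [pow_three, mul_assoc], w3, one_mul] at h2
    exact h0 h2
  have : Fact (Nat.Prime 3) := ⟨by norm_num⟩
  have h3 := orderOf_dvd_natCard (⟨w, wm⟩ : xC g)
  rw [M.card, ← Subgroup.orderOf_coe, orderOf_eq_prime w3 w1] at h3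
  norm_num at h3

end

theorem TP.ext_false [Finite G] (h : TP g) {e : G}
    (he : Ext (g 14) (g 6) (g 15) (g 13) (g 10) (g 2) e) (h2 : ∀ H : Subgroup G, H.index ≠ 2) :
    False := by
  obtain ⟨R, M⟩ := h.exists_mod
  have X := h.xr
  have K := M.codes
  have rc := M.toBase.rc
  obtain ⟨ee, -⟩ := he.sq_comm M X
  have e4 : e ^ 4 = 1 := by rw [show e ^ 4 = e * e * (e * e) by simp only [pow_succ, pow_zero, one_mul, mul_assoc], ee, rc.z2]
  have ho : orderOf e = 2 ^ 2 := orderOf_eq_prime_pow (n := 1) (by rw [pow_one, pow_two, ee]; exact h.ne) e4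
  obtain ⟨a, -, ha, -⟩ := thompson_transfer_subgroup (H := centralizer {g 14}) (T := xC g) h.odd
    (fun x hx y hy => by
      rw [commutatorElement_def]
      by_cases h1 : x ∈ xC g
      · simpa only [mul_assoc] using Subgroup.mul_mem _ h1 (he.conj_mem' hy (inv_mem h1))
      by_cases h3 : y ∈ xC g
      · exact Subgroup.mul_mem _ (he.conj_mem' hx h3) (inv_mem h3)
      · simpa only [mul_assoc] using Subgroup.mul_mem _ (he.mul_mem hx hy h1 h3)
          (he.mul_mem (inv_mem hx) (inv_mem hy) (fun k => h1 (inv_mem_iff.1 k))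
            (fun k => h3 (inv_mem_iff.1 k))))
    (fun x hx => ⟨1, by
      rw [pow_one, pow_two]
      by_cases h1 : x ∈ xC g
      exacts [Subgroup.mul_mem _ h1 h1, he.mul_mem hx hx h1 h1]⟩) e ⟨2, ho⟩
    (fun m hm h1 a ha => he.mem_of_sq M X ha (by
      rw [ho] at hm
      obtain ⟨k, rfl⟩ : 2 ∣ m := by
        obtain ⟨i, -, rfl⟩ := (Nat.dvd_prime_pow Nat.prime_two).1 hm
        exact dvd_pow_self 2 (by rintro rfl; exact h1 rfl)
      rw [show a⁻¹ * e ^ (2 * k) * a * (a⁻¹ * e ^ (2 * k) * a) = a⁻¹ * (e ^ 4) ^ k * a by group, e4]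
      group))
    (fun a b ha hb => he.mul_mem ha hb)
    (by rw [pResidual_two_eq_top_iff.2 h2]; simp) ⊥ IsPGroup.of_bot
    (fun r hr => by rw [mem_bot.1 hr, one_mul, mul_one])
  have sq : ∀ b : G, b * e * b⁻¹ * (b * e * b⁻¹) = b * g 14 * b⁻¹ := fun b => by rw [← ee]; group
  have cz : ∀ b : G, b * e * b⁻¹ ∈ xC g → b * g 14 * b⁻¹ ≠ g 14 := fun b hb h1 => by
    have h3 : b⁻¹ ∈ centralizer {g 14} :=
      inv_mem (mem_centralizer_singleton_iff.2 (mul_inv_eq_iff_eq_mul.1 h1))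
    have := he.conj_mem' h3 hb
    rw [show b⁻¹ * (b * e * b⁻¹) * b⁻¹⁻¹ = e by group] at this
    exact he.not_mem M this
  have hr : (g 17)⁻¹ = g 17 := inv_eq_of_mul_eq_one_right X.rr
  rw [show a⁻¹ * e * a = a⁻¹ * e * a⁻¹⁻¹ by rw [inv_inv]] at ha
  obtain ⟨c, h1, h3⟩ := M.forall_C0 xSq ha
  have h4 := K.mul h1 h1
  rw [sq] at h4
  rw [frc_eq, (K.beq_iff (K.mul h4 h4) K.one).2 (by
    rw [show a⁻¹ * g 14 * a⁻¹⁻¹ * (a⁻¹ * g 14 * a⁻¹⁻¹) = a⁻¹ * (g 14 * g 14) * a by group, rc.z2]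
    group)] at h3
  simp only [Bool.not_true, Bool.or_false, Bool.or_eq_true] at h3
  rcases h3 with (((h3 | h3) | h3) | h3) | h3
  · exact h.ne (conj_eq_one_iff.1 (K.beq h4 K.one h3))
  · exact cz _ ha (K.beq h4 (M.lt 14 rfl) h3)
  · obtain ⟨k, hk, h5⟩ := xCls_sound M (M.lt 13 rfl) h4 (by decide +kernel) h3
    have h6 : k⁻¹ * a⁻¹ * e * (k⁻¹ * a⁻¹)⁻¹ ∈ xC g := by
      simpa only [mul_assoc, mul_inv_rev, inv_inv] using
        Subgroup.mul_mem _ (Subgroup.mul_mem _ (inv_mem hk) ha) hk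
    have h7 : k⁻¹ * a⁻¹ * g 14 * (k⁻¹ * a⁻¹)⁻¹ = g 13 := by
      calc _ = k⁻¹ * (a⁻¹ * g 14 * a⁻¹⁻¹) * k := by group
        _ = _ := by rw [h5]; group
    have h8 := M.genL_le M.dR (X.mem_R0 (M.mem_R0 h6 (by rw [← h7, ← sq]; group)))
    refine cz (g 17 * (k⁻¹ * a⁻¹)) ?_ ?_
    · rw [mul_inv_rev, hr]; simpa only [mul_assoc] using h8
    · calc _ = g 17 * (k⁻¹ * a⁻¹ * g 14 * (k⁻¹ * a⁻¹)⁻¹) * (g 17)⁻¹ := by group
        _ = _ := by rw [h7, hr, X.rp]
  · obtain ⟨k, -, h5⟩ := xCls_sound M (M.lt 12 rfl) h4 (by decide +kernel) h3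
    refine he.not_conj M X (k⁻¹ * a⁻¹) ?_
    calc _ = k⁻¹ * (a⁻¹ * g 14 * a⁻¹⁻¹) * k := by group
      _ = _ := by rw [h5]; group
  · obtain ⟨k, -, h5⟩ := xCls_sound M (K.mul (M.lt 6 rfl) (M.lt 14 rfl)) h4 (by decide +kernel) h3
    obtain ⟨j, -, h6⟩ := xCls_sound M (M.lt 12 rfl) (K.mul (M.lt 7 rfl) (M.lt 13 rfl)) (T := xY)
      (by decide +kernel) (by decide +kernel)
    have h7 : g 17 * (g 6 * g 14) * (g 17)⁻¹ = g 7 * g 13 := by
      rw [← X.ra, ← X.rz, show g 17 * g 6 * g 17 * (g 17 * g 14 * g 17) =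
        g 17 * g 6 * (g 17 * g 17) * g 14 * g 17 by group, X.rr, hr]
      group
    refine he.not_conj M X (j⁻¹ * g 17 * k⁻¹ * a⁻¹) ?_
    calc _ = j⁻¹ * (g 17 * (k⁻¹ * (a⁻¹ * g 14 * a⁻¹⁻¹) * k) * (g 17)⁻¹) * j := by group
      _ = j⁻¹ * (g 17 * (g 6 * g 14) * (g 17)⁻¹) * j := by rw [h5]; group
      _ = _ := by rw [h7, h6]; group

end Cfsg.Lib.Ngrp.Ti
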