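import Cfsg.Agent.Ngrp.WrStruct

/-!
# `U₃(3)` from a character of degree seven and the order formula
-/

set_option autoImplicit false

namespace Cfsg.Lib.Ngrp.U33

open Cfsg Cfsg.Lib.Trans Cfsg.Lib.Rank2 Cfsg.Lib.Rank2.FusW Cfsg.Lib.Rank2.SylEmb
  Cfsg.Lib.Trans.Wr Cfsg.Lib.Class Cfsg.Lib.Char Cfsg.Lib.Block Subgroup

theorem nonempty_equiv_psu_of_chars {G : Type*} [Group G] [Finite G] [IsSimpleGroup G]
    (S : Sylow 2 G) (F : WrFrame S 0) (hG : ∀ H : Subgroup G, H.index ≠ 2)
    [Group.IsSolvable (centralizer ({zz S F} : Set G))] {M : Ideal AlgInt} (hM : IsPModular 2 M)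
    {χ : IrrCharacter G} (hχ : χ ∈ principalBlock M G) (h7 : (χ : G → ℂ) 1 = 7)
    (hord : Nat.card G * Nat.card (centralizer (((four F).map (S : Subgroup G).subtype :
      Subgroup G) : Set G)) ^ 2 * 4 = Nat.card (centralizer ({zz S F} : Set G)) ^ 3 * 7) :
    Nonempty (G ≃* PSU 3 GF9 3) := by
  obtain ⟨π, h, h2, hS⟩ := exists_specCls S F hG
  have hinj : Function.Injective π := by
    refine h.injective_of_degree_lt h2 χ.2.isCharacter (fun c hc => ?_) (fun g hg => ?_) (k := 5)
      (d := 7) (by rw [card_K96]; decide) (by rw [h7]; norm_num) (by decide)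
    · rw [← h.blockPart_eq hM χ.2.isClassFunction c hc]
      exact (congrFun (blockPart_irr_of_mem hχ) _).symm
    · refine χ.2.eq_one_of_apply_eq_of_isSimpleGroup (fun h1 => ?_) hg
      rw [h1] at h7
      norm_num at h7
  refine nonempty_equiv_psu_of_injective S F hG ⟨hinj, h.surj⟩ hS ?_
  have h1 : Nat.card (centralizer ({zz S F} : Set G)) = 96 := by
    rw [← card_K96]; exact Nat.card_eq_of_bijective _ ⟨hinj, h.surj⟩
  have h3 : centralizer (((four F).map (S : Subgroup G).subtype : Subgroup G) : Set G) =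
      (F.rSub ⊤).map (S : Subgroup G).subtype := by
    refine le_antisymm (fun c hc => ?_) ?_
    · have h3 := fun u hu => (mem_centralizer_map (E := ofSylow S)).1 hc (F.r u)
        ((r_mem_four F).2 hu)
      have hc1 : c ∈ centralizer ({zz S F} : Set G) :=
        mem_centralizer_singleton_iff.2 (mul_inv_eq_iff_eq_mul.1 (Eq.symm (h3 _ (by decide))))
      have h4 : π (inclusion (le_C S F) (F.r (2, 0))) =
          π ⟨c, hc1⟩ * π (inclusion (le_C S F) (F.r (2, 0))) * (π ⟨c, hc1⟩)⁻¹ := by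
        rw [← map_inv, ← map_mul, ← map_mul]
        exact congrArg π (Subtype.ext (h3 (2, 0) (by decide)))
      rw [hS, psi_r] at h4
      have h5 : ∀ k : K96, rho (2, 0) = k * rho (2, 0) * k⁻¹ → ∃ u, k = rho u := by decide +kernel
      obtain ⟨u, hu⟩ := h5 _ h4
      rw [← psi_r F, ← hS] at hu
      exact ⟨F.r u, F.r_mem_rSub.2 trivial, (congrArg Subtype.val (hinj hu)).symm⟩
    · rintro _ ⟨_, ⟨u, -, rfl⟩, rfl⟩ _ ⟨_, ⟨v, -, rfl⟩, rfl⟩
      rw [← map_mul, ← map_mul, F.r_comm_r]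
  rw [h3, card_map_of_injective (subtype_injective _), card_base, h1,
    ← (centralizer ({zz S F} : Set G)).card_mul_index, h1] at hord
  omega

end Cfsg.Lib.Ngrp.U33
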