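import Cfsg.Agent.Ngrp.MinSimpleRed
import Cfsg.Agent.Gate.S0488
import Cfsg.Agent.Class.PGL2Sub
import Cfsg.Agent.Chev.SuzukiPart
import Cfsg.Agent.S0252
import Cfsg.Agent.S0253

/-!
Minimal simple groups whose order has three prime divisors.
-/

set_option autoImplicit false

namespace Cfsg.Lib.Ngrp

theorem three_pow_mod (a : ℕ) : 3 ^ a % 80 = 3 ^ (a % 4) := by
  conv_lhs => rw [← Nat.div_add_mod a 4, pow_add, pow_mul, Nat.mul_mod, Nat.pow_mod]
  have : a % 4 < 4 := Nat.mod_lt _ (by norm_num)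
  generalize a % 4 = r at *
  interval_cases r <;> simp

theorem two_pow_add_one_eq_three_pow {a b : ℕ} (h : 2 ^ b + 1 = 3 ^ a) : b = 1 ∨ b = 3 := by
  have h1 := three_pow_mod a
  have h2 : a % 4 < 4 := Nat.mod_lt _ (by norm_num)
  by_cases hb : 4 ≤ b
  · have h3 : 16 ∣ 2 ^ b := pow_dvd_pow 2 hb
    have h4 : ¬ 5 ∣ 2 ^ b := fun h => absurd (Nat.prime_five.dvd_of_dvd_pow h) (by norm_num)
    generalize a % 4 = r at *
    interval_cases r <;> omega
  · generalize a % 4 = r at *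
    interval_cases b <;> interval_cases r <;> omega

theorem three_pow_add_one_eq_two_pow {a b : ℕ} (h : 3 ^ a + 1 = 2 ^ b) : b ≤ 2 := by
  have h1 := three_pow_mod a
  have h2 : a % 4 < 4 := Nat.mod_lt _ (by norm_num)
  by_contra hb
  have h3 : 8 ∣ 2 ^ b := pow_dvd_pow 2 (not_le.1 hb)
  generalize a % 4 = r at *
  interval_cases r <;> omega

theorem false_of_four_primes {n a b c d : ℕ} (hn : n ≠ 0) (h : n.primeFactors.card ≤ 3)
    (ha : a.Prime) (hb : b.Prime) (hc : c.Prime) (hd : d.Prime) (han : a ∣ n) (hbn : b ∣ n)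
    (hcn : c ∣ n) (hdn : d ∣ n) (hab : a ≠ b) (hac : a ≠ c) (had : a ≠ d) (hbc : b ≠ c)
    (hbd : b ≠ d) (hcd : c ≠ d) : False := by
  have h1 : ({a, b, c, d} : Finset ℕ) ⊆ n.primeFactors := by
    intro x hx
    simp only [Finset.mem_insert, Finset.mem_singleton] at hx
    rcases hx with rfl | rfl | rfl | rfl <;> exact Nat.mem_primeFactors.2 ⟨‹_›, ‹_›, hn⟩
  have h2 := Finset.card_le_card h1
  rw [Finset.card_insert_of_notMem (by simp [*]), Finset.card_insert_of_notMem (by simp [*]),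
    Finset.card_pair hcd] at h2
  omega

theorem exists_eq_pow_of_forall {n p : ℕ} (hn : n ≠ 0)
    (h : ∀ s : ℕ, s.Prime → s ∣ n → s = p) : ∃ k, n = p ^ k :=
  ⟨_, Nat.eq_prime_pow_of_unique_prime_dvd hn fun hs hd => h _ hs hd⟩

theorem three_primes_even {p n : ℕ} (hp : p.Prime) (hn : n = 2 ^ p * (2 ^ p - 1) * (2 ^ p + 1))
    (h : n.primeFactors.card ≤ 3) : p = 2 ∨ p = 3 := by
  refine or_iff_not_imp_left.2 fun hp2 => ?_
  obtain ⟨k, hk⟩ := hp.odd_of_ne_two hp2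
  have h4 : 2 ^ 2 ≤ 2 ^ p := Nat.pow_le_pow_right two_pos hp.two_le
  have h2 : 2 ∣ 2 ^ p := dvd_pow_self 2 hp.ne_zero
  have h3 : 3 ∣ 2 ^ p + 1 := by simpa using Odd.nat_add_dvd_pow_add_pow 2 1 ⟨k, hk⟩
  have hn0 : n ≠ 0 := by
    rw [hn]
    exact mul_ne_zero (mul_ne_zero (by omega) (by omega)) (by omega)
  obtain ⟨t, ht, htd⟩ := Nat.exists_prime_and_dvd (n := 2 ^ p - 1) (by omega)
  have hne : ∀ s : ℕ, s.Prime → s ∣ 2 ^ p + 1 → s ≠ 2 ∧ s ≠ t := by
    intro s hs hsd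
    have h5 : s ≠ 2 := by rintro rfl; omega
    refine ⟨h5, ?_⟩
    rintro rfl
    refine h5 ((Nat.prime_dvd_prime_iff_eq hs Nat.prime_two).1 ?_)
    have := Nat.dvd_sub hsd htd
    rwa [show 2 ^ p + 1 - (2 ^ p - 1) = 2 by omega] at this
  obtain ⟨a, ha⟩ := exists_eq_pow_of_forall (n := 2 ^ p + 1) (p := 3) (by omega) fun s hs hsd => by
    by_contra h5
    exact false_of_four_primes hn0 h Nat.prime_two ht Nat.prime_three hs
      (hn ▸ (h2.mul_right _).mul_right _) (hn ▸ (htd.mul_left _).mul_right _)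
      (hn ▸ h3.mul_left _) (hn ▸ hsd.mul_left _) (by rintro rfl; omega) (by norm_num)
      (hne s hs hsd).1.symm (hne 3 Nat.prime_three h3).2.symm (hne s hs hsd).2.symm (Ne.symm h5)
  exact (two_pow_add_one_eq_three_pow ha).resolve_left hp.one_lt.ne'

theorem three_primes_three {p n : ℕ} (hp : p.Prime) (hp2 : p ≠ 2)
    (hn : 2 * n = 3 ^ p * (3 ^ p - 1) * (3 ^ p + 1)) (h : n.primeFactors.card ≤ 3) : False := by
  have h1 := three_pow_mod p
  have h27 : 3 ^ 3 ≤ 3 ^ p := Nat.pow_le_pow_right three_pos (by have := hp.two_le; omega)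
  have h3 : 3 ∣ 3 ^ p := dvd_pow_self 3 hp.ne_zero
  have h8 : 3 ^ p % 8 = 3 := by
    have h2 := hp.eq_two_or_odd.resolve_left hp2
    have h4 : p % 4 = 1 ∨ p % 4 = 3 := by omega
    rcases h4 with h4 | h4 <;> rw [h4] at h1 <;> omega
  obtain ⟨k, hk⟩ : ∃ k, 3 ^ p = 8 * k + 3 := ⟨3 ^ p / 8, by omega⟩
  have hn' : n = 3 ^ p * (4 * k + 1) * (4 * (2 * k + 1)) := by
    have e1 : 3 ^ p - 1 = 2 * (4 * k + 1) := by omega
    have e2 : 3 ^ p + 1 = 4 * (2 * k + 1) := by omega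
    rw [e1, e2] at hn
    linarith
  obtain ⟨t, ht, htd⟩ := Nat.exists_prime_and_dvd (n := 4 * k + 1) (by omega)
  obtain ⟨s, hs, hsd⟩ := Nat.exists_prime_and_dvd (n := 2 * k + 1) (by omega)
  refine false_of_four_primes (by rw [hn']; positivity) h Nat.prime_two Nat.prime_three ht hs
    (hn' ▸ ((by norm_num : 2 ∣ 4).mul_right _).mul_left _) (hn' ▸ (h3.mul_right _).mul_right _)
    (hn' ▸ (htd.mul_left _).mul_right _) (hn' ▸ (hsd.mul_left _).mul_left _) (by norm_num)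
    (by rintro rfl; omega) (by rintro rfl; omega) (by rintro rfl; omega) (by rintro rfl; omega) ?_
  rintro rfl
  have := Nat.dvd_sub (hsd.mul_left 2) htd
  rw [show 2 * (2 * k + 1) - (4 * k + 1) = 1 by omega] at this
  exact ht.one_lt.ne' (Nat.dvd_one.1 this)

theorem three_primes_prime {p n : ℕ} (hp : p.Prime) (h5 : 5 ≤ p)
    (hn : 2 * n = p * (p - 1) * (p + 1)) (h : n.primeFactors.card ≤ 3) :
    p = 5 ∨ p = 7 ∨ p = 17 := by
  obtain ⟨k, hk⟩ := hp.odd_of_ne_two (by omega)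
  have hn' : n = p * (2 * (k * (k + 1))) := by
    have e1 : p - 1 = 2 * k := by omega
    have e2 : p + 1 = 2 * (k + 1) := by omega
    rw [e1, e2] at hn
    linarith
  have hp3 : ¬ 3 ∣ p := fun h => by
    have := (Nat.prime_dvd_prime_iff_eq Nat.prime_three hp).1 h
    omega
  have h3 : 3 ∣ k * (k + 1) := by
    have : k % 3 = 0 ∨ k % 3 = 2 := by omega
    rcases this with h | h
    · exact Dvd.dvd.mul_right (by omega) _
    · exact Dvd.dvd.mul_left (by omega) _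
  have hk0 : 0 < k := by omega
  have key : ∀ s : ℕ, s.Prime → s ∣ k * (k + 1) → s ≠ 2 → s = 3 := by
    intro s hs hsd hs2
    by_contra hs3
    refine false_of_four_primes (by rw [hn', hk]; positivity) h
      Nat.prime_two Nat.prime_three hp hs (hn' ▸ (dvd_mul_right 2 _).mul_left _)
      (hn' ▸ (h3.mul_left _).mul_left _) (hn' ▸ dvd_mul_right _ _)
      (hn' ▸ (hsd.mul_left _).mul_left _) (by norm_num) (by omega) hs2.symm (by omega)
      (Ne.symm hs3) ?_
    rintro rfl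
    rcases (Nat.Prime.dvd_mul hp).1 hsd with h | h <;>
      exact absurd (Nat.le_of_dvd (by omega) h) (by omega)
  rcases Nat.even_or_odd k with ⟨j, hj⟩ | ⟨j, hj⟩
  · obtain ⟨a, ha⟩ := exists_eq_pow_of_forall (n := k + 1) (p := 3) (by omega) fun s hs hsd =>
      key s hs (hsd.mul_left _) (by rintro rfl; omega)
    have h4 : 3 ∣ k + 1 := ha ▸ dvd_pow_self 3 (by rintro rfl; omega)
    obtain ⟨b, hb⟩ := exists_eq_pow_of_forall (n := k) (p := 2) (by omega) fun s hs hsd => by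
      by_contra h2
      obtain rfl := key s hs (hsd.mul_right _) h2
      omega
    rcases two_pow_add_one_eq_three_pow (hb ▸ ha) with rfl | rfl <;> omega
  · obtain ⟨a, ha⟩ := exists_eq_pow_of_forall (n := k) (p := 3) (by omega) fun s hs hsd =>
      key s hs (hsd.mul_right _) (by rintro rfl; omega)
    have h4 : 3 ∣ k := ha ▸ dvd_pow_self 3 (by rintro rfl; omega)
    obtain ⟨b, hb⟩ := exists_eq_pow_of_forall (n := k + 1) (p := 2) (by omega) fun s hs hsd => by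
      by_contra h2
      obtain rfl := key s hs (hsd.mul_left _) h2
      omega
    have h6 : 2 ^ b ≤ 2 ^ 2 :=
      Nat.pow_le_pow_right two_pos (three_pow_add_one_eq_two_pow (ha ▸ hb))
    omega

theorem three_primes_sz {m n : ℕ} (hm : 1 ≤ m)
    (hn : n = (2 ^ (2 * m + 1)) ^ 2 * ((2 ^ (2 * m + 1)) ^ 2 + 1) * (2 ^ (2 * m + 1) - 1))
    (h : n.primeFactors.card ≤ 3) : False := by
  have h1 := Chev.sz_tori_lt hm
  have h2 := Chev.sz_tori_coprime hm
  have h3 := Chev.sz_tori_mul (m := m)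
  have h4 : 2 ∣ 2 ^ (2 * m + 1) := dvd_pow_self 2 (by omega)
  have h5 : 2 ^ 2 ≤ 2 ^ (m + 1) := Nat.pow_le_pow_right two_pos (by omega)
  generalize 2 ^ (2 * m + 1) = q at *
  generalize 2 ^ (m + 1) = r at *
  obtain ⟨t, ht, htd⟩ := Nat.exists_prime_and_dvd (n := q - 1) (by omega)
  obtain ⟨a, ha, had⟩ := Nat.exists_prime_and_dvd (n := q + r + 1) (by omega)
  obtain ⟨b, hb, hbd⟩ := Nat.exists_prime_and_dvd (n := q - r + 1) (by omega)
  have h6 : 2 ∣ q ^ 2 := h4.pow two_ne_zero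
  have hq : 0 < q := by omega
  have hne : ∀ s : ℕ, s.Prime → s ∣ q ^ 2 + 1 → 2 ≠ s ∧ t ≠ s := by
    intro s hs hsd
    have h7 : 2 ≠ s := by rintro rfl; omega
    refine ⟨h7, ?_⟩
    rintro rfl
    refine h7 ((Nat.prime_dvd_prime_iff_eq hs Nat.prime_two).1 ?_).symm
    have h8 : t ∣ q ^ 2 - 1 := by
      simpa using htd.trans (Nat.sub_dvd_pow_sub_pow q 1 2)
    have := Nat.dvd_sub hsd h8
    have h9 : 0 < q ^ 2 := by positivity
    rwa [show q ^ 2 + 1 - (q ^ 2 - 1) = 2 by omega] at this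
  have ha' : a ∣ q ^ 2 + 1 := h3 ▸ had.mul_right _
  have hb' : b ∣ q ^ 2 + 1 := h3 ▸ hbd.mul_left _
  refine false_of_four_primes (by
      rw [hn]; exact mul_ne_zero (mul_ne_zero (by positivity) (by omega)) (by omega)) h
    Nat.prime_two ht ha hb (hn ▸ (h6.mul_right _).mul_right _) (hn ▸ htd.mul_left _)
    (hn ▸ (ha'.mul_left _).mul_right _) (hn ▸ (hb'.mul_left _).mul_right _)
    (by rintro rfl; omega) (hne a ha ha').1 (hne b hb hb').1 (hne a ha ha').2 (hne b hb hb').2 ?_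
  rintro rfl
  exact ha.one_lt.ne' (Nat.eq_one_of_dvd_coprimes h2 had hbd)

theorem gcd_mul_card_of_equiv {G F : Type*} [Group G] [Field F] [Fintype F] {q : ℕ}
    (hF : Fintype.card F = q) (e : G ≃* Matrix.ProjectiveSpecialLinearGroup (Fin 2) F) :
    Nat.gcd 2 (q - 1) * Nat.card G = q * (q - 1) * (q + 1) := by
  rw [Nat.card_congr e.toEquiv, ← hF, ← Nat.card_eq_fintype_card, Class.gcd_mul_card_PSL2]

theorem gcd_two_sub_one_of_odd {q : ℕ} (h : Odd q) : Nat.gcd 2 (q - 1) = 2 :=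
  Nat.gcd_eq_left (by obtain ⟨k, rfl⟩ := h; simp)

universe u

/-- The minimal simple groups whose order has at most three prime divisors. -/
theorem minimalSimple_three_primes [Agent.Gate.S0488.{u}] {G : Type u} [Group G] [Finite G]
    (h : IsMinimalSimple G) (h3 : (Nat.card G).primeFactors.card ≤ 3) :
    ∃ (F : Type) (_ : Field F) (_ : Fintype F),
      ((Fintype.card F = 5 ∨ Fintype.card F = 7 ∨ Fintype.card F = 8 ∨ Fintype.card F = 17) ∧
          Nonempty (G ≃* Matrix.ProjectiveSpecialLinearGroup (Fin 2) F)) ∨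
        (Fintype.card F = 3 ∧ Nonempty (G ≃* Matrix.ProjectiveSpecialLinearGroup (Fin 3) F)) := by
  rcases Agent.Gate.S0488.out h with ⟨p, hp, F, _, _, hF, ⟨e⟩⟩ | ⟨p, hp, hp2, F, _, _, hF, ⟨e⟩⟩ |
    ⟨p, hp, h5, F, _, _, hF, ⟨e⟩⟩ | ⟨F, _, _, hF⟩ | ⟨⟨-, m, hm, hc⟩, -⟩
  · have h1 := gcd_mul_card_of_equiv hF e
    have h2 : Nat.gcd 2 (2 ^ p - 1) = 1 := by
      have : 2 ∣ 2 ^ p := dvd_pow_self 2 hp.ne_zero
      have : 0 < 2 ^ p := by positivity
      exact (Nat.coprime_two_left.2 (Nat.odd_iff.2 (by omega)))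
    rw [h2, one_mul] at h1
    rcases three_primes_even hp h1 h3 with rfl | rfl
    · have := Fact.mk Nat.prime_five
      obtain ⟨e1⟩ := Agent.S0252.result (F := F) hF
      obtain ⟨e2⟩ := Agent.S0253.result (F := ZMod 5) (ZMod.card 5)
      exact ⟨ZMod 5, _, _, .inl ⟨.inl (ZMod.card 5), ⟨e.trans (e1.trans e2.symm)⟩⟩⟩
    · exact ⟨F, _, _, .inl ⟨.inr (.inr (.inl hF)), ⟨e⟩⟩⟩
  · have h1 := gcd_mul_card_of_equiv hF e
    rw [gcd_two_sub_one_of_odd (Odd.pow (by decide))] at h1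
    exact (three_primes_three hp hp2 h1 h3).elim
  · have h1 := gcd_mul_card_of_equiv hF e
    rw [gcd_two_sub_one_of_odd (hp.odd_of_ne_two (by omega))] at h1
    have := three_primes_prime hp (by omega) h1 h3
    exact ⟨F, _, _, .inl ⟨by omega, ⟨e⟩⟩⟩
  · exact ⟨F, _, _, .inr hF⟩
  · exact (three_primes_sz hm hc h3).elim

end Cfsg.Lib.Ngrp
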