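import Cfsg.Agent.Ngrp.AsmFacts
import Cfsg.Agent.Trans.BpBalance
import Cfsg.Agent.Trans.LiftNormalizer
import Cfsg.Agent.Solv.Cores
import Cfsg.Agent.Solv.Conj
import Cfsg.Agent.Gate.S2603
import Cfsg.Agent.S2601
import Cfsg.Agent.S2602
import Cfsg.Agent.S2119
import Cfsg.Agent.S2126
import Cfsg.Agent.S2060

/-!
Groups with solvable involution centralizers and no solvable normal subgroup are almost simple;
simple groups with an abelian outer automorphism group.
-/

set_option autoImplicit false

namespace Cfsg.Lib.Ngrp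

open Subgroup Matrix Cfsg.Lib.Solv Cfsg.Agent
open scoped commutatorElement

universe u

section Almost

variable {G : Type u} [Group G] [Finite G]

theorem exists_involution_of_not_isSolvable [Gate.S0205.{u}] {H : Subgroup G}
    (h : ¬ Group.IsSolvable H) : ∃ t ∈ H, orderOf t = 2 := by
  obtain ⟨t, ht⟩ := exists_prime_orderOf_dvd_card' (G := H) 2
    (even_iff_two_dvd.1 (even_card_of_not_isSolvable h))
  exact ⟨t, t.2, by rw [orderOf_coe, ht]⟩

/-- A non-trivial group with solvable involution centralizers and without non-trivial solvable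
normal subgroups has a simple normal subgroup with trivial centralizer. -/
theorem exists_simple_normal [Gate.S0205.{u}] [Nontrivial G]
    (hO : ∀ N : Subgroup G, N.Normal → Group.IsSolvable N → N = ⊥)
    (hC : ∀ t : G, orderOf t = 2 → Group.IsSolvable (centralizer ({t} : Set G))) :
    ∃ L : Subgroup G, L.Normal ∧ IsSimpleGroup L ∧ ¬ IsMulCommutative L ∧
      centralizer (L : Set G) = ⊥ := by
  obtain ⟨N, hN⟩ := exists_isMinNormal G
  have := hN.normal
  have hs : ¬ Group.IsSolvable N := fun h => hN.ne_bot (hO N hN.normal h)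
  have := (nontrivial_iff_ne_bot N).2 hN.ne_bot
  obtain ⟨s, hsN, hs2⟩ := exists_involution_of_not_isSolvable hs
  refine ⟨N, hN.normal, ⟨fun K hK => or_iff_not_imp_left.2 fun hK0 => ?_⟩,
    fun h => hs (Group.isSolvable_of_comm h.is_comm.comm), hO _ inferInstance
      (isSolvable_of_le (centralizer_le (Set.singleton_subset_iff.2 hsN)) (hC s hs2))⟩
  obtain ⟨M, hM, hMK⟩ := exists_isMinNormal_le K hK0
  have := hM.normal
  have hMs : ¬ Group.IsSolvable M := fun h => by
    obtain ⟨p, hp, -, -, hP⟩ := hM.elementary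
    have := Fact.mk hp
    have := (isPGroup_map_pCore p N).isNilpotent
    have h1 := hO _ (normal_map_subtype_of_char (pCore p N)) inferInstance
    exact hM.ne_bot (le_bot_iff.1 ((le_pCore hM.normal hP).trans
      ((map_eq_bot_iff_of_injective _ N.subtype_injective).1 h1).le))
  obtain ⟨t, htM, ht⟩ := exists_involution_of_not_isSolvable hMs
  have h1 : ∀ g : G, M.map (MulAut.conjNormal g : MulAut N).toMonoidHom = M := by
    intro g
    by_contra hg
    set M' := M.map (MulAut.conjNormal g : MulAut N).toMonoidHom with hM'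
    have : M'.Normal := hM.normal.map _ (MulAut.conjNormal g).surjective
    have h2 : M ⊓ M' = ⊥ := (hM.inf_eq_bot_or_le M').resolve_right fun hle =>
      hg (eq_of_le_of_card_ge hle (card_map_of_injective (MulAut.conjNormal g).injective).le).symm
    have h3 := le_centralizer_of_disjoint (H := M) (K := M') le_normalizer_of_normal
      le_normalizer_of_normal h2
    have h4 : M.map N.subtype ≤ centralizer {((MulAut.conjNormal g t : N) : G)} := by
      rintro _ ⟨m, hm, rfl⟩
      exact mem_centralizer_singleton_iff.2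
        (congrArg Subtype.val (h3 hm _ (mem_map_of_mem _ htM)).symm)
    exact hMs (isSolvable_congr (M.equivMapOfInjective _ N.subtype_injective).symm
      (isSolvable_of_le h4 (hC _ (by rw [orderOf_coe, MulEquiv.orderOf_eq, ht]))))
  have h2 : (M.map N.subtype).Normal := ⟨by
    rintro _ ⟨m, hm, rfl⟩ g
    exact ⟨MulAut.conjNormal g m, h1 g ▸ mem_map_of_mem _ hm, rfl⟩⟩
  rcases hN.min _ h2 (map_subtype_le M) with e | e
  · exact absurd ((map_eq_bot_iff_of_injective M N.subtype_injective).1 e) hM.ne_bot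
  · refine eq_top_iff.2 fun n _ => hMK ?_
    obtain ⟨m, hm, e⟩ : (n : G) ∈ M.map N.subtype := e.symm ▸ n.2
    exact (Subtype.ext e : m = n) ▸ hm

omit [Finite G] in
/-- If `L` is perfect with abelian outer automorphism group and `L ⊴ G`, `C_G(L) = 1`, then
`G' = L`. -/
theorem commutator_eq_of_out (L : Subgroup G) [L.Normal] [Group.IsPerfect L]
    (hC : centralizer (L : Set G) = ⊥) (hO : IsMulCommutative (Out L)) : commutator G = L := by
  refine le_antisymm (commutator_le.2 fun a _ b _ => ?_)
    (L.commutator_eq_self.symm.le.trans (commutator_mono le_top le_top))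
  have h1 : ((QuotientGroup.mk' (Inn L)).comp MulAut.conjNormal) ⁅a, b⁆ = 1 := by
    rw [map_commutatorElement, commutatorElement_eq_one_iff_mul_comm]
    exact hO.is_comm.comm _ _
  obtain ⟨l, hl⟩ := (QuotientGroup.eq_one_iff _).1 h1
  have h2 : (l : G)⁻¹ * ⁅a, b⁆ ∈ centralizer (L : Set G) := fun x hx => by
    have := congrArg Subtype.val (DFunLike.congr_fun hl ⟨x, hx⟩)
    simp only [MulAut.conj_apply, coe_mul, coe_inv, MulAut.conjNormal_apply] at this
    calc x * ((l : G)⁻¹ * ⁅a, b⁆) = (l : G)⁻¹ * ((l : G) * x * (l : G)⁻¹) * ⁅a, b⁆ := by group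
      _ = _ := by rw [this]; group
  rw [hC, mem_bot, inv_mul_eq_one] at h2
  exact h2 ▸ l.2

theorem twoLocal_of_surjective {G' : Type*} [Group G'] (f : G →* G') (hf : Function.Surjective f)
    (h : ∀ N : Subgroup G, IsTwoLocal N → Group.IsSolvable N) (N : Subgroup G')
    (hN : IsTwoLocal N) : Group.IsSolvable N := by
  obtain ⟨T, hT, hb, rfl⟩ := hN
  obtain ⟨S, h1, h2, h3⟩ := Trans.exists_lift_normalizer f hf hT
  exact isSolvable_of_le h3 (isSolvable_map f (h _ ⟨S, h1, fun e => hb (by
    rw [← h2, e, Subgroup.map_bot]), rfl⟩))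

omit [Finite G] in
theorem twoLocal_subgroup (h : ∀ N : Subgroup G, IsTwoLocal N → Group.IsSolvable N)
    (H : Subgroup G) (N : Subgroup H) (hN : IsTwoLocal N) : Group.IsSolvable N := by
  obtain ⟨T, hT, hb, rfl⟩ := hN
  exact isSolvable_congr (equivMapOfInjective _ _ H.subtype_injective).symm
    (isSolvable_of_le (le_normalizer_map _) (h _ ⟨T.map H.subtype, hT.map _,
      fun e => hb ((map_eq_bot_iff_of_injective _ H.subtype_injective).1 e), rfl⟩))

/-- In a non-solvable group with `O(G) = 1` and solvable 2-local subgroups there is no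
non-trivial solvable normal subgroup. -/
theorem eq_bot_of_twoLocal (hG : ¬ Group.IsSolvable G) (hO : oddCore G = ⊥)
    (h : ∀ N : Subgroup G, IsTwoLocal N → Group.IsSolvable N) (N : Subgroup G) (hN : N.Normal)
    (hs : Group.IsSolvable N) : N = ⊥ := by
  by_contra h0
  obtain ⟨p, M, hp, hM, -, -, -, hP⟩ := exists_isMinNormal_elementary_le N h0
  have := Fact.mk hp
  by_cases h2 : p = 2
  · subst h2
    have h3 := h _ ⟨M, hP, hM.ne_bot, rfl⟩
    rw [normalizer_eq_top_iff.2 hM.normal] at h3
    exact hG (isSolvable_congr topEquiv h3)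
  · exact hM.ne_bot (le_bot_iff.1 (hO ▸ le_pPrimeCore hM.normal (coprime_card_of_isPGroup hP
      ((Nat.coprime_primes Nat.prime_two hp).2 (Ne.symm h2)))))

/-- `G' / O(G')` is the derived subgroup of `G / O(G)`. -/
theorem nonempty_commutator_quotient_equiv (G : Type u) [Group G] [Finite G] :
    Nonempty (↥(commutator G) ⧸ oddCore ↥(commutator G) ≃* commutator (G ⧸ oddCore G)) := by
  let π := QuotientGroup.mk' (oddCore G)
  have h1 : (commutator G).map π = commutator (G ⧸ oddCore G) := by
    rw [map_commutator_eq, QuotientGroup.range_mk', ← commutator_def]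
  have h2 : (π.subgroupMap (commutator G)).ker = oddCore ↥(commutator G) := by
    apply Subgroup.map_injective (commutator G).subtype_injective
    rw [map_pPrimeCore_eq_inf_of_normal]
    ext x
    constructor
    · rintro ⟨y, hy, rfl⟩
      exact ⟨(QuotientGroup.eq_one_iff _).1 (congrArg Subtype.val hy), y.2⟩
    · rintro ⟨h3, h4⟩
      exact ⟨⟨x, h4⟩, Subtype.ext ((QuotientGroup.eq_one_iff _).2 h3), rfl⟩
  exact ⟨(QuotientGroup.quotientMulEquivOfEq h2.symm).trans
    ((QuotientGroup.quotientKerEquivOfSurjective _ (π.subgroupMap_surjective _)).trans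
      (MulEquiv.subgroupCongr h1))⟩

end Almost

section Out

variable {G : Type*} [Group G]

theorem isMulCommutative_congr {G' : Type*} [Group G'] (e : G ≃* G') (h : IsMulCommutative G') :
    IsMulCommutative G := ⟨⟨fun a b => e.injective (by rw [map_mul, map_mul, h.is_comm.comm])⟩⟩

theorem outComm_congr {G' : Type*} [Group G'] (e : G ≃* G') (h : IsMulCommutative (Out G')) :
    IsMulCommutative (Out G) := isMulCommutative_congr (Trans.outCongr e) h

theorem isMulCommutative_of_card_ker_one {A : Type*} [CommGroup A] (φ : G →* A)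
    (h : Nat.card φ.ker = 1) : IsMulCommutative G :=
  ⟨⟨fun a b => (MonoidHom.ker_eq_bot_iff φ).1 (card_eq_one.1 h) (by rw [map_mul, map_mul, mul_comm])⟩⟩

theorem le_center_of_card_dvd_two (N : Subgroup G) [hN : N.Normal] (h : Nat.card N ∣ 2) :
    N ≤ center G := by
  intro x hx
  rw [mem_center_iff]
  intro g
  rcases (Nat.dvd_prime Nat.prime_two).1 h with h1 | h1
  · rw [card_eq_one.1 h1, mem_bot] at hx
    rw [hx, mul_one, one_mul]
  · by_cases hx1 : x = 1
    · rw [hx1, mul_one, one_mul]
    obtain ⟨y, -, hy⟩ := (Nat.card_eq_two_iff' (1 : N)).1 h1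
    have h2 := hy ⟨x, hx⟩ fun e => hx1 (congrArg Subtype.val e)
    have h3 := hy ⟨g * x * g⁻¹, hN.conj_mem x hx g⟩ fun e => hx1 (by
      simpa using congrArg Subtype.val e)
    exact mul_inv_eq_iff_eq_mul.1 (congrArg Subtype.val (h3.trans h2.symm))

theorem outComm_psl2 {F : Type*} [Field F] [Fintype F] (h : 4 ≤ Fintype.card F) :
    IsMulCommutative (Out (ProjectiveSpecialLinearGroup (Fin 2) F)) := by
  obtain ⟨p, _, n, hp, hn⟩ := FiniteField.card' F
  have := Fact.mk hp
  obtain ⟨φ, -, -, h1⟩ := S2602.result (f := n) n.2 hn (hn ▸ h)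
  exact φ.isMulCommutative_of_isCyclic_of_ker_le_center
    (le_center_of_card_dvd_two _ (h1 ▸ Nat.gcd_dvd_left _ _))

theorem outComm_psl33 : IsMulCommutative (Out (ProjectiveSpecialLinearGroup (Fin 3) (ZMod 3))) := by
  obtain ⟨φ, -, -, h1⟩ := S2601.result (F := ZMod 3) (p := 3) (f := 1) (n := 3) le_rfl
    (by simp) le_rfl
  exact isMulCommutative_of_card_ker_one φ h1

theorem outComm_psu3 [Gate.S2603.{0}] {F : Type} [Field F] [Fintype F] {q : ℕ}
    (hF : Fintype.card F = q ^ 2) (hq : q = 3 ∨ q = 4) : IsMulCommutative (Out (PSU 3 F q)) := by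
  rcases hq with rfl | rfl
  · obtain ⟨φ, -, -, h1⟩ := Gate.S2603.out (p := 3) (f := 1) (n := 3) le_rfl (by norm_num) hF le_rfl
      (by norm_num)
    exact isMulCommutative_of_card_ker_one φ h1
  · obtain ⟨φ, -, -, h1⟩ := Gate.S2603.out (p := 2) (f := 2) (n := 3) one_le_two (by norm_num) hF
      le_rfl (by norm_num)
    exact isMulCommutative_of_card_ker_one φ h1

theorem outComm_alternating {n : ℕ} (hn : 4 ≤ n) (h6 : n ≠ 6) :
    IsMulCommutative (Out (alternatingGroup (Fin n))) := by
  refine ⟨⟨fun a b => ?_⟩⟩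
  obtain ⟨a, rfl⟩ := QuotientGroup.mk'_surjective _ a
  obtain ⟨b, rfl⟩ := QuotientGroup.mk'_surjective _ b
  obtain ⟨a, rfl⟩ := (S2119.result n hn h6).2 a
  obtain ⟨b, rfl⟩ := (S2119.result n hn h6).2 b
  rw [← commutatorElement_eq_one_iff_mul_comm, ← map_commutatorElement, ← map_commutatorElement]
  refine (QuotientGroup.eq_one_iff _).2 ⟨⟨⁅a, b⁆, Equiv.Perm.mem_alternatingGroup.2 ?_⟩, ?_⟩
  · rw [map_commutatorElement, commutatorElement_eq_one_iff_mul_comm, mul_comm]
  · ext1 x
    exact Subtype.ext rfl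

theorem outComm_M11 : IsMulCommutative (Out Spor.M11) :=
  have := (Nat.card_eq_one_iff_unique.1 S2060.result).1
  ⟨⟨fun _ _ => Subsingleton.elim _ _⟩⟩

theorem outComm_sz8 {F : Type*} [Field F] [Fintype F] (hF : Fintype.card F = 2 ^ (2 * 1 + 1)) :
    IsMulCommutative (Out (Lie.Sz F (2 ^ (1 + 1)))) :=
  have : Fact (Nat.Prime (2 * 1 + 1)) := ⟨Nat.prime_three⟩
  have := isCyclic_of_prime_card (S2126.result le_rfl hF)
  inferInstance

end Out

end Cfsg.Lib.Ngrp
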