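import Cfsg.Agent.Ngrp.Triples
import Cfsg.Agent.Solv.AvgDeg
import Cfsg.Agent.Solv.CentralExt
import Cfsg.Agent.Solv.ClassNumber
import Cfsg.Agent.Known.SL2Sylow

/-!
Groups all of whose proper subgroups have average character degree at most two: the minimal
simple groups that are excluded, and bounds for extensions.
-/

set_option autoImplicit false

namespace Cfsg.Lib.Ngrp

open Subgroup Cfsg.Lib.Solv Cfsg.Lib.Solv.Avg Cfsg.Lib.Known.GL2

variable {G Y : Type*} [Group G] [Finite G] [Group Y]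

theorem sad_card_le_of_odd {X A K : Subgroup G} (h : Sad X) (hX : X ≤ normalizer (A : Set G))
    [IsMulCommutative A] (hodd : Odd (A.relIndex X)) (hK : K ≤ ⁅X, X⁆) :
    ((Nat.card K : ℤ) - 1) * (A.relIndex X - 2) ≤ A.relIndex X ^ 2 := by
  have := normal_subgroupOf_of_le_normalizer hX
  have h1 := h.card_commutator_le (A.subgroupOf X)
    (fun a ha b hb => Subtype.ext (PG.mul_comm_of_mem (A := A) ha hb)) hodd
  have h2 : Nat.card K ≤ Nat.card (commutator X) := by
    rw [← card_map_of_injective X.subtype_injective, Subgroup.map_subtype_commutator]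
    exact card_le_of_le hK
  rw [← relIndex] at h1
  obtain ⟨k, hk⟩ := hodd
  rcases Nat.eq_zero_or_pos k with rfl | h3
  · have : 0 < Nat.card K := Nat.card_pos
    rw [hk]
    push_cast
    omega
  · refine le_trans (mul_le_mul_of_nonneg_right (by omega) (by omega)) h1

theorem sad_card_le_of_frobenius {X U : Subgroup G} (h : Sad X) (hU : U ≤ X)
    (hX : X ≤ normalizer (U : Set G))
    (hF : ∀ g ∈ X, ∀ n ∈ U, n * g = g * n → g ∈ U ∨ n = 1) {b : ℕ} (h5 : 5 ≤ b)
    (hb : Nat.card X = b * Nat.card U) : Nat.card U ≤ b + 1 := by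
  have := normal_subgroupOf_of_le_normalizer hX
  have h1 : U.relIndex X = b :=
    Nat.eq_of_mul_eq_mul_right Nat.card_pos ((relIndex_mul_card_of_le hU).trans hb)
  have h2 := h.card_le_of_frobenius (U.subgroupOf X) (fun g hg n hn e => Subtype.ext
    ((hF g g.2 n hn (congrArg Subtype.val e)).resolve_left hg)) (h5.trans h1.ge)
  rwa [← relIndex, h1, Nat.card_congr (subgroupOfEquivOfLe hU).toEquiv] at h2

theorem not_allSad_sz {F : Type*} [Field F] [Fintype F] {τ : Chev.Tw F} (M : Chev.SzModel τ G) :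
    ¬ AllSad G := fun h => by
  have h8 := M.eight_le_card
  have h1 := sad_card_le_of_frobenius (h M.B fun e => M.pt_ne_inf 0 0 (by
      rw [← M.w_smul_inf]; exact M.mem_B.1 (e ▸ mem_top _))) M.P_le_B M.normalizer_P.ge
    (fun g _ n hn e => or_iff_not_imp_right.2 fun h1 => M.Pat_inf ▸
      M.centralizer_le_Pat (M.Pat_inf ▸ hn) h1 (mem_centralizer_singleton_iff.2 e.symm))
    (b := Fintype.card F - 1) (by omega) (by rw [M.card_B, M.card_P, mul_comm])
  rw [M.card_P] at h1
  have h2 : Fintype.card F - 1 + 1 = Fintype.card F := by omega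
  nlinarith

section PSL2

variable {F : Type*} [Field F] [Fintype F]

theorem card_map_B_piSL (h2 : (2 : F) ≠ 0) :
    2 * Nat.card ((slLin F).B.map (piSL F)) = Fintype.card F * (Fintype.card F - 1) := by
  rw [← card_B_SL, ← card_map_piSL (slLin F).Z_le_B, card_Z_SL h2]

omit [Fintype F] in
theorem map_B_piSL_ne_top : (slLin F).B.map (piSL F) ≠ ⊤ := fun e => by
  have h1 : (slLin F).w ∈ (slLin F).B := by
    rw [← comap_map_piSL (slLin F).Z_le_B, e]
    trivial
  simp [Lin2.mem_B] at h1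

theorem not_allSad_psl2 [Finite (PSL2 F)] (h2 : (2 : F) ≠ 0) (h11 : 11 ≤ Fintype.card F) :
    ¬ AllSad (PSL2 F) := fun h => by
  have hU : Nat.card ((slLin F).U.map (piSL F)) = Fintype.card F := by
    rw [← Nat.card_eq_fintype_card, ← (slLin F).card_U]
    refine (Nat.card_congr (MulEquiv.ofBijective ((piSL F).subgroupMap _)
      ⟨(injective_iff_map_eq_one _).2 ?_, (piSL F).subgroupMap_surjective _⟩).toEquiv).symm
    rintro ⟨_, b, rfl⟩ hb
    rw [(slLin F).u_mem_Z_iff.1 (piSL_eq_one_iff.1 (congrArg Subtype.val hb))]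
    exact Subtype.ext (slLin F).u_zero
  obtain ⟨k, hk⟩ := odd_card_of_two_ne_zero h2
  have hB := card_map_B_piSL h2
  have h1 := sad_card_le_of_frobenius (h _ map_B_piSL_ne_top) (map_mono (slLin F).U_le_B)
    ((map_mono (slLin F).normalizer_U.ge).trans (le_normalizer_map _)) ?_ (b := k) (by omega)
    (by rw [hU]; rw [hk] at hB ⊢; simp only [Nat.add_sub_cancel] at hB; nlinarith)
  · omega
  rintro _ ⟨g, hg, rfl⟩ _ ⟨_, ⟨b, rfl⟩, rfl⟩ e
  rw [eq_comm, ← mul_inv_eq_iff_eq_mul, ← map_inv, ← map_mul, ← map_mul, (slLin F).conj_u hg,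
    ← mul_inv_eq_one, ← map_inv, ← map_mul, ← Lin2.u_neg, ← Lin2.u_add, piSL_eq_one_iff,
    Lin2.u_mem_Z_iff, ← sub_eq_add_neg, ← sub_one_mul, mul_eq_zero] at e
  rcases e with e | rfl
  · obtain ⟨z, hz, c, rfl⟩ := (slLin F).exists_Z_mul_u (g := g) ⟨hg, by
      rwa [sub_eq_zero, div_eq_one_iff_eq ((slLin F).entry_ne_zero_of_mem_B hg).2] at e⟩
    exact .inl ⟨_, (slLin F).u_mem_U c, (piSL_Z_mul hz _).symm⟩
  · exact .inr (by rw [Lin2.u_zero, map_one])

/-- Semisimple elements of `PSL₂(q)` are inverted by involutions. -/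
theorem psl2_exists_inverting (p : ℕ) [Fact p.Prime] [CharP F p] {y : PSL2 F} (h1 : y ≠ 1)
    (h : orderOf y ≠ p) : ∃ t, t * t = 1 ∧ y * t * y * t⁻¹ = 1 := by
  obtain ⟨g, rfl⟩ := piSL_surjective y
  obtain ⟨a, b, ha, hb, rfl⟩ := exists_mul_of_disc (g := g)
    (fun e => h (orderOf_piSL_of_disc p (mt piSL_eq_one_iff.2 h1) e)) 0 0
  have h2 := piSL_mul_self_eq_one_iff.2 (.inr ha)
  have h3 := piSL_mul_self_eq_one_iff.2 (.inr hb)
  refine ⟨piSL F a, h2, ?_⟩
  rw [map_mul, mul_assoc _ (piSL F a), ← mul_assoc (piSL F a) (piSL F a), h2, one_mul,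
    mul_assoc (piSL F a), h3, mul_one, mul_inv_cancel]

theorem isCyclic_of_isPGroup_SL2 (p : ℕ) [Fact p.Prime] [CharP F p] {r : ℕ} [Fact r.Prime]
    (hr2 : r ≠ 2) (hrp : r ≠ p) {R : Subgroup (SL2 F)} (hR : IsPGroup r R) : IsCyclic R := by
  by_cases h : R = ⊥
  · rw [h]; infer_instance
  obtain ⟨z, -, -, -, h1, h2⟩ := exists_le_centralizer_SL p hr2 hrp hR h
  have := (centralizer_SL_cases h1).1
  exact isCyclic_of_le h2

end PSL2

theorem not_allSad_of_thirteen {a b c d : G} (hc : orderOf c = 13) (hd3 : d * d * d = 1)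
    (hd : d * c = c * c * c * d) (ha : a * c = b * a) (hb : b * c ≠ c * b) : ¬ AllSad G := fun h => by
  have hd' : d * c * d⁻¹ = c * c * c := by rw [hd, mul_inv_cancel_right]
  have h1 : zpowers c ⊔ zpowers d ≤ normalizer (zpowers c : Set G) := by
    refine sup_le le_normalizer (zpowers_le.2 (mem_normalizer_fintype ?_))
    rintro _ ⟨n, rfl⟩
    rw [← conj_zpow, hd']
    exact zpow_mem (mul_mem (mul_mem (mem_zpowers _) (mem_zpowers _)) (mem_zpowers _)) n
  have h2 : zpowers c ⊔ zpowers d ≠ ⊤ := fun e => by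
    have h3 := (mem_normalizer_iff.1 (h1 (e ▸ mem_top a)) c).1 (mem_zpowers c)
    rw [ha, mul_inv_cancel_right] at h3
    exact hb (PG.mul_comm_of_mem h3 (mem_zpowers c))
  have h3 : (zpowers c).relIndex (zpowers c ⊔ zpowers d) ∣ 3 := by
    have := normal_subgroupOf_of_le_normalizer h1
    rw [relIndex, ← relIndex_top_right, ← subgroupOf_self, subgroupOf_sup le_sup_left
      le_sup_right, relIndex_sup_left]
    refine (relIndex_dvd_card _ _).trans ?_
    rw [Nat.card_congr (subgroupOfEquivOfLe le_sup_right).toEquiv, Nat.card_zpowers]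
    exact orderOf_dvd_of_pow_eq_one (by rw [pow_succ, sq, hd3])
  have h4 : (zpowers c).relIndex (zpowers c ⊔ zpowers d) = 3 := by
    refine ((Nat.dvd_prime Nat.prime_three).1 h3).resolve_left fun e => ?_
    have h5 := PG.mul_comm_of_mem (relIndex_eq_one.1 e (mem_sup_right (mem_zpowers d)))
      (mem_zpowers c)
    rw [hd, mul_left_inj, mul_eq_right, ← sq, ← orderOf_dvd_iff_pow_eq_one, hc] at h5
    norm_num at h5
  have h5 := sad_card_le_of_odd (h _ h2) h1 (by rw [h4]; decide) (K := zpowers (c * c))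
    (zpowers_le.2 (by
      have := commutator_mem_commutator (mem_sup_right (S := zpowers c) (mem_zpowers d))
        (mem_sup_left (T := zpowers d) (mem_zpowers c))
      rwa [commutatorElement_def, hd', mul_inv_cancel_right] at this))
  rw [h4, Nat.card_zpowers, ← sq, orderOf_pow, hc] at h5
  norm_num at h5

theorem not_allSad_SL33 : ¬ AllSad SL33 := by
  let c : SL33 := ⟨!![2, 2, 2; 2, 1, 1; 1, 1, 2], by rw [Matrix.det_fin_three]; decide⟩
  let b : SL33 := ⟨!![2, 1, 2; 1, 1, 2; 1, 2, 2], by rw [Matrix.det_fin_three]; decide⟩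
  let d : SL33 := ⟨!![0, 0, 2; 1, 1, 1; 2, 1, 2], by rw [Matrix.det_fin_three]; decide⟩
  have h1 : a33 * u33 = c := Subtype.ext (by decide)
  exact not_allSad_of_thirteen (a := a33) (b := b) (c := c) (d := d) (h1 ▸ orderOf_a33_mul_u33)
    (Subtype.ext (by decide)) (Subtype.ext (by decide)) (Subtype.ext (by decide))
    fun h => absurd (congrArg Subtype.val h) (by decide)

theorem allSad_card_le (h : AllSad G) (hG : ¬ Group.IsSolvable G) (π : G →* Y)
    (hπ : Function.Surjective π) [IsMulCommutative π.ker] {X : Subgroup Y}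
    (hodd : Odd (Nat.card X)) {K : Subgroup G} (hK : K ≤ ⁅X.comap π, X.comap π⁆) :
    ((Nat.card K : ℤ) - 1) * (Nat.card X - 2) ≤ Nat.card X ^ 2 := by
  have := Finite.of_surjective π hπ
  have h1 : π.ker.relIndex (X.comap π) = Nat.card X := by
    rw [relIndex_ker, map_comap_eq_self_of_surjective hπ]
  rw [← h1] at hodd ⊢
  refine sad_card_le_of_odd (h _ fun e => hG ?_)
    (by rw [normalizer_eq_top]; exact le_top) hodd hK
  rw [e, relIndex_top_right] at hodd
  exact Cor.isSolvable_of_normal_odd_index _ (Group.isSolvable_of_comm mul_comm') hodd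

/-- The action of an element of odd prime order on an abelian normal subgroup. -/
theorem allSad_exists_card (h : AllSad G) (hG : ¬ Group.IsSolvable G) (π : G →* Y)
    (hπ : Function.Surjective π) [IsMulCommutative π.ker] {r s : ℕ} (hr : r.Prime) (hs : s.Prime)
    (hs2 : s ≠ 2) (hrs : r ≠ s) (hK : IsPGroup r π.ker) {c : G} (hc : orderOf (π c) = s)
    (hc' : c ∉ centralizer (π.ker : Set G)) :
    ∃ W : Subgroup G, W ≤ ⁅π.ker, zpowers c⁆ ∧ ∃ k, Nat.card W = r ^ k ∧
      ((Nat.card W = s + 1 ∧ (5 ≤ s ∨ r = 2)) ∨ (s = 3 ∧ r = 7)) ∧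
      ∀ t : Y, t * t = 1 → π c * t * π c * t⁻¹ = 1 → s = 3 ∧ r = 2 := by
  have := Fact.mk hs
  have := Fact.mk hr
  obtain ⟨n, hn⟩ := hK.exists_card_eq
  obtain ⟨W, h1, h2, h3, h4, h5⟩ := exists_commutator_subgroup π.ker hs2
    (hn ▸ ((Nat.coprime_primes hr hs).2 hrs).pow_left n) (c := c)
    (by rw [MonoidHom.mem_ker, map_pow, ← hc, pow_orderOf_eq_one]) hc'
  obtain ⟨k, hk⟩ := (hK.to_le h1).exists_card_eq
  have h6 := allSad_card_le h hG π hπ (X := zpowers (π c))
    (by rw [Nat.card_zpowers, hc]; exact hs.odd_of_ne_two hs2)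
    (h2.trans (commutator_mono (ker_le_comap _ _) (zpowers_le.2 (mem_zpowers _))))
  rw [Nat.card_zpowers, hc] at h6
  obtain ⟨j, hj⟩ : ∃ j, Nat.card W = s * j + 1 := by
    obtain ⟨j, hj⟩ := (Nat.modEq_iff_dvd' h3.le).1 h4.symm
    exact ⟨j, by omega⟩
  have hj0 : j ≠ 0 := by
    rintro rfl
    omega
  have hs3 : s = 3 ∨ 5 ≤ s := by
    have := hs.two_le
    have : s ≠ 4 := by rintro rfl; norm_num at hs
    omega
  have hk0 : k ≠ 0 := by
    rintro rfl
    rw [pow_zero] at hk
    omega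
  have hrW : r ∣ Nat.card W := hk ▸ dvd_pow_self r hk0
  have h7 : ∀ q : ℕ, q.Prime → q ∣ Nat.card W → r = q := fun q hq hqW =>
    ((Nat.prime_dvd_prime_iff_eq hq hr).1 (hq.dvd_of_dvd_pow (hk ▸ hqW))).symm
  have h8 : (Nat.card W = s + 1 ∧ (5 ≤ s ∨ r = 2)) ∨ (s = 3 ∧ Nat.card W = 7) := by
    rw [hj] at h6
    push_cast at h6
    rcases hs3 with rfl | h8
    · have h9 : j = 1 ∨ j = 2 ∨ j = 3 := by omega
      rcases h9 with rfl | rfl | rfl
      · exact .inl ⟨hj, .inr (h7 2 Nat.prime_two (by rw [hj]; norm_num))⟩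
      · exact .inr ⟨rfl, hj⟩
      · exact absurd ((h7 2 Nat.prime_two (by rw [hj]; norm_num)).symm.trans
          (h7 5 (by norm_num) (by rw [hj]; norm_num))) (by norm_num)
    · refine .inl ⟨?_, .inl h8⟩
      have h9 : (j : ℤ) * (s - 2) ≤ s := by
        refine le_of_mul_le_mul_left ?_ (show (0 : ℤ) < s by omega)
        nlinarith
      obtain rfl : j = 1 := by
        by_contra h10
        have : (2 : ℤ) ≤ j := by omega
        have : (5 : ℤ) ≤ s := by omega
        nlinarith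
      omega
  refine ⟨W, h2, k, hk, h8.imp_right fun h => ⟨h.1, h7 7 (by norm_num) (by rw [h.2])⟩,
    fun t h9 h10 => ?_⟩
  obtain ⟨t, rfl⟩ := hπ t
  obtain ⟨m, hm⟩ := h5 t (by simpa using h9) (by simpa using h10)
  rcases h8 with ⟨h8, h11⟩ | ⟨-, h8⟩
  · have h12 : s = (m - 1) * (m + 1) := by
      obtain ⟨m, rfl⟩ : ∃ m', m = m' + 1 := ⟨m - 1, by
        have : m ≠ 0 := by rintro rfl; omega
        omega⟩
      rw [Nat.add_sub_cancel]
      nlinarith
    have h13 : m - 1 = 1 ∨ m + 1 = 1 := by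
      have := hs.isUnit_or_isUnit h12
      simpa only [Nat.isUnit_iff] using this
    have h14 : s = 3 := by
      rcases h13 with h13 | h13
      · rw [h12, h13]; omega
      · obtain rfl : m = 0 := by omega
        omega
    exact ⟨h14, h11.resolve_left (by omega)⟩
  · rw [h8] at hm
    have : m ≤ 3 := by nlinarith
    interval_cases m <;> omega

omit [Finite G] in
theorem le_ker_of_isSolvable [IsSimpleGroup Y] (hY : ¬ Group.IsSolvable Y) (f : G →* Y)
    (hf : Function.Surjective f) (C : Subgroup G) [hC : C.Normal] (h : Group.IsSolvable C) :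
    C ≤ f.ker := by
  rw [← Subgroup.map_eq_bot_iff]
  refine (hC.map f hf).eq_bot_or_eq_top.resolve_right fun e => hY ?_
  have := isSolvable_map f h
  rw [e] at this
  exact Group.isSolvable_of_surjective (f := (⊤ : Subgroup Y).subtype)
    fun x => ⟨⟨x, mem_top x⟩, rfl⟩

theorem ker_le_commutator_of_not_dvd_index {p : ℕ} [Fact p.Prime] (hG : commutator G = ⊤)
    (π : G →* Y) (hZ : π.ker ≤ center G) (hK : IsPGroup p π.ker) {X : Subgroup G}
    (hX : ¬ p ∣ X.index) : π.ker ≤ ⁅X, X⁆ := by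
  obtain ⟨P⟩ : Nonempty (Sylow p X) := inferInstance
  have h1 := ker_inf_commutator_le_sylow π hZ hK ((P.isPGroup'.map X.subtype).toSylow (by
    rw [index_map_subtype, (Fact.out : p.Prime).dvd_mul, not_or]
    exact ⟨P.not_dvd_index, hX⟩))
  rw [hG, inf_top_eq, Subgroup.map_subtype_commutator] at h1
  exact h1.trans (commutator_mono (map_subtype_le _) (map_subtype_le _))

end Cfsg.Lib.Ngrp
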