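import Cfsg.Agent.Local.JComp
import Cfsg.Agent.Local.PReduced

set_option autoImplicit false

namespace Cfsg.Lib.Ngrp
open Subgroup Cfsg.Lib.Trans Cfsg.Lib.Local Cfsg.Lib.Local.MSS
open scoped commutatorElement

variable {G : Type*} [Group G]

/-- All 2-local subgroups are solvable and of characteristic two. -/
structure AH (G : Type*) [Group G] : Prop where
  char : IsCharacteristicTwoType G
  solv : ∀ N : Subgroup G, IsTwoLocal N → Group.IsSolvable N

/-- The natural geometry: points are the conjugates of `z`, lines the conjugates of `Y`. -/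
structure NatG (S : Sylow 2 G) (z : G) (Y : Subgroup G) : Prop where
  ah : AH G
  ne : z ≠ 1
  oc : omegaCenterOf (S : Subgroup G) = zpowers z
  ea : IsElementaryAbelian 2 Y
  card : Nat.card Y = 4
  mem : z ∈ Y
  le : Y ≤ S
  norm : (S : Subgroup G) ≤ normalizer (Y : Set G)
  act : ¬ normalizer (Y : Set G) ≤ centralizer {z}
  notn : ¬ centralizer {z} ≤ normalizer (Y : Set G)
  max : ∀ D : Subgroup G, IsPGroup 2 D → D ≠ ⊥ → normalizer (Y : Set G) ≤ normalizer (D : Set G) →
    normalizer (D : Set G) ≤ normalizer (Y : Set G)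
  uniq : ∀ V : Subgroup G, IsElementaryAbelian 2 V → Nat.card V = 4 → V ≤ S →
    (S : Subgroup G) ≤ normalizer (V : Set G) → ¬ normalizer (V : Set G) ≤ centralizer {z} → V = Y

/-- The subgroup generated by the lines through `z`. -/
abbrev natU (z : G) (Y : Subgroup G) : Subgroup G := ncl Y (centralizer {z})

/-- The natural geometry with critical distance three. -/
structure NatB3 (S : Sylow 2 G) (z : G) (Y : Subgroup G) : Prop extends NatG S z Y where
  eaU : IsElementaryAbelian 2 (natU z Y)
  cardM : Nat.card (normalizer (Y : Set G)) = 3 * Nat.card (S : Subgroup G)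
  ker : ∀ c ∈ centralizer {z},
    (∀ u ∈ natU z Y, ⁅c, u⁆ ∈ zpowers z) ↔ c ∈ pCoreOf 2 (centralizer {z})
  three : ∃ m ∈ normalizer (Y : Set G), ¬ cj m (natU z Y) ≤ pCoreOf 2 (centralizer {z})

end Cfsg.Lib.Ngrp
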