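import Cfsg.Agent.Ngrp.AmNear

/-! The configuration of two points `y`, `y'` with `[U_y, y'] ≤ ⟨y⟩`, `[U_{y'}, y] ≤ ⟨y'⟩`. -/

set_option autoImplicit false

namespace Cfsg.Lib.Ngrp.Geo
open Subgroup Cfsg.Lib.Trans Cfsg.Lib.Local Cfsg.Lib.Local.JC Cfsg.Lib.Trans.TJ
open scoped commutatorElement

variable {G : Type*} [Group G]

/-- The elements normalizing `N` that centralize `t` modulo `N`. -/
def cmod (N : Subgroup G) (t : G) : Subgroup G where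
  carrier := {g | g ∈ normalizer (N : Set G) ∧ ⁅g, t⁆ ∈ N}
  one_mem' := ⟨one_mem _, by simp⟩
  mul_mem' := by
    rintro a b ⟨ha, ha'⟩ ⟨hb, hb'⟩
    refine ⟨mul_mem ha hb, ?_⟩
    have e : ⁅a * b, t⁆ = a * ⁅b, t⁆ * a⁻¹ * ⁅a, t⁆ := by
      simp only [commutatorElement_def]; group
    rw [e]
    exact mul_mem (mem_normalizer_conj ha hb') ha'
  inv_mem' := by
    rintro a ⟨ha, ha'⟩
    refine ⟨inv_mem ha, ?_⟩
    have e : ⁅a⁻¹, t⁆ = a⁻¹ * ⁅a, t⁆⁻¹ * a := by simp only [commutatorElement_def]; group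
    rw [e]
    exact mem_normalizer_conj' ha (inv_mem ha')

theorem mem_cmod {N : Subgroup G} {t g : G} :
    g ∈ cmod N t ↔ g ∈ normalizer (N : Set G) ∧ ⁅g, t⁆ ∈ N := Iff.rfl

theorem mem_zpowers_sq {d : G} (hd : Odd (orderOf d)) : d ∈ zpowers (d * d) := by
  obtain ⟨k, hk⟩ := hd
  refine ⟨(k + 1 : ℕ), ?_⟩
  simp only [zpow_natCast]
  rw [← sq, ← pow_mul, show 2 * (k + 1) = orderOf d + 1 by omega, pow_succ, pow_orderOf_eq_one,
    one_mul]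

theorem mem_of_sq_mem {d : G} (hd : Odd (orderOf d)) {H : Subgroup G} (h : d * d ∈ H) : d ∈ H :=
  zpowers_le.2 h (mem_zpowers_sq hd)

/-- An element of odd order centralizing `x` modulo a central involution centralizes `x`. -/
theorem mem_Cz_of_odd {d x ε : G} (hd : Odd (orderOf d)) (hε : ε * ε = 1) (hc : d ∈ Cz ε)
    (h : d * x * d⁻¹ = ε * x) : d ∈ Cz x := by
  refine mem_of_sq_mem hd (mem_Cz'.2 ?_)
  calc d * d * x * (d * d)⁻¹ = d * (d * x * d⁻¹) * d⁻¹ := by group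
    _ = d * (ε * x) * d⁻¹ := by rw [h]
    _ = d * ε * d⁻¹ * (d * x * d⁻¹) := by group
    _ = x := by rw [Cz_conj hc, h, ← mul_assoc, hε, one_mul]

theorem Pt.mem_Cz_of_odd {p d x : G} (hp : Pt p) (hd : Odd (orderOf d)) (hc : d ∈ Cz p)
    (h : ⁅d, x⁆ ∈ zpowers p) : d ∈ Cz x := by
  rcases hp.mem_zpowers.1 h with e | e
  · exact mem_Cz.2 (commutatorElement_eq_one_iff_mul_comm.1 e)
  · exact Geo.mem_Cz_of_odd hd hp.sq hc (mul_inv_eq_iff_eq_mul.1 e)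

theorem comm_mem_of_odd {W : Subgroup G} {d t ε : G} (hd : Odd (orderOf d))
    (hdW : d ∈ normalizer (W : Set G)) (hεW : ε ∈ normalizer (W : Set G)) (hε : ε * ε = 1)
    (hc : d ∈ Cz ε) (h : ε * ⁅d, t⁆ ∈ W) : ⁅d, t⁆ ∈ W := by
  refine (mem_of_sq_mem hd (H := cmod W t) ⟨mul_mem hdW hdW, ?_⟩).2
  have e : ⁅d * d, t⁆ = (d * ε * d⁻¹)⁻¹ * (d * (ε * ⁅d, t⁆) * d⁻¹) * ε⁻¹⁻¹ *
      ((ε * ε)⁻¹ * (ε * ⁅d, t⁆)) := by
    simp only [commutatorElement_def]; group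
  rw [e, Cz_conj hc, hε, inv_one, one_mul]
  exact mul_mem (mem_normalizer_conj (inv_mem hεW) (mem_normalizer_conj hdW h)) h

theorem inf1 {A B : Subgroup G} {x : G} (h : x ∈ A ⊓ B) : x ∈ A := h.1
theorem inf2 {A B : Subgroup G} {x : G} (h : x ∈ A ⊓ B) : x ∈ B := h.2

theorem sup_le_cmod {A B N : Subgroup G} {t x : G} (hx : x ∈ A ⊔ B)
    (h1 : ∀ a ∈ A, a ∈ normalizer (N : Set G) ∧ ⁅a, t⁆ ∈ N)
    (h2 : ∀ a ∈ B, a ∈ normalizer (N : Set G) ∧ ⁅a, t⁆ ∈ N) : ⁅x, t⁆ ∈ N :=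
  ((sup_le h1 h2 : A ⊔ B ≤ cmod N t) hx).2

/-- Two commuting points, each acting on the other's group `U` with commutators in the point. -/
structure Dual (y y' : G) : Prop where
  pt : Pt y
  pt' : Pt y'
  ea : IsElementaryAbelian 2 (UU y)
  ea' : IsElementaryAbelian 2 (UU y')
  comm : y' ∈ Cz y
  c1 : ∀ a ∈ UU y, ⁅a, y'⁆ ∈ zpowers y
  c2 : ∀ a ∈ UU y', ⁅a, y⁆ ∈ zpowers y'

/-- `C_{U_y}(y')`. -/
abbrev A1 (y y' : G) : Subgroup G := UU y ⊓ Cz y'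

theorem inf_le_A1 (y y' : G) : UU y ⊓ UU y' ≤ A1 y y' := inf_le_inf_left _ (UU_le_Cz y')

theorem inf_le_A1' (y y' : G) : UU y ⊓ UU y' ≤ A1 y' y := inf_comm (UU y) _ ▸ inf_le_A1 y' y

namespace Dual

variable {y y' : G} (h : Dual y y')
include h

theorem symm : Dual y' y := ⟨h.pt', h.pt, h.ea', h.ea, Cz_symm h.comm, h.c2, h.c1⟩

theorem mem_A1 : y ∈ A1 y y' := ⟨h.pt.mem_UU, Cz_symm h.comm⟩

theorem comm_mem {b x : G} (hb : b ∈ A1 y' y) (hx : x ∈ UU y) : ⁅b, x⁆ ∈ A1 y y' := by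
  refine mem_inf.2 ⟨mul_mem (conj_mem_UU_of_mem hb.2 hx) (inv_mem hx), mem_Cz'.2 ?_⟩
  have h1 : b⁻¹ ∈ Cz (x⁻¹ * y' * x⁻¹⁻¹) := by
    have h2 := h.c1 _ (inv_mem hx)
    rw [show x⁻¹ * y' * x⁻¹⁻¹ = ⁅x⁻¹, y'⁆ * y' by simp [commutatorElement_def]]
    refine inv_mem (Cz_symm (mul_mem ?_ (Cz_symm (UU_le_Cz _ hb.1))))
    exact zpowers_le.2 (Cz_symm hb.2) h2
  calc ⁅b, x⁆ * y' * ⁅b, x⁆⁻¹ = b * (x * (b⁻¹ * (x⁻¹ * y' * x⁻¹⁻¹) * b⁻¹⁻¹) * x⁻¹) * b⁻¹ := by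
        simp only [commutatorElement_def]; group
    _ = b * y' * b⁻¹ := by rw [Cz_conj h1]; group
    _ = y' := Cz_conj (UU_le_Cz _ hb.1)

theorem comm_mem' {b x : G} (hb : b ∈ A1 y' y) (hx : x ∈ UU y) : ⁅x, b⁆ ∈ A1 y y' := by
  rw [← commutatorElement_inv]; exact inv_mem (h.comm_mem hb hx)

theorem comm_mem_E {b x : G} (hb : b ∈ A1 y' y) (hx : x ∈ A1 y y') : ⁅b, x⁆ ∈ UU y ⊓ UU y' :=
  ⟨(h.comm_mem hb hx.1).1, (h.symm.comm_mem' hx hb.1).1⟩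

theorem le_Cz_of_mem {ε : G} (hε : ε ∈ UU y ⊓ UU y') : UU y ⊔ UU y' ≤ Cz ε :=
  sup_le (fun _ ha => mem_Cz.2 (ea_comm' h.ea ha hε.1)) fun _ ha => mem_Cz.2 (ea_comm' h.ea' ha hε.2)

theorem sq {ε : G} (hε : ε ∈ UU y ⊓ UU y') : ε * ε = 1 := ea_sq h.ea hε.1

variable [Finite G]

theorem le_normalizer : UU y ≤ normalizer ((A1 y y' ⊔ A1 y' y : Subgroup G) : Set G) := by
  intro x hx
  refine mem_normalizer_of_cj_le ?_
  rw [cj_sup]
  refine sup_le (cj_le_iff.2 fun a ha => mem_sup_left ?_) (cj_le_iff.2 fun b hb => ?_)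
  · rwa [ea_comm' h.ea hx ha.1, mul_inv_cancel_right]
  · rw [show x * b * x⁻¹ = ⁅x, b⁆ * b by simp [commutatorElement_def]]
    exact mul_mem (mem_sup_left (h.comm_mem' hb hx)) (mem_sup_right hb)

theorem sup_le_normalizer :
    UU y ⊔ UU y' ≤ normalizer ((A1 y y' ⊔ A1 y' y : Subgroup G) : Set G) :=
  sup_le h.le_normalizer (by rw [sup_comm]; exact h.symm.le_normalizer)

theorem comm_sup_mem {m b : G} (hm : m ∈ A1 y y' ⊔ A1 y' y) (hb : b ∈ A1 y' y) :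
    ⁅m, b⁆ ∈ UU y ⊓ UU y' := by
  have hn : ∀ x ∈ UU y ⊔ UU y', x ∈ normalizer ((UU y ⊓ UU y' : Subgroup G) : Set G) :=
    fun x hx => centralizer_le_normalizer _ fun ε hε => (mem_Cz.1 (h.le_Cz_of_mem hε hx)).symm
  refine sup_le_cmod hm (fun x hx => ⟨hn x (mem_sup_left hx.1), ?_⟩)
    fun x hx => ⟨hn x (mem_sup_right hx.1), ?_⟩
  · rw [← commutatorElement_inv]; exact inv_mem (h.comm_mem_E hb hx)
  · rw [commutatorElement_eq_one_iff_mul_comm.2 (ea_comm' h.ea' hx.1 hb.1)]; exact one_mem _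

end Dual

/-- The configuration of Lemma A: `y' = y^d`, with `d` of odd order inverted by `a ∈ U_y`. -/
structure LA (y y' d a : G) : Prop where
  conj : d * y * d⁻¹ = y'
  dual : Dual y y'
  odd : Odd (orderOf d)
  mem : a ∈ UU y
  gen : d ∈ zpowers (a * (d * a * d⁻¹))
  act : ⁅a, y'⁆ = y
  back : cj d (A1 y y') = A1 y' y

namespace LA

variable {y y' d a : G} (h : LA y y' d a)
include h

theorem mem' : d * a * d⁻¹ ∈ UU y' := h.conj ▸ conj_mem_UU d h.mem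

theorem card_eq : Nat.card (A1 y' y) = Nat.card (A1 y y') := by rw [← h.back, card_cj]

theorem mem_sup : d ∈ UU y ⊔ UU y' :=
  zpowers_le.2 (mul_mem (mem_sup_left h.mem) (mem_sup_right h.mem')) h.gen

theorem mem_Cz {ε : G} (hε : ε ∈ UU y ⊓ UU y') : d ∈ Cz ε :=
  h.dual.le_Cz_of_mem hε h.mem_sup

theorem not_mem : a ∉ Cz y' := fun e => h.dual.pt.ne
  (h.act.symm.trans (commutatorElement_eq_one_iff_mul_comm.2 (Geo.mem_Cz.1 e)))

theorem y_not_mem : y ∉ UU y' := fun e => h.not_mem (by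
  rw [← h.conj, Cz_conj (h.mem_Cz ⟨h.dual.pt.mem_UU, e⟩)]
  exact UU_le_Cz y h.mem)

theorem mem_or {x : G} (hx : x ∈ UU y) :
    x ∈ A1 y y' ∨ x * a ∈ A1 y y' := by
  rcases h.dual.pt.mem_zpowers.1 (h.dual.c1 x hx) with e | e
  · exact Or.inl ⟨hx, Geo.mem_Cz.2 (commutatorElement_eq_one_iff_mul_comm.1 e)⟩
  · refine Or.inr ⟨mul_mem hx h.mem, Geo.mem_Cz.2 (commutatorElement_eq_one_iff_mul_comm.1 ?_)⟩
    rw [show ⁅x * a, y'⁆ = x * ⁅a, y'⁆ * x⁻¹ * ⁅x, y'⁆ by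
      simp only [commutatorElement_def]; group, h.act, e, Cz_conj (UU_le_Cz y hx), h.dual.pt.sq]

theorem mem_E_of_comm {b : G} (hb : b ∈ A1 y' y)
    (h1 : ⁅a, b⁆ ∈ UU y ⊓ UU y') : b ∈ UU y ⊓ UU y' := by
  have h2 : a * (d * a * d⁻¹) * (a * (d * a * d⁻¹)) ∈ Cz b := by
    have h3 : a * (d * a * d⁻¹) * b * (a * (d * a * d⁻¹))⁻¹ = ⁅a, b⁆ * b := by
      rw [mul_assoc a, ea_comm' h.dual.ea' h.mem' hb.1, commutatorElement_def]; group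
    have h4 := Cz_conj (h.dual.le_Cz_of_mem h1 (mul_mem (mem_sup_left h.mem) (mem_sup_right h.mem')))
    generalize a * (d * a * d⁻¹) = c at h3 h4
    refine mem_Cz'.2 ?_
    calc c * c * b * (c * c)⁻¹ = c * (c * b * c⁻¹) * c⁻¹ := by group
      _ = c * (⁅a, b⁆ * b) * c⁻¹ := by rw [h3]
      _ = c * ⁅a, b⁆ * c⁻¹ * (c * b * c⁻¹) := by group
      _ = b := by rw [h4, h3, ← mul_assoc, h.dual.sq h1, one_mul]
  have h5 : d ∈ Cz b := by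
    obtain ⟨k, hk⟩ := h.gen
    refine mem_of_sq_mem h.odd ?_
    have := zpow_mem h2 k
    rwa [(Commute.refl _).mul_zpow, show (a * (d * a * d⁻¹)) ^ k = d from hk] at this
  refine ⟨?_, hb.1⟩
  have h6 := conj_mem_UU d⁻¹ hb.1
  rwa [Cz_conj (inv_mem h5), show d⁻¹ * y' * d⁻¹⁻¹ = y by rw [← h.conj]; group] at h6

/-- The kernel of `B` on `U_y / ⟨y⟩`. -/
theorem mem_XX_iff {b : G} (hb : b ∈ A1 y' y) : b ∈ XX y ↔
    b ∈ UU y ⊓ UU y' ∨ b * y' ∈ UU y ⊓ UU y' := by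
  have h0 : y' ∈ XX y := ⟨h.dual.comm, fun u hu => by
    have := inv_mem (h.dual.c1 u hu)
    rwa [commutatorElement_inv] at this⟩
  have h1 : ∀ x ∈ UU y ⊓ UU y', x ∈ XX y := fun x hx =>
    centralizer_UU_le h.dual.pt fun u hu => ea_comm' h.dual.ea hu hx.1
  refine ⟨fun hX => ?_, fun hX => hX.elim (h1 b) fun e => (mul_mem_cancel_right h0).1 (h1 _ e)⟩
  rcases h.dual.pt.mem_zpowers.1 (comm_mem_of_XX' hX h.mem) with e | e
  · exact Or.inl (h.mem_E_of_comm hb (e ▸ one_mem _))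
  · refine Or.inr (h.mem_E_of_comm (mul_mem hb h.dual.symm.mem_A1) ?_)
    rw [show ⁅a, b * y'⁆ = ⁅a, b⁆ * (b * ⁅a, y'⁆ * b⁻¹) by
      simp only [commutatorElement_def]; group, h.act, e, Cz_conj hb.2, h.dual.pt.sq]
    exact one_mem _

variable [Finite G]

theorem exists_comm {x : G} (hx : x ∈ A1 y y') :
    ∃ b ∈ A1 y' y, ⁅b, a⁆ * x⁻¹ ∈ UU y ⊓ UU y' := by
  let E := (UU y ⊓ UU y').subgroupOf (A1 y y')
  have : E.Normal := ⟨fun n hn g => by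
    change (g : G) * n * (g : G)⁻¹ ∈ UU y ⊓ UU y'
    rwa [ea_comm' h.dual.ea g.2.1 n.2.1, mul_inv_cancel_right]⟩
  let φ : A1 y' y →* A1 y y' ⧸ E := MonoidHom.mk'
    (fun b => QuotientGroup.mk ⟨⁅(b : G), a⁆, h.dual.comm_mem b.2 h.mem⟩) fun b c => by
      rw [← QuotientGroup.mk_mul, QuotientGroup.eq, mem_subgroupOf]
      have h1 := h.dual.comm_mem c.2 h.mem
      have h2 := h.dual.comm_mem b.2 h.mem
      have h3 := h.dual.comm_mem_E b.2 h1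
      change ⁅(b * c : G), a⁆⁻¹ * (⁅(b : G), a⁆ * ⁅(c : G), a⁆) ∈ _
      rw [show ⁅(b * c : G), a⁆ = ⁅(b : G), ⁅(c : G), a⁆⁆ * ⁅(c : G), a⁆ * ⁅(b : G), a⁆ by
        simp only [commutatorElement_def]; group, ea_comm' h.dual.ea h2.1 h1.1, mul_assoc,
        ea_comm' h.dual.ea h3.1 (mul_mem h1.1 h2.1), mul_inv_rev, inv_mul_cancel_right]
      exact inv_mem h3
  have hk : φ.ker = (UU y ⊓ UU y').subgroupOf (A1 y' y) := Subgroup.ext fun b => by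
    rw [MonoidHom.mem_ker, mem_subgroupOf]
    refine (QuotientGroup.eq_one_iff _).trans ⟨fun e => h.mem_E_of_comm b.2 ?_, fun e => ?_⟩
    · rw [← commutatorElement_inv]; exact inv_mem e
    · change ⁅(b : G), a⁆ ∈ UU y ⊓ UU y'
      rw [commutatorElement_eq_one_iff_mul_comm.2 (ea_comm' h.dual.ea e.1 h.mem)]
      exact one_mem _
  have hs : φ.range = ⊤ := by
    refine eq_top_of_card_eq _ ?_
    have h1 := φ.ker.index_mul_card
    have h2 := E.index_mul_card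
    rw [index_ker, hk, Nat.card_congr (subgroupOfEquivOfLe (inf_le_A1' y y')).toEquiv, h.card_eq,
      ← h2, Nat.card_congr (subgroupOfEquivOfLe (inf_le_A1 y y')).toEquiv] at h1
    exact Nat.eq_of_mul_eq_mul_right Nat.card_pos h1
  obtain ⟨b, hb⟩ := MonoidHom.range_eq_top.1 hs (QuotientGroup.mk ⟨x, hx⟩)
  refine ⟨b, b.2, ?_⟩
  have h1 : ⁅(b : G), a⁆⁻¹ * x ∈ UU y ⊓ UU y' := QuotientGroup.eq (s := E).1 hb
  rw [ea_comm' h.dual.ea (h.dual.comm_mem b.2 h.mem).1 (inv_mem hx.1)]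
  simpa using inv_mem h1

/-- The solvability obstruction for Lemma A. -/
theorem eq_one {e b c u : G} (he : e ∈ Cz y) (oe : Odd (orderOf e)) (hb : b ∈ A1 y' y)
    (ib : b * e * b⁻¹ * e ∈ XX y) (hu : u ∈ UU y) (hu' : ⁅e, u⁆ ∉ Cz y')
    (inv : a * d * a⁻¹ = d⁻¹) (hc : c ∈ UU y ⊓ UU y') (hec : e ∈ Cz c) : c = 1 := by
  by_contra h1
  have hI := h.dual.le_Cz_of_mem hc
  have hA : UU y ≤ Cz c := le_sup_left.trans hI
  have hB : UU y' ≤ Cz c := le_sup_right.trans hI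
  have hle : A1 y y' ⊔ A1 y' y ≤ UU y ⊔ UU y' := sup_le_sup inf_le_left inf_le_left
  refine PL' (Cz c) (ah_solvable_Cz h.dual.pt.ah (h.dual.sq hc) h1) hI inf_le_right
    h.dual.sup_le_normalizer (le_normalizer_inf_XX y _) h.mem_sup (mem_inf.2 ⟨he, hec⟩)
    (fun hd => h.not_mem ?_) h.odd oe (by rw [pow_orderOf_eq_one]; exact one_mem _)
    (by rw [pow_orderOf_eq_one]; exact one_mem _) (by rw [inv, inv_mul_cancel]; exact one_mem _)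
    (mem_inf.2 ⟨ib, mul_mem (mul_mem (mul_mem (hB hb.1) hec) (inv_mem (hB hb.1))) hec⟩) ?_ ?_
  · rw [← h.conj, Cz_conj (sup_le (inf_le_left.trans (UU_le_Cz y)) inf_le_right hd)]
    exact UU_le_Cz y h.mem
  · rintro N hNH hN ⟨n, hn, -, h3⟩
    have hE : UU y ⊓ UU y' ≤ Cz c := inf_le_left.trans hA
    have hR : ∀ g ∈ UU y ⊔ UU y', ∀ r ∈ N ⊔ UU y ⊓ UU y', g * r * g⁻¹ ∈ N ⊔ UU y ⊓ UU y' :=
      fun g hg r hr => by
        obtain ⟨k, hk, ε, hε, rfl⟩ := (Solv.PG.mem_sup_iff_of_le_normalizer (hE.trans hN)).1 hr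
        rw [show g * (k * ε) * g⁻¹ = g * k * g⁻¹ * (g * ε * g⁻¹) by group,
          Cz_conj (h.dual.le_Cz_of_mem hε hg)]
        exact mul_mem (mem_sup_left (mem_normalizer_conj (hN (hI hg)) hk)) (mem_sup_right hε)
    have h4 : A1 y y' ≤ N ⊔ UU y ⊓ UU y' := fun x hx => by
      obtain ⟨b, hb, h5⟩ := h.exists_comm hx
      refine (mul_mem_cancel_left (mem_sup_right h5)).1 ?_
      rw [inv_mul_cancel_right]
      rw [← h.back] at hb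
      have h6 : ⁅n * d⁻¹, b⁆ ∈ UU y ⊓ UU y' := h.dual.comm_sup_mem h3 (h.back ▸ hb)
      have h7 := mem_cj.1 hb
      have h8 := mul_mem (inv_mem (mem_sup_right h6 : _ ∈ N ⊔ UU y ⊓ UU y'))
        (mem_sup_left (comm_mem_of_normal hN hn (hA h7.1)))
      have h9 := mul_mem h8 (hR a (mem_sup_left h.mem) _ (inv_mem h8))
      have h10 := ea_comm' h.dual.ea h7.1 h.mem
      convert h9 using 1
      simp only [commutatorElement_def]
      calc b * a * b⁻¹ * a⁻¹ = b * (d⁻¹ * b * d)⁻¹ * (d⁻¹ * b * d * a) * b⁻¹ * a⁻¹ := by group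
        _ = _ := by rw [h10]; group
    have h5 : b ∈ N ⊔ UU y ⊓ UU y' := by
      have := hR d h.mem_sup _ (h4 (mem_cj.1 (h.back ▸ hb)))
      simpa [mul_assoc] using this
    obtain ⟨k, hk, ε, hε, rfl⟩ := (Solv.PG.mem_sup_iff_of_le_normalizer (hE.trans hN)).1 h5
    have h6 : k ∈ A1 y' y := (mul_mem_cancel_right (inf_le_A1' y y' hε)).1 hb
    refine ⟨k, hk, ⟨h6.2, hNH hk⟩, ?_⟩
    rw [mul_inv_rev, ← mul_assoc, ea_comm' h.dual.ea' h6.1 (inv_mem hε.2), mul_inv_cancel_right]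
    exact mem_inf.2 ⟨inv_mem ((h.mem_XX_iff (inf_le_A1' y y' hε)).2 (Or.inl hε)), inv_mem (hE hε)⟩
  · rintro N - hN ⟨n, hn, h2, h3⟩
    have h4 : ⁅n, u⁆ ∈ UU y := mul_mem (conj_mem_UU_of_mem h2.1 hu) (inv_mem hu)
    refine ⟨⁅n, u⁆, comm_mem_of_normal hN hn (hA hu), mem_sup_left h4, mem_sup_left ?_⟩
    rw [inv_eq_of_sq (ea_sq h.dual.ea h.mem)]
    refine (h.mem_or h4).resolve_left fun h5 => hu' ?_
    have h6 : ⁅n, u⁆ * ⁅e, u⁆⁻¹ ∈ Cz y' :=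
      zpowers_le.2 h.dual.mem_A1.2 (h.dual.pt.comm_congr he h3.1 hu)
    exact inv_mem_iff.1 ((mul_mem_cancel_left (inf2 h5)).1 h6)

/-- If `B` acts trivially on `U_y / ⟨y⟩`, then `d` centralizes `T` modulo `U_z`. -/
theorem comm_mem_UU {z t : G} {T : Subgroup G} (hB : A1 y' y ≤ XX y) (hy : y ∈ UU z)
    (hd : d ∈ Cz z) (hA : UU y ≤ Cz z) (hT : T ≤ centralizer (UU z : Set G))
    (hn : Cz z ≤ normalizer (T : Set G)) (ht : t ∈ T) : ⁅d, t⁆ ∈ UU z := by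
  have hy1 : y' ∈ UU z := h.conj ▸ conj_mem_UU_of_mem hd hy
  have hA' : UU y' ≤ Cz z := by
    rw [← h.conj, ← cj_UU, ← Cz_conj hd, ← cj_Cz]; exact cj_mono d hA
  have key : ∀ p ∈ UU z, ∀ q ∈ UU z, UU p ≤ Cz z → ∀ x ∈ UU p, ⁅x, t⁆ ∈ A1 p q :=
    fun p hp q hq hp' x hx => by
      refine mem_inf.2 ⟨?_, le_Cz_of_mem hq (hT ?_)⟩
      · rw [← commutatorElement_inv]
        exact inv_mem (mul_mem (conj_mem_UU_of_mem (le_Cz_of_mem hp (hT ht)) hx) (inv_mem hx))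
      · exact mul_mem (mem_normalizer_conj (hn (hp' hx)) ht) (inv_mem ht)
  have h1 : ⁅d, t⁆ ∈ A1 y y' ⊔ A1 y' y := sup_le_cmod h.mem_sup
    (fun x hx => ⟨h.dual.le_normalizer hx, mem_sup_left (key y hy y' hy1 hA x hx)⟩)
    fun x hx => ⟨h.dual.sup_le_normalizer (mem_sup_right hx),
      mem_sup_right (key y' hy1 y hy hA' x hx)⟩
  have hE : UU y ⊓ UU y' ≤ normalizer (UU z : Set G) :=
    inf_le_left.trans (hA.trans (Cz_le_normalizer_UU z))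
  have h2 : A1 y' y ≤ UU z ⊔ UU y ⊓ UU y' := fun b hb => by
    rcases (h.mem_XX_iff hb).1 (hB hb) with e | e
    · exact mem_sup_right e
    · exact (mul_mem_cancel_right (mem_sup_left hy1)).1 (mem_sup_right e)
  have h3 : A1 y y' ≤ UU z ⊔ UU y ⊓ UU y' := fun x hx => by
    obtain ⟨u, hu, ε, hε, e⟩ := (Solv.PG.mem_sup_iff_of_le_normalizer hE).1
      (h2 (h.back ▸ conj_mem_cj.2 hx : d * x * d⁻¹ ∈ _))
    rw [show x = d⁻¹ * (d * x * d⁻¹) * d⁻¹⁻¹ by group, e,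
      show d⁻¹ * (u * ε) * d⁻¹⁻¹ = d⁻¹ * u * d⁻¹⁻¹ * (d⁻¹ * ε * d⁻¹⁻¹) by group,
      Cz_conj (inv_mem (h.mem_Cz hε))]
    exact mul_mem (mem_sup_left (conj_mem_UU_of_mem (inv_mem hd) hu)) (mem_sup_right hε)
  obtain ⟨u, hu, ε, hε, e⟩ := (Solv.PG.mem_sup_iff_of_le_normalizer hE).1 (sup_le h3 h2 h1)
  refine comm_mem_of_odd h.odd (Cz_le_normalizer_UU z hd) (hE hε) (h.dual.sq hε) (h.mem_Cz hε) ?_
  have := mem_normalizer_conj' (hE hε) hu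
  rwa [inv_eq_of_sq (h.dual.sq hε), mul_assoc, ← e] at this

end LA

end Cfsg.Lib.Ngrp.Geo
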