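import Cfsg.Agent.Ngrp.AmDefs

set_option autoImplicit false

namespace Cfsg.Lib.Ngrp.Geo
open Subgroup Cfsg.Lib.Trans Cfsg.Lib.Local Cfsg.Lib.Local.JC Cfsg.Lib.Trans.TJ
open scoped commutatorElement

variable {G : Type*} [Group G]

/-- The centralizer of an element. -/
abbrev Cz (p : G) : Subgroup G := centralizer {p}

theorem mem_Cz {p c : G} : c ∈ Cz p ↔ c * p = p * c := mem_centralizer_singleton_iff

theorem mem_Cz' {p c : G} : c ∈ Cz p ↔ c * p * c⁻¹ = p := by
  rw [mem_Cz, mul_inv_eq_iff_eq_mul]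

theorem Cz_conj {p c : G} (h : c ∈ Cz p) : c * p * c⁻¹ = p := mem_Cz'.1 h

theorem Cz_symm {p q : G} (h : p ∈ Cz q) : q ∈ Cz p := mem_Cz.2 (mem_Cz.1 h).symm

theorem self_mem_Cz (p : G) : p ∈ Cz p := mem_Cz.2 rfl

theorem cj_Cz (g p : G) : cj g (Cz p) = Cz (g * p * g⁻¹) := by
  rw [cj_centralizer_set]; simp

theorem conj_mem_Cz {p c : G} (g : G) (h : c ∈ Cz p) : g * c * g⁻¹ ∈ Cz (g * p * g⁻¹) := by
  rw [← cj_Cz]; exact conj_mem_cj.2 h

theorem Cz_le_normalizer_zpowers (p : G) : Cz p ≤ normalizer (zpowers p : Set G) :=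
  fun _ h => normalizer_zpowers_of_comm (mem_Cz.1 h).symm

theorem normalizer_zpowers_eq {p : G} (hp : p * p = 1) : normalizer (zpowers p : Set G) = Cz p := by
  refine le_antisymm (fun g hg => ?_) (Cz_le_normalizer_zpowers p)
  rcases (mem_zpowers_two hp).1 (mem_normalizer_conj hg (mem_zpowers p)) with h | h
  · have : p = 1 := by
      have e : p = g⁻¹ * (g * p * g⁻¹) * g := by group
      rw [e, h]; group
    rw [mem_Cz, this]; simp
  · exact mem_Cz'.2 h

theorem cent_zpowers (p : G) : centralizer (zpowers p : Set G) = Cz p := by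
  rw [zpowers_eq_closure, centralizer_closure]

theorem le_Cz_of_mem {A : Subgroup G} {p : G} (hp : p ∈ A) : centralizer (A : Set G) ≤ Cz p :=
  centralizer_le (Set.singleton_subset_iff.2 hp)

theorem isPGroup_zpowers_two {p : G} (hp : p * p = 1) : IsPGroup 2 (zpowers p) :=
  Solv.PG.isPGroup_zpowers (k := 1) (by rw [pow_one, sq, hp])

theorem isPGroup_of_ea {A : Subgroup G} (h : IsElementaryAbelian 2 A) : IsPGroup 2 A :=
  Solv.PG.isPGroup_of_forall_mem fun x hx => ⟨1, by rw [pow_one]; exact h.2 x hx⟩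

theorem ea_comm' {A : Subgroup G} (h : IsElementaryAbelian 2 A) {a b : G} (ha : a ∈ A)
    (hb : b ∈ A) : a * b = b * a := by
  have := h.1
  exact setLike_mul_comm ha hb

theorem conj_ne_one {g x : G} (h : x ≠ 1) : g * x * g⁻¹ ≠ 1 := fun e => h (by
  have : x = g⁻¹ * (g * x * g⁻¹) * g := by group
  rw [this, e]; group)

theorem conj_inj {g x y : G} (h : g * x * g⁻¹ = g * y * g⁻¹) : x = y := by simpa using h

theorem cj_four (g s t : G) : cj g (four s t) = four (g * s * g⁻¹) (g * t * g⁻¹) := by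
  unfold four; rw [cj_sup, cj_zpowers, cj_zpowers]

theorem four_comm (s t : G) : four s t = four t s := sup_comm _ _

theorem ea_cj' {A : Subgroup G} (h : IsElementaryAbelian 2 A) (g : G) :
    IsElementaryAbelian 2 (cj g A) := by
  refine ea_of_sq fun a ha => ?_
  have := ea_sq h (mem_cj.1 ha)
  have e : a * a = g * (g⁻¹ * a * g * (g⁻¹ * a * g)) * g⁻¹ := by group
  rw [e, this]; group

theorem ah_charP_normalizer (h : AH G) {D : Subgroup G} (hD : IsPGroup 2 D) (h1 : D ≠ ⊥) :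
    CharP 2 (normalizer (D : Set G)) := charP_iff.2 (h.char.2 D hD h1)

theorem ah_solvable_normalizer (h : AH G) {D : Subgroup G} (hD : IsPGroup 2 D) (h1 : D ≠ ⊥) :
    Group.IsSolvable (normalizer (D : Set G)) := h.solv _ ⟨D, hD, h1, rfl⟩

theorem ah_solvable_of_le (h : AH G) {D H : Subgroup G} (hD : IsPGroup 2 D) (h1 : D ≠ ⊥)
    (hH : H ≤ normalizer (D : Set G)) : Group.IsSolvable H := by
  have := ah_solvable_normalizer h hD h1
  exact Group.isSolvable_of_isSolvable_injective (inclusion_injective hH)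

theorem ah_charP_Cz (h : AH G) {c : G} (hc : c * c = 1) (h1 : c ≠ 1) : CharP 2 (Cz c) := by
  rw [← normalizer_zpowers_eq hc]
  exact ah_charP_normalizer h (isPGroup_zpowers_two hc) (by simpa using h1)

theorem ah_solvable_Cz (h : AH G) {c : G} (hc : c * c = 1) (h1 : c ≠ 1) :
    Group.IsSolvable (Cz c) :=
  ah_solvable_of_le h (isPGroup_zpowers_two hc) (by simpa using h1) (Cz_le_normalizer_zpowers c)

/-- The centralizer of a nontrivial 2-element is solvable. -/
theorem ah_solvable_Cz' (h : AH G) {c : G} {k : ℕ} (hc : c ^ 2 ^ k = 1) (h1 : c ≠ 1) :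
    Group.IsSolvable (Cz c) :=
  ah_solvable_of_le h (Solv.PG.isPGroup_zpowers hc) (by simpa using h1) (Cz_le_normalizer_zpowers c)

theorem nat_sq {S : Sylow 2 G} {z : G} {Y : Subgroup G} (h : NatG S z Y) : z * z = 1 :=
  ea_sq h.ea h.mem

theorem nat_conj {S : Sylow 2 G} {z : G} {Y : Subgroup G} (h : NatG S z Y) (g : G) :
    NatG (g • S) (g * z * g⁻¹) (cj g Y) where
  ah := h.ah
  ne := conj_ne_one h.ne
  oc := by rw [coe_sylow_smul, ← cj_oc, h.oc, cj_zpowers]
  ea := ea_cj' h.ea g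
  card := by rw [card_cj, h.card]
  mem := conj_mem_cj.2 h.mem
  le := by rw [coe_sylow_smul]; exact cj_mono g h.le
  norm := by rw [coe_sylow_smul, ← cj_normalizer]; exact cj_mono g h.norm
  act := by
    change ¬ _ ≤ Cz _
    rw [← cj_normalizer, ← cj_Cz, cj_le_cj]; exact h.act
  notn := by
    change ¬ Cz _ ≤ _
    rw [← cj_normalizer, ← cj_Cz, cj_le_cj]; exact h.notn
  max := fun D hD h1 h2 => by
    have h3 := h.max (cj g⁻¹ D) (isPGroup_cj hD _) (by rwa [Ne, cj_eq_bot]) (by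
      rw [← cj_normalizer, ← cj_le_cj (g := g), cj_cj_inv, cj_normalizer]; exact h2)
    rw [← cj_normalizer, ← cj_le_cj (g := g), cj_cj_inv, cj_normalizer] at h3
    exact h3
  uniq := fun V hV h4 h1 h2 h3 => by
    rw [coe_sylow_smul] at h1 h2
    have := h.uniq (cj g⁻¹ V) (ea_cj' hV _) (by rw [card_cj, h4])
      (cj_inv_le_iff_le_cj.2 h1)
      (by rw [← cj_normalizer, ← cj_le_iff_le_cj_inv]; exact h2)
      (by rw [← cj_normalizer, cj_inv_le_iff_le_cj, cj_Cz]; exact h3)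
    rw [← this, cj_cj_inv]

/-- `p` is a point on the line `l`. -/
def Fl (p : G) (l : Subgroup G) : Prop := ∃ S : Sylow 2 G, NatG S p l

/-- `p` is a point. -/
def Pt (p : G) : Prop := ∃ l, Fl p l

/-- `p` and `q` are distinct collinear points; the line is `four p q`. -/
def Col (p q : G) : Prop := Fl p (four p q) ∧ q ≠ 1 ∧ q ≠ p

/-- The subgroup generated by the lines through `p`. -/
def UU (p : G) : Subgroup G := sSup {l | Fl p l}

theorem nat_fl {S : Sylow 2 G} {z : G} {Y : Subgroup G} (h : NatG S z Y) : Fl z Y := ⟨S, h⟩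

theorem nat_le_Cz {S : Sylow 2 G} {z : G} {Y : Subgroup G} (h : NatG S z Y) :
    (S : Subgroup G) ≤ Cz z := by
  rw [← cent_zpowers, ← h.oc]; exact le_centralizer_oc _

/-- An involution centralizing `S` is `z`. -/
theorem nat_eq_of_central {S : Sylow 2 G} {z : G} {Y : Subgroup G} (h : NatG S z Y) {c : G}
    (hc : c * c = 1) (h1 : c ≠ 1) (hS : (S : Subgroup G) ≤ Cz c) : c = z := by
  have hcS : c ∈ (S : Subgroup G) := by
    have h2 : IsPGroup 2 ((S : Subgroup G) ⊔ zpowers c : Subgroup G) :=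
      isPGroup_sup S.isPGroup' (isPGroup_zpowers_two hc) (hS.trans (Cz_le_normalizer_zpowers c))
    rw [← S.is_maximal' h2 le_sup_left]; exact mem_sup_right (mem_zpowers c)
  have : c ∈ omegaCenterOf (S : Subgroup G) :=
    mem_oc.2 ⟨hcS, fun s hs => mem_Cz.1 (hS hs), hc⟩
  rw [h.oc] at this
  exact ((mem_zpowers_two (nat_sq h)).1 this).resolve_left h1

namespace Fl

variable {p q : G} {l m : Subgroup G}

theorem pt (h : Fl p l) : Pt p := ⟨l, h⟩
theorem ah (h : Fl p l) : AH G := h.choose_spec.ah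
theorem ne (h : Fl p l) : p ≠ 1 := h.choose_spec.ne
theorem sq (h : Fl p l) : p * p = 1 := nat_sq h.choose_spec
theorem ea (h : Fl p l) : IsElementaryAbelian 2 l := h.choose_spec.ea
theorem card (h : Fl p l) : Nat.card l = 4 := h.choose_spec.card
theorem mem (h : Fl p l) : p ∈ l := h.choose_spec.mem
theorem act (h : Fl p l) : ¬ normalizer (l : Set G) ≤ Cz p := h.choose_spec.act
theorem notn (h : Fl p l) : ¬ Cz p ≤ normalizer (l : Set G) := h.choose_spec.notn
theorem isPGroup (h : Fl p l) : IsPGroup 2 l := isPGroup_of_ea h.ea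
theorem ne_bot (h : Fl p l) : l ≠ ⊥ := fun e => h.ne (by simpa [e] using h.mem)
theorem le_Cz (h : Fl p l) : l ≤ Cz p := fun _ hx => mem_Cz.2 (ea_comm' h.ea hx h.mem)
theorem le_UU (h : Fl p l) : l ≤ UU p := le_sSup h

/-- (MX) A nontrivial 2-group normalized by the normalizer `M` of a line has normalizer `M`. -/
theorem mx (h : Fl p l) {D : Subgroup G} (hD : IsPGroup 2 D) (h1 : D ≠ ⊥)
    (h2 : normalizer (l : Set G) ≤ normalizer (D : Set G)) :
    normalizer (D : Set G) ≤ normalizer (l : Set G) := h.choose_spec.max D hD h1 h2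

/-- No nontrivial 2-group is normalized by `N(l)` and `C(p)`. -/
theorem mx_bot (h : Fl p l) {D : Subgroup G} (hD : IsPGroup 2 D)
    (h2 : normalizer (l : Set G) ≤ normalizer (D : Set G)) (h3 : Cz p ≤ normalizer (D : Set G)) :
    D = ⊥ := by
  by_contra h1
  exact h.notn (h3.trans (h.mx hD h1 h2))

theorem conj (h : Fl p l) (g : G) : Fl (g * p * g⁻¹) (cj g l) :=
  let ⟨S, hS⟩ := h; ⟨g • S, nat_conj hS g⟩

theorem conj_of_mem (h : Fl p l) {g : G} (hg : g ∈ Cz p) : Fl p (cj g l) := by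
  have := h.conj g; rwa [Cz_conj hg] at this

theorem conj_of_norm (h : Fl p l) {g : G} (hg : g ∈ normalizer (l : Set G)) :
    Fl (g * p * g⁻¹) l := by
  have := h.conj g; rwa [cj_eq_of_mem_normalizer hg] at this

theorem charP_normalizer (h : Fl p l) : CharP 2 (normalizer (l : Set G)) :=
  ah_charP_normalizer h.ah h.isPGroup h.ne_bot

theorem solvable_normalizer (h : Fl p l) : Group.IsSolvable (normalizer (l : Set G)) :=
  ah_solvable_normalizer h.ah h.isPGroup h.ne_bot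

/-- A Sylow 2-subgroup of `G` inside `C(p) ⊓ N(l)`. -/
theorem exists_sylow (h : Fl p l) : ∃ S : Sylow 2 G, NatG S p l ∧ (S : Subgroup G) ≤ Cz p ∧
    (S : Subgroup G) ≤ normalizer (l : Set G) :=
  let ⟨S, hS⟩ := h; ⟨S, hS, nat_le_Cz hS, hS.norm⟩

variable [Finite G]

/-- `G` is transitive on flags. -/
theorem exists_conj (h : Fl p l) (h' : Fl q m) : ∃ g : G, g * p * g⁻¹ = q ∧ cj g l = m := by
  obtain ⟨S, hS⟩ := h
  obtain ⟨T, hT⟩ := h'
  obtain ⟨g, rfl⟩ := MulAction.exists_smul_eq G S T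
  have h1 := nat_conj hS g
  have e : g * p * g⁻¹ = q := nat_eq_of_central hT (nat_sq h1) h1.ne (nat_le_Cz h1)
  refine ⟨g, e, hT.uniq _ h1.ea h1.card h1.le h1.norm ?_⟩
  rw [← e]; exact h1.act

/-- `C(p)` is transitive on the lines through `p`. -/
theorem exists_cj (h : Fl p l) (h' : Fl p m) : ∃ g ∈ Cz p, cj g l = m :=
  let ⟨g, h1, h2⟩ := h.exists_conj h'; ⟨g, mem_Cz'.2 h1, h2⟩

/-- `N(l)` is transitive on the points of `l`. -/
theorem exists_norm (h : Fl p l) (h' : Fl q l) :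
    ∃ g ∈ normalizer (l : Set G), g * p * g⁻¹ = q :=
  let ⟨g, h1, h2⟩ := h.exists_conj h'; ⟨g, cj_eq_self_iff.1 h2, h1⟩

theorem four_eq (h : Fl p l) (hq : q ∈ l) (h1 : q ≠ 1) (h2 : q ≠ p) : four p q = l :=
  four_eq_of_card h.ea h.card h.mem hq h.ne h1 h2.symm

theorem mem_iff (h : Fl p l) (hq : q ∈ l) (h1 : q ≠ 1) (h2 : q ≠ p) {x : G} :
    x ∈ l ↔ x = 1 ∨ x = p ∨ x = q ∨ x = p * q :=
  mem_iff_of_card h.ea h.card h.mem hq h.ne h1 h2.symm

theorem col (h : Fl p l) (hq : q ∈ l) (h1 : q ≠ 1) (h2 : q ≠ p) : Col p q :=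
  ⟨(h.four_eq hq h1 h2).symm ▸ h, h1, h2⟩

theorem exists_col (h : Fl p l) : ∃ q, Col p q ∧ four p q = l := by
  have : ¬ l ≤ zpowers p := fun h1 => by
    have := Trans.card_le_of_le h1
    rw [h.card, card_zpowers_two h.sq h.ne] at this
    omega
  obtain ⟨q, hq, h1⟩ := SetLike.not_le_iff_exists.1 this
  rw [mem_zpowers_two h.sq, not_or] at h1
  exact ⟨q, h.col hq h1.1 h1.2, h.four_eq hq h1.1 h1.2⟩

end Fl

namespace Col

variable {p q r s : G}

theorem fl (h : Col p q) : Fl p (four p q) := h.1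
theorem pt (h : Col p q) : Pt p := h.1.pt
theorem ne_one (h : Col p q) : q ≠ 1 := h.2.1
theorem ne (h : Col p q) : q ≠ p := h.2.2
theorem sq (h : Col p q) : q * q = 1 := ea_sq h.1.ea (right_mem_four p q)
theorem comm (h : Col p q) : p * q = q * p := ea_comm' h.1.ea (left_mem_four p q) (right_mem_four p q)
theorem mem_Cz (h : Col p q) : q ∈ Cz p := Geo.mem_Cz.2 h.comm.symm
theorem mem_UU (h : Col p q) : q ∈ UU p := h.1.le_UU (right_mem_four p q)
theorem mem_four (h : Col p q) {x : G} : x ∈ four p q ↔ x = 1 ∨ x = p ∨ x = q ∨ x = p * q :=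
  JC.mem_four h.1.sq h.sq h.comm
theorem not_mem_zpowers (h : Col p q) : q ∉ zpowers p := by
  rw [mem_zpowers_two h.1.sq, not_or]; exact ⟨h.ne_one, h.ne⟩
theorem mul_ne_one (h : Col p q) : p * q ≠ 1 := fun e => h.ne (by
  rw [← mul_one q, ← h.1.sq, ← mul_assoc, ← h.comm, e, one_mul])
theorem mul_ne_left (h : Col p q) : p * q ≠ p := fun e => h.ne_one (by simpa using e)
theorem mul_ne_right (h : Col p q) : p * q ≠ q := fun e => h.1.ne (by simpa using e)

theorem conj (h : Col p q) (g : G) : Col (g * p * g⁻¹) (g * q * g⁻¹) :=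
  ⟨cj_four g p q ▸ h.1.conj g, conj_ne_one h.ne_one, fun e => h.ne (conj_inj e)⟩

theorem conj_of_mem (h : Col p q) {g : G} (hg : g ∈ Cz p) : Col p (g * q * g⁻¹) := by
  have := h.conj g; rwa [Cz_conj hg] at this

/-- An element fixing `p` normalizes the line iff it maps `q` to `q` or `p q`. -/
theorem mem_normalizer_iff [Finite G] (h : Col p q) {g : G} (hg : g ∈ Cz p) :
    g ∈ normalizer (four p q : Set G) ↔ g * q * g⁻¹ = q ∨ g * q * g⁻¹ = p * q := by
  constructor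
  · intro hn
    rcases h.mem_four.1 (mem_normalizer_conj hn (right_mem_four p q)) with e | e | e | e
    · exact absurd e (conj_ne_one h.ne_one)
    · exact absurd (conj_inj (e.trans (Cz_conj hg).symm)) h.ne
    · exact Or.inl e
    · exact Or.inr e
  · intro e
    refine mem_normalizer_of_cj_le ?_
    rw [cj_four, Cz_conj hg]
    refine four_le (left_mem_four p q) ?_
    rcases e with e | e <;> rw [e]
    · exact right_mem_four p q
    · exact mul_mem (left_mem_four p q) (right_mem_four p q)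

theorem mem_centralizer_iff (_h : Col p q) {g : G} :
    g ∈ centralizer (four p q : Set G) ↔ g ∈ Cz p ∧ g ∈ Cz q := by
  unfold four
  rw [MSS.centralizer_sup', cent_zpowers, cent_zpowers, mem_inf]

variable [Finite G]

theorem mul (h : Col p q) : Col p (p * q) :=
  h.1.col (mul_mem (left_mem_four p q) (right_mem_four p q)) h.mul_ne_one h.mul_ne_left

theorem four_mul (h : Col p q) : four p (p * q) = four p q :=
  h.1.four_eq (mul_mem (left_mem_four p q) (right_mem_four p q)) h.mul_ne_one h.mul_ne_left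

/-- Some element fixes `p` and swaps the other two points of the line. -/
theorem exists_swap (h : Col p q) : ∃ s ∈ Cz p, s * q * s⁻¹ = p * q := by
  obtain ⟨S, hS, h1, h2⟩ := h.1.exists_sylow
  by_contra hn
  push Not at hn
  refine h.ne (nat_eq_of_central hS h.sq h.ne_one fun s hs => mem_Cz'.2 ?_)
  exact ((h.mem_normalizer_iff (h1 hs)).1 (h2 hs)).resolve_right (hn s (h1 hs))

theorem fl' (h : Col p q) : Fl q (four p q) := by
  obtain ⟨g, hg, h1⟩ := SetLike.not_le_iff_exists.1 h.1.act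
  have h2 := h.1.conj_of_norm hg
  rcases h.mem_four.1 (mem_normalizer_conj hg (left_mem_four p q)) with e | e | e | e
  · exact absurd e h2.ne
  · exact absurd (mem_Cz'.2 e) h1
  · rwa [e] at h2
  · obtain ⟨s, hs, e'⟩ := h.exists_swap
    have h3 := h2.conj_of_norm (inv_mem ((h.mem_normalizer_iff hs).2 (Or.inr e')))
    rw [e, ← e'] at h3
    simpa [mul_assoc] using h3

theorem symm (h : Col p q) : Col q p := ⟨four_comm p q ▸ h.fl', h.1.ne, h.ne.symm⟩

theorem pt' (h : Col p q) : Pt q := h.symm.pt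

/-- `G` is transitive on ordered pairs of collinear points. -/
theorem exists_conj (h : Col p q) (h' : Col r s) : ∃ g : G, g * p * g⁻¹ = r ∧ g * q * g⁻¹ = s := by
  obtain ⟨g, h1, h2⟩ := h.1.exists_conj h'.1
  have h3 := h.conj g
  have h4 : g * q * g⁻¹ ∈ four r s := h2 ▸ conj_mem_cj.2 (right_mem_four p q)
  rcases h'.mem_four.1 h4 with e | e | e | e
  · exact absurd e h3.ne_one
  · exact absurd (e.trans h1.symm) h3.ne
  · exact ⟨g, h1, e⟩
  · obtain ⟨t, ht, e'⟩ := h'.exists_swap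
    refine ⟨t⁻¹ * g, ?_, ?_⟩
    · have : t⁻¹ * g * p * (t⁻¹ * g)⁻¹ = t⁻¹ * (g * p * g⁻¹) * t⁻¹⁻¹ := by group
      rw [this, h1]; exact Cz_conj (inv_mem ht)
    · have : t⁻¹ * g * q * (t⁻¹ * g)⁻¹ = t⁻¹ * (g * q * g⁻¹) * t := by group
      rw [this, e, ← e']; group

/-- `C(p)` is transitive on the points collinear with `p`. -/
theorem exists_conj_mem (h : Col p q) (h' : Col p r) : ∃ g ∈ Cz p, g * q * g⁻¹ = r :=
  let ⟨g, h1, h2⟩ := h.exists_conj h'; ⟨g, mem_Cz'.2 h1, h2⟩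

/-- An element interchanging two collinear points. -/
theorem exists_flip (h : Col p q) : ∃ g : G, g * p * g⁻¹ = q ∧ g * q * g⁻¹ = p :=
  h.exists_conj h.symm

theorem mul_symm (h : Col p q) : Col (p * q) p := h.mul.symm

theorem mul_right (h : Col p q) : Col q (p * q) := h.comm ▸ h.symm.mul

/-- An element permuting the points of the line cyclically. -/
theorem exists_rot (h : Col p q) : ∃ g : G, g * p * g⁻¹ = q ∧ g * q * g⁻¹ = p * q :=
  h.exists_conj h.mul_right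

/-- An element of odd order permuting the points of the line cyclically. -/
theorem exists_rot_odd (h : Col p q) :
    ∃ g : G, Odd (orderOf g) ∧ g * p * g⁻¹ = q ∧ g * q * g⁻¹ = p * q := by
  obtain ⟨g, h1, h2⟩ := h.exists_rot
  have h3 : g * (p * q) * g⁻¹ = p := by
    have : g * (p * q) * g⁻¹ = (g * p * g⁻¹) * (g * q * g⁻¹) := by group
    rw [this, h1, h2, ← mul_assoc, ← h.comm, mul_assoc, h.sq, mul_one]
  have key : ∀ n : ℕ, g ^ 4 ^ n * p * (g ^ 4 ^ n)⁻¹ = q ∧ g ^ 4 ^ n * q * (g ^ 4 ^ n)⁻¹ = p * q := by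
    intro n
    induction n with
    | zero => simpa using ⟨h1, h2⟩
    | succ n ih =>
      set k := g ^ 4 ^ n with hk
      have e : g ^ 4 ^ (n + 1) = k * k * k * k := by
        rw [pow_succ, pow_mul, ← hk]; simp [pow_succ]
      have h4 : k * (p * q) * k⁻¹ = p := by
        have : k * (p * q) * k⁻¹ = (k * p * k⁻¹) * (k * q * k⁻¹) := by group
        rw [this, ih.1, ih.2, ← mul_assoc, ← h.comm, mul_assoc, h.sq, mul_one]
      have e1 : ∀ x, k * k * k * k * x * (k * k * k * k)⁻¹ =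
          k * (k * (k * (k * x * k⁻¹) * k⁻¹) * k⁻¹) * k⁻¹ := fun x => by group
      rw [e, e1, e1, ih.1, ih.2, h4, ih.1, ih.2]
      exact ⟨rfl, rfl⟩
  obtain ⟨a, m, hm, e⟩ := Nat.exists_eq_two_pow_mul_odd (orderOf_pos g).ne'
  refine ⟨g ^ 4 ^ a, ?_, key a⟩
  refine Odd.of_dvd_nat hm (orderOf_dvd_of_pow_eq_one ?_)
  rw [← pow_mul, ← orderOf_dvd_iff_pow_eq_one, e]
  refine Nat.mul_dvd_mul_right ?_ m
  rw [show (4 : ℕ) = 2 * 2 from rfl, mul_pow]
  exact Dvd.intro _ rfl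

end Col

theorem Fl.of_mem [Finite G] {p q : G} {l : Subgroup G} (h : Fl p l) (hq : q ∈ l) (h1 : q ≠ 1) :
    Fl q l := by
  by_cases h2 : q = p
  · rwa [h2]
  · have := (h.col hq h1 h2).fl'
    rwa [h.four_eq hq h1 h2] at this

namespace Pt

variable {p q : G}

theorem ah (h : Pt p) : AH G := h.choose_spec.ah
theorem ne (h : Pt p) : p ≠ 1 := h.choose_spec.ne
theorem sq (h : Pt p) : p * p = 1 := h.choose_spec.sq
theorem inv (h : Pt p) : p⁻¹ = p := inv_eq_of_sq h.sq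
theorem mem_zpowers (h : Pt p) {x : G} : x ∈ zpowers p ↔ x = 1 ∨ x = p := mem_zpowers_two h.sq
theorem conj (h : Pt p) (g : G) : Pt (g * p * g⁻¹) := let ⟨_, hl⟩ := h; (hl.conj g).pt
theorem charP (h : Pt p) : CharP 2 (Cz p) := ah_charP_Cz h.ah h.sq h.ne
theorem solvable (h : Pt p) : Group.IsSolvable (Cz p) := ah_solvable_Cz h.ah h.sq h.ne
theorem mem_UU (h : Pt p) : p ∈ UU p := let ⟨_, hl⟩ := h; hl.le_UU hl.mem
theorem zpowers_le_UU (h : Pt p) : zpowers p ≤ UU p := (zpowers_le).2 h.mem_UU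

variable [Finite G]

theorem card_zpowers (h : Pt p) : Nat.card (zpowers p) = 2 := card_zpowers_two h.sq h.ne

theorem exists_col (h : Pt p) : ∃ q, Col p q :=
  let ⟨_, hl⟩ := h; let ⟨q, hq, _⟩ := hl.exists_col; ⟨q, hq⟩

theorem exists_conj (h : Pt p) (h' : Pt q) : ∃ g : G, g * p * g⁻¹ = q :=
  let ⟨_, hl⟩ := h; let ⟨_, hm⟩ := h'; let ⟨g, hg, _⟩ := hl.exists_conj hm; ⟨g, hg⟩

/-- Every Sylow 2-subgroup of `C(p)` is the Sylow subgroup of a flag at `p`. -/
theorem exists_natG (h : Pt p) {T : Subgroup G} (hT : IsSylowIn 2 T (Cz p)) :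
    ∃ (S : Sylow 2 G) (l : Subgroup G), NatG S p l ∧ (S : Subgroup G) = T := by
  obtain ⟨l, S, hS⟩ := h
  obtain ⟨g, hg, e⟩ := hT.exists_cj_eq (isSylowIn_of_le S (nat_le_Cz hS))
  have := nat_conj hS g
  rw [Cz_conj hg] at this
  exact ⟨g • S, _, this, e⟩

/-- An involution centralizing a Sylow 2-subgroup of `C(p)` is `p`. -/
theorem eq_of_central (h : Pt p) {T : Subgroup G} (hT : IsSylowIn 2 T (Cz p)) {c : G}
    (hc : c * c = 1) (h1 : c ≠ 1) (hS : T ≤ Cz c) : c = p := by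
  obtain ⟨S, l, hS', rfl⟩ := h.exists_natG hT
  exact nat_eq_of_central hS' hc h1 hS

/-- A nontrivial 2-group normalized by a Sylow 2-subgroup of `C(p)` contains `p`. -/
theorem mem_of_sylow (h : Pt p) {T : Subgroup G} (hT : IsSylowIn 2 T (Cz p)) {D : Subgroup G}
    (hD : IsPGroup 2 D) (h1 : D ≠ ⊥) (hn : T ≤ normalizer (D : Set G)) : p ∈ D := by
  obtain ⟨c, hc, h2, -, h3⟩ := Solv.PG.exists_mem_centralizer_orderOf_eq hT.isPGroup hD hn h1
  have h4 : c * c = 1 := by rw [← _root_.sq, ← h3]; exact pow_orderOf_eq_one c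
  have h5 : c ≠ 1 := by rintro rfl; simp at h3
  rw [← h.eq_of_central hT h4 h5 fun t ht => mem_Cz.2 (h2 t ht)]; exact hc

/-- A nontrivial 2-group normalized by `C(p)` contains `p`. -/
theorem mem_of_normal (h : Pt p) {D : Subgroup G} (hD : IsPGroup 2 D) (h1 : D ≠ ⊥)
    (hn : Cz p ≤ normalizer (D : Set G)) : p ∈ D := by
  obtain ⟨T, hT⟩ := exists_isSylowIn (p := 2) (Cz p)
  exact h.mem_of_sylow hT hD h1 (hT.le.trans hn)

end Pt

namespace Fl

variable [Finite G] {p q : G} {l : Subgroup G}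

theorem exists_sylowIn (h : Fl p l) : ∃ T : Subgroup G, IsSylowIn 2 T (Cz p) ∧ IsSylowIn 2 T ⊤ ∧
    T ≤ normalizer (l : Set G) :=
  let ⟨S, _, h1, h2⟩ := h.exists_sylow; ⟨S, isSylowIn_of_le S h1, isSylowIn_top S, h2⟩

/-- A nontrivial 2-group normalized by `C(p) ⊓ N(l)` contains `p`. -/
theorem mem_of_normal (h : Fl p l) {D : Subgroup G} (hD : IsPGroup 2 D) (h1 : D ≠ ⊥)
    (hn : Cz p ⊓ normalizer (l : Set G) ≤ normalizer (D : Set G)) : p ∈ D := by
  obtain ⟨T, hT, -, h2⟩ := h.exists_sylowIn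
  exact h.pt.mem_of_sylow hT hD h1 ((le_inf hT.le h2).trans hn)

/-- A nontrivial 2-group normalized by `N(l)` contains `l`. -/
theorem le_of_normal (h : Fl p l) {D : Subgroup G} (hD : IsPGroup 2 D) (h1 : D ≠ ⊥)
    (hn : normalizer (l : Set G) ≤ normalizer (D : Set G)) : l ≤ D := fun x hx => by
  by_cases h2 : x = 1
  · rw [h2]; exact one_mem D
  · exact (h.of_mem hx h2).mem_of_normal hD h1 (inf_le_right.trans hn)

/-- The centre of `N(l)` has no 2-elements. -/
theorem eq_one_of_central (h : Fl p l) {c : G} {k : ℕ} (hc : c ^ 2 ^ k = 1)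
    (hn : normalizer (l : Set G) ≤ Cz c) : c = 1 := by
  by_contra h1
  have h2 := h.mem_of_normal (Solv.PG.isPGroup_zpowers hc) (by simpa using h1)
    (inf_le_right.trans (hn.trans (Cz_le_normalizer_zpowers c)))
  refine h.act (hn.trans fun g hg => ?_)
  rw [← cent_zpowers] at hg
  exact le_Cz_of_mem h2 hg

/-- A 2-subgroup normalized by `N(l)` and centralized by an element moving a point is trivial. -/
theorem eq_bot_of_moved (h : Fl p l) {D : Subgroup G} (hD : IsPGroup 2 D)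
    (hn : normalizer (l : Set G) ≤ normalizer (D : Set G)) {g : G}
    (hg : g ∈ centralizer (D : Set G)) (hg' : g ∉ centralizer (l : Set G)) : D = ⊥ := by
  by_contra h1
  exact hg' (centralizer_le (h.le_of_normal hD h1 hn) hg)

end Fl

theorem UU_le_iff {p : G} {H : Subgroup G} : UU p ≤ H ↔ ∀ l, Fl p l → l ≤ H := sSup_le_iff

theorem UU_le_of_col [Finite G] {p : G} {H : Subgroup G} (h : ∀ q, Col p q → q ∈ H) :
    UU p ≤ H := UU_le_iff.2 fun l hl => by
  obtain ⟨q, hq, rfl⟩ := hl.exists_col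
  refine four_le ?_ (h q hq)
  have := mul_mem (h _ hq.mul) (h q hq)
  rwa [mul_assoc, hq.sq, mul_one] at this

theorem UU_eq_closure [Finite G] (p : G) : UU p = closure {q | Col p q} :=
  le_antisymm (UU_le_of_col fun _ hq => subset_closure hq)
    ((closure_le _).2 fun _ hq => Col.mem_UU hq)

theorem UU_le_Cz (p : G) : UU p ≤ Cz p := UU_le_iff.2 fun _ hl => hl.le_Cz

theorem cj_UU_le (g p : G) : cj g (UU p) ≤ UU (g * p * g⁻¹) := by
  rw [cj_le_iff_le_cj_inv]
  exact UU_le_iff.2 fun l hl => cj_le_iff_le_cj_inv.1 (hl.conj g).le_UU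

theorem cj_UU (g p : G) : cj g (UU p) = UU (g * p * g⁻¹) := by
  refine le_antisymm (cj_UU_le g p) ?_
  have := cj_UU_le g⁻¹ (g * p * g⁻¹)
  rw [cj_inv_le_iff_le_cj] at this
  simpa [mul_assoc] using this

theorem conj_mem_UU {p u : G} (g : G) (h : u ∈ UU p) : g * u * g⁻¹ ∈ UU (g * p * g⁻¹) := by
  rw [← cj_UU]; exact conj_mem_cj.2 h

theorem Cz_le_normalizer_UU (p : G) : Cz p ≤ normalizer (UU p : Set G) := fun g hg => by
  rw [← cj_eq_self_iff, cj_UU, Cz_conj hg]

theorem conj_mem_UU_of_mem {p u g : G} (hg : g ∈ Cz p) (h : u ∈ UU p) : g * u * g⁻¹ ∈ UU p :=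
  mem_normalizer_conj (Cz_le_normalizer_UU p hg) h

theorem Fl.ncl_eq [Finite G] {p : G} {l : Subgroup G} (h : Fl p l) : MSS.ncl l (Cz p) = UU p :=
  le_antisymm (MSS.ncl_le h.le_UU (Cz_le_normalizer_UU p)) (UU_le_iff.2 fun _ hm => by
    obtain ⟨g, hg, rfl⟩ := h.exists_cj hm
    exact MSS.cj_le_ncl l hg)

theorem natU_eq [Finite G] {S : Sylow 2 G} {z : G} {Y : Subgroup G} (h : NatG S z Y) :
    natU z Y = UU z := (nat_fl h).ncl_eq

/-- The elements of `C(p)` acting trivially on `U_p / ⟨p⟩`. -/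
def XX (p : G) : Subgroup G where
  carrier := {c | c ∈ Cz p ∧ ∀ u ∈ UU p, c * u * c⁻¹ * u⁻¹ ∈ zpowers p}
  one_mem' := ⟨one_mem _, fun u _ => by simp⟩
  mul_mem' := by
    rintro a b ⟨ha, ha'⟩ ⟨hb, hb'⟩
    refine ⟨mul_mem ha hb, fun u hu => ?_⟩
    have e : a * b * u * (a * b)⁻¹ * u⁻¹ =
        a * (b * u * b⁻¹ * u⁻¹) * a⁻¹ * (a * u * a⁻¹ * u⁻¹) := by group
    rw [e]
    exact mul_mem (mem_normalizer_conj (Cz_le_normalizer_zpowers p ha) (hb' u hu)) (ha' u hu)
  inv_mem' := by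
    rintro a ⟨ha, ha'⟩
    refine ⟨inv_mem ha, fun u hu => ?_⟩
    have e : a⁻¹ * u * a⁻¹⁻¹ * u⁻¹ = a⁻¹ * (a * u * a⁻¹ * u⁻¹)⁻¹ * a := by group
    rw [e]
    exact mem_normalizer_conj' (Cz_le_normalizer_zpowers p ha) (inv_mem (ha' u hu))

theorem mem_XX {p c : G} : c ∈ XX p ↔ c ∈ Cz p ∧ ∀ u ∈ UU p, ⁅c, u⁆ ∈ zpowers p := Iff.rfl

theorem XX_le_Cz (p : G) : XX p ≤ Cz p := fun _ h => h.1

theorem comm_mem_of_XX {p c u : G} (hc : c ∈ XX p) (hu : u ∈ UU p) : ⁅c, u⁆ ∈ zpowers p :=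
  hc.2 u hu

theorem comm_mem_of_XX' {p c u : G} (hc : c ∈ XX p) (hu : u ∈ UU p) : ⁅u, c⁆ ∈ zpowers p := by
  rw [← commutatorElement_inv]; exact inv_mem (hc.2 u hu)

theorem centralizer_UU_le {p : G} (h : Pt p) : centralizer (UU p : Set G) ≤ XX p := fun c hc =>
  ⟨le_Cz_of_mem h.mem_UU hc, fun u hu => by
    rw [conj_eq_of_mem_centralizer hc hu]; simp⟩

theorem conj_mem_XX {p c : G} (g : G) (h : c ∈ XX p) : g * c * g⁻¹ ∈ XX (g * p * g⁻¹) := by
  refine ⟨conj_mem_Cz g h.1, fun u hu => ?_⟩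
  rw [← cj_UU, mem_cj] at hu
  rw [← cj_zpowers, mem_cj]
  have := h.2 _ hu
  convert this using 1; group

theorem cj_XX (g p : G) : cj g (XX p) = XX (g * p * g⁻¹) := by
  refine le_antisymm (cj_le_iff.2 fun _ h => conj_mem_XX g h) (le_cj_iff.2 fun t h => ?_)
  have := conj_mem_XX g⁻¹ h
  simpa [mul_assoc] using this

theorem Cz_le_normalizer_XX (p : G) : Cz p ≤ normalizer (XX p : Set G) := fun g hg => by
  rw [← cj_eq_self_iff, cj_XX, Cz_conj hg]

theorem conj_mem_XX_of_mem {p c g : G} (hg : g ∈ Cz p) (h : c ∈ XX p) : g * c * g⁻¹ ∈ XX p :=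
  mem_normalizer_conj (Cz_le_normalizer_XX p hg) h

/-- An element of `X_p` maps `u ∈ U_p` to `u` or `p u`. -/
theorem Pt.conj_XX {p c u : G} (h : Pt p) (hc : c ∈ XX p) (hu : u ∈ UU p) :
    c * u * c⁻¹ = u ∨ c * u * c⁻¹ = p * u := by
  rcases h.mem_zpowers.1 (hc.2 u hu) with e | e
  · exact Or.inl (mul_inv_eq_one.1 e)
  · exact Or.inr (mul_inv_eq_iff_eq_mul.1 e)

variable [Finite G]

theorem mem_XX_of_col {p c : G} (hc : c ∈ Cz p)
    (h : ∀ q, Col p q → c * q * c⁻¹ = q ∨ c * q * c⁻¹ = p * q) : c ∈ XX p := by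
  refine ⟨hc, fun u hu => ?_⟩
  rw [UU_eq_closure] at hu
  induction hu using closure_induction with
  | mem x hx => rcases h x hx with e | e <;> rw [e] <;> simp
  | one => simp
  | mul x y hx hy ihx ihy =>
    have e : c * (x * y) * c⁻¹ * (x * y)⁻¹ =
        (c * x * c⁻¹ * x⁻¹) * (x * (c * y * c⁻¹ * y⁻¹) * x⁻¹) := by group
    rw [e]
    rw [← UU_eq_closure] at hx
    exact mul_mem ihx (mem_normalizer_conj (Cz_le_normalizer_zpowers p (UU_le_Cz p hx)) ihy)
  | inv x hx ihx =>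
    have e : c * x⁻¹ * c⁻¹ * x⁻¹⁻¹ = x⁻¹ * (c * x * c⁻¹ * x⁻¹)⁻¹ * x := by group
    rw [e]
    rw [← UU_eq_closure] at hx
    exact mem_normalizer_conj' (Cz_le_normalizer_zpowers p (UU_le_Cz p hx)) (inv_mem ihx)

theorem Fl.XX_le {p : G} {l : Subgroup G} (h : Fl p l) : XX p ≤ normalizer (l : Set G) := by
  obtain ⟨q, hq, rfl⟩ := h.exists_col
  exact fun c hc => (hq.mem_normalizer_iff hc.1).2 (h.pt.conj_XX hc hq.mem_UU)

/-- `X_p` is the set of elements of `C(p)` normalizing every line through `p`. -/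
theorem mem_XX_of_normalizer {p c : G} (hc : c ∈ Cz p)
    (h : ∀ l, Fl p l → c ∈ normalizer (l : Set G)) : c ∈ XX p :=
  mem_XX_of_col hc fun _ hq => (hq.mem_normalizer_iff hc).1 (h _ hq.fl)

/-- A subgroup normalized by `C(p)` and inside `C(p) ⊓ N(l)` lies in `X_p`. -/
theorem Fl.le_XX {p : G} {l D : Subgroup G} (h : Fl p l) (h1 : D ≤ Cz p)
    (h2 : D ≤ normalizer (l : Set G)) (h3 : Cz p ≤ normalizer (D : Set G)) : D ≤ XX p :=
  fun c hc => mem_XX_of_normalizer (h1 hc) fun m hm => by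
    obtain ⟨g, hg, rfl⟩ := h.exists_cj hm
    rw [← cj_normalizer, mem_cj]
    exact h2 (mem_normalizer_conj' (h3 hg) hc)

theorem core_le_XX {p : G} (h : Pt p) : pCoreOf 2 (Cz p) ≤ XX p := by
  obtain ⟨l, hl⟩ := h
  obtain ⟨T, hT, -, h2⟩ := hl.exists_sylowIn
  exact hl.le_XX (pCoreOf_le _) ((pCoreOf_le_sylowIn hT).trans h2) (le_normalizer_pCoreOf _)

omit [Finite G] in
theorem commutator_XX_UU_le (p : G) : ⁅XX p, UU p⁆ ≤ zpowers p :=
  commutator_le.2 fun _ hc _ hu => hc.2 _ hu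

theorem isPGroup_UU (p : G) : IsPGroup 2 (UU p) := by
  by_cases h : Pt p
  · refine h.charP.isPGroup_of_commutator_le (UU_le_Cz p)
      ((commutator_mono (core_le_XX h) le_rfl).trans (commutator_XX_UU_le p)) ?_
    rw [cent_zpowers]; exact UU_le_Cz p
  · have : UU p = ⊥ := eq_bot_iff.2 (UU_le_iff.2 fun l hl => absurd hl.pt h)
    rw [this]; exact IsPGroup.of_bot

theorem UU_le_core (p : G) : UU p ≤ pCoreOf 2 (Cz p) :=
  MSS.le_pCoreOf (UU_le_Cz p) (Cz_le_normalizer_UU p) (isPGroup_UU p)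

theorem UU_le_XX (p : G) : UU p ≤ XX p := by
  by_cases h : Pt p
  · exact (UU_le_core p).trans (core_le_XX h)
  · exact UU_le_iff.2 fun l hl => absurd hl.pt h

theorem comm_mem_UU {p u v : G} (hu : u ∈ UU p) (hv : v ∈ UU p) : ⁅u, v⁆ ∈ zpowers p :=
  (UU_le_XX p hu).2 v hv

theorem Pt.conj_UU {p u v : G} (h : Pt p) (hu : u ∈ UU p) (hv : v ∈ UU p) :
    u * v * u⁻¹ = v ∨ u * v * u⁻¹ = p * v := h.conj_XX (UU_le_XX p hu) hv

theorem sq_mem_UU {p u : G} (hu : u ∈ UU p) : u * u ∈ zpowers p := by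
  rw [UU_eq_closure] at hu
  induction hu using closure_induction with
  | mem x hx => rw [Col.sq hx]; exact one_mem _
  | one => simp
  | mul x y hx hy ihx ihy =>
    rw [← UU_eq_closure] at hx hy
    have e : x * y * (x * y) = (x * x) * ⁅x⁻¹, y⁆ * (y * y) := by
      rw [commutatorElement_def]; group
    rw [e]
    exact mul_mem (mul_mem ihx (comm_mem_UU (inv_mem hx) hy)) ihy
  | inv x _ ihx => rw [← mul_inv_rev]; exact inv_mem ihx

theorem Pt.sq_UU {p u : G} (h : Pt p) (hu : u ∈ UU p) : u * u = 1 ∨ u * u = p :=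
  h.mem_zpowers.1 (sq_mem_UU hu)

/-- If `U_p` is abelian it is elementary abelian. -/
theorem ea_UU_of_comm {p : G} (h : ∀ u ∈ UU p, ∀ v ∈ UU p, u * v = v * u) :
    IsElementaryAbelian 2 (UU p) := by
  refine ea_of_sq fun u hu => ?_
  rw [UU_eq_closure] at hu
  induction hu using closure_induction with
  | mem x hx => exact Col.sq hx
  | one => simp
  | mul x y hx hy ihx ihy =>
    rw [← UU_eq_closure] at hx hy
    have e : x * y * (x * y) = x * (y * x) * y := by group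
    rw [e, ← h x hx y hy]
    have e2 : x * (x * y) * y = (x * x) * (y * y) := by group
    rw [e2, ihx, ihy, one_mul]
  | inv x _ ihx => rw [← mul_inv_rev, ihx, inv_one]

theorem Fl.UU_le_normalizer {p : G} {l : Subgroup G} (h : Fl p l) :
    UU p ≤ normalizer (l : Set G) := (UU_le_XX p).trans h.XX_le

theorem Pt.XX_ne (p : G) (h : Pt p) : ¬ Cz p ≤ XX p :=
  let ⟨_, hl⟩ := h; fun e => hl.notn (e.trans hl.XX_le)

omit [Finite G] in
theorem Fl.ne_UU {p : G} {l : Subgroup G} (h : Fl p l) : UU p ≠ l := fun e =>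
  h.notn (e ▸ Cz_le_normalizer_UU p)

theorem Pt.eight_le_card {p : G} (h : Pt p) : 8 ≤ Nat.card (UU p) := by
  obtain ⟨l, hl⟩ := h
  have := Solv.PG.prime_mul_card_le_of_lt (isPGroup_UU p) (lt_of_le_of_ne hl.le_UU hl.ne_UU.symm)
  rwa [hl.card] at this

end Cfsg.Lib.Ngrp.Geo
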