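import Cfsg.Agent.Ngrp.AmGeo
import Cfsg.Agent.Solv.SectionAut
import Cfsg.Agent.Solv.Fitting

set_option autoImplicit false

namespace Cfsg.Lib.Ngrp.Geo
open Subgroup Cfsg.Lib.Trans Cfsg.Lib.Local Cfsg.Lib.Local.JC Cfsg.Lib.Trans.TJ
open scoped commutatorElement

variable {G : Type*} [Group G]

instance normal_zpowers_UU (p : G) : ((zpowers p).subgroupOf (UU p)).Normal :=
  ⟨fun n hn g => by
    rw [mem_subgroupOf] at hn ⊢
    exact mem_normalizer_conj (Cz_le_normalizer_zpowers p (UU_le_Cz p g.2)) hn⟩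

/-- The module `U_p / ⟨p⟩`. -/
def VV (p : G) : Type _ := UU p ⧸ (zpowers p).subgroupOf (UU p)

instance instCommGroupVV [Finite G] (p : G) : CommGroup (VV p) :=
  { (inferInstance : Group (UU p ⧸ (zpowers p).subgroupOf (UU p))) with
    mul_comm := fun a b => by
      induction a using QuotientGroup.induction_on with | H a => ?_
      induction b using QuotientGroup.induction_on with | H b => ?_
      change (QuotientGroup.mk (a * b) : UU p ⧸ (zpowers p).subgroupOf (UU p)) =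
        QuotientGroup.mk (b * a)
      rw [QuotientGroup.eq, mem_subgroupOf]
      have := comm_mem_UU (inv_mem b.2) (inv_mem a.2)
      rw [commutatorElement_def] at this
      simpa [mul_assoc] using this }

instance instFiniteVV [Finite G] (p : G) : Finite (VV p) :=
  inferInstanceAs (Finite (UU p ⧸ (zpowers p).subgroupOf (UU p)))

variable [Finite G]

/-- The projection of `U_p` onto the module. -/
def mkV (p : G) : UU p →* VV p := QuotientGroup.mk' ((zpowers p).subgroupOf (UU p))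

/-- The action of `C(p)` on the module. -/
def actV (p : G) : Cz p →* MulAut (VV p) :=
  Solv.Coprime.sectionAut (Cz_le_normalizer_UU p) (Cz_le_normalizer_zpowers p)

/-- The group `C(p) / X_p`, as a group of automorphisms of the module. -/
abbrev KK (p : G) : Subgroup (MulAut (VV p)) := (actV p).range

/-- The projection of `C(p)` onto `C(p) / X_p`. -/
def mkK (p : G) : Cz p →* KK p := (actV p).rangeRestrict

open Classical in
/-- The image of `u ∈ U_p` in the module. -/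
noncomputable def bar (p u : G) : VV p := if h : u ∈ UU p then mkV p ⟨u, h⟩ else 1

open Classical in
/-- The image of `c ∈ C(p)` in `C(p) / X_p`. -/
noncomputable def star (p c : G) : KK p := if h : c ∈ Cz p then mkK p ⟨c, h⟩ else 1

variable {p u v c d : G}

theorem bar_eq (h : u ∈ UU p) : bar p u = mkV p ⟨u, h⟩ := dif_pos h
theorem bar_coe (x : UU p) : bar p x = mkV p x := dif_pos x.2
theorem star_eq (h : c ∈ Cz p) : star p c = mkK p ⟨c, h⟩ := dif_pos h
theorem star_coe (x : Cz p) : star p x = mkK p x := dif_pos x.2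

theorem mkV_surjective (p : G) : Function.Surjective (mkV p) := QuotientGroup.mk'_surjective _
theorem mkK_surjective (p : G) : Function.Surjective (mkK p) :=
  MonoidHom.rangeRestrict_surjective _

theorem exists_bar (x : VV p) : ∃ u ∈ UU p, bar p u = x :=
  let ⟨u, hu⟩ := mkV_surjective p x; ⟨u, u.2, (bar_coe u).trans hu⟩

theorem exists_star (k : KK p) : ∃ c ∈ Cz p, star p c = k :=
  let ⟨c, hc⟩ := mkK_surjective p k; ⟨c, c.2, (star_coe c).trans hc⟩

theorem bar_one : bar p 1 = 1 := by rw [bar_eq (one_mem _)]; exact map_one _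

theorem bar_mul (hu : u ∈ UU p) (hv : v ∈ UU p) : bar p (u * v) = bar p u * bar p v := by
  rw [bar_eq hu, bar_eq hv, bar_eq (mul_mem hu hv), ← map_mul]; rfl

theorem bar_inv (hu : u ∈ UU p) : bar p u⁻¹ = (bar p u)⁻¹ := by
  rw [bar_eq hu, bar_eq (inv_mem hu), ← map_inv]; rfl

theorem bar_pow (hu : u ∈ UU p) (n : ℕ) : bar p (u ^ n) = bar p u ^ n := by
  rw [bar_eq hu, bar_eq (pow_mem hu n), ← map_pow]; rfl

theorem bar_eq_one (hu : u ∈ UU p) : bar p u = 1 ↔ u ∈ zpowers p := by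
  rw [bar_eq hu]
  exact (QuotientGroup.eq_one_iff _).trans mem_subgroupOf

theorem bar_eq_one_of_mem (hu : u ∈ zpowers p) : bar p u = 1 := by
  by_cases h : u ∈ UU p
  · exact (bar_eq_one h).2 hu
  · exact dif_neg h

theorem bar_self : bar p p = 1 := bar_eq_one_of_mem (mem_zpowers p)

theorem bar_eq_bar (hu : u ∈ UU p) (hv : v ∈ UU p) : bar p u = bar p v ↔ u * v⁻¹ ∈ zpowers p := by
  rw [← bar_eq_one (mul_mem hu (inv_mem hv)), bar_mul hu (inv_mem hv), bar_inv hv,
    mul_inv_eq_one]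

theorem Pt.bar_eq_one (h : Pt p) (hu : u ∈ UU p) : bar p u = 1 ↔ u = 1 ∨ u = p := by
  rw [Geo.bar_eq_one hu, h.mem_zpowers]

theorem Pt.bar_eq_bar (h : Pt p) (hu : u ∈ UU p) (hv : v ∈ UU p) :
    bar p u = bar p v ↔ u = v ∨ u = p * v := by
  rw [Geo.bar_eq_bar hu hv, h.mem_zpowers, mul_inv_eq_one, mul_inv_eq_iff_eq_mul]

theorem Pt.bar_mul_left (h : Pt p) (hu : u ∈ UU p) : bar p (p * u) = bar p u := by
  rw [bar_mul h.mem_UU hu, bar_self, one_mul]

theorem Pt.bar_mul_right (h : Pt p) (hu : u ∈ UU p) : bar p (u * p) = bar p u := by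
  rw [bar_mul hu h.mem_UU, bar_self, mul_one]

theorem Col.bar_ne_one {q : G} (h : Col p q) : bar p q ≠ 1 := fun e =>
  h.not_mem_zpowers ((bar_eq_one h.mem_UU).1 e)

theorem VV_sq (x : VV p) : x * x = 1 := by
  obtain ⟨u, hu, rfl⟩ := exists_bar x
  rw [← bar_mul hu hu]; exact bar_eq_one_of_mem (sq_mem_UU hu)

theorem VV_inv (x : VV p) : x⁻¹ = x := inv_eq_of_mul_eq_one_right (VV_sq x)

theorem bar_inv' (hu : u ∈ UU p) : bar p u⁻¹ = bar p u := by rw [bar_inv hu, VV_inv]

theorem star_one : star p 1 = 1 := by rw [star_eq (one_mem _)]; exact map_one _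

theorem star_mul (hc : c ∈ Cz p) (hd : d ∈ Cz p) : star p (c * d) = star p c * star p d := by
  rw [star_eq hc, star_eq hd, star_eq (mul_mem hc hd), ← map_mul]; rfl

theorem star_inv (hc : c ∈ Cz p) : star p c⁻¹ = (star p c)⁻¹ := by
  rw [star_eq hc, star_eq (inv_mem hc), ← map_inv]; rfl

theorem star_pow (hc : c ∈ Cz p) (n : ℕ) : star p (c ^ n) = star p c ^ n := by
  rw [star_eq hc, star_eq (pow_mem hc n), ← map_pow]; rfl

theorem star_conj (hc : c ∈ Cz p) (hd : d ∈ Cz p) :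
    star p (c * d * c⁻¹) = star p c * star p d * (star p c)⁻¹ := by
  rw [star_mul (mul_mem hc hd) (inv_mem hc), star_mul hc hd, star_inv hc]

theorem star_comm (hc : c ∈ Cz p) (hd : d ∈ Cz p) : star p ⁅c, d⁆ = ⁅star p c, star p d⁆ := by
  rw [commutatorElement_def, commutatorElement_def,
    star_mul (mul_mem (mul_mem hc hd) (inv_mem hc)) (inv_mem hd), star_conj hc hd, star_inv hd]

theorem star_smul (hc : c ∈ Cz p) (hu : u ∈ UU p) : star p c • bar p u = bar p (c * u * c⁻¹) := by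
  rw [star_eq hc, bar_eq hu, bar_eq (conj_mem_UU_of_mem hc hu)]; rfl

theorem star_smul_mul (hc : c ∈ Cz p) (hu : u ∈ UU p) :
    star p c • bar p u * bar p u = bar p ⁅c, u⁆ := by
  rw [commutatorElement_def, bar_mul (conj_mem_UU_of_mem hc hu) (inv_mem hu), bar_inv' hu,
    star_smul hc hu]

theorem star_smul_eq_iff (hc : c ∈ Cz p) (hu : u ∈ UU p) :
    star p c • bar p u = bar p u ↔ ⁅c, u⁆ ∈ zpowers p := by
  rw [star_smul hc hu, bar_eq_bar (conj_mem_UU_of_mem hc hu) hu, commutatorElement_def]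

theorem KK_ext {k k' : KK p} (h : ∀ x : VV p, k • x = k' • x) : k = k' :=
  Subtype.ext (MulEquiv.ext h)

theorem KK_eq_one {k : KK p} (h : ∀ x : VV p, k • x = x) : k = 1 :=
  KK_ext fun x => by rw [h, one_smul]

theorem star_eq_one (hc : c ∈ Cz p) : star p c = 1 ↔ c ∈ XX p := by
  constructor
  · intro h
    exact ⟨hc, fun u hu => (star_smul_eq_iff hc hu).1 (by rw [h, one_smul])⟩
  · intro h
    refine KK_eq_one fun x => ?_
    obtain ⟨u, hu, rfl⟩ := exists_bar x
    exact (star_smul_eq_iff hc hu).2 (h.2 u hu)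

theorem star_of_mem (hc : c ∈ XX p) : star p c = 1 := (star_eq_one hc.1).2 hc

theorem star_eq_star (hc : c ∈ Cz p) (hd : d ∈ Cz p) : star p c = star p d ↔ c * d⁻¹ ∈ XX p := by
  rw [← star_eq_one (mul_mem hc (inv_mem hd)), star_mul hc (inv_mem hd), star_inv hd,
    mul_inv_eq_one]

theorem mem_ker_mkK {x : Cz p} : x ∈ (mkK p).ker ↔ (x : G) ∈ XX p := by
  rw [MonoidHom.mem_ker, ← star_coe, star_eq_one x.2]

theorem ker_mkK (p : G) : (mkK p).ker = (XX p).subgroupOf (Cz p) := by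
  ext x; rw [mem_ker_mkK, mem_subgroupOf]

theorem card_Cz (p : G) : Nat.card (Cz p) = Nat.card (KK p) * Nat.card (XX p) := by
  rw [← card_mul_relIndex (XX_le_Cz p), mul_comm, relIndex, ← ker_mkK, index_ker,
    MonoidHom.range_eq_top.2 (mkK_surjective p), card_top]

theorem odd_orderOf_star (hc : c ∈ Cz p) (h : Odd (orderOf c)) : Odd (orderOf (star p c)) :=
  Odd.of_dvd_nat h (orderOf_dvd_of_pow_eq_one (by rw [← star_pow hc, pow_orderOf_eq_one, star_one]))

/-- An element of odd order of `C(p) / X_p` lifts to an element of odd order. -/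
theorem exists_star_odd {k : KK p} (h : Odd (orderOf k)) :
    ∃ c ∈ Cz p, Odd (orderOf c) ∧ star p c = k := by
  obtain ⟨c, hc, rfl⟩ := exists_star k
  obtain ⟨a, m, hm, e⟩ := Nat.exists_eq_two_pow_mul_odd (orderOf_pos c).ne'
  obtain ⟨n, hn⟩ : ∃ n, (star p c ^ 2 ^ a) ^ n = star p c :=
    exists_pow_eq_self_of_coprime (Nat.Coprime.pow_left a ((Nat.coprime_two_left).2 h))
  refine ⟨(c ^ 2 ^ a) ^ n, pow_mem (pow_mem hc _) _, ?_, ?_⟩
  · refine Odd.of_dvd_nat hm (orderOf_dvd_of_pow_eq_one ?_)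
    rw [← pow_mul, mul_comm n, pow_mul, ← pow_mul c, ← e, pow_orderOf_eq_one, one_pow]
  · rw [star_pow (pow_mem hc _), star_pow hc, hn]

/-- The preimage in `G` of a subgroup of the module. -/
def pre (p : G) (W : Subgroup (VV p)) : Subgroup G := (W.comap (mkV p)).map (UU p).subtype

/-- The image in the module of a subgroup of `G`. -/
def img (p : G) (A : Subgroup G) : Subgroup (VV p) := (A.subgroupOf (UU p)).map (mkV p)

/-- The preimage in `G` of a subgroup of `C(p) / X_p`. -/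
def preK (p : G) (B : Subgroup (KK p)) : Subgroup G := (B.comap (mkK p)).map (Cz p).subtype

/-- The image in `C(p) / X_p` of a subgroup of `G`. -/
def imgK (p : G) (A : Subgroup G) : Subgroup (KK p) := (A.subgroupOf (Cz p)).map (mkK p)

variable {W W' : Subgroup (VV p)} {B B' : Subgroup (KK p)} {A A' : Subgroup G}

theorem mem_pre : u ∈ pre p W ↔ u ∈ UU p ∧ bar p u ∈ W := by
  constructor
  · rintro ⟨x, hx, rfl⟩; exact ⟨x.2, by rw [coe_subtype, bar_coe]; exact hx⟩
  · rintro ⟨h1, h2⟩; exact ⟨⟨u, h1⟩, by rw [bar_eq h1] at h2; exact h2, rfl⟩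

theorem mem_img {x : VV p} : x ∈ img p A ↔ ∃ u ∈ A, u ∈ UU p ∧ bar p u = x := by
  constructor
  · rintro ⟨y, hy, rfl⟩; exact ⟨y, hy, y.2, bar_coe y⟩
  · rintro ⟨u, h1, h2, rfl⟩; exact ⟨⟨u, h2⟩, h1, (bar_eq h2).symm⟩

theorem mem_preK : c ∈ preK p B ↔ c ∈ Cz p ∧ star p c ∈ B := by
  constructor
  · rintro ⟨x, hx, rfl⟩; exact ⟨x.2, by rw [coe_subtype, star_coe]; exact hx⟩
  · rintro ⟨h1, h2⟩; exact ⟨⟨c, h1⟩, by rw [star_eq h1] at h2; exact h2, rfl⟩

theorem mem_imgK {k : KK p} : k ∈ imgK p A ↔ ∃ c ∈ A, c ∈ Cz p ∧ star p c = k := by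
  constructor
  · rintro ⟨y, hy, rfl⟩; exact ⟨y, hy, y.2, star_coe y⟩
  · rintro ⟨u, h1, h2, rfl⟩; exact ⟨⟨u, h2⟩, h1, (star_eq h2).symm⟩

theorem bar_mem_img (h1 : u ∈ A) (h2 : u ∈ UU p) : bar p u ∈ img p A := mem_img.2 ⟨u, h1, h2, rfl⟩
theorem star_mem_imgK (h1 : c ∈ A) (h2 : c ∈ Cz p) : star p c ∈ imgK p A :=
  mem_imgK.2 ⟨c, h1, h2, rfl⟩
theorem pre_le_UU : pre p W ≤ UU p := fun _ h => (mem_pre.1 h).1
theorem preK_le_Cz : preK p B ≤ Cz p := fun _ h => (mem_preK.1 h).1
theorem XX_le_preK : XX p ≤ preK p B := fun _ h =>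
  mem_preK.2 ⟨h.1, by rw [star_of_mem h]; exact one_mem _⟩
theorem Pt.mem_pre_self (h : Pt p) : p ∈ pre p W :=
  mem_pre.2 ⟨h.mem_UU, by rw [bar_self]; exact one_mem _⟩
theorem Pt.zpowers_le_pre (h : Pt p) : zpowers p ≤ pre p W := zpowers_le.2 h.mem_pre_self
theorem pre_mono (h : W ≤ W') : pre p W ≤ pre p W' := fun _ hx =>
  mem_pre.2 ⟨(mem_pre.1 hx).1, h (mem_pre.1 hx).2⟩
theorem preK_mono (h : B ≤ B') : preK p B ≤ preK p B' := fun _ hx =>
  mem_preK.2 ⟨(mem_preK.1 hx).1, h (mem_preK.1 hx).2⟩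
theorem img_mono (h : A ≤ A') : img p A ≤ img p A' := map_mono (comap_mono h)
theorem imgK_mono (h : A ≤ A') : imgK p A ≤ imgK p A' := map_mono (comap_mono h)
theorem pre_top : pre p ⊤ = UU p := le_antisymm pre_le_UU fun _ h => mem_pre.2 ⟨h, trivial⟩
theorem preK_top : preK p ⊤ = Cz p := le_antisymm preK_le_Cz fun _ h => mem_preK.2 ⟨h, trivial⟩
theorem preK_bot : preK p ⊥ = XX p := le_antisymm
  (fun _ h => (star_eq_one (mem_preK.1 h).1).1 (mem_bot.1 (mem_preK.1 h).2)) XX_le_preK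
theorem Pt.pre_bot (h : Pt p) : pre p ⊥ = zpowers p := le_antisymm
  (fun _ hx => (Geo.bar_eq_one (mem_pre.1 hx).1).1 (mem_bot.1 (mem_pre.1 hx).2)) h.zpowers_le_pre

theorem img_pre : img p (pre p W) = W := by
  ext x
  rw [mem_img]
  constructor
  · rintro ⟨u, h1, -, rfl⟩; exact (mem_pre.1 h1).2
  · intro hx
    obtain ⟨u, hu, rfl⟩ := exists_bar x
    exact ⟨u, mem_pre.2 ⟨hu, hx⟩, hu, rfl⟩

theorem imgK_preK : imgK p (preK p B) = B := by
  ext x
  rw [mem_imgK]
  constructor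
  · rintro ⟨u, h1, -, rfl⟩; exact (mem_preK.1 h1).2
  · intro hx
    obtain ⟨u, hu, rfl⟩ := exists_star x
    exact ⟨u, mem_preK.2 ⟨hu, hx⟩, hu, rfl⟩

theorem Pt.bar_mem_img_iff (h : Pt p) (hp : p ∈ A) (hu : u ∈ UU p) : bar p u ∈ img p A ↔ u ∈ A := by
  refine ⟨fun hx => ?_, fun hx => bar_mem_img hx hu⟩
  obtain ⟨v, h1, h2, h3⟩ := mem_img.1 hx
  rcases (h.bar_eq_bar hu h2).1 h3.symm with e | e <;> rw [e]
  · exact h1
  · exact mul_mem hp h1

theorem Pt.pre_img (h : Pt p) (hp : p ∈ A) (hA : A ≤ UU p) : pre p (img p A) = A := by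
  ext u
  rw [mem_pre]
  exact ⟨fun ⟨h1, h2⟩ => (h.bar_mem_img_iff hp h1).1 h2, fun h1 => ⟨hA h1, bar_mem_img h1 (hA h1)⟩⟩

theorem star_mem_imgK_iff (hX : XX p ≤ A) (hc : c ∈ Cz p) : star p c ∈ imgK p A ↔ c ∈ A := by
  refine ⟨fun hx => ?_, fun hx => star_mem_imgK hx hc⟩
  obtain ⟨v, h1, h2, h3⟩ := mem_imgK.1 hx
  have := mul_mem (hX ((star_eq_star hc h2).1 h3.symm)) h1
  simpa using this

theorem preK_imgK (hX : XX p ≤ A) (hA : A ≤ Cz p) : preK p (imgK p A) = A := by
  ext u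
  rw [mem_preK]
  exact ⟨fun ⟨h1, h2⟩ => (star_mem_imgK_iff hX h1).1 h2,
    fun h1 => ⟨hA h1, star_mem_imgK h1 (hA h1)⟩⟩

theorem card_comap_surj {H H' : Type*} [Group H] [Group H'] (f : H →* H')
    (hf : Function.Surjective f) (W : Subgroup H') :
    Nat.card (W.comap f) = Nat.card f.ker * Nat.card W := by
  have h1 : f.ker ≤ W.comap f := fun x hx => by
    rw [mem_comap, MonoidHom.mem_ker.1 hx]; exact one_mem W
  rw [← card_mul_relIndex h1, relIndex_ker, map_comap_eq_self_of_surjective hf]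

theorem Pt.card_pre (h : Pt p) (W : Subgroup (VV p)) : Nat.card (pre p W) = 2 * Nat.card W := by
  unfold pre
  rw [card_map_of_injective (subtype_injective _), card_comap_surj _ (mkV_surjective p)]
  congr 1
  have : (mkV p).ker = (zpowers p).subgroupOf (UU p) := QuotientGroup.ker_mk' _
  rw [this, Nat.card_congr (subgroupOfEquivOfLe h.zpowers_le_UU).toEquiv, h.card_zpowers]

theorem Pt.card_UU (h : Pt p) : Nat.card (UU p) = 2 * Nat.card (VV p) := by
  rw [← pre_top, h.card_pre, card_top]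

theorem Pt.card_img (h : Pt p) (hp : p ∈ A) (hA : A ≤ UU p) :
    Nat.card A = 2 * Nat.card (img p A) := by rw [← h.card_pre, h.pre_img hp hA]

theorem card_preK (B : Subgroup (KK p)) :
    Nat.card (preK p B) = Nat.card (XX p) * Nat.card B := by
  unfold preK
  rw [card_map_of_injective (subtype_injective _), card_comap_surj _ (mkK_surjective p), ker_mkK,
    Nat.card_congr (subgroupOfEquivOfLe (XX_le_Cz p)).toEquiv]

theorem card_imgK (hA : A ≤ Cz p) :
    Nat.card A = Nat.card (A ⊓ XX p : Subgroup G) * Nat.card (imgK p A) := by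
  unfold imgK
  rw [← relIndex_ker, ker_mkK, relIndex_subgroupOf hA, ← inf_relIndex_left, card_mul_relIndex inf_le_left]

/-- An element of `C(p)` whose image leaves `W` invariant normalizes the preimage. -/
theorem mem_normalizer_pre (hc : c ∈ Cz p) (h : ∀ w ∈ W, star p c • w ∈ W) :
    c ∈ normalizer (pre p W : Set G) :=
  mem_normalizer_of_cj_le (cj_le_iff.2 fun t ht => mem_pre.2
    ⟨conj_mem_UU_of_mem hc (mem_pre.1 ht).1, by
      rw [← star_smul hc (mem_pre.1 ht).1]; exact h _ (mem_pre.1 ht).2⟩)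

theorem XX_le_normalizer_pre : XX p ≤ normalizer (pre p W : Set G) := fun _ hc =>
  mem_normalizer_pre hc.1 fun w hw => by rw [star_of_mem hc, one_smul]; exact hw

theorem smul_mem_img (hc : c ∈ Cz p) (h : c ∈ normalizer (A : Set G)) {x : VV p}
    (hx : x ∈ img p A) : star p c • x ∈ img p A := by
  obtain ⟨u, h1, h2, rfl⟩ := mem_img.1 hx
  rw [star_smul hc h2]
  exact bar_mem_img (mem_normalizer_conj h h1) (conj_mem_UU_of_mem hc h2)

theorem mem_normalizer_preK (hc : c ∈ Cz p) (h : star p c ∈ normalizer (B : Set (KK p))) :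
    c ∈ normalizer (preK p B : Set G) :=
  mem_normalizer_of_cj_le (cj_le_iff.2 fun t ht => mem_preK.2
    ⟨mul_mem (mul_mem hc (mem_preK.1 ht).1) (inv_mem hc), by
      rw [star_conj hc (mem_preK.1 ht).1]; exact mem_normalizer_conj h (mem_preK.1 ht).2⟩)

theorem Cz_le_normalizer_preK (hB : B.Normal) : Cz p ≤ normalizer (preK p B : Set G) :=
  fun _ hc => mem_normalizer_preK hc (by rw [normalizer_eq_top]; trivial)

theorem star_mem_normalizer_imgK (hc : c ∈ Cz p) (h : c ∈ normalizer (A : Set G)) :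
    star p c ∈ normalizer (imgK p A : Set (KK p)) :=
  mem_normalizer_of_cj_le (cj_le_iff.2 fun t ht => by
    obtain ⟨a, h1, h2, rfl⟩ := mem_imgK.1 ht
    rw [← star_conj hc h2]
    exact star_mem_imgK (mem_normalizer_conj h h1) (mul_mem (mul_mem hc h2) (inv_mem hc)))

theorem normal_imgK (h : Cz p ≤ normalizer (A : Set G)) : (imgK p A).Normal := by
  rw [← normalizer_eq_top_iff, eq_top_iff]
  intro k _
  obtain ⟨c, hc, rfl⟩ := exists_star k
  exact star_mem_normalizer_imgK hc (h hc)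

theorem isPGroup_imgK (h : IsPGroup 2 A) : IsPGroup 2 (imgK p A) := h.comap_subtype.map _

theorem imgK_resOf (hA : A ≤ Cz p) : imgK p (resOf 2 A) = resOf 2 (imgK p A) := by
  unfold imgK
  rw [← map_resOf, resOf_subgroupOf_of_le hA]

/-- The stabilizer of the image of a collinear point is the normalizer of the line. -/
theorem Col.star_smul_iff {q : G} (h : Col p q) (hc : c ∈ Cz p) :
    star p c • bar p q = bar p q ↔ c ∈ normalizer (four p q : Set G) := by
  rw [star_smul hc h.mem_UU, h.pt.bar_eq_bar (conj_mem_UU_of_mem hc h.mem_UU) h.mem_UU,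
    h.mem_normalizer_iff hc]

/-- The module is generated by the images of the points collinear with `p`. -/
theorem eq_top_of_col (h : ∀ q, Col p q → bar p q ∈ W) : W = ⊤ := by
  rw [eq_top_iff]
  intro x _
  obtain ⟨u, hu, rfl⟩ := exists_bar x
  exact (mem_pre.1 (UU_le_of_col (fun q hq => mem_pre.2 ⟨hq.mem_UU, h q hq⟩) hu)).2

/-- An invariant subgroup containing the image of one collinear point is everything. -/
theorem Col.eq_top {q : G} (h : Col p q) (hq : bar p q ∈ W)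
    (hW : ∀ k : KK p, ∀ w ∈ W, k • w ∈ W) : W = ⊤ :=
  eq_top_of_col fun r hr => by
    obtain ⟨g, hg, rfl⟩ := h.exists_conj_mem hr
    rw [← star_smul hg h.mem_UU]; exact hW _ _ hq

/-- An element fixing the images of all collinear points is trivial. -/
theorem KK_eq_one_of_col {k : KK p} (h : ∀ q, Col p q → k • bar p q = bar p q) : k = 1 := by
  obtain ⟨c, hc, rfl⟩ := exists_star k
  refine star_of_mem (mem_XX_of_col hc fun q hq => ?_)
  exact (hq.mem_normalizer_iff hc).1 ((hq.star_smul_iff hc).1 (h q hq))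

/-- The stabilizer of the image of a collinear point contains a Sylow 2-subgroup. -/
theorem Col.exists_sylow_fix {q : G} (h : Col p q) :
    ∃ T : Subgroup (KK p), IsSylowIn 2 T ⊤ ∧ ∀ t ∈ T, t • bar p q = bar p q := by
  obtain ⟨T, hT, -, h2⟩ := h.fl.exists_sylowIn
  refine ⟨imgK p T, ?_, fun t ht => ?_⟩
  · have := hT.subgroupOf_top.map (mkK p)
    rwa [← MonoidHom.range_eq_map, MonoidHom.range_eq_top.2 (mkK_surjective p)] at this
  · obtain ⟨c, h1, h3, rfl⟩ := mem_imgK.1 ht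
    exact (h.star_smul_iff h3).2 (h2 h1)

theorem pCore_KK (p : G) : pCore 2 (KK p) = ⊥ := by
  rw [eq_bot_iff]
  intro k hk
  refine KK_eq_one_of_col fun q hq => ?_
  obtain ⟨T, hT, h2⟩ := hq.exists_sylow_fix
  refine h2 k (pCoreOf_le_sylowIn hT ?_)
  rwa [MSS.pCoreOf_top]

theorem Pt.solvable_KK (h : Pt p) : Group.IsSolvable (KK p) := by
  have := h.solvable
  exact Group.isSolvable_of_surjective (mkK_surjective p)

theorem solvable_KK (p : G) : Group.IsSolvable (KK p) := by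
  by_cases h : Pt p
  · exact h.solvable_KK
  · have : Subsingleton (KK p) := subsingleton_of_forall_eq 1 fun k =>
      KK_eq_one_of_col fun q hq => absurd hq.pt h
    infer_instance

theorem Pt.exists_KK_ne_one (h : Pt p) : ∃ k : KK p, k ≠ 1 := by
  obtain ⟨c, hc, h1⟩ := SetLike.not_le_iff_exists.1 (Pt.XX_ne p h)
  exact ⟨star p c, fun e => h1 ((star_eq_one hc).1 e)⟩

/-- A subgroup normalized by `C(p)` which is a 2-group modulo `X_p` lies in `X_p`. -/
theorem le_XX_of_resOf {D : Subgroup G} (h1 : D ≤ Cz p) (h2 : Cz p ≤ normalizer (D : Set G))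
    (h3 : resOf 2 D ≤ XX p) : D ≤ XX p := by
  have h4 : IsPGroup 2 (imgK p D) := by
    rw [← resOf_eq_bot_iff, ← imgK_resOf h1, eq_bot_iff]
    intro k hk
    obtain ⟨c, h5, -, rfl⟩ := mem_imgK.1 hk
    exact star_of_mem (h3 h5)
  have h5 : imgK p D ≤ pCore 2 (KK p) := le_sSup ⟨normal_imgK h2, h4⟩
  rw [pCore_KK] at h5
  exact fun c hc => (star_eq_one (h1 hc)).1 (h5 (star_mem_imgK hc (h1 hc)))

end Cfsg.Lib.Ngrp.Geo
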