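import Cfsg.Agent.Ngrp.AmGeo2
import Cfsg.Agent.Solv.NilpotentHall
import Cfsg.Agent.Local.InvCent
import Cfsg.Agent.Solv.Mann

set_option autoImplicit false

namespace Cfsg.Lib.Ngrp.Geo
open Subgroup Cfsg.Lib.Trans Cfsg.Lib.Local Cfsg.Lib.Local.JC Cfsg.Lib.Trans.TJ
open scoped commutatorElement IsMulCommutative

variable {G : Type*} [Group G]

theorem odd_card_of_forall {H : Type*} [Group H] [Finite H] (h : ∀ x : H, Odd (orderOf x)) :
    Odd (Nat.card H) := by
  rw [← Nat.not_even_iff_odd, even_iff_two_dvd]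
  intro h2
  obtain ⟨x, hx⟩ := exists_prime_orderOf_dvd_card' 2 h2
  have := h x
  rw [hx] at this
  exact absurd this (by decide)

theorem odd_orderOf_of_pow {H : Type*} [Group H] {x : H} {m : ℕ} (hm : Odd m) (h : x ^ m = 1) :
    Odd (orderOf x) := Odd.of_dvd_nat hm (orderOf_dvd_of_pow_eq_one h)

theorem pow_odd_of_sq {H : Type*} [Group H] {x : H} (h : x * x = 1) {m : ℕ} (hm : Odd m) :
    x ^ m = x := by
  obtain ⟨k, rfl⟩ := hm
  rw [pow_succ, pow_mul, sq, h, one_pow, one_mul]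

theorem odd_of_mem_fitting {K : Type*} [Group K] [Finite K] (h : pCore 2 K = ⊥) {f : K}
    (hf : f ∈ fittingSubgroup K) : Odd (orderOf f) := by
  obtain ⟨a, m, hm, e⟩ := Nat.exists_eq_two_pow_mul_odd (orderOf_pos f).ne'
  have h1 : IsPGroup 2 (zpowers (f ^ m)) := Solv.PG.isPGroup_zpowers (k := a) (by
    rw [← pow_mul, mul_comm, ← e, pow_orderOf_eq_one])
  have h2 := Solv.le_pCore_of_le_fitting h1 (zpowers_le.2 (pow_mem hf m)) (mem_zpowers _)
  rw [h] at h2
  exact odd_orderOf_of_pow hm h2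

theorem relIndex_two_of_idx {M T : Subgroup G} (h : IdxLeTwo M T) (hle : ¬ T ≤ M) :
    M.relIndex T = 2 := by
  obtain ⟨a, haT, haM⟩ := SetLike.not_le_iff_exists.1 hle
  rw [Subgroup.relIndex, Subgroup.index_eq_two_iff]
  refine ⟨⟨a, haT⟩, fun b => ?_⟩
  have := h.mul_mem_iff b.2 haT
  simp only [Subgroup.mem_subgroupOf, Subgroup.coe_mul, this, haM, Xor]
  tauto

theorem card_of_idx {M T : Subgroup G} (h : IdxLeTwo M T) (hle : ¬ T ≤ M) :
    Nat.card T = 2 * Nat.card (T ⊓ M : Subgroup G) := by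
  rw [← card_mul_relIndex (inf_le_left : T ⊓ M ≤ T), inf_relIndex_left, relIndex_two_of_idx h hle,
    mul_comm]

theorem card_le_of_idx {M T : Subgroup G} (h : IdxLeTwo M T) :
    Nat.card T ≤ 2 * Nat.card (T ⊓ M : Subgroup G) := by
  by_cases hle : T ≤ M
  · rw [inf_eq_left.2 hle]; omega
  · exact (card_of_idx h hle).le

theorem idx_of_card [Finite G] {M T : Subgroup G} (hle : M ≤ T)
    (h : Nat.card T = 2 * Nat.card M) : IdxLeTwo M T :=
  idxLeTwo_of_relIndex (Solv.PG.relIndex_eq_of_card_eq_mul hle h)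

theorem ea_four {s t : G} (hs : s * s = 1) (ht : t * t = 1) (h : s * t = t * s) :
    IsElementaryAbelian 2 (four s t) := ea_of_sq fun a ha => by
  rcases (mem_four hs ht h).1 ha with e | e | e | e <;> rw [e]
  · exact one_mul 1
  · exact hs
  · exact ht
  · rw [mul_assoc, ← mul_assoc t, ← h, mul_assoc, ht, mul_one, hs]

/-- Commutators with `U_p` of elements of `X_p` are multiplicative in the second variable. -/
theorem comm_mul_right {p t u v : G} (ht : t ∈ XX p) (hu : u ∈ UU p) (hv : v ∈ UU p) :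
    ⁅t, u * v⁆ = ⁅t, u⁆ * ⁅t, v⁆ := by
  have h : u * ⁅t, v⁆ * u⁻¹ = ⁅t, v⁆ :=
    conj_eq_of_mem_centralizer (cent_zpowers p ▸ UU_le_Cz p hu) (comm_mem_of_XX ht hv)
  rw [← h]; simp only [commutatorElement_def]; group

theorem comm_mul_left {p t s u : G} (ht : t ∈ XX p) (hs : s ∈ XX p) (hu : u ∈ UU p) :
    ⁅t * s, u⁆ = ⁅s, u⁆ * ⁅t, u⁆ := by
  have h : t * ⁅s, u⁆ * t⁻¹ = ⁅s, u⁆ :=
    conj_eq_of_mem_centralizer (cent_zpowers p ▸ ht.1) (comm_mem_of_XX hs hu)
  rw [← h]; simp only [commutatorElement_def]; group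

theorem Pt.comm_XX {p t u : G} (h : Pt p) (ht : t ∈ XX p) (hu : u ∈ UU p) :
    ⁅t, u⁆ = 1 ∨ ⁅t, u⁆ = p := h.mem_zpowers.1 (comm_mem_of_XX ht hu)

theorem comm_inv_left {p t u : G} (h : Pt p) (ht : t ∈ XX p) (hu : u ∈ UU p) :
    ⁅t⁻¹, u⁆ = ⁅t, u⁆ := by
  have h1 := comm_mul_left ht (inv_mem ht) hu
  rw [mul_inv_cancel, commutatorElement_one_left] at h1
  rw [eq_inv_of_mul_eq_one_left h1.symm]
  rcases h.comm_XX ht hu with e | e <;> rw [e]
  · exact inv_one
  · exact h.inv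

theorem comm_conj_left {p t c u : G} (ht : t ∈ XX p) (hc : c ∈ Cz p) (hu : u ∈ UU p) :
    ⁅c * t * c⁻¹, u⁆ = ⁅t, c⁻¹ * u * c⁆ := by
  have hu' : c⁻¹ * u * c ∈ UU p := mem_normalizer_conj' (Cz_le_normalizer_UU p hc) hu
  have h : c * ⁅t, c⁻¹ * u * c⁆ * c⁻¹ = ⁅t, c⁻¹ * u * c⁆ :=
    conj_eq_of_mem_centralizer (cent_zpowers p ▸ hc) (comm_mem_of_XX ht hu')
  rw [← h]; simp only [commutatorElement_def]; group

variable [Finite G] {p q : G}

/-- The commutator with an element of `X_p` only depends on the image in the module. -/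
theorem comm_congr {t u v : G} (h : Pt p) (ht : t ∈ XX p) (hu : u ∈ UU p) (hv : v ∈ UU p)
    (e : bar p u = bar p v) : ⁅t, u⁆ = ⁅t, v⁆ := by
  rcases (h.bar_eq_bar hu hv).1 e with e | e
  · rw [e]
  · rw [e, comm_mul_right ht h.mem_UU hv,
      commutatorElement_eq_one_iff_mul_comm.2 (mem_Cz.1 ht.1), one_mul]

/-- (G3) A subgroup `D` normal in `C(p)` inducing a group of odd order on the elementary abelian
normal subgroup `V` of `C(p)` centralizes `V`. -/
theorem Pt.le_centralizer_of_odd (h : Pt p) {V D : Subgroup G} (hV : IsElementaryAbelian 2 V)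
    (hn : Cz p ≤ normalizer (V : Set G)) (hD : D ≤ Cz p) (hDn : Cz p ≤ normalizer (D : Set G))
    (hodd : ∀ d ∈ D, ∃ m, Odd m ∧ d ^ m ∈ centralizer (V : Set G)) :
    D ≤ centralizer (V : Set G) := by
  have := hV.1
  have hDV := hD.trans hn
  have hle : ⁅V, D⁆ ≤ V := Solv.le_normalizer_iff_commutator_le.1 hDV
  rw [← le_centralizer_iff, ← commutator_eq_bot_iff_le_centralizer]
  by_contra h1
  have hp : p ∈ ⁅V, D⁆ := h.mem_of_normal ((isPGroup_of_ea hV).to_le hle) h1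
    ((le_inf hn hDn).trans (normalizer_le_normalizer_commutator V D))
  set φ := Solv.conjAutOf V D hDV with hφ
  have ho : Odd (Nat.card φ.range) := odd_card_of_forall fun x => by
    obtain ⟨_, d, rfl⟩ := x
    obtain ⟨m, hm, h2⟩ := hodd d d.2
    refine odd_orderOf_of_pow hm (Subtype.ext ?_)
    change φ d ^ m = 1
    rw [← map_pow, ← MonoidHom.mem_ker, Solv.mem_ker_conjAutOf]
    exact h2
  obtain ⟨N, hN1, -, hN3, -⟩ := Solv.Coprime.exists_norm_hom φ.range.subtype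
  have h2 : ⁅V, D⁆ ≤ N.ker.map V.subtype := commutator_le.2 fun v hv d hd => by
    refine ⟨⟨v, hv⟩ * (φ ⟨d, hd⟩ ⟨v, hv⟩)⁻¹, ?_, ?_⟩
    · have := hN1 ⟨φ ⟨d, hd⟩, _, rfl⟩ ⟨v, hv⟩
      change N (φ ⟨d, hd⟩ ⟨v, hv⟩) = _ at this
      rw [SetLike.mem_coe, MonoidHom.mem_ker, map_mul, map_inv, this, mul_inv_cancel]
    · simp [hφ, commutatorElement_def, mul_assoc]
  obtain ⟨x, hx, e⟩ := h2 hp
  have h3 := hN3 x (by
    rintro ⟨_, d, rfl⟩
    apply Subtype.ext
    change ((φ d x : V) : G) = x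
    rw [hφ, Solv.coe_conjAutOf_apply]
    change (d : G) * V.subtype x * _ = V.subtype x
    rw [e]; exact Cz_conj (hD d.2))
  rw [MonoidHom.mem_ker.1 hx, pow_odd_of_sq (Subtype.ext (ea_sq hV x.2)) ho] at h3
  exact h.ne (by rw [← e, ← h3]; rfl)

/-- (G3) An elementary abelian normal subgroup of `C(p)` centralized by `X_p` is centralized by
the preimage of the Fitting subgroup. -/
theorem Pt.fitting_le_centralizer (h : Pt p) {V : Subgroup G} (hV : IsElementaryAbelian 2 V)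
    (hn : Cz p ≤ normalizer (V : Set G)) (hX : XX p ≤ centralizer (V : Set G)) :
    preK p (fittingSubgroup (KK p)) ≤ centralizer (V : Set G) :=
  h.le_centralizer_of_odd hV hn preK_le_Cz (Cz_le_normalizer_preK inferInstance) fun d hd =>
    ⟨_, odd_of_mem_fitting (pCore_KK p) (mem_preK.1 hd).2, hX ((star_eq_one
      (pow_mem (mem_preK.1 hd).1 _)).1 (by rw [star_pow (mem_preK.1 hd).1, pow_orderOf_eq_one]))⟩

theorem Pt.exists_fitting_ne_one (h : Pt p) : ∃ f ∈ fittingSubgroup (KK p), f ≠ 1 := by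
  have := h.solvable_KK
  have : Nontrivial (KK p) := let ⟨k, hk⟩ := h.exists_KK_ne_one; ⟨k, 1, hk⟩
  exact (ne_bot_iff_exists_ne_one.1 (Solv.fitting_ne_bot_of_isSolvable (KK p))).elim
    fun f hf => ⟨f, f.2, fun e => hf (Subtype.ext e)⟩

/-- Some element of `X_p` swaps the other two points of a line through `p`. -/
theorem Col.exists_XX_swap (h : Col p q) : ∃ t ∈ XX p, t * q * t⁻¹ = p * q := by
  by_contra hn
  push Not at hn
  have h1 : XX p ≤ centralizer (UU p : Set G) := by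
    rw [le_centralizer_iff]
    refine UU_le_of_col fun r hr t ht => ?_
    obtain ⟨g, hg, rfl⟩ := h.exists_conj_mem hr
    have h2 : g⁻¹ * t * g ∈ XX p := mem_normalizer_conj' (Cz_le_normalizer_XX p hg) ht
    have h3 := (h.pt.conj_XX h2 h.mem_UU).resolve_right (hn _ h2)
    calc t * (g * q * g⁻¹) = g * (g⁻¹ * t * g * q * (g⁻¹ * t * g)⁻¹) * g⁻¹ * t := by group
      _ = _ := by rw [h3]
  have h2 : IsElementaryAbelian 2 (UU p) :=
    ea_UU_of_comm fun u hu v hv => h1 (UU_le_XX p hv) u hu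
  have h3 := (h.pt.fitting_le_centralizer h2 (Cz_le_normalizer_UU p) h1).trans
    (centralizer_UU_le h.pt)
  obtain ⟨f, hf, hf1⟩ := h.pt.exists_fitting_ne_one
  obtain ⟨c, hc, rfl⟩ := exists_star f
  exact hf1 (star_of_mem (h3 (mem_preK.2 ⟨hc, hf⟩)))

/-- `C(p) ⊓ N(l) = C(l) X_p`. -/
theorem Col.exists_star_eq (h : Col p q) {c : G} (hc : c ∈ Cz p)
    (hn : c ∈ normalizer (four p q : Set G)) : ∃ c' ∈ Cz p, c' ∈ Cz q ∧ star p c' = star p c := by
  rcases (h.mem_normalizer_iff hc).1 hn with e | e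
  · exact ⟨c, hc, mem_Cz'.2 e, rfl⟩
  · obtain ⟨t, ht, e'⟩ := h.exists_XX_swap
    refine ⟨t⁻¹ * c, mul_mem (inv_mem ht.1) hc, mem_Cz'.2 ?_, ?_⟩
    · have : t⁻¹ * c * q * (t⁻¹ * c)⁻¹ = t⁻¹ * (c * q * c⁻¹) * t := by group
      rw [this, e, ← e']; group
    · rw [star_mul (inv_mem ht.1) hc, star_of_mem (inv_mem ht), one_mul]

/-- All groups `U_p` are elementary abelian. -/
def AbU (G : Type*) [Group G] : Prop := ∀ p : G, IsElementaryAbelian 2 (UU p)

theorem Pt.abU (h : Pt p) (hU : IsElementaryAbelian 2 (UU p)) : AbU G := fun q => by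
  by_cases hq : Pt q
  · obtain ⟨g, rfl⟩ := h.exists_conj hq
    rw [← cj_UU]; exact ea_cj' hU g
  · have : UU q = ⊥ := eq_bot_iff.2 (UU_le_iff.2 fun l hl => absurd hl.pt hq)
    rw [this]; exact ea_of_sq fun a ha => by rw [mem_bot.1 ha, one_mul]

theorem Pt.card_UU_eq (h : Pt p) (h' : Pt q) : Nat.card (UU p) = Nat.card (UU q) := by
  obtain ⟨g, rfl⟩ := h.exists_conj h'
  rw [← cj_UU, card_cj]

omit [Finite G] in
theorem AbU.comm (hU : AbU G) {u v : G} (hu : u ∈ UU p) (hv : v ∈ UU p) : u * v = v * u :=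
  ea_comm' (hU p) hu hv

omit [Finite G] in
theorem AbU.sq (hU : AbU G) {u : G} (hu : u ∈ UU p) : u * u = 1 := ea_sq (hU p) hu

theorem AbU.UU_le_Cz (hU : AbU G) (h : Col p q) : UU q ≤ Cz p := fun _ hu =>
  mem_Cz.2 (hU.comm hu h.symm.mem_UU)

/-- (FullHom) An element of `U_p` moved by the Fitting subgroup is moved by `X_p`. -/
theorem AbU.exists_move (hU : AbU G) (h : Pt p) {u : G} (hu : u ∈ UU p) {f : KK p}
    (hf : f ∈ fittingSubgroup (KK p)) (hm : f • bar p u ≠ bar p u) : ∃ t ∈ XX p, ⁅t, u⁆ = p := by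
  by_contra hn
  push Not at hn
  have h1 : u ∈ UU p ⊓ centralizer (XX p : Set G) := ⟨hu, fun t ht =>
    commutatorElement_eq_one_iff_mul_comm.1 ((h.comm_XX ht hu).resolve_right (hn t ht))⟩
  have h2 := h.fitting_le_centralizer (V := UU p ⊓ centralizer (XX p : Set G))
    (ea_mono (hU p) inf_le_left)
    (Solv.le_normalizer_inf (Cz_le_normalizer_UU p)
      ((Cz_le_normalizer_XX p).trans (normalizer_le_normalizer_centralizer _)))
    (le_centralizer_iff.1 inf_le_right)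
  obtain ⟨c, hc, rfl⟩ := exists_star f
  refine hm ?_
  rw [star_smul hc hu, conj_eq_of_mem_centralizer (h2 (mem_preK.2 ⟨hc, hf⟩)) h1]

omit [Finite G] in
/-- If `X_p` moves `u` and `u w` then some element moves `u` and fixes `w`. -/
theorem exists_sep (h : Pt p) {u w : G} (hu : u ∈ UU p) (hw : w ∈ UU p) {D : Subgroup G}
    (hD : D ≤ XX p) (h1 : ∃ t ∈ D, ⁅t, u⁆ = p) (h2 : ∃ t ∈ D, ⁅t, u * w⁆ = p) :
    ∃ t ∈ D, ⁅t, u⁆ = p ∧ ⁅t, w⁆ = 1 := by
  obtain ⟨s, hs, e1⟩ := h1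
  obtain ⟨t, ht, e2⟩ := h2
  rcases h.comm_XX (hD hs) hw with e | e
  · exact ⟨s, hs, e1, e⟩
  rw [comm_mul_right (hD ht) hu hw] at e2
  rcases h.comm_XX (hD ht) hw with e' | e'
  · exact ⟨t, ht, by rwa [e', mul_one] at e2, e'⟩
  · refine ⟨s * t, mul_mem hs ht, ?_, ?_⟩
    · rw [e'] at e2
      rw [comm_mul_left (hD hs) (hD ht) hu, e1, e2]
    · rw [comm_mul_left (hD hs) (hD ht) hw, e, e', h.sq]

/-- The commutator `[t, c]`, `t ∈ X_p`, acts on `x` as `t` acts on `x^{c⁻¹} x`. -/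
theorem comm_comm_eq (h : Pt p) {t c x y : G} (ht : t ∈ XX p) (hc : c ∈ Cz p) (hx : x ∈ UU p)
    (hy : y ∈ UU p) (e : star p c • bar p y = bar p x) : ⁅⁅t, c⁆, x⁆ = ⁅t, y * x⁆ := by
  have e1 : ⁅t, c⁆ = t * (c * t⁻¹ * c⁻¹) := by rw [commutatorElement_def]; group
  have hx' : c⁻¹ * x * c ∈ UU p := mem_normalizer_conj' (Cz_le_normalizer_UU p hc) hx
  rw [e1, comm_mul_left ht (conj_mem_XX_of_mem hc (inv_mem ht)) hx,
    comm_conj_left (inv_mem ht) hc hx, comm_inv_left h ht hx', comm_mul_right ht hy hx]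
  congr 1
  refine comm_congr h ht hx' hy ?_
  have := star_smul (inv_mem hc) hx
  rw [inv_inv] at this
  rw [← this, ← e, star_inv hc, inv_smul_smul]

omit [Finite G] in
theorem comm_mem_XX {t c : G} (ht : t ∈ XX p) (hc : c ∈ Cz p) : ⁅t, c⁆ ∈ XX p := by
  rw [commutatorElement_def, mul_assoc, mul_assoc, ← mul_assoc c]
  exact mul_mem ht (conj_mem_XX_of_mem hc (inv_mem ht))

/-- (FullHom, four-group form) `d` rotates the images of `u`, `w`, `u w`; `d'` acts as `d`.
Then some `[t, d']`, with `t ∈ X_p` centralizing `C_U(d)`, moves `u` and fixes `w`. -/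
theorem AbU.exists_comm_rot (hU : AbU G) (h : Pt p) {u w d d' : G} (hu : u ∈ UU p)
    (hw : w ∈ UU p) (hd : d ∈ Cz p) (hd' : d' ∈ Cz p) (hf : star p d ∈ fittingSubgroup (KK p))
    (e : star p d' = star p d) (h0 : bar p u ≠ 1) (h1 : star p d • bar p u = bar p w)
    (h2 : star p d • bar p w = bar p u * bar p w) :
    ∃ t ∈ XX p, (∀ c ∈ UU p, c ∈ Cz d → t ∈ Cz c) ∧ ⁅⁅t, d'⁆, u⁆ = p ∧ ⁅⁅t, d'⁆, w⁆ = 1 := by
  have huw := mul_mem hu hw
  have h3 : star p d • bar p (u * w) = bar p u := by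
    rw [bar_mul hu hw, smul_mul', h1, h2, mul_comm (bar p u), ← mul_assoc, VV_sq, one_mul]
  have hw0 : bar p w ≠ 1 := fun e => h0 (by rw [e, smul_one, mul_one] at h2; exact h2.symm)
  have m2 : star p d • bar p w ≠ bar p w := fun e => h0 (by rw [h2] at e; simpa using e)
  have m3 : star p d • bar p (w * u) ≠ bar p (w * u) := fun e => hw0 (by
    rw [hU.comm hw hu, h3, bar_mul hu hw] at e; simpa using e.symm)
  have key : ∀ t ∈ XX p, ∀ c ∈ Cz p, star p c = star p d →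
      ⁅⁅t, c⁆, u⁆ = ⁅t, w⁆ ∧ ⁅⁅t, c⁆, w⁆ = ⁅t, u⁆ * ⁅t, w⁆ := by
    intro t ht c hc ec
    refine ⟨(comm_comm_eq h ht hc hu huw (ec ▸ h3)).trans
      (comm_congr h ht (mul_mem huw hu) hw ?_),
      (comm_comm_eq h ht hc hw hu (ec ▸ h1)).trans (comm_mul_right ht hu hw)⟩
    rw [bar_mul huw hu, bar_mul hu hw, mul_right_comm, VV_sq, one_mul]
  obtain ⟨s, hs, e1, e2⟩ := exists_sep h hw hu le_rfl (hU.exists_move h hw hf m2)
    (hU.exists_move h (mul_mem hw hu) hf m3)
  have ht := comm_mem_XX hs hd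
  obtain ⟨k1, k2⟩ := key s hs d hd rfl
  obtain ⟨k3, k4⟩ := key _ ht d' hd' e
  refine ⟨_, ht, fun c hc hcd => mem_Cz.2 (commutatorElement_eq_one_iff_mul_comm.1 ?_), ?_, ?_⟩
  · rw [comm_comm_eq h hs hd hc hc (by rw [star_smul hd hc, Cz_conj (Cz_symm hcd)]), hU.sq hc,
      commutatorElement_one_right]
  · rw [k3, k2, e1, e2, one_mul]
  · rw [k4, k1, k2, e1, e2, one_mul, h.sq]

/-- The subgroup generated by the `U_r` for the points `r` of the line `l`. -/
def T2 (l : Subgroup G) : Subgroup G := ⨆ r : {r : G // Fl r l}, UU r.1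

omit [Finite G] in
theorem Fl.UU_le_T2 {l : Subgroup G} (h : Fl p l) : UU p ≤ T2 l :=
  le_iSup (fun r : {r : G // Fl r l} => UU r.1) ⟨p, h⟩

omit [Finite G] in
theorem T2_le_iff {l H : Subgroup G} : T2 l ≤ H ↔ ∀ r, Fl r l → UU r ≤ H :=
  iSup_le_iff.trans Subtype.forall

theorem normalizer_le_normalizer_T2 (l : Subgroup G) :
    normalizer (l : Set G) ≤ normalizer (T2 l : Set G) := fun g hg =>
  mem_normalizer_of_cj_le (cj_le_iff_le_cj_inv.2 (T2_le_iff.2 fun _ hr =>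
    cj_le_iff_le_cj_inv.1 (by rw [cj_UU]; exact (hr.conj_of_norm hg).UU_le_T2)))

theorem Col.T2_eq (h : Col p q) : T2 (four p q) = UU p ⊔ UU q ⊔ UU (p * q) := by
  refine le_antisymm (T2_le_iff.2 fun r hr => ?_) (sup_le (sup_le h.fl.UU_le_T2 h.fl'.UU_le_T2)
    (h.fl.of_mem (mul_mem (left_mem_four p q) (right_mem_four p q)) h.mul_ne_one).UU_le_T2)
  rcases h.mem_four.1 hr.mem with e | e | e | e
  · exact absurd e hr.ne
  · rw [e]; exact le_sup_left.trans le_sup_left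
  · rw [e]; exact le_sup_right.trans le_sup_left
  · rw [e]; exact le_sup_right

omit [Finite G] in
theorem AbU.UU_le_centralizer (hU : AbU G) {l : Subgroup G} (h : Fl p l) :
    UU p ≤ centralizer (l : Set G) := fun _ hu _ hx => hU.comm (h.le_UU hx) hu

omit [Finite G] in
theorem AbU.T2_le_centralizer (hU : AbU G) (l : Subgroup G) : T2 l ≤ centralizer (l : Set G) :=
  T2_le_iff.2 fun _ hr => hU.UU_le_centralizer hr

theorem AbU.isPGroup_T2 (hU : AbU G) {l : Subgroup G} (h : Fl p l) : IsPGroup 2 (T2 l) := by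
  obtain ⟨q, hq, rfl⟩ := h.exists_col
  rw [hq.T2_eq]
  refine isPGroup_sup (isPGroup_sup (isPGroup_UU _) (isPGroup_UU _) ?_) (isPGroup_UU _)
    (sup_le ?_ ?_)
  · exact (hU.UU_le_Cz hq.symm).trans (Cz_le_normalizer_UU _)
  · exact (hU.UU_le_Cz hq.mul.symm).trans (Cz_le_normalizer_UU _)
  · exact (hU.UU_le_Cz hq.mul_right.symm).trans (Cz_le_normalizer_UU _)

theorem AbU.T2_le_core (hU : AbU G) {l : Subgroup G} (h : Fl p l) :
    T2 l ≤ pCoreOf 2 (normalizer (l : Set G)) :=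
  MSS.le_pCoreOf ((hU.T2_le_centralizer l).trans (centralizer_le_normalizer _))
    (normalizer_le_normalizer_T2 l) (hU.isPGroup_T2 h)

theorem AbU.normalizer_T2_le (hU : AbU G) {l : Subgroup G} (h : Fl p l) :
    normalizer (T2 l : Set G) ≤ normalizer (l : Set G) :=
  h.mx (hU.isPGroup_T2 h) (fun e => h.ne_bot (eq_bot_iff.2 (e ▸ h.le_UU.trans h.UU_le_T2)))
    (normalizer_le_normalizer_T2 l)

/-- (NC) An element of `C(p)` with `[g, U_q] ≤ U_p` for all `q` collinear with `p` lies in `X_p`. -/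
theorem AbU.nc (hU : AbU G) {g : G} (hg : g ∈ Cz p)
    (h : ∀ q, Col p q → ∀ t ∈ UU q, ⁅g, t⁆ ∈ UU p) : g ∈ XX p := by
  refine mem_XX_of_normalizer hg fun l hl => hU.normalizer_T2_le hl ?_
  refine mem_normalizer_of_cj_le (cj_le_iff_le_cj_inv.2 (T2_le_iff.2 fun r hr t ht => ?_))
  rw [mem_cj_inv]
  by_cases e : r = p
  · subst e; exact hl.UU_le_T2 (conj_mem_UU_of_mem hg ht)
  · have := mul_mem (hl.UU_le_T2 (h r (hl.col hr.mem hr.ne e) t ht)) (hr.UU_le_T2 ht)
    simpa [commutatorElement_def] using this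

/-- (L4') Two commuting points spanning a four-group normalized by a Sylow 2-subgroup of the
centralizer of one of them are collinear. -/
theorem Pt.col_of_sylow {z : G} (hz : Pt z) (hp : Pt p) (hne : p ≠ z) (hc : p ∈ Cz z)
    {T : Subgroup G} (hT : IsSylowIn 2 T (Cz z)) (hn : T ≤ normalizer (four z p : Set G)) :
    Col z p := by
  have hzp : z * p = p * z := (mem_Cz.1 hc).symm
  have hm := fun x => mem_four (x := x) hz.sq hp.sq hzp
  have hea : IsElementaryAbelian 2 (four z p) := ea_four hz.sq hp.sq hzp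
  have hact : ∀ t ∈ T, t * p * t⁻¹ = p ∨ t * p * t⁻¹ = z * p := fun t ht => by
    rcases (hm _).1 (mem_normalizer_conj (hn ht) (right_mem_four z p)) with e | e | e | e
    · exact absurd e (conj_ne_one hp.ne)
    · exact absurd (conj_inj (e.trans (Cz_conj (hT.le ht)).symm)) hne
    · exact Or.inl e
    · exact Or.inr e
  obtain ⟨S, l, hS, rfl⟩ := hz.exists_natG hT
  have hle : four z p ≤ S := by
    rw [← S.is_maximal' (isPGroup_sup S.isPGroup' (isPGroup_of_ea hea) hn) le_sup_left]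
    exact le_sup_right
  have hzS := hle (left_mem_four z p)
  obtain ⟨R, hR, hR1⟩ := exists_isSylowIn_ge (S.isPGroup'.to_inf_left (K := Cz p)) inf_le_right
  obtain ⟨S', l', hS', rfl⟩ := hp.exists_natG hR
  have hidx : IdxLeTwo (Cz p) S := idxLeTwo_centralizer hz.sq (fun t ht => mem_Cz.1 (hT.le ht)) hact
  have hnle : ¬ (S : Subgroup G) ≤ Cz p := fun e => hne (nat_eq_of_central hS hp.sq hp.ne e)
  have hcard : Nat.card (S' : Subgroup G) = 2 * Nat.card ((S : Subgroup G) ⊓ Cz p : Subgroup G) := by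
    rw [← card_of_idx hidx hnle]; exact (isSylowIn_top S').card_eq_card (isSylowIn_top S)
  have hidx' := idx_of_card hR1 hcard
  have hz1 : z ∈ (S : Subgroup G) ⊓ Cz p := ⟨hzS, Cz_symm hc⟩
  have hnle' : ¬ (S' : Subgroup G) ≤ Cz z := fun e =>
    hne (nat_eq_of_central hS' hz.sq hz.ne e).symm
  obtain ⟨t, ht, ht'⟩ := SetLike.not_le_iff_exists.1 hnle'
  have hS1 : (S : Subgroup G) ⊓ Cz p ≤ Cz z := inf_le_left.trans hT.le
  have ht1 : t ∉ (S : Subgroup G) ⊓ Cz p := fun e => ht' (hS1 e)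
  have hzt : t * z * t⁻¹ ∈ (S : Subgroup G) ⊓ Cz p := hidx'.conj_mem ht (hR1 hz1) hz1
  have hcom : t * z * t⁻¹ * z = z * (t * z * t⁻¹) := mem_Cz.1 (hS1 hzt)
  have hc1 : ∀ s ∈ (S : Subgroup G) ⊓ Cz p, s ∈ Cz (z * (t * z * t⁻¹)) := fun s hs => by
    have e1 := Cz_conj (hS1 hs)
    have e2 := Cz_conj (hS1 (hidx'.conj_mem (inv_mem ht) (hR1 hs) hs))
    rw [mem_Cz']
    calc s * (z * (t * z * t⁻¹)) * s⁻¹
        = s * z * s⁻¹ * (t * (t⁻¹ * s * t⁻¹⁻¹ * z * (t⁻¹ * s * t⁻¹⁻¹)⁻¹) * t⁻¹) := by group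
      _ = _ := by rw [e1, e2]
  have hc2 : t ∈ Cz (z * (t * z * t⁻¹)) := by
    have e1 := Cz_conj (hS1 (hidx'.mul_self_mem ht))
    rw [mem_Cz', ← hcom]
    calc t * (t * z * t⁻¹ * z) * t⁻¹ = (t * t * z * (t * t)⁻¹) * (t * z * t⁻¹) := by group
      _ = _ := by rw [e1, hcom]
  have hp' : z * (t * z * t⁻¹) = p := by
    refine nat_eq_of_central hS' ?_ ?_ fun s hs => ?_
    · have e : t * z * t⁻¹ * (t * z * t⁻¹) = 1 := (hz.conj t).sq
      calc z * (t * z * t⁻¹) * (z * (t * z * t⁻¹)) = z * (t * z * t⁻¹ * z) * (t * z * t⁻¹) := by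
            group
        _ = z * z * (t * z * t⁻¹ * (t * z * t⁻¹)) := by rw [hcom]; group
        _ = 1 := by rw [hz.sq, e, one_mul]
    · intro e
      exact ht' (mem_Cz'.2 (by rw [eq_inv_of_mul_eq_one_right e, hz.inv]))
    · by_cases hs1 : s ∈ (S : Subgroup G) ⊓ Cz p
      · exact hc1 s hs1
      · have := mul_mem (hc1 _ (hidx' s hs t⁻¹ (inv_mem ht) hs1 (fun e => ht1 (by
          simpa using inv_mem e)))) hc2
        simpa using this
  have htn : t ∈ normalizer (four z p : Set G) := by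
    refine mem_normalizer_of_cj_le ?_
    rw [cj_four, Cz_conj (nat_le_Cz hS' ht)]
    refine four_le ?_ (right_mem_four z p)
    have : t * z * t⁻¹ = z * p := by rw [← hp', ← mul_assoc z z, hz.sq, one_mul]
    rw [this]; exact mul_mem (left_mem_four z p) (right_mem_four z p)
  have := hS.uniq _ hea (card_four hz.sq hp.sq hzp hz.ne hp.ne hne.symm) hle hn
    fun e => ht' (e htn)
  exact ⟨this ▸ nat_fl hS, hp.ne, hne⟩

/-- (L4') A point of `U_z` whose image is fixed by a Sylow 2-subgroup is collinear with `z`. -/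
theorem Pt.col_of_fix {z : G} (hz : Pt z) (hp : Pt p) (hne : p ≠ z) (hu : p ∈ UU z)
    {T : Subgroup (KK z)} (hT : IsSylowIn 2 T ⊤) (hn : ∀ t ∈ T, t • bar z p = bar z p) :
    Col z p := by
  obtain ⟨R, hR⟩ := exists_isSylowIn (p := 2) (Cz z)
  have h1 : IsSylowIn 2 (imgK z R) ⊤ := by
    have := hR.subgroupOf_top.map (mkK z)
    rwa [← MonoidHom.range_eq_map, MonoidHom.range_eq_top.2 (mkK_surjective z)] at this
  obtain ⟨k, -, e⟩ := hT.exists_cj_eq h1
  obtain ⟨c, hc, rfl⟩ := exists_star k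
  refine hz.col_of_sylow hp hne (UU_le_Cz z hu) (hR.cj_of_mem hc) (cj_le_iff.2 fun r hr => ?_)
  have h2 : c * r * c⁻¹ ∈ Cz z := mul_mem (mul_mem hc (hR.le hr)) (inv_mem hc)
  have h3 := hn (star z (c * r * c⁻¹)) (by
    rw [← e, star_conj hc (hR.le hr)]; exact conj_mem_cj.2 (star_mem_imgK hr (hR.le hr)))
  rw [star_smul h2 hu, hz.bar_eq_bar (conj_mem_UU_of_mem h2 hu) hu] at h3
  refine mem_normalizer_of_cj_le ?_
  rw [cj_four, Cz_conj h2]
  refine four_le (left_mem_four z p) ?_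
  rcases h3 with e | e <;> rw [e]
  · exact right_mem_four z p
  · exact mul_mem (left_mem_four z p) (right_mem_four z p)

/-- (L4') A point of `U_z` whose image has an orbit of odd length is collinear with `z`. -/
theorem Pt.col_of_odd {z : G} (hz : Pt z) (hp : Pt p) (hne : p ≠ z) (hu : p ∈ UU z)
    (ho : Odd (MulAction.stabilizer (KK z) (bar z p)).index) : Col z p := by
  obtain ⟨T, hT⟩ := exists_isSylowIn (p := 2) (MulAction.stabilizer (KK z) (bar z p))
  refine hz.col_of_fix hp hne hu (hT.trans le_top ?_) fun t ht => hT.le ht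
  rw [relIndex_top_right, ← even_iff_two_dvd, Nat.not_even_iff_odd]; exact ho

/-- The stabilizer of a flag is a 2-group. -/
def Thin (G : Type*) [Group G] : Prop :=
  ∀ (p : G) (l : Subgroup G), Fl p l → IsPGroup 2 (Cz p ⊓ normalizer (l : Set G) : Subgroup G)

theorem Fl.thin {l : Subgroup G} (h : Fl p l)
    (h1 : IsPGroup 2 (Cz p ⊓ normalizer (l : Set G) : Subgroup G)) : Thin G := fun q m hm => by
  obtain ⟨g, rfl, rfl⟩ := h.exists_conj hm
  rw [← cj_Cz, ← cj_normalizer, ← cj_inf]; exact isPGroup_cj h1 g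

theorem Col.resOf_eq (h : Col p q) : resOf 2 (Cz p ⊓ normalizer (four p q : Set G)) =
    resOf 2 (centralizer (four p q : Set G)) := by
  refine (resOf_eq_of_le (resOf_le_of_pow_mem fun x hx => ⟨1, ?_⟩) (le_inf
    (le_Cz_of_mem (left_mem_four p q)) (centralizer_le_normalizer _))).symm
  rw [pow_one, pow_two, h.mem_centralizer_iff]
  refine ⟨mul_mem hx.1 hx.1, mem_Cz'.2 ?_⟩
  have e : x * x * q * (x * x)⁻¹ = x * (x * q * x⁻¹) * x⁻¹ := by group
  rcases (h.mem_normalizer_iff hx.1).1 hx.2 with e1 | e1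
  · rw [e, e1, e1]
  · have e2 : x * (p * q) * x⁻¹ = (x * p * x⁻¹) * (x * q * x⁻¹) := by group
    rw [e, e1, e2, Cz_conj hx.1, e1, ← mul_assoc, h.pt.sq, one_mul]

theorem Col.preK_stabilizer (h : Col p q) :
    preK p (MulAction.stabilizer (KK p) (bar p q)) = Cz p ⊓ normalizer (four p q : Set G) := by
  ext c
  rw [mem_preK, mem_inf, MulAction.mem_stabilizer_iff]
  exact and_congr_right fun hc => h.star_smul_iff hc

theorem Col.imgK_eq (h : Col p q) :
    imgK p (Cz p ⊓ normalizer (four p q : Set G)) = MulAction.stabilizer (KK p) (bar p q) := by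
  rw [← h.preK_stabilizer, imgK_preK]

/-- (R0) If an element normalizing `O²` of the stabilizer of the image of `q` moves this image,
then the stabilizer of a flag is a 2-group. -/
theorem Col.thin_of_normalizer (h : Col p q) {k : KK p}
    (hk : k ∈ normalizer (resOf 2 (MulAction.stabilizer (KK p) (bar p q)) : Set (KK p)))
    (hm : k • bar p q ≠ bar p q) : Thin G := by
  refine h.fl.thin (resOf_eq_bot_iff.1 ?_)
  by_contra hN
  obtain ⟨c, hc, rfl⟩ := exists_star k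
  refine hm ((h.star_smul_iff hc).2 ?_)
  set N := resOf 2 (Cz p ⊓ normalizer (four p q : Set G)) with hNdef
  have h1 : normalizer (four p q : Set G) ≤ normalizer (N : Set G) := by
    rw [hNdef, h.resOf_eq]
    exact (normalizer_le_normalizer_centralizer _).trans (normalizer_le_normalizer_resOf _)
  have h2 : CharP 2 N := h.fl.charP_normalizer.of_normal ((resOf_le _).trans inf_le_right) h1
  have h3 := h.fl.mx (isPGroup_pCoreOf N) (h2.pCoreOf_ne_bot hN)
    (h1.trans (normalizer_le_normalizer_pCoreOf N))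
  refine h3 (normalizer_le_normalizer_pCoreOf N ?_)
  have h4 : resOf 2 (preK p (resOf 2 (MulAction.stabilizer (KK p) (bar p q)))) = N := by
    refine resOf_eq_of_le (fun x hx => mem_preK.2 ⟨(resOf_le _ hx).1, ?_⟩) ?_
    · rw [← h.imgK_eq, ← imgK_resOf inf_le_left]; exact star_mem_imgK hx (resOf_le _ hx).1
    · rw [← h.preK_stabilizer]; exact preK_mono (resOf_le _)
  rw [← h4]
  exact normalizer_le_normalizer_resOf _ (mem_normalizer_preK hc hk)

theorem Col.exists_move (h : Col p q) : ∃ k : KK p, k • bar p q ≠ bar p q := by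
  obtain ⟨c, hc, h1⟩ := SetLike.not_le_iff_exists.1 h.fl.notn
  exact ⟨star p c, fun e => h1 ((h.star_smul_iff hc).1 e)⟩

/-- (R0) If the stabilizer of the image of `q` is a 2-group, so is the stabilizer of a flag. -/
theorem Col.thin_of_isPGroup (h : Col p q)
    (h1 : IsPGroup 2 (MulAction.stabilizer (KK p) (bar p q))) : Thin G := by
  obtain ⟨k, hk⟩ := h.exists_move
  refine h.thin_of_normalizer ?_ hk
  rw [resOf_eq_bot_of_isPGroup h1]; exact mem_normalizer_bot k

namespace Thin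

variable {l : Subgroup G}

theorem isPGroup_stabilizer (hT : Thin G) (h : Col p q) :
    IsPGroup 2 (MulAction.stabilizer (KK p) (bar p q)) := by
  rw [← h.imgK_eq]; exact isPGroup_imgK (hT _ _ h.fl)

theorem isSylowIn_top (hT : Thin G) (h : Fl p l) :
    IsSylowIn 2 (Cz p ⊓ normalizer (l : Set G)) ⊤ := by
  obtain ⟨T, h1, h2, h3⟩ := h.exists_sylowIn
  rw [h2.eq_of_le (hT _ _ h) (le_inf h1.le h3) le_top]; exact h2

theorem isSylowIn (hT : Thin G) (h : Fl p l) :
    IsSylowIn 2 (Cz p ⊓ normalizer (l : Set G)) (Cz p) :=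
  (hT.isSylowIn_top h).mono inf_le_left le_top

theorem sylow_eq (hT : Thin G) {S : Sylow 2 G} (h : NatG S p l) :
    Cz p ⊓ normalizer (l : Set G) = S :=
  (Trans.isSylowIn_top S).eq_of_le (hT _ _ (nat_fl h)) (le_inf (nat_le_Cz h) h.norm) le_top

theorem isPGroup_XX (hT : Thin G) (h : Pt p) : IsPGroup 2 (XX p) :=
  let ⟨_, hl⟩ := h; (hT _ _ hl).to_le (le_inf (XX_le_Cz p) hl.XX_le)

theorem XX_eq (hT : Thin G) (h : Pt p) : XX p = pCoreOf 2 (Cz p) :=
  le_antisymm (MSS.le_pCoreOf (XX_le_Cz p) (Cz_le_normalizer_XX p) (hT.isPGroup_XX h))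
    (core_le_XX h)

omit [Finite G] in
theorem isPGroup_centralizer (hT : Thin G) (h : Fl p l) : IsPGroup 2 (centralizer (l : Set G)) :=
  (hT _ _ h).to_le (le_inf (le_Cz_of_mem h.mem) (centralizer_le_normalizer _))

end Thin

theorem Fl.core_le_centralizer {l : Subgroup G} (h : Fl p l) :
    pCoreOf 2 (normalizer (l : Set G)) ≤ centralizer (l : Set G) := fun c hc x hx => by
  by_cases h1 : x = 1
  · rw [h1, one_mul, mul_one]
  · obtain ⟨T, h2, h3, h4⟩ := (h.of_mem hx h1).exists_sylowIn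
    exact (mem_Cz.1 (h2.le (pCoreOf_le_sylowIn (h3.mono h4 le_top) hc))).symm

theorem Thin.centralizer_eq (hT : Thin G) {l : Subgroup G} (h : Fl p l) :
    centralizer (l : Set G) = pCoreOf 2 (normalizer (l : Set G)) :=
  le_antisymm (MSS.le_pCoreOf (centralizer_le_normalizer _) (normalizer_le_normalizer_centralizer _)
    (hT.isPGroup_centralizer h)) h.core_le_centralizer

theorem Col.card_flag (h : Col p q) :
    Nat.card (Cz p ⊓ normalizer (four p q : Set G) : Subgroup G) =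
      2 * Nat.card (centralizer (four p q : Set G)) := by
  have h1 : IdxLeTwo (Cz q) (Cz p ⊓ normalizer (four p q : Set G)) :=
    idxLeTwo_centralizer h.pt.sq (fun t ht => Geo.mem_Cz.1 ht.1)
      fun t ht => (h.mem_normalizer_iff ht.1).1 ht.2
  obtain ⟨s, hs, e⟩ := h.exists_swap
  rw [card_of_idx h1 fun e' => h.mul_ne_right (e.symm.trans (Cz_conj (e'
    ⟨hs, (h.mem_normalizer_iff hs).2 (Or.inr e)⟩)))]
  have e2 : Cz p ⊓ normalizer (four p q : Set G) ⊓ Cz q = centralizer (four p q : Set G) := by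
    ext c
    rw [h.mem_centralizer_iff]
    exact ⟨fun hc => ⟨hc.1.1, hc.2⟩, fun hc => ⟨⟨hc.1, (h.mem_normalizer_iff hc.1).2
      (Or.inl (Cz_conj hc.2))⟩, hc.2⟩⟩
  rw [e2]

/-- The stabilizer of a flag has index three in the normalizer of the line. -/
theorem Fl.card_normalizer {l : Subgroup G} (h : Fl p l) :
    Nat.card (normalizer (l : Set G)) =
      3 * Nat.card (Cz p ⊓ normalizer (l : Set G) : Subgroup G) := by
  classical
  obtain ⟨q, hq, rfl⟩ := h.exists_col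
  set M := normalizer (four p q : Set G)
  rw [← card_mul_relIndex (inf_le_right : Cz p ⊓ M ≤ M), inf_relIndex_right, mul_comm]
  congr 1
  rw [← Solv.ClassSize.ncard_orbit_eq_relIndex, Set.ncard_eq_three]
  refine ⟨p, q, p * q, hq.ne.symm, hq.mul_ne_left.symm, hq.mul_ne_right.symm, ?_⟩
  ext x
  simp only [Set.mem_ofPred_eq, Set.mem_insert_iff, Set.mem_singleton_iff]
  constructor
  · rintro ⟨n, hn, rfl⟩
    exact (hq.mem_four.1 (mem_normalizer_conj hn (left_mem_four p q))).resolve_left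
      (conj_ne_one hq.pt.ne)
  · rintro (e | e | e) <;> rw [e]
    · exact hq.fl.exists_norm hq.fl
    · exact hq.fl.exists_norm hq.fl'
    · exact hq.fl.exists_norm (hq.four_mul ▸ hq.mul.fl')

theorem Thin.card_normalizer (hT : Thin G) {S : Sylow 2 G} {l : Subgroup G} (h : NatG S p l) :
    Nat.card (normalizer (l : Set G)) = 3 * Nat.card (S : Subgroup G) := by
  rw [(nat_fl h).card_normalizer, hT.sylow_eq h]

/-- The number of lines through a point is odd. -/
theorem Col.odd_index (h : Col p q) : Odd (MulAction.stabilizer (KK p) (bar p q)).index := by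
  obtain ⟨T, hT, h1⟩ := h.exists_sylow_fix
  have := hT.not_dvd_relIndex_of_le (K := MulAction.stabilizer (KK p) (bar p q)) h1
  rwa [relIndex_top_right, ← even_iff_two_dvd, Nat.not_even_iff_odd] at this

theorem Col.mem_orbit_iff (h : Col p q) {x : VV p} :
    x ∈ MulAction.orbit (KK p) (bar p q) ↔ ∃ r, Col p r ∧ bar p r = x := by
  constructor
  · rintro ⟨k, rfl⟩
    obtain ⟨c, hc, rfl⟩ := exists_star k
    exact ⟨_, h.conj_of_mem hc, (star_smul hc h.mem_UU).symm⟩
  · rintro ⟨r, hr, rfl⟩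
    obtain ⟨c, hc, rfl⟩ := h.exists_conj_mem hr
    exact ⟨star p c, star_smul hc h.mem_UU⟩

/-- An element of `U_p` with the same image as a collinear point is a collinear point. -/
theorem Col.of_bar_eq (h : Col p q) {u : G} (hu : u ∈ UU p) (e : bar p u = bar p q) : Col p u := by
  rcases (h.pt.bar_eq_bar hu h.mem_UU).1 e with e | e <;> rw [e]
  · exact h
  · exact h.mul

end Cfsg.Lib.Ngrp.Geo
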