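import Cfsg.Agent.Ngrp.AmMod2
import Cfsg.Agent.Local.TvBasic

/-!
# Reduced modules, part 3: RM4 (components) and RM5 (transvections)
-/

set_option autoImplicit false

namespace Cfsg.Lib.Ngrp
open Subgroup Cfsg.Lib.Local.Tv
open scoped Pointwise

section Four

variable {K V : Type*} [Group K] [CommGroup V] [MulDistribMulAction K V]

theorem smul_ne_one' (g : K) {w : V} (hw : w ≠ 1) : g • w ≠ 1 := fun h =>
  hw (by rw [← inv_smul_smul g w, h, smul_one])

theorem smul_ne_of_fpf {g : K} {W : Subgroup V} (hf : W ⊓ fx V g = ⊥) {w : V} (hw : w ∈ W)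
    (h1 : w ≠ 1) : g • w ≠ w := fun h => h1 (by
  have : w ∈ W ⊓ fx V g := ⟨hw, mem_fx.2 h⟩
  rwa [hf, mem_bot] at this)

theorem eq_one_of_fpf {g : K} {W : Subgroup V} (hf : W ⊓ fx V g = ⊥) {w : V} (hw : w ∈ W)
    (h : g • w = w) : w = 1 := by
  by_contra h1; exact smul_ne_of_fpf hf hw h1 h

variable [Finite V] (hV : ∀ v : V, v * v = 1)
include hV

/-- A fixed-point-free action needs at least four vectors. -/
theorem four_le_of_fpf {g : K} {W : Subgroup V} (hW : Invt g W) (hf : W ⊓ fx V g = ⊥)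
    (h1 : W ≠ ⊥) : 4 ≤ Nat.card W := by
  obtain ⟨n, hn⟩ := exists_card_eq_two_pow hV W
  by_contra hlt
  have h2 : Nat.card W ≤ 2 := by
    rw [hn] at hlt ⊢
    rcases n with _ | _ | n
    · norm_num
    · norm_num
    · exact absurd (by
        calc 4 = 2 ^ 2 := by norm_num
          _ ≤ 2 ^ (n + 1 + 1) := Nat.pow_le_pow_right (by norm_num) (by omega)) hlt
  apply h1
  rw [← hf]
  exact (inf_eq_left.2 (le_fx_of_card_le_two hW h2)).symm

/-- An element of odd order acting nontrivially on a group of order at most four is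
fixed-point-free on it. -/
theorem fpf_of_not_le {g : K} (hg : Odd (orderOf g)) {W : Subgroup V} (hW : Invt g W)
    (hc : Nat.card W ≤ 4) (hn : ¬ W ≤ fx V g) : W ⊓ fx V g = ⊥ := by
  by_contra h0
  have h1 := two_le_card_of_ne_bot h0
  have h2 := card_map_cm_mul g W
  have h3 : Nat.card (W.map (cm V g)) ≤ 2 := by
    by_contra h4
    nlinarith
  exact hn (le_fx_of_map_le_fx hV hg (le_fx_of_card_le_two (hW.map_of_comm rfl) h3))

/-- An element of odd order fixing a nontrivial vector of an invariant four-group centralises it. -/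
theorem le_fx_of_fix {g : K} (hg : Odd (orderOf g)) {W : Subgroup V} (hW : Invt g W)
    (hc : Nat.card W ≤ 4) {w : V} (hw : w ∈ W) (h1 : w ≠ 1) (hf : g • w = w) : W ≤ fx V g := by
  by_contra hn
  exact smul_ne_of_fpf (fpf_of_not_le hV hg hW hc hn) hw h1 hf

variable {g g' : K} {W : Subgroup V} (hc : Nat.card W = 4) (hW : Invt g W) (hf : W ⊓ fx V g = ⊥)
include hc hW hf

theorem four_elems_smul {w : V} (hw : w ∈ W) (h1 : w ≠ 1) {x : V} :
    x ∈ W ↔ x = 1 ∨ x = w ∨ x = g • w ∨ x = w * g • w :=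
  four_elems hV hc hw (hW w hw) h1 (smul_ne_one' g h1) (smul_ne_of_fpf hf hw h1).symm

theorem four_smul_smul {w : V} (hw : w ∈ W) : g • g • w = w * g • w := by
  by_cases h1 : w = 1
  · simp [h1]
  have h2 := smul_ne_of_fpf hf hw h1
  rcases (four_elems_smul hV hc hW hf hw h1).1 (hW _ (hW w hw)) with h | h | h | h
  · exact absurd h (smul_ne_one' g (smul_ne_one' g h1))
  · exfalso
    have h3 : w * g • w = 1 := eq_one_of_fpf hf (mul_mem hw (hW w hw))
      (by rw [smul_mul', h, mul_comm])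
    apply h2
    rw [eq_inv_of_mul_eq_one_right h3, inv_eq_self hV]
  · exact absurd h (smul_ne_of_fpf hf (hW w hw) (smul_ne_one' g h1))
  · exact h

theorem four_cube {w : V} (hw : w ∈ W) : g • g • g • w = w := by
  rw [four_smul_smul hV hc hW hf (hW w hw), four_smul_smul hV hc hW hf hw, mul_left_comm, hV,
    mul_one]

theorem four_inv_smul {w : V} (hw : w ∈ W) : g⁻¹ • w = w * g • w := by
  rw [inv_smul_eq_iff, ← four_smul_smul hV hc hW hf hw, four_cube hV hc hW hf hw]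

theorem four_le_fx_cube : W ≤ fx V (g ^ 3) := fun w hw => by
  rw [mem_fx, pow_three, mul_smul, mul_smul, four_cube hV hc hW hf hw]

theorem four_agree (hW' : Invt g' W) (hf' : W ⊓ fx V g' = ⊥) {w : V} (hw : w ∈ W) (h1 : w ≠ 1)
    (he : g' • w = g • w) {x : V} (hx : x ∈ W) : g' • x = g • x := by
  have h2 : g' • g • w = g • g • w := by
    rw [four_smul_smul hV hc hW hf hw, ← he, four_smul_smul hV hc hW' hf' hw]
  rcases (four_elems_smul hV hc hW hf hw h1).1 hx with rfl | rfl | rfl | rfl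
  · simp
  · exact he
  · exact h2
  · rw [smul_mul', smul_mul', he, h2]

/-- Two fixed-point-free actions on a four-group agree up to inversion. -/
theorem four_agree_or (hW' : Invt g' W) (hf' : W ⊓ fx V g' = ⊥) :
    (∀ x ∈ W, g' • x = g • x) ∨ ∀ x ∈ W, g' • x = g⁻¹ • x := by
  have hne : W ≠ ⊥ := fun h0 => by rw [h0, card_bot] at hc; omega
  obtain ⟨⟨w, hw⟩, h1⟩ := ne_bot_iff_exists_ne_one.1 hne
  have h1' : w ≠ 1 := fun h0 => h1 (Subtype.ext h0)
  rcases (four_elems_smul hV hc hW hf hw h1').1 (hW' w hw) with h | h | h | h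
  · exact absurd h (smul_ne_one' g' h1')
  · exact absurd h (smul_ne_of_fpf hf' hw h1')
  · exact Or.inl fun x hx => four_agree hV hc hW hf hW' hf' hw h1' h hx
  · exact Or.inr fun x hx => four_agree hV hc hW.inv (by rwa [fx_inv]) hW' hf' hw h1'
      (by rw [h, four_inv_smul hV hc hW hf hw]) hx

/-- An element of odd order normalising `W` acts on it as a power of `g`. -/
theorem four_odd_agree (hg' : Odd (orderOf g')) (hW' : Invt g' W) :
    ∃ x ∈ zpowers g, ∀ w ∈ W, g' • w = x • w := by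
  by_cases h : W ≤ fx V g'
  · exact ⟨1, one_mem _, fun w hw => by rw [one_smul, mem_fx.1 (h hw)]⟩
  · rcases four_agree_or hV hc hW hf hW' (fpf_of_not_le hV hg' hW' hc.le h) with h1 | h1
    · exact ⟨g, mem_zpowers g, h1⟩
    · exact ⟨g⁻¹, inv_mem (mem_zpowers g), h1⟩

/-- `g` is transitive on the nontrivial elements of `W`. -/
theorem four_trans {w x : V} (hw : w ∈ W) (h1 : w ≠ 1) (hx : x ∈ W) (hx1 : x ≠ 1) :
    x = w ∨ x = g • w ∨ x = g⁻¹ • w := by
  rw [four_inv_smul hV hc hW hf hw]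
  exact ((four_elems_smul hV hc hW hf hw h1).1 hx).resolve_left hx1

end Four

section RM4

variable {K : Type*} [Group K]

/-- `d'` generates the same group of order three as `d`. -/
def SameD (d d' : K) : Prop := d' = d ∨ d' = d⁻¹

theorem SameD.refl (d : K) : SameD d d := Or.inl rfl

theorem SameD.symm {d d' : K} (h : SameD d d') : SameD d' d := by
  rcases h with rfl | rfl
  · exact Or.inl rfl
  · exact Or.inr (inv_inv d).symm

theorem SameD.trans {d d' d'' : K} (h : SameD d d') (h' : SameD d' d'') : SameD d d'' := by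
  rcases h with rfl | rfl <;> rcases h' with rfl | rfl
  · exact Or.inl rfl
  · exact Or.inr rfl
  · exact Or.inr rfl
  · exact Or.inl (inv_inv d)

theorem SameD.conj {d d' : K} (h : SameD d d') (g : K) : SameD (g * d * g⁻¹) (g * d' * g⁻¹) := by
  rcases h with rfl | rfl
  · exact Or.inl rfl
  · exact Or.inr conj_inv.symm

theorem sameD_conj_iff {d d' : K} (g : K) : SameD (g * d * g⁻¹) (g * d' * g⁻¹) ↔ SameD d d' :=
  ⟨fun h => by simpa [mul_assoc] using h.conj g⁻¹, fun h => h.conj g⟩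

theorem SameD.zpowers_eq {d d' : K} (h : SameD d d') : zpowers d' = zpowers d := by
  rcases h with rfl | rfl
  · rfl
  · exact zpowers_inv

theorem SameD.comm {d d' : K} (h : SameD d d') : d * d' = d' * d := by
  rcases h with rfl | rfl
  · rfl
  · rw [mul_inv_cancel, inv_mul_cancel]

theorem SameD.inverts {d d' t : K} (h : SameD d d') (ht : t * d * t⁻¹ = d⁻¹) :
    t * d' * t⁻¹ = d'⁻¹ := by
  rcases h with rfl | rfl
  · exact ht
  · rw [← conj_inv, ht]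

variable {V : Type*} [CommGroup V] [MulDistribMulAction K V]

theorem SameD.cV_eq {d d' : K} (h : SameD d d') : cV V d' = cV V d := by
  rcases h with rfl | rfl
  · rfl
  · exact cV_inv d

theorem SameD.fx_eq {d d' : K} (h : SameD d d') : fx V d' = fx V d := by
  rcases h with rfl | rfl
  · rfl
  · exact fx_inv d

variable (V) in
/-- `⟨d⟩` is a component: `d ∈ F` and `|[V, d]| = 4`. -/
structure Cmp (d : K) : Prop where
  mem : d ∈ fittingSubgroup K
  card : Nat.card (cV V d) = 4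

variable (V) in
/-- `d` and `d'` centralise each other's commutator spaces. -/
structure Sep (d d' : K) : Prop where
  left : cV V d ≤ fx V d'
  right : cV V d' ≤ fx V d

theorem Sep.symm {d d' : K} (h : Sep V d d') : Sep V d' d := ⟨h.right, h.left⟩

theorem Sep.inf_eq_bot (hV : ∀ v : V, v * v = 1) {d d' : K} (hd : Odd (orderOf d))
    (h : Sep V d d') : cV V d ⊓ cV V d' = ⊥ := by
  rw [eq_bot_iff, ← cV_inf_fx hV hd]
  exact inf_le_inf le_rfl h.right

namespace Cmp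

variable {d d' e d₁ d₂ d₃ : K}

theorem ne_one (h : Cmp V d) : d ≠ 1 := fun h0 => by
  have := h.card
  rw [h0, cV_one, card_bot] at this
  omega

theorem ne_bot (h : Cmp V d) : cV V d ≠ ⊥ := fun h0 => by
  have := h.card
  rw [h0, card_bot] at this
  omega

theorem conj (h : Cmp V d) (g : K) : Cmp V (g * d * g⁻¹) :=
  ⟨(inferInstance : (fittingSubgroup K).Normal).conj_mem d h.mem g, by
    rw [cV_conj, card_smul, h.card]⟩

theorem inv (h : Cmp V d) : Cmp V d⁻¹ := ⟨inv_mem h.mem, by rw [cV_inv, h.card]⟩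

theorem of_sameD (h : Cmp V d) (hs : SameD d d') : Cmp V d' := by
  rcases hs with rfl | rfl
  · exact h
  · exact h.inv

variable [Finite K] [Finite V] (hr : Red K V)
include hr

omit [Finite V] in
theorem odd (h : Cmp V d) : Odd (orderOf d) := hr.odd_of_mem h.mem

omit [Finite V] in
theorem fpf (h : Cmp V d) : cV V d ⊓ fx V d = ⊥ := cV_inf_fx hr.expo (h.odd hr)

theorem cube (h : Cmp V d) : d ^ 3 = 1 :=
  hr.eq_one_of_dec (h.odd hr) (four_le_fx_cube hr.expo h.card (inv_cV_self d) (h.fpf hr))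
    (fx_le_pow d 3)

theorem orderOf_eq (h : Cmp V d) : orderOf d = 3 :=
  haveI : Fact (Nat.Prime 3) := ⟨Nat.prime_three⟩
  orderOf_eq_prime (h.cube hr) h.ne_one

theorem mem_zpowers_iff (h : Cmp V d) {x : K} : x ∈ zpowers d ↔ x = 1 ∨ x = d ∨ x = d⁻¹ := by
  constructor
  · intro hx
    obtain ⟨n, rfl⟩ := mem_powers_iff_mem_zpowers.2 hx
    show d ^ n = 1 ∨ d ^ n = d ∨ d ^ n = d⁻¹
    rw [← pow_mod_orderOf, h.orderOf_eq hr]
    have : n % 3 = 0 ∨ n % 3 = 1 ∨ n % 3 = 2 := by omega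
    rcases this with h0 | h0 | h0 <;> rw [h0]
    · exact Or.inl (pow_zero d)
    · exact Or.inr (Or.inl (pow_one d))
    · refine Or.inr (Or.inr (eq_inv_of_mul_eq_one_left ?_))
      rw [← pow_succ, h.cube hr]
  · rintro (rfl | rfl | rfl)
    · exact one_mem _
    · exact mem_zpowers _
    · exact inv_mem (mem_zpowers _)

theorem sameD_of_mem_zpowers (h : Cmp V d) {x : K} (hx : x ∈ zpowers d) (h1 : x ≠ 1) :
    SameD d x := ((h.mem_zpowers_iff hr).1 hx).resolve_left h1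

/-- An element of odd order with `[V, e] ≤ W_d` lies in `⟨d⟩`. -/
theorem mem_zpowers_of_cV_le (h : Cmp V d) (he : Odd (orderOf e)) (hle : cV V e ≤ cV V d)
    (hc : Invt e (fx V d)) : e ∈ zpowers d := by
  obtain ⟨x, hx, hxe⟩ := four_odd_agree hr.expo h.card (inv_cV_self d) (h.fpf hr) he
    (Invt.of_cV_le hle)
  have : x⁻¹ * e = 1 := by
    refine hr.eq_one_of_dec (h.odd hr) (fun w hw => ?_) (fun w hw => ?_)
    · rw [mem_fx, mul_smul, hxe w hw, inv_smul_smul]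
    · have h1 : e • w = w := cm_eq_one_iff.1 (eq_one_of_mem_cV_fx hr.expo (h.odd hr)
        (hle (cm_mem_cV _ _)) (hc.cm_mem hw))
      rw [mem_fx, mul_smul, h1]
      exact mem_fx.1 (fx_le_of_mem_zpowers (inv_mem hx) hw)
  rw [← inv_mul_eq_one.1 this]
  exact hx

theorem sameD_of_not_le (h : Cmp V d) (h' : Cmp V d') (hc : d' * d = d * d')
    (hn : ¬ cV V d ≤ fx V d') : SameD d d' := by
  have h1 : Invt d' (cV V d) := inv_cV_of_comm hc
  have h2 := le_cV_of_inf_fx h1 (fpf_of_not_le hr.expo (h'.odd hr) h1 h.card.le hn)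
  have h3 : cV V d = cV V d' := eq_of_le_of_card_le h2 (by rw [h.card, h'.card])
  exact h.sameD_of_mem_zpowers hr
    (h.mem_zpowers_of_cV_le hr (h'.odd hr) h3.ge (inv_fx_of_comm hc)) h'.ne_one

theorem dich_of_comm (h : Cmp V d) (h' : Cmp V d') (hc : d' * d = d * d') :
    SameD d d' ∨ Sep V d d' := by
  by_cases h1 : cV V d ≤ fx V d'
  · by_cases h2 : cV V d' ≤ fx V d
    · exact Or.inr ⟨h1, h2⟩
    · exact Or.inl (h'.sameD_of_not_le hr h hc.symm h2).symm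
  · exact Or.inl (h.sameD_of_not_le hr h' hc h1)

omit [Finite V] in
theorem card_sup_of_sep (h₁ : Cmp V d₁) (h₂ : Cmp V d₂) (h : Sep V d₁ d₂) :
    Nat.card ↥(cV V d₁ ⊔ cV V d₂) = 16 := by
  rw [card_sup_of_inf_bot (h.inf_eq_bot hr.expo (h₁.odd hr)), h₁.card, h₂.card]

omit [Finite V] in
theorem card_sup_three_of_sep (h₁ : Cmp V d₁) (h₂ : Cmp V d₂) (h₃ : Cmp V d₃) (h12 : Sep V d₁ d₂)
    (h13 : Sep V d₁ d₃) (h23 : Sep V d₂ d₃) :
    Nat.card ↥(cV V d₁ ⊔ cV V d₂ ⊔ cV V d₃) = 64 := by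
  rw [card_sup_of_inf_bot, card_sup_of_sep hr h₁ h₂ h12, h₃.card]
  rw [eq_bot_iff, ← h₃.fpf hr, inf_comm]
  exact inf_le_inf le_rfl (sup_le h13.left h23.left)

theorem comm_of_conj_comm (h : Cmp V d) (he : Cmp V e)
    (hc : e * d * e⁻¹ * d = d * (e * d * e⁻¹)) : e * d = d * e := by
  by_cases hs : SameD d (e * d * e⁻¹)
  · exact comm_of_odd_of_or (he.odd hr) hs
  exfalso
  have e3 : e * (e * (e * d * e⁻¹) * e⁻¹) * e⁻¹ = d := by
    calc e * (e * (e * d * e⁻¹) * e⁻¹) * e⁻¹ = e ^ 3 * d * (e ^ 3)⁻¹ := by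
          rw [pow_three]; group
      _ = d := by rw [he.cube hr]; group
  have conjc : ∀ x y : K, x * y = y * x → e * x * e⁻¹ * (e * y * e⁻¹) = e * y * e⁻¹ * (e * x * e⁻¹) :=
    fun x y hxy => by
      calc e * x * e⁻¹ * (e * y * e⁻¹) = e * (x * y) * e⁻¹ := by group
        _ = e * y * e⁻¹ * (e * x * e⁻¹) := by rw [hxy]; group
  have h₁ := h.conj e
  have h₂ := h₁.conj e
  have s01 := (h.dich_of_comm hr h₁ hc).resolve_left hs
  have s12 := (h₁.dich_of_comm hr h₂ (conjc _ _ hc)).resolve_left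
    (fun h0 => hs ((sameD_conj_iff e).1 h0))
  have c20 := conjc _ _ (conjc _ _ hc)
  rw [e3] at c20
  have s20 := (h₂.dich_of_comm hr h c20).resolve_left (fun h0 => by
    rw [← e3] at h0
    nth_rw 1 [e3] at h0
    exact hs ((sameD_conj_iff e).1 ((sameD_conj_iff e).1 (by rwa [e3] at h0 ⊢))))
  have h64 := card_sup_three_of_sep hr h h₁ h₂ s01 s20.symm s12
  have hinv : Invt e (cV V d ⊔ cV V e) := Invt.of_cV_le le_sup_right
  have hle1 : cV V (e * d * e⁻¹) ≤ cV V d ⊔ cV V e := by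
    rw [cV_conj, ← hinv.smul_eq]
    exact pointwise_smul_le_pointwise_smul_iff.2 le_sup_left
  have hle2 : cV V (e * (e * d * e⁻¹) * e⁻¹) ≤ cV V d ⊔ cV V e := by
    rw [cV_conj, ← hinv.smul_eq]
    exact pointwise_smul_le_pointwise_smul_iff.2 hle1
  have h1 := card_le_of_le (sup_le (sup_le le_sup_left hle1) hle2)
  have h2 := card_sup_mul_inf (cV V d) (cV V e)
  have h3 : 0 < Nat.card ↥(cV V d ⊓ cV V e) := Nat.card_pos
  rw [h.card, he.card] at h2
  rw [h64] at h1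
  nlinarith

/-- Components commute. -/
theorem comm (h : Cmp V d) (he : Cmp V e) : e * d = d * e := by
  have key : ∀ n : ℕ, ∀ e : K, ∀ he : Cmp V e,
      (⟨e, he.mem⟩ * (⟨d, h.mem⟩ : fittingSubgroup K)⁻¹) ∈
        Subgroup.upperCentralSeries (fittingSubgroup K) n → e * d = d * e := by
    intro n
    induction n with
    | zero =>
      intro e he h0
      rw [Subgroup.upperCentralSeries_zero, mem_bot, mul_inv_eq_one] at h0
      have : e = d := congrArg Subtype.val h0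
      rw [this]
    | succ n ih =>
      intro e he h0
      have h1 := Subgroup.mem_upperCentralSeries_succ_iff.1 h0 ⟨d, h.mem⟩
      refine h.comm_of_conj_comm hr he (ih _ (h.conj e) ?_)
      convert h1 using 1
      apply Subtype.ext
      simp [commutatorElement_def, mul_assoc]
  obtain ⟨n, hn⟩ := (Solv.fitting_isNilpotent K).nilpotent
  exact key n e he (by rw [hn]; exact mem_top _)

/-- **RM4**: two components coincide or centralise each other's modules. -/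
theorem dich (h : Cmp V d) (h' : Cmp V d') : SameD d d' ∨ Sep V d d' :=
  h.dich_of_comm hr h' (h.comm hr h')

theorem sep (h : Cmp V d) (h' : Cmp V d') (hn : ¬ SameD d d') : Sep V d d' :=
  (h.dich hr h').resolve_left hn

theorem inf_eq_bot (h : Cmp V d) (h' : Cmp V d') (hn : ¬ SameD d d') : cV V d ⊓ cV V d' = ⊥ :=
  (h.sep hr h' hn).inf_eq_bot hr.expo (h.odd hr)

theorem sameD_of_mem (h : Cmp V d) (h' : Cmp V d') {w : V} (hw : w ∈ cV V d) (hw' : w ∈ cV V d')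
    (h1 : w ≠ 1) : SameD d d' := by
  by_contra hn
  have : w ∈ cV V d ⊓ cV V d' := ⟨hw, hw'⟩
  rw [h.inf_eq_bot hr h' hn, mem_bot] at this
  exact h1 this

theorem sameD_iff (h : Cmp V d) (h' : Cmp V d') : SameD d d' ↔ cV V d' = cV V d := by
  refine ⟨SameD.cV_eq, fun he => ?_⟩
  by_contra hn
  have := h.inf_eq_bot hr h' hn
  rw [he, inf_idem] at this
  exact h.ne_bot this

theorem sameD_of_not_fix (h : Cmp V d) (h' : Cmp V d') {w : V} (hw : w ∈ cV V d)
    (hn : d' • w ≠ w) : SameD d d' := by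
  by_contra h0
  exact hn (mem_fx.1 ((h.sep hr h' h0).left hw))

/-- An element mapping a nontrivial vector of `W_D` into `W_D` normalises `D`. -/
theorem sameD_conj_of_mem (h : Cmp V d) {g : K} {w : V} (hw : w ∈ cV V d) (h1 : w ≠ 1)
    (hg : g • w ∈ cV V d) : SameD d (g * d * g⁻¹) :=
  h.sameD_of_mem hr (h.conj g) hg (by rw [cV_conj]; exact smul_mem_smul g hw) (smul_ne_one' g h1)

/-- RM4: an element fixing `1 ≠ w ∈ W_D` normalises `D`. -/
theorem sameD_conj_of_fix (h : Cmp V d) {g : K} {w : V} (hw : w ∈ cV V d) (h1 : w ≠ 1)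
    (hg : g • w = w) : g * d * g⁻¹ = d ∨ g * d * g⁻¹ = d⁻¹ :=
  h.sameD_conj_of_mem hr hw h1 (by rwa [hg])

theorem invt_of_fix (h : Cmp V d) {g : K} {w : V} (hw : w ∈ cV V d) (h1 : w ≠ 1)
    (hg : g • w = w) : Invt g (cV V d) :=
  inv_cV_of_or (h.sameD_conj_of_fix hr hw h1 hg)

theorem sameD_conj_of_invt (h : Cmp V d) {g : K} (hg : Invt g (cV V d)) :
    g * d * g⁻¹ = d ∨ g * d * g⁻¹ = d⁻¹ :=
  (h.sameD_iff hr (h.conj g)).2 (by rw [cV_conj, hg.smul_eq])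

/-- An element of odd order fixing `1 ≠ w ∈ W_D` centralises `D` and `W_D`. -/
theorem le_fx_of_odd_of_fix (h : Cmp V d) {g : K} (hg : Odd (orderOf g)) {w : V}
    (hw : w ∈ cV V d) (h1 : w ≠ 1) (hf : g • w = w) : g * d = d * g ∧ cV V d ≤ fx V g :=
  ⟨comm_of_odd_of_or hg (h.sameD_conj_of_fix hr hw h1 hf),
    le_fx_of_fix hr.expo hg (h.invt_of_fix hr hw h1 hf) h.card.le hw h1 hf⟩

theorem card_sup (h₁ : Cmp V d₁) (h₂ : Cmp V d₂) (hn : ¬ SameD d₁ d₂) :
    Nat.card ↥(cV V d₁ ⊔ cV V d₂) = 16 :=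
  card_sup_of_sep hr h₁ h₂ (h₁.sep hr h₂ hn)

theorem card_sup_three (h₁ : Cmp V d₁) (h₂ : Cmp V d₂) (h₃ : Cmp V d₃) (h12 : ¬ SameD d₁ d₂)
    (h13 : ¬ SameD d₁ d₃) (h23 : ¬ SameD d₂ d₃) :
    Nat.card ↥(cV V d₁ ⊔ cV V d₂ ⊔ cV V d₃) = 64 :=
  card_sup_three_of_sep hr h₁ h₂ h₃ (h₁.sep hr h₂ h12) (h₁.sep hr h₃ h13) (h₂.sep hr h₃ h23)

/-- Fewer than 16 vectors: at most one component. -/
theorem sameD_of_card_lt (h₁ : Cmp V d₁) (h₂ : Cmp V d₂) (hc : Nat.card V < 16) : SameD d₁ d₂ := by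
  by_contra hn
  have := card_le_card_group (cV V d₁ ⊔ cV V d₂)
  rw [h₁.card_sup hr h₂ hn] at this
  omega

/-- Fewer than 64 vectors: at most two components. -/
theorem sameD_or_of_card_lt (h₁ : Cmp V d₁) (h₂ : Cmp V d₂) (h12 : ¬ SameD d₁ d₂)
    (hc : Nat.card V < 64) (h₃ : Cmp V d₃) : SameD d₁ d₃ ∨ SameD d₂ d₃ := by
  by_contra hn
  rw [not_or] at hn
  have := card_le_card_group (cV V d₁ ⊔ cV V d₂ ⊔ cV V d₃)
  rw [h₁.card_sup_three hr h₂ h₃ h12 hn.1 hn.2] at this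
  omega

omit [Finite K] [Finite V] hr in
/-- If `D` is the only component then `W_D` is invariant. -/
theorem invt_of_unique (h : Cmp V d) (hu : ∀ e, Cmp V e → SameD d e) (g : K) :
    Invt g (cV V d) :=
  inv_cV_of_or (hu _ (h.conj g))

/-- (for R2) An element fixing `u₁ u₂` with `1 ≠ uᵢ ∈ W_{Dᵢ}` permutes `D₁, D₂`. -/
theorem perm_of_fix (h₁ : Cmp V d₁) (h₂ : Cmp V d₂) (h12 : ¬ SameD d₁ d₂) {u₁ u₂ : V}
    (hu₁ : u₁ ∈ cV V d₁) (hu₂ : u₂ ∈ cV V d₂) (h1 : u₁ ≠ 1) (h2 : u₂ ≠ 1) {g : K}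
    (hg : g • (u₁ * u₂) = u₁ * u₂) :
    (SameD d₁ (g * d₁ * g⁻¹) ∧ SameD d₂ (g * d₂ * g⁻¹)) ∨
      (SameD d₂ (g * d₁ * g⁻¹) ∧ SameD d₁ (g * d₂ * g⁻¹)) := by
  have hs := h₁.sep hr h₂ h12
  have key : ∀ d, Cmp V d → d • (u₁ * u₂) ≠ u₁ * u₂ →
      SameD d (g * d₁ * g⁻¹) ∨ SameD d (g * d₂ * g⁻¹) := by
    intro d hd hne
    by_contra hn
    rw [not_or] at hn
    apply hne
    have e1 := (hd.sep hr (h₁.conj g) hn.1).right (by rw [cV_conj]; exact smul_mem_smul g hu₁)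
    have e2 := (hd.sep hr (h₂.conj g) hn.2).right (by rw [cV_conj]; exact smul_mem_smul g hu₂)
    rw [← hg, smul_mul' g]
    exact mem_fx.1 (mul_mem e1 e2)
  have k1 := key d₁ h₁ (by
    rw [smul_mul', mem_fx.1 (hs.right hu₂), Ne, mul_left_inj]
    exact smul_ne_of_fpf (h₁.fpf hr) hu₁ h1)
  have k2 := key d₂ h₂ (by
    rw [smul_mul', mem_fx.1 (hs.left hu₁), Ne, mul_right_inj]
    exact smul_ne_of_fpf (h₂.fpf hr) hu₂ h2)
  rcases k1 with k1 | k1 <;> rcases k2 with k2 | k2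
  · exact absurd (k1.trans k2.symm) h12
  · exact Or.inl ⟨k1, k2⟩
  · exact Or.inr ⟨k2, k1⟩
  · exact absurd (k1.trans k2.symm) h12

omit hr [Finite K] [Finite V] in
theorem swap_sq {g : K} (h : SameD d₂ (g * d₁ * g⁻¹) ∧ SameD d₁ (g * d₂ * g⁻¹)) :
    SameD d₁ (g * g * d₁ * (g * g)⁻¹) ∧ SameD d₂ (g * g * d₂ * (g * g)⁻¹) := by
  constructor
  · have := h.2.trans (h.1.conj g)
    simpa [mul_assoc] using this
  · have := h.1.trans (h.2.conj g)
    simpa [mul_assoc] using this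

omit hr [Finite K] [Finite V] in
/-- An element of odd order permuting `D₁, D₂` centralises both. -/
theorem comm_of_odd_of_perm {g : K} (hg : Odd (orderOf g))
    (h : (SameD d₁ (g * d₁ * g⁻¹) ∧ SameD d₂ (g * d₂ * g⁻¹)) ∨
      (SameD d₂ (g * d₁ * g⁻¹) ∧ SameD d₁ (g * d₂ * g⁻¹))) :
    g * d₁ = d₁ * g ∧ g * d₂ = d₂ * g := by
  rcases h with h | h
  · exact ⟨comm_of_odd_of_or hg h.1, comm_of_odd_of_or hg h.2⟩
  · have hg2 : Odd (orderOf (g * g)) := by
      rw [← pow_two]; exact hg.of_dvd_nat (orderOf_pow_dvd 2)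
    obtain ⟨k, hk⟩ := hg
    have h4 : g = ((g * g) ^ k)⁻¹ := by
      apply eq_inv_of_mul_eq_one_left
      rw [← pow_two, ← pow_mul, ← pow_succ', ← hk, pow_orderOf_eq_one]
    have c1 : Commute (g * g) d₁ := comm_of_odd_of_or hg2 (swap_sq h).1
    have c2 : Commute (g * g) d₂ := comm_of_odd_of_or hg2 (swap_sq h).2
    rw [h4]
    exact ⟨(c1.pow_left k).inv_left, (c2.pow_left k).inv_left⟩

/-- (for R2) An element of odd order fixing `u₁ u₂` centralises `D₁, D₂, W₁, W₂`. -/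
theorem le_fx_of_odd_of_fix_mul (h₁ : Cmp V d₁) (h₂ : Cmp V d₂) (h12 : ¬ SameD d₁ d₂) {u₁ u₂ : V}
    (hu₁ : u₁ ∈ cV V d₁) (hu₂ : u₂ ∈ cV V d₂) (h1 : u₁ ≠ 1) (h2 : u₂ ≠ 1) {g : K}
    (ho : Odd (orderOf g)) (hg : g • (u₁ * u₂) = u₁ * u₂) :
    g * d₁ = d₁ * g ∧ g * d₂ = d₂ * g ∧ cV V d₁ ≤ fx V g ∧ cV V d₂ ≤ fx V g := by
  obtain ⟨c1, c2⟩ := comm_of_odd_of_perm ho (h₁.perm_of_fix hr h₂ h12 hu₁ hu₂ h1 h2 hg)
  have i1 : Invt g (cV V d₁) := inv_cV_of_comm c1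
  have i2 : Invt g (cV V d₂) := inv_cV_of_comm c2
  have h3 : cm V g u₁ * cm V g u₂ = 1 := by rw [← map_mul]; exact cm_eq_one_iff.2 hg
  have h4 : cm V g u₁ ∈ cV V d₁ ⊓ cV V d₂ := mem_inf.2
    ⟨i1.cm_mem hu₁, by rw [eq_inv_of_mul_eq_one_left h3]; exact inv_mem (i2.cm_mem hu₂)⟩
  rw [h₁.inf_eq_bot hr h₂ h12, mem_bot] at h4
  rw [h4, one_mul] at h3
  exact ⟨c1, c2, le_fx_of_fix hr.expo ho i1 h₁.card.le hu₁ h1 (cm_eq_one_iff.1 h4),
    le_fx_of_fix hr.expo ho i2 h₂.card.le hu₂ h2 (cm_eq_one_iff.1 h3)⟩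

/-- With two components and at most 32 vectors, every element of odd order lies in `D₁ D₂`. -/
theorem odd_mem_of_card_le (h₁ : Cmp V d₁) (h₂ : Cmp V d₂) (h12 : ¬ SameD d₁ d₂)
    (hc : Nat.card V ≤ 32) {g : K} (ho : Odd (orderOf g)) :
    ∃ x ∈ zpowers d₁, ∃ y ∈ zpowers d₂, g = x * y := by
  have hs := h₁.sep hr h₂ h12
  have k1 := h₁.sameD_or_of_card_lt hr h₂ h12 (by omega) (h₁.conj g)
  have k2 := h₁.sameD_or_of_card_lt hr h₂ h12 (by omega) (h₂.conj g)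
  have hne : ¬ SameD (g * d₁ * g⁻¹) (g * d₂ * g⁻¹) := fun h0 => h12 ((sameD_conj_iff g).1 h0)
  obtain ⟨c1, c2⟩ : g * d₁ = d₁ * g ∧ g * d₂ = d₂ * g := by
    apply comm_of_odd_of_perm ho
    rcases k1 with k1 | k1 <;> rcases k2 with k2 | k2
    · exact absurd (k1.symm.trans k2) hne
    · exact Or.inl ⟨k1, k2⟩
    · exact Or.inr ⟨k1, k2⟩
    · exact absurd (k1.symm.trans k2) hne
  obtain ⟨x, hx, hxg⟩ := four_odd_agree hr.expo h₁.card (inv_cV_self d₁) (h₁.fpf hr) ho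
    (inv_cV_of_comm c1)
  obtain ⟨y, hy, hyg⟩ := four_odd_agree hr.expo h₂.card (inv_cV_self d₂) (h₂.fpf hr) ho
    (inv_cV_of_comm c2)
  refine ⟨x, hx, y, hy, hr.eq_of_smul_eq fun v => ?_⟩
  obtain ⟨w₁, hw₁, c, hc', rfl⟩ := exists_dec hr.expo (h₁.odd hr) v
  obtain ⟨w₂, hw₂, c', hc'', rfl⟩ := exists_dec_of_inv hr.expo (h₂.odd hr)
    (inv_fx_of_comm (h₁.comm hr h₂)) hc'
  have hcard : Nat.card ↥(fx V d₁ ⊓ fx V d₂) ≤ 2 := by
    have e1 : (cV V d₁ ⊔ cV V d₂) ⊓ (fx V d₁ ⊓ fx V d₂) = ⊥ := by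
      rw [eq_bot_iff]
      intro z hz
      obtain ⟨p, hp, q, hq, rfl⟩ := mem_sup.1 hz.1
      have hp1 : p = 1 := eq_one_of_mem_cV_fx hr.expo (h₁.odd hr) hp
        ((mul_mem_cancel_right (hs.right hq)).1 hz.2.1)
      have hq1 : q = 1 := eq_one_of_mem_cV_fx hr.expo (h₂.odd hr) hq
        ((mul_mem_cancel_left (hs.left hp)).1 hz.2.2)
      rw [hp1, hq1, mul_one]; exact one_mem _
    have e2 := card_le_card_group ((cV V d₁ ⊔ cV V d₂) ⊔ (fx V d₁ ⊓ fx V d₂))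
    rw [card_sup_of_inf_bot e1, h₁.card_sup hr h₂ h12] at e2
    omega
  have f1 := mem_fx.1 (le_fx_of_card_le_two
    ((inv_fx_of_comm (V := V) c1).inf (inv_fx_of_comm c2)) hcard hc'')
  simp only [smul_mul', mul_smul]
  rw [hxg w₁ hw₁, hyg w₂ hw₂.2, f1, mem_fx.1 (fx_le_of_mem_zpowers hy (hs.left hw₁)),
    mem_fx.1 (fx_le_of_mem_zpowers hy hc''.2), mem_fx.1 (fx_le_of_mem_zpowers hx hc''.1),
    mem_fx.1 (fx_le_of_mem_zpowers hx (hs.right ((inv_cV_self d₂).of_mem_zpowers hy w₂ hw₂.2)))]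

end Cmp

/-- An element of order three satisfies `1 + d + d² = 0` on `[V, d]`. -/
theorem smul_smul_of_cube (hV : ∀ v : V, v * v = 1) {d : K} (hd : d ^ 3 = 1) {w : V}
    (hw : w ∈ cV V d) : d • d • w = w * d • w := by
  obtain ⟨v, rfl⟩ := hw
  have h3 : d • d • d • v = v := by rw [← mul_smul, ← mul_smul, ← pow_three', hd, one_smul]
  simp only [cm_apply, smul_mul', inv_eq_self hV, h3]
  calc v * d • d • v = (d • v * d • v) * (v * d • d • v) := by rw [hV, one_mul]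
    _ = d • v * v * (d • d • v * d • v) := by ac_rfl

/-- Two commuting elements of order three with the same commutator space `W` of order 16:
`⟨d₁ d₂⟩` and `⟨d₁ d₂⁻¹⟩` are components with modules `C_W(d₁ d₂⁻¹)` and `C_W(d₁ d₂)`. -/
theorem Red.cmp_pair [Finite K] [Finite V] (hr : Red K V) {d₁ d₂ : K}
    (m₁ : d₁ ∈ fittingSubgroup K) (m₂ : d₂ ∈ fittingSubgroup K) (c₁ : d₁ ^ 3 = 1)
    (c₂ : d₂ ^ 3 = 1) (hc : d₁ * d₂ = d₂ * d₁) (hW : cV V d₂ = cV V d₁)
    (h16 : Nat.card (cV V d₁) ≤ 16) (hn : ¬ SameD d₁ d₂) :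
    Cmp V (d₁ * d₂) ∧ Cmp V (d₁ * d₂⁻¹) ∧ ¬ SameD (d₁ * d₂) (d₁ * d₂⁻¹) ∧
      cV V (d₁ * d₂) = cV V d₁ ⊓ fx V (d₁ * d₂⁻¹) ∧ cV V (d₁ * d₂⁻¹) = cV V d₁ ⊓ fx V (d₁ * d₂) ∧
      cV V (d₁ * d₂) ⊔ cV V (d₁ * d₂⁻¹) = cV V d₁ := by
  have hV := hr.expo
  have mx := mul_mem m₁ m₂
  have my := mul_mem m₁ (inv_mem m₂)
  have ox := hr.odd_of_mem mx
  have oy := hr.odd_of_mem my
  have hc' : Commute d₁ d₂ := hc
  have lx : cV V (d₁ * d₂) ≤ cV V d₁ := (cV_mul_le _ _).trans (sup_le le_rfl hW.le)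
  have ly : cV V (d₁ * d₂⁻¹) ≤ cV V d₁ :=
    (cV_mul_le _ _).trans (sup_le le_rfl (by rw [cV_inv]; exact hW.le))
  have hxy : Commute (d₁ * d₂) (d₁ * d₂⁻¹) :=
    (Commute.refl d₁).mul_right hc'.inv_right |>.mul_left
      (hc'.symm.mul_right (Commute.refl d₂).inv_right)
  -- the key identity `[W, x, y] = 1`
  have key : ∀ w ∈ cV V d₁, cm V (d₁ * d₂⁻¹) (cm V (d₁ * d₂) w) = 1 := by
    intro w hw
    have hw2 : w ∈ cV V d₂ := hW ▸ hw
    have e2 : d₂⁻¹ • w = w * d₂ • w := by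
      rw [inv_smul_eq_iff, ← smul_smul_of_cube hV c₂ hw2, ← mul_smul, ← mul_smul, ← pow_three',
        c₂, one_smul]
    have e3 : (d₁ * d₂⁻¹) • (d₁ * d₂) • w = d₁ • d₁ • w := by
      rw [← mul_smul, ← mul_smul]
      congr 1
      rw [mul_assoc, hc, inv_mul_cancel_left]
    rw [cm_apply (d₁ * d₂), map_mul, map_inv, cm_apply, cm_apply, e3,
      smul_smul_of_cube hV c₁ hw, mul_smul, mul_smul, e2, smul_mul']
    simp only [inv_eq_self hV]
    calc w * d₁ • w * d₁ • d₂ • w * (d₁ • w * d₁ • d₂ • w * w)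
        = (w * w) * (d₁ • w * d₁ • w) * (d₁ • d₂ • w * d₁ • d₂ • w) := by
          ac_rfl
      _ = 1 := by simp only [hV]
  have sx : cV V (d₁ * d₂) ≤ fx V (d₁ * d₂⁻¹) := by
    rw [← map_cm_cV hV ox]
    rintro _ ⟨w, hw, rfl⟩
    exact mem_fx.2 (cm_eq_one_iff.1 (key w (lx hw)))
  have sy : cV V (d₁ * d₂⁻¹) ≤ fx V (d₁ * d₂) := by
    rw [← map_cm_cV hV oy]
    rintro _ ⟨w, hw, rfl⟩
    refine mem_fx.2 (cm_eq_one_iff.1 ?_)
    rw [cm_cm_comm hxy.eq]
    exact key w (ly hw)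
  have hs : Sep V (d₁ * d₂) (d₁ * d₂⁻¹) := ⟨sx, sy⟩
  have x1 : d₁ * d₂ ≠ 1 := fun h0 => hn (Or.inr (eq_inv_of_mul_eq_one_right h0))
  have y1 : d₁ * d₂⁻¹ ≠ 1 := fun h0 => hn (Or.inl (mul_inv_eq_one.1 h0).symm)
  have fx4 := four_le_of_fpf hV (inv_cV_self _) (cV_inf_fx hV ox) (hr.cV_ne_bot x1)
  have fy4 := four_le_of_fpf hV (inv_cV_self _) (cV_inf_fx hV oy) (hr.cV_ne_bot y1)
  have hsup := card_sup_of_inf_bot (hs.inf_eq_bot hV ox)
  have hle := card_le_of_le (sup_le lx ly)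
  have ex : Nat.card (cV V (d₁ * d₂)) = 4 := by nlinarith
  have ey : Nat.card (cV V (d₁ * d₂⁻¹)) = 4 := by nlinarith
  have hall : cV V (d₁ * d₂) ⊔ cV V (d₁ * d₂⁻¹) = cV V d₁ :=
    eq_of_le_of_card_le (sup_le lx ly) (by rw [hsup, ex, ey]; exact h16)
  refine ⟨⟨mx, ex⟩, ⟨my, ey⟩, fun h0 => ?_, ?_, ?_, hall⟩
  · have := hs.inf_eq_bot hV ox
    rw [h0.cV_eq, inf_idem] at this
    exact hr.cV_ne_bot x1 this
  · refine le_antisymm (le_inf lx sx) fun z hz => ?_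
    have hz1 := hz.1
    rw [← hall] at hz1
    obtain ⟨p, hp, q, hq, rfl⟩ := mem_sup.1 hz1
    rw [eq_one_of_mem_cV_fx hV oy hq ((mul_mem_cancel_left (sx hp)).1 hz.2), mul_one]
    exact hp
  · refine le_antisymm (le_inf ly sy) fun z hz => ?_
    have hz1 := hz.1
    rw [← hall] at hz1
    obtain ⟨p, hp, q, hq, rfl⟩ := mem_sup.1 hz1
    rw [eq_one_of_mem_cV_fx hV ox hp ((mul_mem_cancel_right (sy hq)).1 hz.2), one_mul]
    exact hq

end RM4

section RM5

variable {K V : Type*} [Group K] [CommGroup V] [MulDistribMulAction K V]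

theorem isTv_cV (hV : ∀ v : V, v * v = 1) {t : K} {u : V} (h : IsTv t u) :
    cV V t = zpowers u := by
  apply le_antisymm
  · rintro _ ⟨v, rfl⟩
    rcases h.act v with h1 | h1
    · rw [cm_eq_one_iff.2 h1]; exact one_mem _
    · rw [cm_apply, h1, mul_inv_cancel_comm]; exact mem_zpowers u
  · obtain ⟨v, hv⟩ := h.exists_eq
    rw [zpowers_le]
    have := hV
    exact ⟨v, by rw [cm_apply, hv, mul_inv_cancel_comm]⟩

theorem isTv_card (hV : ∀ v : V, v * v = 1) {t : K} {u : V} (h : IsTv t u) :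
    Nat.card (cV V t) = 2 := by
  rw [isTv_cV hV h, card_zpowers_of_expo hV h.ne]

theorem isTv_of_cV (hV : ∀ v : V, v * v = 1) {t : K} (ht : t * t = 1) {u : V} (hu : u ≠ 1)
    (h : cV V t = zpowers u) : IsTv t u where
  sq := ht
  ne := hu
  act v := by
    rcases (mem_zpowers_iff_of_expo hV).1 (h ▸ cm_mem_cV t v) with h1 | h1
    · exact Or.inl (cm_eq_one_iff.1 h1)
    · exact Or.inr (by rw [smul_eq_cm_mul, h1, mul_comm])
  ex := by
    by_contra h0
    push Not at h0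
    rw [cV_eq_bot_iff.2 h0, eq_comm, zpowers_eq_bot] at h
    exact hu h

theorem exists_isTv_of_card (hV : ∀ v : V, v * v = 1) {t : K} (ht : t * t = 1)
    (h : Nat.card (cV V t) = 2) : ∃ u : V, IsTv t u := by
  obtain ⟨u, hu, he⟩ := exists_eq_zpowers_of_card_two h
  exact ⟨u, isTv_of_cV hV ht hu he⟩

/-- If `[V, t] ≤ ⟨u⟩` with `t` acting nontrivially, then `t` is a transvection with centre `u`. -/
theorem isTv_of_le (hV : ∀ v : V, v * v = 1) {t : K} (ht : t * t = 1) {u : V}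
    (h : cV V t ≤ zpowers u) (hne : cV V t ≠ ⊥) : IsTv t u := by
  obtain ⟨⟨x, hx⟩, h1⟩ := ne_bot_iff_exists_ne_one.1 hne
  have h1' : x ≠ 1 := fun h0 => h1 (Subtype.ext h0)
  have hxu : x = u := ((mem_zpowers_iff_of_expo hV).1 (h hx)).resolve_left h1'
  subst hxu
  exact isTv_of_cV hV ht h1' (le_antisymm h (zpowers_le.2 hx))

namespace Red

variable [Finite K] [Finite V] (hr : Red K V) {t t' d d' : K} {u u' : V}
include hr

omit [Finite K] in
/-- RM5: an element of odd order inverted by a transvection has `|[V,d]| = 4`, the centre lies in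
`[V, d]`, and `t` centralises `C_V(d)`. -/
theorem tv_of_inverts' (h : IsTv t u) (hd : Odd (orderOf d)) (h1 : d ≠ 1)
    (hinv : t * d * t⁻¹ = d⁻¹) : Nat.card (cV V d) = 4 ∧ u ∈ cV V d ∧ fx V d ≤ fx V t ∧
      (cV V d).map (cm V t) = zpowers u ∧ cV V d ⊓ fx V t = zpowers u := by
  have h2 := hr.two_le_card_map h.sq hd hinv h1
  have h3 : (cV V d).map (cm V t) = zpowers u := by
    rw [← isTv_cV hr.expo h]
    exact eq_of_le_of_card_le (map_cm_le_cV _ _) (by rw [isTv_card hr.expo h]; exact h2)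
  have h4 : zpowers u ≤ cV V d := h3 ▸ (inv_cV_of_inverts hinv).map_le
  refine ⟨by rw [rm2_cV_card hr.expo h.sq hd hinv, h3, card_zpowers_of_expo hr.expo h.ne]; rfl,
    h4 (mem_zpowers u), fun c hc => ?_, h3, by rw [rm2_cV_inf_fx hr.expo h.sq hd hinv, h3]⟩
  refine mem_fx.2 (cm_eq_one_iff.1 (eq_one_of_mem_cV_fx hr.expo hd (h4 ?_)
    ((inv_fx_of_inverts hinv).cm_mem hc)))
  rw [← isTv_cV hr.expo h]; exact cm_mem_cV _ _

theorem tv_of_inverts (h : IsTv t u) (hd : d ∈ fittingSubgroup K) (h1 : d ≠ 1)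
    (hinv : t * d * t⁻¹ = d⁻¹) : Cmp V d ∧ u ∈ cV V d ∧ fx V d ≤ fx V t ∧
      (cV V d).map (cm V t) = zpowers u ∧ cV V d ⊓ fx V t = zpowers u :=
  have := hr.tv_of_inverts' h (hr.odd_of_mem hd) h1 hinv
  ⟨⟨hd, this.1⟩, this.2⟩

/-- **RM5**: a transvection inverts a component containing its centre. -/
theorem tv_exists (h : IsTv t u) :
    ∃ d, Cmp V d ∧ t * d * t⁻¹ = d⁻¹ ∧ u ∈ cV V d ∧ fx V d ≤ fx V t := by
  obtain ⟨d, hd, h1, -, hinv⟩ := hr.exists_inverted h.sq h.ne_one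
  obtain ⟨e1, e2, e3, -⟩ := hr.tv_of_inverts h hd h1 hinv
  exact ⟨d, e1, hinv, e2, e3⟩

/-- RM5: a transvection inverts the component containing its centre. -/
theorem tv_inverts_of_mem (h : IsTv t u) (hd : Cmp V d) (hu : u ∈ cV V d) :
    t * d * t⁻¹ = d⁻¹ := by
  obtain ⟨e, he, hinv, hue, -⟩ := hr.tv_exists h
  exact (he.sameD_of_mem hr hd hue hu h.ne).inverts hinv

/-- RM5: uniqueness of the inverted component. -/
theorem tv_unique (h : IsTv t u) (hd : d ∈ fittingSubgroup K) (hd' : d' ∈ fittingSubgroup K)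
    (h1 : d ≠ 1) (h1' : d' ≠ 1) (hinv : t * d * t⁻¹ = d⁻¹) (hinv' : t * d' * t⁻¹ = d'⁻¹) :
    SameD d d' := by
  obtain ⟨e1, e2, -⟩ := hr.tv_of_inverts h hd h1 hinv
  obtain ⟨f1, f2, -⟩ := hr.tv_of_inverts h hd' h1' hinv'
  exact e1.sameD_of_mem hr f1 e2 f2 h.ne

/-- A transvection centralises every component not containing its centre, and its module. -/
theorem tv_comm_of_not_mem (h : IsTv t u) (hd : Cmp V d) (hu : u ∉ cV V d) :
    t * d = d * t ∧ cV V d ≤ fx V t := by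
  obtain ⟨e, he, -, hue, hfx⟩ := hr.tv_exists h
  have hs := he.sep hr hd fun h0 => hu (h0.cV_eq (V := V) ▸ hue)
  have hle : cV V d ≤ fx V t := hs.right.trans hfx
  refine ⟨?_, hle⟩
  rcases hd.sameD_conj_of_invt hr (Invt.of_le_fx hle) with h0 | h0
  · exact mul_inv_eq_iff_eq_mul.1 h0
  · exact absurd hle (hr.not_cV_le_fx h.sq (hd.odd hr) h0 hd.ne_one)

/-- RM5: transvections with the same centre are equal. -/
theorem tv_eq (h : IsTv t u) (h' : IsTv t' u) : t = t' := by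
  obtain ⟨d, hd, hinv, hu, hfx⟩ := hr.tv_exists h
  have hinv' := hr.tv_inverts_of_mem h' hd hu
  obtain ⟨-, -, -, -, e1⟩ := hr.tv_of_inverts h hd.mem hd.ne_one hinv
  obtain ⟨-, -, hfx', -, e2⟩ := hr.tv_of_inverts h' hd.mem hd.ne_one hinv'
  refine hr.eq_of_smul_eq fun v => ?_
  obtain ⟨w, hw, c, hc, rfl⟩ := exists_dec hr.expo (hd.odd hr) v
  rw [smul_mul', smul_mul', mem_fx.1 (hfx hc), mem_fx.1 (hfx' hc), mul_left_inj]
  have iff : t • w = w ↔ t' • w = w := by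
    rw [← mem_fx, ← mem_fx]
    constructor
    · intro h0
      have : w ∈ cV V d ⊓ fx V t := ⟨hw, h0⟩
      rw [e1, ← e2] at this; exact this.2
    · intro h0
      have : w ∈ cV V d ⊓ fx V t' := ⟨hw, h0⟩
      rw [e2, ← e1] at this; exact this.2
  by_cases h0 : t • w = w
  · rw [h0, iff.1 h0]
  · rw [(h.act w).resolve_left h0, (h'.act w).resolve_left fun h1 => h0 (iff.2 h1)]

/-- RM5: commuting transvections with the same component are equal. -/
theorem tv_eq_of_comm (h : IsTv t u) (h' : IsTv t' u') (hd : Cmp V d) (hu : u ∈ cV V d)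
    (hu' : u' ∈ cV V d) (hc : t' * t = t * t') : t = t' ∧ u = u' := by
  obtain ⟨-, -, -, -, e2⟩ :=
    hr.tv_of_inverts h' hd.mem hd.ne_one (hr.tv_inverts_of_mem h' hd hu')
  have h1 : u ∈ cV V d ⊓ fx V t' :=
    ⟨hu, mem_fx.2 (h.smul_centre_of_comm (by rw [hc, mul_inv_cancel_right]))⟩
  rw [e2] at h1
  have h2 : u = u' := ((mem_zpowers_iff_of_expo hr.expo).1 h1).resolve_left h.ne
  subst h2
  exact ⟨hr.tv_eq h h', rfl⟩

/-- An involution inverting a component `d` and centralising `C_V(d)` is a transvection. -/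
theorem isTv_of_cmp (ht : t * t = 1) (hd : Cmp V d) (hinv : t * d * t⁻¹ = d⁻¹)
    (hc : fx V d ≤ fx V t) : ∃ u ∈ cV V d, IsTv t u := by
  have h1 : cV V t = (cV V d).map (cm V t) := by
    refine le_antisymm ?_ (map_cm_le_cV _ _)
    rintro _ ⟨v, rfl⟩
    obtain ⟨w, hw, c, hc', rfl⟩ := exists_dec hr.expo (hd.odd hr) v
    exact ⟨w, hw, by rw [map_mul, cm_eq_one_iff.2 (mem_fx.1 (hc hc')), mul_one]⟩
  have h2 := rm2_cV_card hr.expo ht (hd.odd hr) hinv
  rw [hd.card, ← h1] at h2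
  obtain ⟨u, hu⟩ := exists_isTv_of_card (V := V) hr.expo ht (by nlinarith)
  exact ⟨u, (hr.tv_of_inverts hu hd.mem hd.ne_one hinv).2.1, hu⟩

end Red

end RM5

end Cfsg.Lib.Ngrp
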