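import Mathlib

/-!
# The solvability obstruction (PL) of the amalgam step
-/

set_option autoImplicit false

namespace Cfsg.Lib.Ngrp
open Subgroup
open scoped commutatorElement

section PL

variable {G : Type*} [Group G]

theorem pl_pow {K : Type*} [Group K] {n d : K} {m : ℕ} (hm : Odd m) (hd : d ^ m = 1)
    (hn : n * d * n⁻¹ * d = 1) : ⁅n, d⁆ ^ (m / 2) = d := by
  obtain ⟨k, rfl⟩ := hm
  have h1 : n * d * n⁻¹ = d⁻¹ := eq_inv_of_mul_eq_one_left hn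
  have h2 : ⁅n, d⁆ = (d ^ 2)⁻¹ := by
    rw [commutatorElement_def, h1, pow_two, mul_inv_rev]
  have h3 : (2 * k + 1) / 2 = k := by omega
  rw [h2, h3, inv_pow, ← pow_mul]
  rw [pow_succ] at hd
  exact (eq_inv_of_mul_eq_one_right hd).symm

theorem derived_map_normal (H : Subgroup G) (i : ℕ) :
    H ≤ normalizer (((derivedSeries H i).map H.subtype : Subgroup G) : Set G) := by
  intro h hh
  rw [mem_normalizer_iff]
  intro x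
  constructor
  · rintro ⟨y, hy, rfl⟩
    exact ⟨⟨h, hh⟩ * y * (⟨h, hh⟩ : H)⁻¹, (derivedSeries_normal H i).conj_mem y hy _, rfl⟩
  · rintro ⟨y, hy, hyx⟩
    refine ⟨(⟨h, hh⟩ : H)⁻¹ * y * ⟨h, hh⟩, ?_, ?_⟩
    · have := (derivedSeries_normal H i).conj_mem y hy (⟨h, hh⟩ : H)⁻¹
      simpa using this
    · simp only [coe_subtype] at hyx
      simp [hyx, mul_assoc]

/-- (PL), version with homomorphisms `φ j : H j →* K j`. -/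
theorem PL_hom {K₁ K₂ : Type*} [Group K₁] [Group K₂] (H : Subgroup G) (hs : Group.IsSolvable H)
    {H₁ H₂ : Subgroup G} (hH₁ : H₁ ≤ H) (hH₂ : H₂ ≤ H) (φ₁ : H₁ →* K₁) (φ₂ : H₂ →* K₂)
    (d₁ : H₁) (d₂ : H₂) (hd₁ : φ₁ d₁ ≠ 1) {m₁ m₂ : ℕ} (ho₁ : Odd m₁) (ho₂ : Odd m₂)
    (hm₁ : φ₁ d₁ ^ m₁ = 1) (hm₂ : φ₂ d₂ ^ m₂ = 1)
    (h12 : ∀ N : Subgroup G, N ≤ H → H ≤ normalizer (N : Set G) →
      (∃ n : H₁, (n : G) ∈ N ∧ φ₁ n = φ₁ d₁) →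
      ∃ n : H₂, (n : G) ∈ N ∧ φ₂ n * φ₂ d₂ * (φ₂ n)⁻¹ * φ₂ d₂ = 1)
    (h21 : ∀ N : Subgroup G, N ≤ H → H ≤ normalizer (N : Set G) →
      (∃ n : H₂, (n : G) ∈ N ∧ φ₂ n = φ₂ d₂) →
      ∃ n : H₁, (n : G) ∈ N ∧ φ₁ n * φ₁ d₁ * (φ₁ n)⁻¹ * φ₁ d₁ = 1) : False := by
  have key : ∀ i : ℕ, ∃ n : H₁, (n : G) ∈ (derivedSeries H i).map H.subtype ∧ φ₁ n = φ₁ d₁ := by
    intro i
    induction i with
    | zero => exact ⟨d₁, ⟨⟨d₁, hH₁ d₁.2⟩, by simp, rfl⟩, rfl⟩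
    | succ i ih =>
      have hle : (derivedSeries H i).map H.subtype ≤ H := map_subtype_le _
      have hn := derived_map_normal H i
      obtain ⟨n₂, hn₂, hi₂⟩ := h12 _ hle hn ih
      obtain ⟨n, hnN, hnd⟩ := ih
      have he : ((⁅n₂, d₂⁆ ^ (m₂ / 2) : H₂) : G) ∈ (derivedSeries H i).map H.subtype := by
        rw [SubgroupClass.coe_pow]
        refine pow_mem ?_ _
        have h1 : (d₂ : G) * (n₂ : G)⁻¹ * (d₂ : G)⁻¹ ∈ (derivedSeries H i).map H.subtype :=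
          (mem_normalizer_iff.1 (hn (hH₂ d₂.2)) _).1 (inv_mem hn₂)
        have h2 := mul_mem hn₂ h1
        have h3 : ((⁅n₂, d₂⁆ : H₂) : G) = (n₂ : G) * ((d₂ : G) * (n₂ : G)⁻¹ * (d₂ : G)⁻¹) := by
          simp [commutatorElement_def, mul_assoc]
        rw [h3]; exact h2
      obtain ⟨n₁, hn₁, hi₁⟩ := h21 _ hle hn ⟨_, he, by
        rw [map_pow, map_commutatorElement]; exact pl_pow ho₂ hm₂ hi₂⟩
      refine ⟨⁅n₁, n⁆ ^ (m₁ / 2), ?_, ?_⟩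
      · rw [SubgroupClass.coe_pow]
        refine pow_mem ?_ _
        obtain ⟨y₁, hy₁, e₁⟩ := hn₁
        obtain ⟨y, hy, e⟩ := hnN
        refine ⟨⁅y₁, y⁆, ?_, ?_⟩
        · rw [derivedSeries_succ]; exact commutator_mem_commutator hy₁ hy
        · simp only [coe_subtype] at e₁ e
          simp [commutatorElement_def, e₁, e]
      · rw [map_pow, map_commutatorElement, hnd]; exact pl_pow ho₁ hm₁ hi₁
  obtain ⟨i, hi⟩ := hs.solvable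
  obtain ⟨n, hn, hnd⟩ := key i
  rw [hi, Subgroup.map_bot, mem_bot] at hn
  have : n = 1 := Subtype.ext hn
  rw [this, map_one] at hnd
  exact hd₁ hnd.symm

/-- (PL): `H` solvable, `H j ≤ H` normalises `X j`, `d j ∈ H j` has odd order modulo `X j`,
`d₁ ∉ X₁`. It is impossible that in every normal subgroup `N` of `H` an element congruent to `d₁`
produces an element inverting `d₂` modulo `X₂`, and conversely. -/
theorem PL (H : Subgroup G) (hs : Group.IsSolvable H) {H₁ H₂ X₁ X₂ : Subgroup G}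
    (hH₁ : H₁ ≤ H) (hH₂ : H₂ ≤ H) (hX₁ : H₁ ≤ normalizer (X₁ : Set G))
    (hX₂ : H₂ ≤ normalizer (X₂ : Set G)) {d₁ d₂ : G} (hd₁ : d₁ ∈ H₁) (hd₂ : d₂ ∈ H₂)
    (hne : d₁ ∉ X₁) {m₁ m₂ : ℕ} (ho₁ : Odd m₁) (ho₂ : Odd m₂)
    (hm₁ : d₁ ^ m₁ ∈ X₁) (hm₂ : d₂ ^ m₂ ∈ X₂)
    (h12 : ∀ N : Subgroup G, N ≤ H → H ≤ normalizer (N : Set G) →
      (∃ n ∈ N, n ∈ H₁ ∧ n * d₁⁻¹ ∈ X₁) → ∃ n ∈ N, n ∈ H₂ ∧ n * d₂ * n⁻¹ * d₂ ∈ X₂)
    (h21 : ∀ N : Subgroup G, N ≤ H → H ≤ normalizer (N : Set G) →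
      (∃ n ∈ N, n ∈ H₂ ∧ n * d₂⁻¹ ∈ X₂) → ∃ n ∈ N, n ∈ H₁ ∧ n * d₁ * n⁻¹ * d₁ ∈ X₁) : False := by
  have hn₁ : (X₁.subgroupOf H₁).Normal := normal_subgroupOf_of_le_normalizer hX₁
  have hn₂ : (X₂.subgroupOf H₂).Normal := normal_subgroupOf_of_le_normalizer hX₂
  have k₁ : ∀ x : H₁, QuotientGroup.mk' (X₁.subgroupOf H₁) x = 1 ↔ (x : G) ∈ X₁ := fun x => by
    rw [← MonoidHom.mem_ker, QuotientGroup.ker_mk', mem_subgroupOf]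
  have k₂ : ∀ x : H₂, QuotientGroup.mk' (X₂.subgroupOf H₂) x = 1 ↔ (x : G) ∈ X₂ := fun x => by
    rw [← MonoidHom.mem_ker, QuotientGroup.ker_mk', mem_subgroupOf]
  refine PL_hom H hs hH₁ hH₂ (QuotientGroup.mk' (X₁.subgroupOf H₁))
    (QuotientGroup.mk' (X₂.subgroupOf H₂)) ⟨d₁, hd₁⟩ ⟨d₂, hd₂⟩ ?_ ho₁ ho₂ ?_ ?_ ?_ ?_
  · rw [Ne, k₁]; exact hne
  · rw [← map_pow, k₁]; simpa using hm₁
  · rw [← map_pow, k₂]; simpa using hm₂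
  · rintro N hN hNn ⟨n, hn, he⟩
    obtain ⟨n', h1, h2, h3⟩ := h12 N hN hNn ⟨n, hn, n.2, by
      have := (k₁ (n * (⟨d₁, hd₁⟩ : H₁)⁻¹)).1 (by rw [map_mul, map_inv, he, mul_inv_cancel])
      simpa using this⟩
    refine ⟨⟨n', h2⟩, h1, ?_⟩
    rw [← map_inv, ← map_mul, ← map_mul, ← map_mul, k₂]
    simpa using h3
  · rintro N hN hNn ⟨n, hn, he⟩
    obtain ⟨n', h1, h2, h3⟩ := h21 N hN hNn ⟨n, hn, n.2, by
      have := (k₂ (n * (⟨d₂, hd₂⟩ : H₂)⁻¹)).1 (by rw [map_mul, map_inv, he, mul_inv_cancel])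
      simpa using this⟩
    refine ⟨⟨n', h2⟩, h1, ?_⟩
    rw [← map_inv, ← map_mul, ← map_mul, ← map_mul, k₁]
    simpa using h3

/-- An element congruent to `a` modulo `X` inverts `d` modulo `X` if `a` does. -/
theorem inverts_of_congr {X : Subgroup G} {a d n : G} (hd : d ∈ normalizer (X : Set G))
    (ha : a * d * a⁻¹ * d ∈ X) (hn : n * a⁻¹ ∈ X) : n * d * n⁻¹ * d ∈ X := by
  have h1 : d⁻¹ * (n * a⁻¹)⁻¹ * d⁻¹⁻¹ ∈ X := (mem_normalizer_iff.1 (inv_mem hd) _).1 (inv_mem hn)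
  have h2 := mul_mem (mul_mem hn ha) h1
  have h3 : n * d * n⁻¹ * d = n * a⁻¹ * (a * d * a⁻¹ * d) * (d⁻¹ * (n * a⁻¹)⁻¹ * d⁻¹⁻¹) := by group
  rw [h3]; exact h2

/-- (PL) exactly as in plan 164, with the inverting elements `a₁, a₂`. -/
theorem PL' (H : Subgroup G) (hs : Group.IsSolvable H) {H₁ H₂ X₁ X₂ : Subgroup G}
    (hH₁ : H₁ ≤ H) (hH₂ : H₂ ≤ H) (hX₁ : H₁ ≤ normalizer (X₁ : Set G))
    (hX₂ : H₂ ≤ normalizer (X₂ : Set G)) {d₁ d₂ a₁ a₂ : G} (hd₁ : d₁ ∈ H₁) (hd₂ : d₂ ∈ H₂)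
    (hne : d₁ ∉ X₁) {m₁ m₂ : ℕ} (ho₁ : Odd m₁) (ho₂ : Odd m₂)
    (hm₁ : d₁ ^ m₁ ∈ X₁) (hm₂ : d₂ ^ m₂ ∈ X₂)
    (ha₁ : a₁ * d₁ * a₁⁻¹ * d₁ ∈ X₁) (ha₂ : a₂ * d₂ * a₂⁻¹ * d₂ ∈ X₂)
    (h12 : ∀ N : Subgroup G, N ≤ H → H ≤ normalizer (N : Set G) →
      (∃ n ∈ N, n ∈ H₁ ∧ n * d₁⁻¹ ∈ X₁) → ∃ n ∈ N, n ∈ H₂ ∧ n * a₂⁻¹ ∈ X₂)
    (h21 : ∀ N : Subgroup G, N ≤ H → H ≤ normalizer (N : Set G) →
      (∃ n ∈ N, n ∈ H₂ ∧ n * d₂⁻¹ ∈ X₂) → ∃ n ∈ N, n ∈ H₁ ∧ n * a₁⁻¹ ∈ X₁) : False := by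
  refine PL H hs hH₁ hH₂ hX₁ hX₂ hd₁ hd₂ hne ho₁ ho₂ hm₁ hm₂ ?_ ?_
  · intro N h1 h2 h3
    obtain ⟨n, hn, hn', he⟩ := h12 N h1 h2 h3
    exact ⟨n, hn, hn', inverts_of_congr (hX₂ hd₂) ha₂ he⟩
  · intro N h1 h2 h3
    obtain ⟨n, hn, hn', he⟩ := h21 N h1 h2 h3
    exact ⟨n, hn, hn', inverts_of_congr (hX₁ hd₁) ha₁ he⟩

end PL

section Lift

variable {C : Type*} [Group C]

/-- (LIFT) hom version: an involution `a` whose image inverts an element `δ` of odd order inverts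
an element `d'` of odd order mapping to `δ`; moreover `d' ∈ ⟨a, a^{d'}⟩`. -/
theorem lift_hom [Finite C] {K : Type*} [Group K] (φ : C →* K) {a d : C} (ha : a * a = 1)
    (hinv : φ a * φ d * (φ a)⁻¹ = (φ d)⁻¹) {m : ℕ} (hm : Odd m) (hd : φ d ^ m = 1) :
    ∃ d' : C, Odd (orderOf d') ∧ a * d' * a⁻¹ = d'⁻¹ ∧ φ d' = φ d ∧
      d' ∈ zpowers (a * (d * a * d⁻¹)) ∧ d' ∈ zpowers (a * (d' * a * d'⁻¹)) := by
  have hai : a⁻¹ = a := inv_eq_of_mul_eq_one_right ha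
  set c := a * (d * a * d⁻¹) with hc
  have hφc : φ c = (φ d ^ 2)⁻¹ := by
    have : φ c = φ a * φ d * (φ a)⁻¹ * (φ d)⁻¹ := by
      rw [hc, ← map_inv φ a, hai]; simp [mul_assoc]
    rw [this, hinv, pow_two, mul_inv_rev]
  have hac : a * c * a⁻¹ = c⁻¹ := by
    rw [hc, hai, mul_inv_rev, mul_inv_rev, mul_inv_rev, inv_inv, hai]
    calc a * (a * (d * a * d⁻¹)) * a = (a * a) * (d * a * d⁻¹ * a) := by group
      _ = d * (a * d⁻¹) * a := by rw [ha]; group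
  -- split off the 2-part of the order of `c`
  obtain ⟨e, r, hr, her⟩ := Nat.exists_eq_two_pow_mul_odd (orderOf_pos c).ne'
  -- find `t` with `t ≡ 0 mod 2^e` and `-2 t ≡ 1 mod m`
  have hcop : Nat.Coprime (2 ^ e) m := (Nat.coprime_two_left.2 hm).pow_left e
  obtain ⟨t, ht1, ht2⟩ := Nat.chineseRemainder hcop 0 (m / 2)
  have hodd : Odd (orderOf (c ^ t)) := by
    obtain ⟨s, rfl⟩ : 2 ^ e ∣ t := (Nat.modEq_zero_iff_dvd.1 ht1)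
    have : (c ^ (2 ^ e * s)) ^ r = 1 := by
      rw [← pow_mul, mul_right_comm, ← her, pow_mul, pow_orderOf_eq_one, one_pow]
    exact Odd.of_dvd_nat hr (orderOf_dvd_of_pow_eq_one this)
  have hinv' : a * c ^ t * a⁻¹ = (c ^ t)⁻¹ := by
    rw [← conj_pow, hac, inv_pow]
  refine ⟨c ^ t, hodd, hinv', ?_, npow_mem_zpowers c t, ?_⟩
  · rw [map_pow, hφc]
    have h1 : ((φ d ^ 2)⁻¹) ^ m = 1 := by
      rw [inv_pow, ← pow_mul, mul_comm, pow_mul, hd, one_pow, inv_one]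
    have h2 : ((φ d ^ 2)⁻¹) ^ t = ((φ d ^ 2)⁻¹) ^ (m / 2) :=
      pow_eq_pow_iff_modEq.2 (ht2.of_dvd (orderOf_dvd_of_pow_eq_one h1))
    rw [h2]
    obtain ⟨k, rfl⟩ := hm
    have h3 : (2 * k + 1) / 2 = k := by omega
    rw [h3, inv_pow, ← pow_mul]
    rw [pow_succ] at hd
    exact (eq_inv_of_mul_eq_one_right hd).symm
  · have h1 : a * (c ^ t * a * (c ^ t)⁻¹) = ⁅a, c ^ t⁆ := by
      rw [commutatorElement_def, hai]; group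
    rw [h1]
    have h2 := pl_pow hodd (pow_orderOf_eq_one (c ^ t)) (n := a) (by rw [hinv', inv_mul_cancel])
    have h3 := npow_mem_zpowers ⁅a, c ^ t⁆ (orderOf (c ^ t) / 2)
    rwa [h2] at h3

/-- (LIFT): `X` normalised by `a, d`; the involution `a` inverts `d` modulo `X`, `d` has odd order
modulo `X`. Then `a` inverts some `d'` of odd order with `d' ≡ d` modulo `X`,
`d' ∈ ⟨a a^d⟩` and `d' ∈ ⟨a a^{d'}⟩`. -/
theorem lift [Finite C] {X : Subgroup C} {a d : C} (haX : a ∈ normalizer (X : Set C))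
    (hdX : d ∈ normalizer (X : Set C)) (ha : a * a = 1) (hinv : a * d * a⁻¹ * d ∈ X) {m : ℕ}
    (hm : Odd m) (hd : d ^ m ∈ X) :
    ∃ d' : C, Odd (orderOf d') ∧ a * d' * a⁻¹ = d'⁻¹ ∧ d' * d⁻¹ ∈ X ∧
      d' ∈ zpowers (a * (d * a * d⁻¹)) ∧ d' ∈ zpowers (a * (d' * a * d'⁻¹)) := by
  set N := normalizer (X : Set C) with hN
  have : (X.subgroupOf N).Normal := normal_in_normalizer
  have k : ∀ x : N, QuotientGroup.mk' (X.subgroupOf N) x = 1 ↔ (x : C) ∈ X := fun x => by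
    rw [← MonoidHom.mem_ker, QuotientGroup.ker_mk', mem_subgroupOf]
  obtain ⟨d', h1, h2, h3, h4, h5⟩ := lift_hom (QuotientGroup.mk' (X.subgroupOf N))
    (a := ⟨a, haX⟩) (d := ⟨d, hdX⟩) (Subtype.ext ha) (by
      apply eq_inv_of_mul_eq_one_left
      rw [← map_inv, ← map_mul, ← map_mul, ← map_mul, k]
      simpa using hinv) hm (by rw [← map_pow, k]; simpa using hd)
  refine ⟨d', ?_, congrArg Subtype.val h2, ?_, ?_, ?_⟩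
  · rwa [orderOf_coe]
  · have := (k (d' * (⟨d, hdX⟩ : N)⁻¹)).1 (by rw [map_mul, map_inv, h3, mul_inv_cancel])
    simpa using this
  · obtain ⟨n, hn⟩ := h4
    exact ⟨n, by simpa using congrArg Subtype.val hn⟩
  · obtain ⟨n, hn⟩ := h5
    exact ⟨n, by simpa using congrArg Subtype.val hn⟩

end Lift

end Cfsg.Lib.Ngrp
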