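import Cfsg.Agent.Ngrp.AmGeo3
import Cfsg.Agent.Ngrp.AmMod3
import Cfsg.Agent.Ngrp.AmPL

set_option autoImplicit false

namespace Cfsg.Lib.Ngrp.Geo
open Subgroup Cfsg.Lib.Trans Cfsg.Lib.Local Cfsg.Lib.Local.JC Cfsg.Lib.Trans.TJ
open scoped commutatorElement Pointwise

variable {G : Type*} [Group G] [Finite G] {p q : G}

/-- (G2) The module `U_p / ⟨p⟩` is reduced. -/
theorem red (p : G) : Red (KK p) (VV p) :=
  ⟨VV_sq, fun _ h => KK_eq_one h, solvable_KK p, pCore_KK p⟩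

theorem cm_star {c u : G} (hc : c ∈ Cz p) (hu : u ∈ UU p) :
    cm (VV p) (star p c) (bar p u) = bar p ⁅c, u⁆ := by
  rw [cm_apply, VV_inv, star_smul_mul hc hu]

omit [Finite G] in
theorem comm_mem_UU_of_Cz {c u : G} (hc : c ∈ Cz p) (hu : u ∈ UU p) : ⁅c, u⁆ ∈ UU p :=
  mul_mem (conj_mem_UU_of_mem hc hu) (inv_mem hu)

theorem bar_mem_fx {c u : G} (hc : c ∈ Cz p) (hu : u ∈ UU p) :
    bar p u ∈ fx (VV p) (star p c) ↔ ⁅c, u⁆ ∈ zpowers p := by
  rw [mem_fx, star_smul_eq_iff hc hu]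

theorem mem_pre_cV (h : Pt p) {c x : G} (hc : c ∈ Cz p) :
    x ∈ pre p (cV (VV p) (star p c)) ↔ ∃ u ∈ UU p, x = ⁅c, u⁆ ∨ x = p * ⁅c, u⁆ := by
  rw [mem_pre]
  constructor
  · rintro ⟨h1, v, h2⟩
    obtain ⟨u, hu, rfl⟩ := exists_bar v
    rw [cm_star hc hu] at h2
    exact ⟨u, hu, (h.bar_eq_bar h1 (comm_mem_UU_of_Cz hc hu)).1 h2.symm⟩
  · rintro ⟨u, hu, e | e⟩ <;> rw [e]
    · exact ⟨comm_mem_UU_of_Cz hc hu, cm_star hc hu ▸ cm_mem_cV _ _⟩
    · refine ⟨mul_mem h.mem_UU (comm_mem_UU_of_Cz hc hu), ?_⟩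
      rw [h.bar_mul_left (comm_mem_UU_of_Cz hc hu), ← cm_star hc hu]; exact cm_mem_cV _ _

theorem mem_normalizer_pre_of_invt {W : Subgroup (VV p)} {c : G} (hc : c ∈ Cz p)
    (h : Invt (star p c) W) : c ∈ normalizer (pre p W : Set G) := mem_normalizer_pre hc h

theorem invt_img {A : Subgroup G} {c : G} (hc : c ∈ Cz p) (h : c ∈ normalizer (A : Set G)) :
    Invt (star p c) (img p A) := fun _ hx => smul_mem_img hc h hx

/-- An element of odd order fixing the image of `u` centralizes `u`. -/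
theorem Pt.mem_Cz_of_fix (h : Pt p) {d u : G} (hd : d ∈ Cz p) (ho : Odd (orderOf d))
    (hu : u ∈ UU p) (hf : star p d • bar p u = bar p u) : d ∈ Cz u := by
  rw [star_smul hd hu, h.bar_eq_bar (conj_mem_UU_of_mem hd hu) hu] at hf
  rcases hf with e | e
  · exact mem_Cz'.2 e
  · have h2 : d * d ∈ Cz u := by
      rw [mem_Cz']
      calc d * d * u * (d * d)⁻¹ = d * (d * u * d⁻¹) * d⁻¹ := by group
        _ = d * (p * u) * d⁻¹ := by rw [e]
        _ = (d * p * d⁻¹) * (d * u * d⁻¹) := by group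
        _ = u := by rw [Cz_conj hd, e, ← mul_assoc, h.sq, one_mul]
    obtain ⟨k, hk⟩ := Tv.exists_eq_sq_pow_of_odd ho
    rw [hk]; exact pow_mem h2 k

/-- (LIFT) An involution inverting an element of odd order of `C(p) / X_p` inverts a lift. -/
theorem star_lift {a : G} (ha : a ∈ Cz p) (ha2 : a * a = 1) {k : KK p} (hk : Odd (orderOf k))
    (hinv : star p a * k * (star p a)⁻¹ = k⁻¹) :
    ∃ d ∈ Cz p, Odd (orderOf d) ∧ a * d * a⁻¹ = d⁻¹ ∧ star p d = k ∧
      d ∈ zpowers (a * (d * a * d⁻¹)) := by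
  obtain ⟨c, rfl⟩ := mkK_surjective p k
  obtain ⟨d, h1, h2, h3, -, h4⟩ := lift_hom (mkK p) (a := ⟨a, ha⟩) (d := c) (Subtype.ext ha2)
    (by rw [← star_eq ha]; exact hinv) hk (pow_orderOf_eq_one _)
  refine ⟨d, d.2, by rwa [Subgroup.orderOf_coe], congrArg Subtype.val h2, (star_coe d).trans h3, ?_⟩
  obtain ⟨n, hn⟩ := h4
  exact ⟨n, by simpa using congrArg Subtype.val hn⟩

/-- A lift inside a normal subgroup of `C(p)` containing an inverting element. -/
theorem star_lift_normal {N : Subgroup G} (hN : Cz p ≤ normalizer (N : Set G)) {a : G}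
    (ha : a ∈ Cz p) (haN : a ∈ N) {k : KK p} (hk : Odd (orderOf k))
    (hinv : star p a * k * (star p a)⁻¹ = k⁻¹) :
    ∃ d ∈ Cz p, d ∈ N ∧ Odd (orderOf d) ∧ star p d = k := by
  obtain ⟨c, hc, rfl⟩ := exists_star k
  have h1 : ⁅c, a⁆ ∈ Cz p := mul_mem (mul_mem (mul_mem hc ha) (inv_mem hc)) (inv_mem ha)
  have h2 : ⁅c, a⁆ ∈ N := mul_mem (mem_normalizer_conj (hN hc) haN) (inv_mem haN)
  have h3 : star p ⁅c, a⁆ = star p c * star p c := by
    rw [star_comm hc ha, commutatorElement_def]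
    calc star p c * star p a * (star p c)⁻¹ * (star p a)⁻¹
        = star p c * (star p a * star p c * (star p a)⁻¹)⁻¹ := by group
      _ = _ := by rw [hinv, inv_inv]
  obtain ⟨n, hn⟩ := Tv.exists_eq_sq_pow_of_odd hk
  set e := ⁅c, a⁆ ^ n with he
  have h4 : e ∈ Cz p := pow_mem h1 n
  have h5 : star p e = star p c := by rw [he, star_pow h1, h3, ← hn]
  obtain ⟨s, m, hm, e1⟩ := Nat.exists_eq_two_pow_mul_odd (orderOf_pos e).ne'
  obtain ⟨t, ht⟩ : ∃ t, (star p c ^ 2 ^ s) ^ t = star p c :=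
    exists_pow_eq_self_of_coprime (Nat.Coprime.pow_left s ((Nat.coprime_two_left).2 hk))
  refine ⟨(e ^ 2 ^ s) ^ t, pow_mem (pow_mem h4 _) _, pow_mem (pow_mem (pow_mem h2 n) _) _, ?_, ?_⟩
  · refine odd_orderOf_of_pow hm ?_
    rw [← pow_mul, mul_comm t, pow_mul, ← pow_mul e, ← e1, pow_orderOf_eq_one, one_pow]
  · rw [star_pow (pow_mem h4 _), star_pow h4, h5, ht]

/-- A Sylow 2-subgroup of `C(p)` does not lie in `X_p`. -/
theorem Pt.not_sylow_le (h : Pt p) {T : Subgroup G} (hT : IsSylowIn 2 T (Cz p)) : ¬ T ≤ XX p := by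
  obtain ⟨S, l, hS, rfl⟩ := h.exists_natG hT
  intro hX
  refine hS.notn fun g hg => ?_
  have h1 := (nat_fl hS).conj_of_mem hg
  rw [← cj_eq_self_iff]
  exact hS.uniq _ h1.ea h1.card (h1.le_UU.trans ((UU_le_core p).trans (pCoreOf_le_sylowIn hT)))
    (hX.trans h1.XX_le) h1.act

theorem Pt.even_card_KK (h : Pt p) : 2 ∣ Nat.card (KK p) := by
  obtain ⟨T, hT⟩ := exists_isSylowIn (p := 2) (Cz p)
  have h1 : IsSylowIn 2 (imgK p T) ⊤ := by
    have := hT.subgroupOf_top.map (mkK p)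
    rwa [← MonoidHom.range_eq_map, MonoidHom.range_eq_top.2 (mkK_surjective p)] at this
  by_contra h2
  rw [← card_top, ← h1.eq_bot_iff] at h2
  refine h.not_sylow_le hT fun t ht => (star_eq_one (hT.le ht)).1 ?_
  have := star_mem_imgK ht (hT.le ht)
  rwa [h2] at this

/-- (R0) If the elements of odd order fixing the image of `q` centralize a `k`-invariant subgroup
containing this image, and `k` moves it, then the stabilizer of a flag is a 2-group. -/
theorem Col.thin_of_fix (h : Col p q) {W : Subgroup (VV p)} (hq : bar p q ∈ W) {k : KK p}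
    (hk : Invt k W) (hm : k • bar p q ≠ bar p q)
    (ho : ∀ g : KK p, Odd (orderOf g) → g • bar p q = bar p q → W ≤ fx (VV p) g) : Thin G := by
  refine h.thin_of_normalizer ?_ hm
  set Z := fixingSubgroup (KK p) (W : Set (VV p)) with hZ
  have h1 : resOf 2 Z = resOf 2 (MulAction.stabilizer (KK p) (bar p q)) := by
    refine resOf_eq_of_le (resOf_le_iff.2 fun g hg hc => ?_) fun g hg => ?_
    · exact (mem_fixingSubgroup_iff _).2 fun w hw =>
        mem_fx.1 (ho g ((Nat.coprime_two_right).1 hc) hg hw)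
    · exact (mem_fixingSubgroup_iff _).1 hg _ hq
  rw [← h1]
  refine normalizer_le_normalizer_resOf _ (mem_normalizer_of_cj_le (cj_le_iff.2 fun t ht => ?_))
  refine (mem_fixingSubgroup_iff _).2 fun w hw => ?_
  rw [mul_smul, mul_smul, (mem_fixingSubgroup_iff _).1 ht _ (hk.inv w hw), smul_inv_smul]

theorem Thin.eq_one_of_odd (hT : Thin G) (h : Col p q) {g : KK p} (ho : Odd (orderOf g))
    (hg : g • bar p q = bar p q) : g = 1 := by
  obtain ⟨n, hn⟩ := Solv.PG.exists_pow_prime_pow_eq_one (hT.isPGroup_stabilizer h) hg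
  rw [← orderOf_eq_one_iff]
  exact Nat.Coprime.eq_one_of_dvd (Nat.Coprime.pow_right n ((Nat.coprime_two_right).2 ho))
    (orderOf_dvd_of_pow_eq_one hn)

/-- A group acting faithfully on a four-group has order dividing six. -/
theorem card_dvd_six {K V : Type*} [Group K] [CommGroup V] [MulDistribMulAction K V] [Finite V]
    (hf : ∀ g : K, (∀ v : V, g • v = v) → g = 1) (h4 : Nat.card V = 4) : Nat.card K ∣ 6 := by
  classical
  let S : SubMulAction K V := ⟨{v | v ≠ 1}, fun g _ hv => smul_ne_one' g hv⟩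
  have h3 : Nat.card S = 3 := by
    have := Fintype.ofFinite V
    have e : Nat.card S = Nat.card {v : V // v ≠ 1} := rfl
    rw [Nat.card_eq_fintype_card] at h4
    rw [e, Nat.card_eq_fintype_card, Fintype.card_subtype_compl, Fintype.card_subtype_eq, h4]
  have hi : Function.Injective (MulAction.toPermHom K S) := by
    rw [injective_iff_map_eq_one]
    intro g hg
    refine hf g fun v => ?_
    by_cases hv : v = 1
    · rw [hv, smul_one]
    · exact congrArg Subtype.val (Equiv.congr_fun hg ⟨v, hv⟩)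
  have := card_dvd_of_injective _ hi
  rwa [Nat.card_perm, h3] at this

/-- (R1) -/
theorem Col.r1 (h : Col p q) {k : KK p} (hk : Cmp (VV p) k) (hq : bar p q ∈ cV (VV p) k) :
    Thin G ∧ cV (VV p) k = ⊤ ∧ Nat.card (UU p) = 8 ∧ Nat.card (KK p) = 6 := by
  have hr := red p
  have hm : k • bar p q ≠ bar p q := smul_ne_of_fpf (hk.fpf hr) hq h.bar_ne_one
  have hT : Thin G := h.thin_of_fix hq (inv_cV_self k) hm fun g ho hg =>
    (hk.le_fx_of_odd_of_fix hr ho hq h.bar_ne_one hg).2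
  have htop : cV (VV p) k = ⊤ := h.eq_top hq (hk.invt_of_unique fun e he => by
    rcases hk.dich hr he with e1 | e1
    · exact e1
    · exact absurd (hT.eq_one_of_odd h (he.odd hr) (mem_fx.1 (e1.left hq))) he.ne_one)
  have h4 : Nat.card (VV p) = 4 := by rw [← card_top, ← htop, hk.card]
  refine ⟨hT, htop, by rw [h.pt.card_UU, h4], ?_⟩
  have h6 := card_dvd_six hr.faith h4
  have h3 : 3 ∣ Nat.card (KK p) := hk.orderOf_eq hr ▸ orderOf_dvd_natCard k
  exact Nat.dvd_antisymm h6 (Nat.Coprime.mul_dvd_of_dvd_of_dvd (by norm_num : Nat.Coprime 2 3)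
    h.pt.even_card_KK h3)

/-- (R2) -/
theorem Col.r2 (h : Col p q) {k₁ k₂ : KK p} (h₁ : Cmp (VV p) k₁) (h₂ : Cmp (VV p) k₂)
    (h12 : ¬ SameD k₁ k₂) (hq : bar p q ∈ cV (VV p) k₁ ⊔ cV (VV p) k₂)
    (n₁ : bar p q ∉ cV (VV p) k₁) (n₂ : bar p q ∉ cV (VV p) k₂) :
    Thin G ∧ cV (VV p) k₁ ⊔ cV (VV p) k₂ = ⊤ ∧ Nat.card (UU p) = 32 ∧
      ∀ e : KK p, Cmp (VV p) e → SameD k₁ e ∨ SameD k₂ e := by
  have hr := red p
  obtain ⟨u₁, hu₁, u₂, hu₂, e⟩ := mem_sup.1 hq
  have e1 : u₁ ≠ 1 := fun e' => n₂ (by rw [← e, e', one_mul]; exact hu₂)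
  have e2 : u₂ ≠ 1 := fun e' => n₁ (by rw [← e, e', mul_one]; exact hu₁)
  have hs := h₁.sep hr h₂ h12
  have hm : k₁ • bar p q ≠ bar p q := by
    rw [← e, smul_mul', mem_fx.1 (hs.right hu₂)]
    exact fun e' => smul_ne_of_fpf (h₁.fpf hr) hu₁ e1 (mul_right_cancel e')
  have hT : Thin G := h.thin_of_fix hq ((inv_cV_self k₁).sup (Invt.of_le_fx hs.right)) hm
    fun g ho hg => by
      have := Cmp.le_fx_of_odd_of_fix_mul hr h₁ h₂ h12 hu₁ hu₂ e1 e2 ho (e.symm ▸ hg)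
      exact sup_le this.2.2.1 this.2.2.2
  have hall : ∀ e : KK p, Cmp (VV p) e → SameD k₁ e ∨ SameD k₂ e := fun e he => by
    by_contra hn
    rw [not_or] at hn
    exact he.ne_one (hT.eq_one_of_odd h (he.odd hr) (mem_fx.1
      (sup_le (h₁.sep hr he hn.1).left (h₂.sep hr he hn.2).left hq)))
  have hle : ∀ (g k : KK p), Cmp (VV p) k → ∀ w ∈ cV (VV p) k,
      g • w ∈ cV (VV p) k₁ ⊔ cV (VV p) k₂ := fun g k hk w hw => by
    have h0 : g • w ∈ cV (VV p) (g * k * g⁻¹) := by rw [cV_conj]; exact smul_mem_smul g hw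
    rcases hall _ (hk.conj g) with e | e <;> rw [e.cV_eq] at h0
    · exact mem_sup_left h0
    · exact mem_sup_right h0
  have htop : cV (VV p) k₁ ⊔ cV (VV p) k₂ = ⊤ := h.eq_top hq fun g w hw => by
    obtain ⟨a, ha, b, hb, rfl⟩ := mem_sup.1 hw
    rw [smul_mul']
    exact mul_mem (hle g _ h₁ a ha) (hle g _ h₂ b hb)
  refine ⟨hT, htop, ?_, hall⟩
  rw [h.pt.card_UU, ← card_top, ← htop, h₁.card_sup hr h₂ h12]

/-- If `|U_p| = 8` every element of `U_p` outside `⟨p⟩` is a point collinear with `p`. -/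
theorem Pt.col_of_card_eight (h : Pt p) (h8 : Nat.card (UU p) = 8) {u : G} (hu : u ∈ UU p)
    (h1 : u ∉ zpowers p) : Col p u := by
  have hr := red p
  have h4 : Nat.card (⊤ : Subgroup (VV p)) = 4 := by
    have := h.card_UU; rw [card_top]; omega
  obtain ⟨f, hf, hf1⟩ := h.exists_fitting_ne_one
  obtain ⟨q, hq⟩ := h.exists_col
  have hfp := fpf_of_not_le hr.expo (hr.odd_of_mem hf) Invt.top h4.le
    fun e => hf1 (hr.eq_one_of_fx e)
  obtain ⟨c, hc, rfl⟩ := exists_star f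
  rcases four_trans hr.expo h4 Invt.top hfp (mem_top _) hq.bar_ne_one (mem_top (bar p u))
    (fun e => h1 ((Geo.bar_eq_one hu).1 e)) with e | e | e
  · exact hq.of_bar_eq hu e
  · rw [star_smul hc hq.mem_UU] at e
    exact (hq.conj_of_mem hc).of_bar_eq hu e
  · rw [← star_inv hc, star_smul (inv_mem hc) hq.mem_UU] at e
    exact (hq.conj_of_mem (inv_mem hc)).of_bar_eq hu e

theorem Pt.abU_of_card_eight (h : Pt p) (h8 : Nat.card (UU p) = 8) : AbU G :=
  h.abU (ea_of_sq fun u hu => by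
    by_cases h1 : u ∈ zpowers p
    · rcases h.mem_zpowers.1 h1 with e | e <;> rw [e]
      · exact one_mul 1
      · exact h.sq
    · exact (h.col_of_card_eight h8 hu h1).sq)

/-- (FullHom) `X_p` moves every element of `U_p` with nontrivial image in `[V, f]`, `f ∈ F`. -/
theorem AbU.exists_move_cV (hU : AbU G) (h : Pt p) {f : KK p} (hf : f ∈ fittingSubgroup (KK p))
    {u : G} (hu : u ∈ UU p) (h1 : bar p u ∈ cV (VV p) f) (h2 : bar p u ≠ 1) :
    ∃ t ∈ XX p, ⁅t, u⁆ = p :=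
  hU.exists_move h hu hf (smul_ne_of_fpf (cV_inf_fx VV_sq ((red p).odd_of_mem hf)) h1 h2)

/-- (FullHom) `X_p` separates the elements of `[V, f]`, `f ∈ F`. -/
theorem AbU.exists_sep_cV (hU : AbU G) (h : Pt p) {f : KK p} (hf : f ∈ fittingSubgroup (KK p))
    {u w : G} (hu : u ∈ UU p) (hw : w ∈ UU p) (h1 : bar p u ∈ cV (VV p) f)
    (h2 : bar p w ∈ cV (VV p) f) (h3 : bar p u ≠ 1) (h4 : bar p u ≠ bar p w) :
    ∃ t ∈ XX p, ⁅t, u⁆ = p ∧ ⁅t, w⁆ = 1 :=
  exists_sep h hu hw le_rfl (hU.exists_move_cV h hf hu h1 h3)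
    (hU.exists_move_cV h hf (mul_mem hu hw) (bar_mul hu hw ▸ mul_mem h1 h2) fun e => h4 (by
      rw [bar_mul hu hw] at e; rw [eq_inv_of_mul_eq_one_left e, VV_inv]))

/-- (FullHom) For a component `d` and `d'` acting as `d`, some `[t, d']`, with `t ∈ X_p`
centralizing `C_U(d)`, moves `x` and fixes `y`, for `x`, `y` in the component. -/
theorem AbU.exists_comm_cmp (hU : AbU G) (h : Pt p) {d d' x y : G} (hd : d ∈ Cz p)
    (hd' : d' ∈ Cz p) (hk : Cmp (VV p) (star p d)) (e : star p d' = star p d) (hx : x ∈ UU p)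
    (hy : y ∈ UU p) (h1 : bar p x ∈ cV (VV p) (star p d)) (h2 : bar p y ∈ cV (VV p) (star p d))
    (h3 : bar p x ≠ 1) (h4 : bar p x ≠ bar p y) :
    ∃ t ∈ XX p, (∀ c ∈ UU p, c ∈ Cz d → t ∈ Cz c) ∧ ⁅⁅t, d'⁆, x⁆ = p ∧ ⁅⁅t, d'⁆, y⁆ = 1 := by
  have hr := red p
  have hf := hk.fpf hr
  have key : ∀ u ∈ UU p, bar p u ∈ cV (VV p) (star p d) → bar p u ≠ 1 →
      ∃ t ∈ XX p, (∀ c ∈ UU p, c ∈ Cz d → t ∈ Cz c) ∧ ⁅⁅t, d'⁆, u⁆ = p ∧
        ⁅⁅t, d'⁆, d * u * d⁻¹⁆ = 1 := fun u hu hu1 hu2 =>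
    hU.exists_comm_rot h hu (conj_mem_UU_of_mem hd hu) hd hd' hk.mem e hu2 (star_smul hd hu) (by
      rw [← star_smul hd hu]; exact four_smul_smul hr.expo hk.card (inv_cV_self _) hf hu1)
  by_cases hy1 : bar p y = 1
  · obtain ⟨t, ht, k1, k2, -⟩ := key x hx h1 h3
    refine ⟨t, ht, k1, k2, ?_⟩
    rw [comm_congr h (comm_mem_XX ht hd') hy (one_mem _) (hy1.trans bar_one.symm),
      commutatorElement_one_right]
  · have hu : d⁻¹ * y * d ∈ UU p := mem_normalizer_conj' (Cz_le_normalizer_UU p hd) hy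
    have eu : bar p (d⁻¹ * y * d) = (star p d)⁻¹ • bar p y := by
      rw [← star_inv hd, star_smul (inv_mem hd) hy, inv_inv]
    obtain ⟨t, ht, k1, k2, k3⟩ := key _ hu (eu ▸ (inv_cV_self _).inv _ h2)
      (eu ▸ smul_ne_one' _ hy1)
    have e3 : d * (d⁻¹ * y * d) * d⁻¹ = y := by group
    rw [e3] at k3
    refine ⟨t, ht, k1, ?_, k3⟩
    have ht' := comm_mem_XX ht hd'
    have e4 := four_inv_smul hr.expo hk.card (inv_cV_self _) hf h2
    rcases (four_elems_smul hr.expo hk.card (inv_cV_self _) hf h2 hy1).1 h1 with e | e | e | e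
    · exact absurd e h3
    · exact absurd e h4
    · rw [comm_congr h ht' hx (mul_mem hy hu) (by
        rw [bar_mul hy hu, eu, e4, ← mul_assoc, VV_sq, one_mul, e]),
        comm_mul_right ht' hy hu, k2, k3, one_mul]
    · rw [comm_congr h ht' hx hu (by rw [eu, e4, e]), k2]

end Cfsg.Lib.Ngrp.Geo
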