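import Cfsg.Agent.Ngrp.AmMod3

/-!
# Reduced modules, part 4: RM6 (nearly quadratic modules) and RM7
-/

set_option autoImplicit false

namespace Cfsg.Lib.Ngrp
open Subgroup
open scoped Pointwise commutatorElement

section RM6

variable {K V : Type*} [Group K] [CommGroup V] [MulDistribMulAction K V]

/-- The hypothesis of RM6. -/
structure NQ (B : Subgroup K) (V₀ E : Subgroup V) (v : V) : Prop where
  idx : V₀.index = 2
  le : E ≤ V₀
  nv : v ∉ V₀
  cv : ∀ b ∈ B, cV V b ≤ V₀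
  c0 : ∀ b ∈ B, ∀ x ∈ V₀, cm V b x ∈ E
  cE : ∀ b ∈ B, E ≤ fx V b
  inj : ∀ b ∈ B, cm V b v ∈ E → b = 1
  surj : ∀ x ∈ V₀, ∃ b ∈ B, x * (cm V b v)⁻¹ ∈ E

namespace NQ

variable {B : Subgroup K} {V₀ E : Subgroup V} {v : V} (h : NQ B V₀ E v)
include h

theorem mem_or (x : V) : x ∈ V₀ ∨ x * v⁻¹ ∈ V₀ := by
  by_cases hx : x ∈ V₀
  · exact Or.inl hx
  · right
    rw [mul_mem_iff_of_index_two h.idx, inv_mem_iff]
    exact iff_of_false hx h.nv

theorem cm_mem {b : K} (hb : b ∈ B) (x : V) : cm V b x ∈ V₀ := h.cv b hb (cm_mem_cV _ _)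

theorem cm_congr {b : K} (hb : b ∈ B) {w : V} (hw : w ∉ V₀) :
    cm V b w * (cm V b v)⁻¹ ∈ E := by
  rw [← map_inv, ← map_mul]
  exact h.c0 b hb _ ((h.mem_or w).resolve_left hw)

theorem change {w : V} (hw : w ∉ V₀) : NQ B V₀ E w where
  idx := h.idx
  le := h.le
  nv := hw
  cv := h.cv
  c0 := h.c0
  cE := h.cE
  inj b hb h1 := h.inj b hb (by
    have := mul_mem (inv_mem (h.cm_congr hb hw)) h1
    simpa using this)
  surj x hx := by
    obtain ⟨b, hb, h1⟩ := h.surj x hx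
    refine ⟨b, hb, ?_⟩
    have := mul_mem h1 (inv_mem (h.cm_congr hb hw))
    simpa [mul_assoc] using this

theorem cm_or {b : K} (hb : b ∈ B) (x : V) : cm V b x ∈ E ∨ cm V b x * (cm V b v)⁻¹ ∈ E := by
  by_cases hx : x ∈ V₀
  · exact Or.inl (h.c0 b hb x hx)
  · exact Or.inr (h.cm_congr hb hx)

theorem cm_E {b : K} (hb : b ∈ B) {e : V} (he : e ∈ E) : cm V b e = 1 :=
  cm_eq_one_iff.2 (mem_fx.1 (h.cE b hb he))

theorem cm_eq_of_congr {b : K} (hb : b ∈ B) {x y : V} (he : x * y⁻¹ ∈ E) :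
    cm V b x = cm V b y := by
  have := h.cm_E hb he
  rwa [map_mul, map_inv, mul_inv_eq_one] at this

theorem cm_cm_or {b b' : K} (hb : b ∈ B) (hb' : b' ∈ B) (x : V) :
    cm V b' (cm V b x) = 1 ∨ cm V b' (cm V b x) = cm V b' (cm V b v) :=
  (h.cm_or hb x).imp (h.cm_E hb') (h.cm_eq_of_congr hb')

theorem cm_cm_eq {b b' : K} (hb : b ∈ B) (hb' : b' ∈ B) {w : V} (hw : w ∉ V₀) :
    cm V b' (cm V b w) = cm V b' (cm V b v) :=
  h.cm_eq_of_congr hb' (h.cm_congr hb hw)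

/-- `b ↦ [v, b] E` is a homomorphism. -/
theorem cm_mul_congr {b b' : K} (hb : b ∈ B) (hb' : b' ∈ B) :
    cm V (b * b') v * (cm V b v * cm V b' v)⁻¹ ∈ E := by
  have h1 := h.c0 b hb _ (h.cm_mem hb' v)
  rw [cm_mul', smul_eq_cm_mul b (cm V b' v), mul_assoc (cm V b _), mul_comm (cm V b' v),
    mul_inv_cancel_right]
  exact h1

theorem eq_of_congr (hV : ∀ v : V, v * v = 1) (hB : ∀ b ∈ B, b * b = 1) {b b' : K} (hb : b ∈ B)
    (hb' : b' ∈ B) (he : cm V b v * (cm V b' v)⁻¹ ∈ E) : b = b' := by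
  have h1 := mul_mem (h.cm_mul_congr hb hb') he
  rw [inv_eq_self hV (cm V b' v), inv_mul_cancel_right] at h1
  have h2 := h.inj _ (mul_mem hb hb') h1
  rw [eq_inv_of_mul_eq_one_left h2, inv_eq_of_mul_eq_one_right (hB b' hb')]

/-- `|W ∩ V₀| = |B| |W ∩ E|` for a `B`-invariant `W ∋ v`. -/
theorem card_inf (hV : ∀ v : V, v * v = 1) (hB : ∀ b ∈ B, b * b = 1) {W : Subgroup V}
    (hv : v ∈ W) (hW : ∀ b ∈ B, Invt b W) :
    Nat.card ↥(W ⊓ V₀) = Nat.card B * Nat.card ↥(W ⊓ E) := by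
  rw [← Nat.card_prod]
  symm
  refine Nat.card_congr (Equiv.ofBijective (fun p : B × ↥(W ⊓ E) =>
    (⟨cm V (p.1 : K) v * p.2, mul_mem ⟨(hW _ p.1.2).cm_mem hv, h.cm_mem p.1.2 v⟩
      ⟨p.2.2.1, h.le p.2.2.2⟩⟩ : ↥(W ⊓ V₀))) ⟨?_, ?_⟩)
  · rintro ⟨b, e⟩ ⟨b', e'⟩ he
    have he' : cm V (b : K) v * e = cm V (b' : K) v * e' := congrArg Subtype.val he
    have h1 : (b : K) = b' := h.eq_of_congr hV hB b.2 b'.2 (by
      have : cm V (b : K) v * (cm V (b' : K) v)⁻¹ = e' * (e : V)⁻¹ := by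
        rw [mul_inv_eq_iff_eq_mul, mul_right_comm, eq_mul_inv_iff_mul_eq, he', mul_comm]
      rw [this]; exact mul_mem e'.2.2 (inv_mem e.2.2))
    rw [h1, mul_right_inj] at he'
    exact Prod.ext (Subtype.ext h1) (Subtype.ext he')
  · rintro ⟨x, hx⟩
    obtain ⟨b, hb, h1⟩ := h.surj x hx.2
    refine ⟨⟨⟨b, hb⟩, ⟨x * (cm V b v)⁻¹,
      mem_inf.2 ⟨W.mul_mem hx.1 (inv_mem ((hW b hb).cm_mem hv)), h1⟩⟩⟩, ?_⟩
    apply Subtype.ext
    simp

theorem card_V₀ (hV : ∀ v : V, v * v = 1) (hB : ∀ b ∈ B, b * b = 1) :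
    Nat.card V₀ = Nat.card B * Nat.card E := by
  have := h.card_inf hV hB (W := ⊤) (mem_top v) fun _ _ => Invt.top
  rwa [top_inf_eq, top_inf_eq] at this

theorem card_V (hV : ∀ v : V, v * v = 1) (hB : ∀ b ∈ B, b * b = 1) :
    Nat.card V = 2 * Nat.card B * Nat.card E := by
  rw [← V₀.index_mul_card, h.idx, h.card_V₀ hV hB, mul_assoc]

theorem card_eq_two_mul (hV : ∀ v : V, v * v = 1) {W : Subgroup V} (hv : v ∈ W) :
    Nat.card W = 2 * Nat.card ↥(W ⊓ V₀) := by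
  have hv1 : v ≠ 1 := fun h0 => h.nv (h0 ▸ one_mem _)
  have h1 : zpowers v ⊔ W ⊓ V₀ = W := by
    refine le_antisymm (sup_le (zpowers_le.2 hv) inf_le_left) fun x hx => ?_
    rcases h.mem_or x with h0 | h0
    · exact mem_sup_right ⟨hx, h0⟩
    · have : x = v * (x * v⁻¹) := by rw [mul_comm, inv_mul_cancel_right]
      rw [this]
      exact mul_mem_sup (mem_zpowers v) (mem_inf.2 ⟨mul_mem hx (inv_mem hv), h0⟩)
  conv_lhs => rw [← h1]
  rw [card_sup_of_inf_bot, card_zpowers_of_expo hV hv1]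
  rw [eq_bot_iff]
  intro x hx
  rcases (mem_zpowers_iff_of_expo hV).1 hx.1 with h0 | h0
  · exact h0
  · exact absurd (h0 ▸ hx.2.2) h.nv

variable [Finite V] (hr : Red K V) {k : ℕ} {a d : Fin k → K} (hf : Frame B a d)
include hr hf

/-- No `W_j` lies in `V₀`. -/
theorem not_le (j : Fin k) : ¬ cV V (d j) ≤ V₀ := by
  intro hle
  obtain ⟨w, hw, c, hc, hv⟩ := exists_dec hr.expo (hf.odd j) v
  have hc0 : c ∉ V₀ := fun h0 => h.nv (hv ▸ mul_mem (hle hw) h0)
  apply hf.not_le_fx hr j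
  intro x hx
  obtain ⟨b, hb, he⟩ := (h.change hc0).surj x (hle hx)
  refine mem_fx.2 (cm_eq_one_iff.1 (eq_one_of_mem_cV_fx hr.expo (hf.odd j)
    ((hf.invt_cV (hf.mem j) j).cm_mem hx) ?_))
  rw [h.cm_eq_of_congr (hf.mem j) he]
  exact (hf.invt_fx (hf.mem j) j).cm_mem ((hf.invt_fx hb j).cm_mem hc)

theorem exists_mem (j : Fin k) : ∃ w ∈ cV V (d j), w ∉ V₀ :=
  SetLike.not_le_iff_exists.1 (h.not_le hr hf j)

theorem sup_eq_top (j : Fin k) : cV V (d j) ⊔ E = ⊤ := by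
  obtain ⟨w, hw, hw0⟩ := h.exists_mem hr hf j
  have key : V₀ ≤ cV V (d j) ⊔ E := fun x hx => by
    obtain ⟨b, hb, he⟩ := (h.change hw0).surj x hx
    have : x = cm V b w * (x * (cm V b w)⁻¹) := by rw [mul_comm, inv_mul_cancel_right]
    rw [this]
    exact mul_mem_sup ((hf.invt_cV hb j).cm_mem hw) he
  rw [eq_top_iff]
  intro x _
  rcases (h.change hw0).mem_or x with h0 | h0
  · exact key h0
  · have : x = x * w⁻¹ * w := by rw [inv_mul_cancel_right]
    rw [this]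
    exact mul_mem (key h0) (mem_sup_left hw)

/-- `B` centralises `C_V(d_j)`. -/
theorem fx_le (j : Fin k) {b : K} (hb : b ∈ B) : fx V (d j) ≤ fx V b := fun c hc => by
  have h1 : c ∈ cV V (d j) ⊔ E := by rw [h.sup_eq_top hr hf j]; exact mem_top c
  obtain ⟨w, hw, e, he, rfl⟩ := mem_sup.1 h1
  refine mem_fx.2 (cm_eq_one_iff.1 (eq_one_of_mem_cV_fx hr.expo (hf.odd j) ?_
    ((hf.invt_fx hb j).cm_mem hc)))
  rw [map_mul, h.cm_E hb he, mul_one]
  exact (hf.invt_cV hb j).cm_mem hw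

theorem fx_eq (i j : Fin k) : fx V (d i) = fx V (d j) := by
  have key : ∀ i j : Fin k, fx V (d j) ≤ fx V (d i) := fun i j =>
    le_fx_of_inverts (hf.a_sq i) (hf.odd i) (hf.inv i) (inv_fx_of_comm (hf.dd i j))
      (h.fx_le hr hf j (hf.mem i))
  exact le_antisymm (key j i) (key i j)

/-- All `W_j` coincide. -/
theorem cV_eq (i j : Fin k) : cV V (d i) = cV V (d j) := by
  have key : ∀ i j : Fin k, cV V (d i) ≤ cV V (d j) := by
    rintro i j _ ⟨x, rfl⟩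
    obtain ⟨w, hw, c, hc, rfl⟩ := exists_dec hr.expo (hf.odd j) x
    rw [← h.fx_eq hr hf i j] at hc
    rw [map_mul, cm_eq_one_iff.2 (mem_fx.1 hc), mul_one]
    exact (inv_cV_of_comm (hf.dd i j)).cm_mem hw
  exact le_antisymm (key i j) (key j i)

/-- `[V, b] ≤ W`. -/
theorem cV_le (j : Fin k) {b : K} (hb : b ∈ B) : cV V b ≤ cV V (d j) := by
  rintro _ ⟨x, rfl⟩
  obtain ⟨w, hw, c, hc, rfl⟩ := exists_dec hr.expo (hf.odd j) x
  rw [map_mul, cm_eq_one_iff.2 (mem_fx.1 (h.fx_le hr hf j hb hc)), mul_one]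
  exact (hf.invt_cV hb j).cm_mem hw

theorem map_eq (j : Fin k) {b : K} (hb : b ∈ B) : (cV V (d j)).map (cm V b) = cV V b := by
  refine le_antisymm (map_cm_le_cV _ _) ?_
  rintro _ ⟨x, rfl⟩
  obtain ⟨w, hw, c, hc, rfl⟩ := exists_dec hr.expo (hf.odd j) x
  rw [map_mul, cm_eq_one_iff.2 (mem_fx.1 (h.fx_le hr hf j hb hc)), mul_one]
  exact ⟨w, hw, rfl⟩

theorem inf_fx_eq_cV (j : Fin k) : cV V (d j) ⊓ fx V (a j) = cV V (a j) := by
  rw [rm2_cV_inf_fx hr.expo (hf.a_sq j) (hf.odd j) (hf.inv j), h.map_eq hr hf j (hf.mem j)]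

/-- `C_W(a_j) = ⟨[v, a_j]⟩ (W ∩ E)`. -/
theorem cV_a_eq (j : Fin k) : cV V (a j) = zpowers (cm V (a j) v) ⊔ cV V (d j) ⊓ E := by
  apply le_antisymm
  · rintro _ ⟨x, rfl⟩
    have hx := h.cV_le hr hf j (hf.mem j) (cm_mem_cV _ x)
    have hv := h.cV_le hr hf j (hf.mem j) (cm_mem_cV _ v)
    rcases h.cm_or (hf.mem j) x with h0 | h0
    · exact mem_sup_right ⟨hx, h0⟩
    · have : cm V (a j) x = cm V (a j) v * (cm V (a j) x * (cm V (a j) v)⁻¹) := by
        rw [mul_comm, inv_mul_cancel_right]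
      rw [this]
      exact mul_mem_sup (mem_zpowers _) (mem_inf.2 ⟨mul_mem hx (inv_mem hv), h0⟩)
  · refine sup_le (zpowers_le.2 (cm_mem_cV _ _)) ?_
    rw [← h.inf_fx_eq_cV hr hf j]
    exact inf_le_inf le_rfl (h.cE _ (hf.mem j))

/-- `b ↦ [v, b, a_j]` is injective on `B / ⟨a_j⟩`. -/
theorem inj_a (j : Fin k) {b : K} (hb : b ∈ B) (h0 : cm V (a j) (cm V b v) = 1) :
    b = 1 ∨ b = a j := by
  have h1 : cm V b v ∈ cV V (d j) ⊓ fx V (a j) :=
    ⟨h.cV_le hr hf j hb (cm_mem_cV _ _), mem_fx.2 (cm_eq_one_iff.1 h0)⟩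
  rw [h.inf_fx_eq_cV hr hf j, h.cV_a_eq hr hf j] at h1
  obtain ⟨y, hy, e, he, h2⟩ := mem_sup.1 h1
  rcases (mem_zpowers_iff_of_expo hr.expo).1 hy with rfl | rfl
  · left
    rw [one_mul] at h2
    exact h.inj b hb (h2 ▸ he.2)
  · right
    refine h.eq_of_congr hr.expo hf.sq hb (hf.mem j) ?_
    rw [← h2, mul_comm, inv_mul_cancel_left]
    exact he.2

/-- `[v, b, b'] = 1` for `b, b' ∈ B_j`. -/
theorem cm_cm_eq_one (j : Fin k) {b b' : K} (hb : b ∈ B) (hb' : b' ∈ B)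
    (hc : b * d j = d j * b) (hc' : b' * d j = d j * b') : cm V b' (cm V b v) = 1 := by
  by_contra hne
  have hx : cm V b' (cm V b v) ∈ cV V (d j) := h.cV_le hr hf j hb' (cm_mem_cV _ _)
  apply hne
  refine eq_one_of_mem_cV_fx hr.expo (hf.odd j) hx (mem_fx.2 ?_)
  have e : d j • cm V b' (cm V b v) = cm V b' (cm V b (d j • v)) := by
    rw [smul_cm_of_comm hc'.symm, smul_cm_of_comm hc.symm]
  rcases h.cm_cm_or hb hb' (d j • v) with h0 | h0
  · rw [← e] at h0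
    exact absurd h0 (smul_ne_one' _ hne)
  · rw [e, h0]

theorem le_two : k ≤ 2 := by
  by_contra hk
  have hk3 : 3 ≤ k := by omega
  let i : Fin k := ⟨0, by omega⟩
  let l : Fin k := ⟨1, by omega⟩
  let j : Fin k := ⟨2, by omega⟩
  have hij : i ≠ j := by simp [i, j]
  have hlj : l ≠ j := by simp [l, j]
  have hli : l ≠ i := by simp [l, i]
  rcases h.inj_a hr hf i (hf.mem l)
    (h.cm_cm_eq_one hr hf j (hf.mem l) (hf.mem i) (hf.ad l j hlj) (hf.ad i j hij)) with h0 | h0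
  · exact hf.a_ne l h0
  · exact hf.a_ne_of_ne hli h0

theorem card_cV_a_aux (j : Fin k) : Nat.card (cV V (a j)) = 2 * Nat.card ↥(cV V (d j) ⊓ E) := by
  have hn : cm V (a j) v ∉ E := fun h0 => hf.a_ne j (h.inj _ (hf.mem j) h0)
  have h1 : cm V (a j) v ≠ 1 := fun h0 => hn (h0 ▸ one_mem _)
  rw [h.cV_a_eq hr hf j, card_sup_of_inf_bot, card_zpowers_of_expo hr.expo h1]
  rw [eq_bot_iff]
  intro x hx
  rcases (mem_zpowers_iff_of_expo hr.expo).1 hx.1 with h0 | h0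
  · exact h0
  · exact absurd (h0 ▸ hx.2.2) hn

theorem card_cV_a (j : Fin k) : Nat.card (cV V (a j)) = 2 ^ k := by
  obtain ⟨w, hw, hw0⟩ := h.exists_mem hr hf j
  have h1 := (h.change hw0).card_eq_two_mul hr.expo hw
  rw [(h.change hw0).card_inf hr.expo hf.sq hw fun b hb => hf.invt_cV hb j, hf.card,
    hf.card_cV hr j, h.map_eq hr hf j (hf.mem j)] at h1
  have h2 := h.card_cV_a_aux hr hf j
  have hpos : 0 < Nat.card (cV V (a j)) := Nat.card_pos
  refine Nat.eq_of_mul_eq_mul_right hpos ?_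
  rw [← pow_two, h1, h2]; ring

theorem card_inf_E (j : Fin k) : 2 * Nat.card ↥(cV V (d j) ⊓ E) = 2 ^ k := by
  rw [← h.card_cV_a_aux hr hf j, h.card_cV_a hr hf j]

theorem card_cV (j : Fin k) : Nat.card (cV V (d j)) = 4 ^ k := by
  rw [hf.card_cV hr j, h.map_eq hr hf j (hf.mem j), h.card_cV_a hr hf j, ← pow_mul, mul_comm,
    pow_mul]
  norm_num

theorem exists_ne_or (j : Fin k) : k = 1 ∨ (k = 2 ∧ ∃ i, i ≠ j) := by
  have h1 := h.le_two hr hf
  have h2 := j.pos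
  by_cases hk : k = 1
  · exact Or.inl hk
  · have hk2 : k = 2 := by omega
    subst hk2
    exact Or.inr ⟨rfl, exists_ne j⟩

theorem cube (j : Fin k) : d j ^ 3 = 1 := by
  have hV := hr.expo
  have hc := h.card_cV hr hf j
  refine hr.eq_one_of_dec (hf.odd j) ?_ (fx_le_pow _ 3)
  rcases h.exists_ne_or hr hf j with hk | ⟨hk, i, hi⟩
  · subst hk
    exact four_le_fx_cube hV hc (inv_cV_self _) (cV_inf_fx hV (hf.odd j))
  · subst hk
    have hP : Nat.card (cV V (a i)) = 4 := h.card_cV_a hr hf i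
    have hcm := (hf.ad i j hi).symm
    have hle := h.cV_le hr hf j (hf.mem i)
    have h3 : cV V (a i) ≤ fx V (d j ^ 3) := four_le_fx_cube hV hP (inv_cV_of_comm hcm) (by
      rw [eq_bot_iff, ← cV_inf_fx hV (hf.odd j)]; exact inf_le_inf hle le_rfl)
    have ho : Odd (orderOf (d j ^ 3)) := (hf.odd j).of_dvd_nat (orderOf_pow_dvd 3)
    have hc3 : d j ^ 3 * a i = a i * d j ^ 3 := (Commute.pow_left hcm 3).eq
    refine le_fx_of_map_le_fx hV ho (le_trans ?_ h3)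
    rintro _ ⟨w, hw, rfl⟩
    rw [← h.inf_fx_eq_cV hr hf i, h.cV_eq hr hf i j]
    refine ⟨((inv_cV_self _).pow 3).cm_mem hw, mem_fx.2 (cm_eq_one_iff.1 ?_)⟩
    rw [← cm_cm_comm hc3]
    exact cm_eq_one_iff.2 (mem_fx.1 (h3 (cm_mem_cV _ _)))

theorem orderOf_eq (j : Fin k) : orderOf (d j) = 3 :=
  haveI : Fact (Nat.Prime 3) := ⟨Nat.prime_three⟩
  orderOf_eq_prime (h.cube hr hf j) (hf.d_ne j)

/-- `|C_W(B)| ≤ 2`. -/
theorem card_le_two (j : Fin k) {P : Subgroup V} (hP : P ≤ cV V (d j))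
    (hB : ∀ b ∈ B, P ≤ fx V b) : Nat.card P ≤ 2 := by
  have h1 : P ≤ cV V (a j) := by
    rw [← h.inf_fx_eq_cV hr hf j]; exact le_inf hP (hB _ (hf.mem j))
  rcases h.exists_ne_or hr hf j with hk | ⟨hk, i, hi⟩
  · subst hk
    exact (card_le_of_le h1).trans (h.card_cV_a hr hf j).le
  · subst hk
    have h2 : P ≤ cV V (d j) ⊓ E := fun x hx => by
      have h3 := h1 hx
      rw [h.cV_a_eq hr hf j] at h3
      obtain ⟨y, hy, e, he, rfl⟩ := mem_sup.1 h3
      rcases (mem_zpowers_iff_of_expo hr.expo).1 hy with rfl | rfl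
      · rwa [one_mul]
      · exfalso
        have h4 := cm_eq_one_iff.2 (mem_fx.1 (hB _ (hf.mem i) hx))
        rw [map_mul, h.cm_E (hf.mem i) he.2, mul_one] at h4
        rcases h.inj_a hr hf i (hf.mem j) h4 with h0 | h0
        · exact hf.a_ne j h0
        · exact hf.a_ne_of_ne hi h0.symm
    have h3 := h.card_inf_E hr hf j
    have h4 := card_le_of_le h2
    omega

/-- `|E : C_E(d_j)| ≤ 2`. -/
theorem card_E_le (j : Fin k) : Nat.card E ≤ 2 * Nat.card ↥(E ⊓ fx V (d j)) := by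
  rw [← card_map_cm_mul (d j) E]
  refine Nat.mul_le_mul_right _ ?_
  set P : Subgroup V := cV V (d j) ⊓ ⨅ b ∈ B, fx V b with hP
  have h1 : Nat.card P ≤ 2 := h.card_le_two hr hf j inf_le_left fun b hb =>
    inf_le_right.trans (iInf₂_le b hb)
  have h2 : E.map (cm V (d j)) ≤ P.map (cm V (d j)) := by
    rintro _ ⟨e, he, rfl⟩
    obtain ⟨w, hw, c, hc, rfl⟩ := exists_dec hr.expo (hf.odd j) e
    refine ⟨w, mem_inf.2 ⟨hw, ?_⟩, by rw [map_mul, cm_eq_one_iff.2 (mem_fx.1 hc), mul_one]⟩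
    simp only [mem_iInf]
    intro b hb
    exact (mul_mem_cancel_right (h.fx_le hr hf j hb hc)).1 (h.cE b hb he)
  refine (card_le_of_le h2).trans (le_trans ?_ h1)
  rw [← card_map_cm_mul (d j) P]
  exact Nat.le_mul_of_pos_right _ Nat.card_pos

/-- **RM6**. -/
theorem rm6 : k ≤ 2 ∧ ∀ j, (∀ i, cV V (d i) = cV V (d j)) ∧ ¬ cV V (d j) ≤ V₀ ∧
    Nat.card (cV V (d j)) = 4 ^ k ∧ orderOf (d j) = 3 ∧ (∀ b ∈ B, fx V (d j) ≤ fx V b) ∧
    Nat.card E ≤ 2 * Nat.card ↥(E ⊓ fx V (d j)) :=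
  ⟨h.le_two hr hf, fun j => ⟨fun i => h.cV_eq hr hf i j, h.not_le hr hf j, h.card_cV hr hf j,
    h.orderOf_eq hr hf j, fun _ hb => h.fx_le hr hf j hb, h.card_E_le hr hf j⟩⟩

end NQ

theorem Frame.not_sameD {B : Subgroup K} {k : ℕ} {a d : Fin k → K} (hf : Frame B a d)
    {i j : Fin k} (hij : i ≠ j) : ¬ SameD (d i) (d j) := fun h0 =>
  hf.not_comm_of_inverts (h0.inverts (hf.inv i)) (hf.ad i j hij)

/-- RM6 for `k = 1`: `d` is a component and `a` is a transvection. -/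
theorem NQ.cmp_one [Finite K] [Finite V] {B : Subgroup K} {V₀ E : Subgroup V} {v : V}
    (h : NQ B V₀ E v) (hr : Red K V) {a d : Fin 1 → K} (hf : Frame B a d) :
    Cmp V (d 0) ∧ Cfsg.Lib.Local.Tv.IsTv (a 0) (cm V (a 0) v) := by
  refine ⟨⟨hf.dF 0, h.card_cV hr hf 0⟩, ?_⟩
  obtain ⟨u, hu, he⟩ := exists_eq_zpowers_of_card_two (h.card_cV_a hr hf 0)
  have h1 : cm V (a 0) v ≠ 1 := fun h0 => hf.a_ne 0 (h.inj _ (hf.mem 0) (h0 ▸ one_mem _))
  have h2 : cm V (a 0) v = u :=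
    ((mem_zpowers_iff_of_expo hr.expo).1 (he ▸ cm_mem_cV _ _)).resolve_left h1
  rw [h2]
  exact isTv_of_cV hr.expo (hf.a_sq 0) hu he

/-- RM6 for `k = 2`: the two components `⟨d₀ d₁⟩`, `⟨d₀ d₁⁻¹⟩`. -/
theorem NQ.cmp_two [Finite K] [Finite V] {B : Subgroup K} {V₀ E : Subgroup V} {v : V}
    (h : NQ B V₀ E v) (hr : Red K V) {a d : Fin 2 → K} (hf : Frame B a d) :
    Cmp V (d 0 * d 1) ∧ Cmp V (d 0 * (d 1)⁻¹) ∧ ¬ SameD (d 0 * d 1) (d 0 * (d 1)⁻¹) ∧
      cV V (d 0 * d 1) = cV V (d 0) ⊓ fx V (d 0 * (d 1)⁻¹) ∧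
      cV V (d 0 * (d 1)⁻¹) = cV V (d 0) ⊓ fx V (d 0 * d 1) ∧
      cV V (d 0 * d 1) ⊔ cV V (d 0 * (d 1)⁻¹) = cV V (d 0) :=
  hr.cmp_pair (hf.dF 0) (hf.dF 1) (h.cube hr hf 0) (h.cube hr hf 1) (hf.dd 0 1)
    (h.cV_eq hr hf 1 0) (h.card_cV hr hf 0).le (hf.not_sameD (by decide))

end RM6

section RM7

variable {K : Type*} [Group K]

/-- In a group of odd order normalised by the involution `a`, every element is the product of an
inverted element and a centralised element. -/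
theorem exists_inv_mul_comm {L : Subgroup K} (hL : ∀ x ∈ L, Odd (orderOf x)) {a : K}
    (ha : a * a = 1) (hn : ∀ x ∈ L, a * x * a⁻¹ ∈ L) {f : K} (hf : f ∈ L) :
    ∃ y ∈ L, ∃ c ∈ L, a * y * a⁻¹ = y⁻¹ ∧ c * a = a * c ∧ f = y * c := by
  have hai : a⁻¹ = a := inv_eq_of_mul_eq_one_right ha
  have hx : f * (a * f⁻¹ * a⁻¹) ∈ L := mul_mem hf (hn _ (inv_mem hf))
  set x := f * (a * f⁻¹ * a⁻¹) with hxdef
  have hax : a * x * a⁻¹ = x⁻¹ := by
    rw [hxdef, hai]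
    calc a * (f * (a * f⁻¹ * a)) * a = a * f * a * f⁻¹ * (a * a) := by group
      _ = (f * (a * f⁻¹ * a))⁻¹ := by rw [ha, mul_inv_rev, mul_inv_rev, mul_inv_rev, hai]; group
  obtain ⟨k, hk⟩ := hL x hx
  have hy : x ^ (k + 1) * x ^ (k + 1) = x := by
    rw [← pow_add, show k + 1 + (k + 1) = 2 * k + 1 + 1 by ring, pow_succ, ← hk,
      pow_orderOf_eq_one, one_mul]
  have hay : a * x ^ (k + 1) * a⁻¹ = (x ^ (k + 1))⁻¹ := by rw [← conj_pow, hax, inv_pow]
  refine ⟨x ^ (k + 1), pow_mem hx _, (x ^ (k + 1))⁻¹ * f, mul_mem (inv_mem (pow_mem hx _)) hf, hay,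
    ?_, by rw [mul_inv_cancel_left]⟩
  set y := x ^ (k + 1)
  have h1 : f * a = x * a * f := by
    rw [hxdef, hai]
    calc f * a = f * a * f⁻¹ * (a * a) * f := by rw [ha]; group
      _ = _ := by group
  have h2 : a * y⁻¹ = y * a := by
    calc a * y⁻¹ = (a * y * a⁻¹)⁻¹ * a := by group
      _ = y * a := by rw [hay, inv_inv]
  calc y⁻¹ * f * a = y⁻¹ * (x * a * f) := by rw [mul_assoc, h1]
    _ = y * a * f := by rw [← hy]; group
    _ = a * (y⁻¹ * f) := by rw [← h2, mul_assoc]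

/-- `[F, a]`, generated by the elements of `F` inverted by `a`. -/
def invF (a : K) : Subgroup K :=
  closure {x | x ∈ fittingSubgroup K ∧ a * x * a⁻¹ = x⁻¹}

theorem invF_le (a : K) : invF a ≤ fittingSubgroup K := (closure_le _).2 fun _ hx => hx.1

theorem mem_invF {a x : K} (hx : x ∈ fittingSubgroup K) (h : a * x * a⁻¹ = x⁻¹) : x ∈ invF a :=
  subset_closure ⟨hx, h⟩

theorem conj_mem_invF {a g : K} (hg : g * a = a * g) {x : K} (hx : x ∈ invF a) :
    g * x * g⁻¹ ∈ invF a := by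
  induction hx using closure_induction with
  | mem x hx =>
    refine mem_invF ((inferInstance : (fittingSubgroup K).Normal).conj_mem x hx.1 g) ?_
    calc a * (g * x * g⁻¹) * a⁻¹ = (a * g) * x * (a * g)⁻¹ := by group
      _ = g * (a * x * a⁻¹) * g⁻¹ := by rw [← hg]; group
      _ = (g * x * g⁻¹)⁻¹ := by rw [hx.2]; group
  | one => simp
  | mul x y _ _ hx hy => rw [← conj_mul]; exact mul_mem hx hy
  | inv x _ hx => rw [← conj_inv]; exact inv_mem hx

/-- An element of odd order normalising a group of order three or five centralises it. -/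
theorem comm_of_odd_of_conj_mem [Finite K] {d g : K} (hd : orderOf d = 3 ∨ orderOf d = 5)
    (hg : Odd (orderOf g)) (h : g * d * g⁻¹ ∈ zpowers d) : g * d = d * g := by
  obtain ⟨i, hi⟩ := mem_powers_iff_mem_zpowers.2 h
  have hi' : d ^ i = g * d * g⁻¹ := hi
  have hpow : ∀ n : ℕ, g ^ n * d * (g ^ n)⁻¹ = d ^ (i ^ n) := by
    intro n
    induction n with
    | zero => simp
    | succ n ih =>
      calc g ^ (n + 1) * d * (g ^ (n + 1))⁻¹ = g ^ n * (g * d * g⁻¹) * (g ^ n)⁻¹ := by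
            rw [pow_succ]; group
        _ = d ^ (i ^ (n + 1)) := by rw [← hi', ← conj_pow, ih, ← pow_mul, ← pow_succ]
  have hd1 : d ≠ 1 := fun h0 => by rw [h0, orderOf_one] at hd; omega
  have hnd : ¬ orderOf d ∣ i := fun h0 => by
    rw [orderOf_dvd_iff_pow_eq_one, hi'] at h0
    exact hd1 (by simpa [mul_inv_eq_one] using h0)
  have h4 : d ^ (i ^ 4) = d := by
    conv_rhs => rw [← pow_one d]
    rw [pow_eq_pow_iff_modEq]
    rcases hd with hd | hd <;> rw [hd] at hnd ⊢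
    · have : i % 3 = 1 ∨ i % 3 = 2 := by omega
      rcases this with h0 | h0 <;> simp [Nat.ModEq, Nat.pow_mod, h0]
    · have : i % 5 = 1 ∨ i % 5 = 2 ∨ i % 5 = 3 ∨ i % 5 = 4 := by omega
      rcases this with h0 | h0 | h0 | h0 <;> simp [Nat.ModEq, Nat.pow_mod, h0]
  have h5 : Commute (g ^ 4) d := by
    have := hpow 4
    rw [h4] at this
    exact mul_inv_eq_iff_eq_mul.1 this
  have h6 : g ∈ zpowers (g ^ 4) := by
    have hc : (4 : ℕ).Coprime (orderOf g) :=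
      (Nat.coprime_two_left.2 hg).pow_left 2
    exact mem_zpowers_pow_iff.2 (by rw [Nat.Coprime.gcd_eq_one hc])
  obtain ⟨n, hn⟩ := h6
  have := h5.zpow_left n
  simp only [] at hn
  rw [hn] at this
  exact this

variable {V : Type*} [CommGroup V] [MulDistribMulAction K V] [Finite K] [Finite V]

omit [Finite K] in
/-- RM7 (counting): if `a` inverts every element of the odd group `L`, and the nontrivial elements
of `L` have no fixed point on the invariant `W`, then `|L| (|C_W(a)| - 1) ≤ |W| - 1`. -/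
theorem rm7_count {L : Subgroup K} {a : K} (hL : ∀ x ∈ L, Odd (orderOf x))
    (hinv : ∀ x ∈ L, a * x * a⁻¹ = x⁻¹) {W : Subgroup V} (hW : ∀ x ∈ L, Invt x W)
    (hf : ∀ x ∈ L, x ≠ 1 → W ⊓ fx V x = ⊥) :
    Nat.card L * (Nat.card ↥(W ⊓ fx V a) - 1) ≤ Nat.card W - 1 := by
  have hcard : ∀ A : Subgroup V, Nat.card {x : V // x ∈ A ∧ x ≠ 1} = Nat.card A - 1 := by
    intro A
    have h1 : {x : V | x ∈ A ∧ x ≠ 1} = (A : Set V) \ {1} := by ext x; simp
    have h2 := Set.ncard_sdiff_singleton_of_mem (s := (A : Set V)) (a := 1) (one_mem A)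
    rw [← h1] at h2
    exact h2
  rw [← hcard, ← hcard, ← Nat.card_prod]
  refine Nat.card_le_card_of_injective (fun p : L × {x : V // x ∈ W ⊓ fx V a ∧ x ≠ 1} =>
    (⟨(p.1 : K) • (p.2 : V), hW _ p.1.2 _ p.2.2.1.1, smul_ne_one' _ p.2.2.2⟩ :
      {x : V // x ∈ W ∧ x ≠ 1})) ?_
  rintro ⟨f, p, hp, hp1⟩ ⟨f', p', hp', hp1'⟩ he
  have he' : (f : K) • p = (f' : K) • p' := congrArg Subtype.val he
  have hg : (f' : K)⁻¹ * f ∈ L := mul_mem (inv_mem f'.2) f.2
  set g : K := (f' : K)⁻¹ * f with hgdef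
  have h1 : g • p = p' := by rw [hgdef, mul_smul, he', inv_smul_smul]
  have h2 : g⁻¹ • p = p' := by
    rw [← hinv g hg, mul_smul, mul_smul, (inv_smul_eq_iff.2 (mem_fx.1 hp.2).symm), h1,
      mem_fx.1 hp'.2]
  have h3 : g • p = p := smul_eq_of_sq (hL g hg) (by rw [h1, ← h2, smul_inv_smul])
  have h4 : g = 1 := by
    by_contra h0
    exact smul_ne_of_fpf (hf g hg h0) hp.1 hp1 h3
  refine Prod.ext (Subtype.ext (inv_mul_eq_one.1 h4).symm) (Subtype.ext ?_)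
  show p = p'
  rw [← h1, h3]

namespace Red

variable (hr : Red K V) {a : K}
include hr

omit [Finite V] in
/-- RM7: `F = [F, a] C_F(a)`, elementwise. -/
theorem exists_inv_mul_comm (ha : a * a = 1) {f : K} (hf : f ∈ fittingSubgroup K) :
    ∃ y ∈ fittingSubgroup K, ∃ c ∈ fittingSubgroup K,
      a * y * a⁻¹ = y⁻¹ ∧ c * a = a * c ∧ f = y * c :=
  Ngrp.exists_inv_mul_comm (fun _ hx => hr.odd_of_mem hx) ha
    (fun x hx => (inferInstance : (fittingSubgroup K).Normal).conj_mem x hx a) hf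

/-- If `|[V, a]| = 4`, an element of `F` inverted by `a` is a component or has `[V,d] = P × P^d`
of order 16. -/
theorem cmp_or_sixteen (ha : a * a = 1) (hP : Nat.card (cV V a) ≤ 4) {d : K}
    (hd : d ∈ fittingSubgroup K) (h1 : d ≠ 1) (hinv : a * d * a⁻¹ = d⁻¹) :
    Cmp V d ∨ (Nat.card (cV V d) = 16 ∧ (cV V d).map (cm V a) = cV V a ∧
      cV V a ⊔ d • cV V a = cV V d) := by
  have ho := hr.odd_of_mem hd
  have h2 := hr.two_le_card_map ha ho hinv h1
  have h3 := rm2_cV_card hr.expo ha ho hinv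
  have h4 := card_le_of_le (map_cm_le_cV a (cV V d))
  obtain ⟨n, hn⟩ := exists_card_eq_two_pow hr.expo ((cV V d).map (cm V a))
  have h5 : Nat.card ((cV V d).map (cm V a)) = 2 ∨ Nat.card ((cV V d).map (cm V a)) = 4 := by
    have : Nat.card ((cV V d).map (cm V a)) ≠ 3 := by
      rw [hn]
      rcases n with _ | n
      · norm_num
      · rw [pow_succ]; omega
    omega
  rcases h5 with h5 | h5
  · exact Or.inl ⟨hd, by rw [h3, h5]; rfl⟩
  · have h6 : (cV V d).map (cm V a) = cV V a :=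
      eq_of_le_of_card_le (map_cm_le_cV _ _) (by omega)
    refine Or.inr ⟨by rw [h3, h5]; rfl, h6, ?_⟩
    have := rm2_cV_sup hr.expo ha ho hinv
    rwa [h6] at this

/-- **RM7** (main form). Let `a` be an involution with `|[V, a]| ≤ 4` inverting no component, such
that `C_F(a)` centralises `[V, a]`. Then `[F, a] = ⟨d⟩` has order 3 or 5, is inverted by `a`, and
`[V, d] = P × P^d` has order 16. -/
theorem rm7 (ha : a * a = 1) (ha1 : a ≠ 1) (hP : Nat.card (cV V a) ≤ 4)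
    (hn : ∀ d, Cmp V d → a * d * a⁻¹ ≠ d⁻¹)
    (hc : ∀ x ∈ fittingSubgroup K, x * a = a * x → cV V a ≤ fx V x) :
    ∃ d ∈ fittingSubgroup K, (orderOf d = 3 ∨ orderOf d = 5) ∧ a * d * a⁻¹ = d⁻¹ ∧
      invF a = zpowers d ∧ Nat.card (cV V a) = 4 ∧ Nat.card (cV V d) = 16 ∧
      cV V a ⊔ d • cV V a = cV V d ∧
      (∀ g, g * a = a * g → g * d * g⁻¹ ∈ zpowers d ∧ Invt g (cV V d)) ∧
      (∀ g, g * a = a * g → Odd (orderOf g) → g * d = d * g) ∧
      ∀ f ∈ fittingSubgroup K, ∃ y ∈ zpowers d, ∃ c ∈ fittingSubgroup K,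
        c * a = a * c ∧ f = y * c := by
  have hV := hr.expo
  have h16 : ∀ d ∈ fittingSubgroup K, d ≠ 1 → a * d * a⁻¹ = d⁻¹ →
      Nat.card (cV V d) = 16 ∧ (cV V d).map (cm V a) = cV V a ∧
        cV V a ⊔ d • cV V a = cV V d := fun d hd h1 hinv =>
    (hr.cmp_or_sixteen ha hP hd h1 hinv).resolve_left fun h0 => hn d h0 hinv
  have hodd : ∀ x ∈ invF a, Odd (orderOf x) := fun x hx => hr.odd_of_mem (invF_le a hx)
  -- a subgroup containing all `[V, d]` contains `[V, x]` for `x ∈ [F, a]`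
  have hgen : ∀ W : Subgroup V, (∀ d ∈ fittingSubgroup K, d ≠ 1 → a * d * a⁻¹ = d⁻¹ →
      cV V d ≤ W) → ∀ x ∈ invF a, cV V x ≤ W := by
    intro W hW x hx
    induction hx using closure_induction with
    | mem x hx =>
      by_cases h1 : x = 1
      · rw [h1, cV_one]; exact bot_le
      · exact hW x hx.1 h1 hx.2
    | one => rw [cV_one]; exact bot_le
    | mul x y _ _ hx hy => exact (cV_mul_le _ _).trans (sup_le hx hy)
    | inv x _ hx => rwa [cV_inv]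
  have hfix : ∀ c ∈ fittingSubgroup K, c * a = a * c → ∀ d ∈ fittingSubgroup K, d ≠ 1 →
      a * d * a⁻¹ = d⁻¹ → d * c = c * d → cV V d ≤ fx V c := by
    intro c hcF hca d hd h1 hinv hdc
    rw [← (h16 d hd h1 hinv).2.2]
    refine sup_le (hc c hcF hca) fun x hx => ?_
    have := inv_fx_of_comm (V := V) hdc _ (hc c hcF hca (mem_smul_iff.1 hx))
    rwa [smul_inv_smul] at this
  -- a central element `d₀` of `[F, a]` inverted by `a`
  obtain ⟨d₁, hd₁, hd₁1, -, hinv₁⟩ := hr.exists_inverted ha ha1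
  have : Nontrivial (invF a) :=
    nontrivial_of_ne ⟨d₁, mem_invF hd₁ hinv₁⟩ 1 fun h0 => hd₁1 (congrArg Subtype.val h0)
  have : Group.IsNilpotent (invF a) := Solv.isNilpotent_of_le_fitting (invF_le a)
  obtain ⟨z, hz, hz1⟩ : ∃ z ∈ center (invF a), z ≠ 1 := by
    by_contra h0
    push Not at h0
    exact Group.IsNilpotent.center_ne_bot _ (eq_bot_iff.2 h0)
  have hzc : (z : K) ∈ invF a ⊓ centralizer (invF a : Set K) :=
    ⟨z.2, mem_centralizer_iff.2 fun x hx =>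
      congrArg Subtype.val (mem_center_iff.1 hz ⟨x, hx⟩)⟩
  obtain ⟨d, hd, c, hcz, hinv, hca, hzeq⟩ := Ngrp.exists_inv_mul_comm
    (L := invF a ⊓ centralizer (invF a : Set K)) (fun x hx => hodd x hx.1) ha (fun x hx => by
      refine ⟨conj_mem_invF rfl hx.1, mem_centralizer_iff.2 fun y hy => ?_⟩
      have h1 := mem_centralizer_iff.1 hx.2 _ (conj_mem_invF (g := a⁻¹) (by group) hy)
      calc y * (a * x * a⁻¹) = a * (a⁻¹ * y * a⁻¹⁻¹ * x) * a⁻¹ := by group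
        _ = a * x * a⁻¹ * y := by rw [h1]; group) hzc
  have hc1 : c = 1 := hr.eq_one_of_odd (hodd c hcz.1) (hgen _ (fun e he h1 hi =>
    hfix c (invF_le a hcz.1) hca e he h1 hi
      (mem_centralizer_iff.1 hcz.2 e (mem_invF he hi))) c hcz.1)
  have hd1 : d ≠ 1 := fun h0 => hz1 (Subtype.ext (by rw [hzeq, hc1, h0, mul_one]; rfl))
  have hdF := invF_le a hd.1
  obtain ⟨c16, cmap, csup⟩ := h16 d hdF hd1 hinv
  have hPW : cV V a ≤ cV V d := csup ▸ le_sup_left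
  have hWinv : ∀ x ∈ invF a, Invt x (cV V d) := fun x hx =>
    inv_cV_of_comm (mem_centralizer_iff.1 hd.2 x hx)
  have hle : ∀ e ∈ fittingSubgroup K, e ≠ 1 → a * e * a⁻¹ = e⁻¹ → cV V e ≤ cV V d := by
    intro e he h1 hi
    rw [← (h16 e he h1 hi).2.2]
    refine sup_le hPW ?_
    rw [← (hWinv e (mem_invF he hi)).smul_eq]
    exact pointwise_smul_le_pointwise_smul_iff.2 hPW
  have hall : ∀ x ∈ invF a, a * x * a⁻¹ = x⁻¹ := by
    intro x hx
    obtain ⟨y, -, c, hcx, hy, hca, rfl⟩ := Ngrp.exists_inv_mul_comm hodd ha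
      (fun x hx => conj_mem_invF rfl hx) hx
    have : c = 1 := hr.eq_one_of_odd (hodd c hcx) ((hgen _ hle c hcx).trans
      (hfix c (invF_le a hcx) hca d hdF hd1 hinv (mem_centralizer_iff.1 hd.2 c hcx).symm))
    rw [this, mul_one]; exact hy
  have hP4 : Nat.card (cV V a) = 4 := by
    have := rm2_cV_card hV ha (hodd d hd.1) hinv
    rw [c16, cmap] at this
    nlinarith
  have hcount := rm7_count hodd hall hWinv (fun x hx h1 => by
    have e1 : cV V x = cV V d := eq_of_le_of_card_le (hle x (invF_le a hx) h1 (hall x hx))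
      (by rw [c16, (h16 x (invF_le a hx) h1 (hall x hx)).1])
    rw [← e1]; exact cV_inf_fx hV (hodd x hx))
  rw [rm2_cV_inf_fx hV ha (hodd d hd.1) hinv, cmap, hP4, c16] at hcount
  have hoc : Odd (Nat.card (invF a)) := hr.odd_card.of_dvd_nat (card_dvd_of_le (invF_le a))
  have hdv : orderOf d ∣ Nat.card (invF a) := orderOf_dvd_natCard _ hd.1
  have hgt : 1 < Nat.card (invF a) := Finite.one_lt_card
  have ho1 : orderOf d ≠ 1 := fun h0 => hd1 (orderOf_eq_one_iff.1 h0)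
  have h35 : Nat.card (invF a) = 3 ∨ Nat.card (invF a) = 5 := by
    obtain ⟨m, hm⟩ := hoc
    omega
  have hoeq : orderOf d = Nat.card (invF a) := by
    rcases h35 with h0 | h0 <;> rw [h0] at hdv ⊢
    · exact ((Nat.dvd_prime Nat.prime_three).1 hdv).resolve_left ho1
    · exact ((Nat.dvd_prime Nat.prime_five).1 hdv).resolve_left ho1
  have hzp : invF a = zpowers d :=
    (Subgroup.eq_of_le_of_card_ge (zpowers_le.2 hd.1) (by rw [Nat.card_zpowers, hoeq])).symm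
  have ho35 : orderOf d = 3 ∨ orderOf d = 5 := by rw [hoeq]; exact h35
  have hnorm : ∀ g, g * a = a * g → g * d * g⁻¹ ∈ zpowers d := fun g hg =>
    hzp ▸ conj_mem_invF hg hd.1
  refine ⟨d, hdF, ho35, hinv, hzp, hP4, c16, csup, fun g hg => ⟨hnorm g hg, ?_⟩,
    fun g hg ho => comm_of_odd_of_conj_mem ho35 ho (hnorm g hg), fun f hf => ?_⟩
  · apply Invt.of_smul_eq
    rw [← cV_conj]
    exact eq_of_le_of_card_le (cV_le_of_mem_zpowers (hnorm g hg)) (by rw [cV_conj, card_smul])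
  · obtain ⟨y, hy, c, hcF, hi, hca, rfl⟩ := hr.exists_inv_mul_comm ha hf
    exact ⟨y, hzp ▸ mem_invF hy hi, c, hcF, hca, rfl⟩

omit [Finite V] in
/-- If `F = ⟨d⟩` then `|K|` divides `|d| φ(|d|)`. -/
theorem card_dvd_of_fitting_eq {d : K} (hd : fittingSubgroup K = zpowers d) :
    Nat.card K ∣ orderOf d * (orderOf d).totient := by
  have hs := hr.solv
  have hcyc : IsCyclic (fittingSubgroup K) := hd ▸ inferInstance
  have hcard : Nat.card (fittingSubgroup K) = orderOf d := by rw [hd, Nat.card_zpowers]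
  let φ : K →* MulAut (fittingSubgroup K) := MulAut.conjNormal
  have h1 : φ.ker ≤ fittingSubgroup K := fun g hg => by
    refine hr.mem_of_comm fun x hx => ?_
    have := congrArg Subtype.val (DFunLike.congr_fun (MonoidHom.mem_ker.1 hg) ⟨x, hx⟩)
    simp only [φ, MulAut.conjNormal_apply, MulAut.one_apply] at this
    exact (mul_inv_eq_iff_eq_mul.1 this).symm
  rw [← φ.ker.card_mul_index, index_ker, ← hcard, ← IsCyclic.card_mulAut]
  exact Nat.mul_dvd_mul (card_dvd_of_le h1) (card_subgroup_dvd_card _)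

end Red

end RM7

end Cfsg.Lib.Ngrp
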