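import Cfsg.Agent.Ngrp.AmDual
import Cfsg.Agent.Ngrp.AmGeo4
import Cfsg.Agent.Ngrp.AmMod4

/-! Lemma A of the critical distance argument. -/

set_option autoImplicit false

namespace Cfsg.Lib.Ngrp.Geo
open Subgroup Cfsg.Lib.Trans Cfsg.Lib.Local Cfsg.Lib.Local.JC Cfsg.Lib.Trans.TJ
open scoped commutatorElement

variable {G : Type*} [Group G] [Finite G]

theorem bar_comm {p c u : G} (hc : c ∈ Cz p) (hu : u ∈ UU p) :
    bar p ⁅c, u⁆ = cm (VV p) (star p c) (bar p u) := (cm_star hc hu).symm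

theorem exists_comm_of_mem_cV {p c : G} (hc : c ∈ Cz p) {x : VV p}
    (hx : x ∈ cV (VV p) (star p c)) : ∃ u ∈ UU p, bar p ⁅c, u⁆ = x := by
  obtain ⟨v, rfl⟩ := hx
  obtain ⟨u, hu, rfl⟩ := exists_bar v
  exact ⟨u, hu, bar_comm hc hu⟩

theorem Pt.mem_Cz_of_fx {p d u : G} (hp : Pt p) (hd : d ∈ Cz p) (ho : Odd (orderOf d))
    (hu : u ∈ UU p) (h : bar p u ∈ fx (VV p) (star p d)) : d ∈ Cz u :=
  hp.mem_Cz_of_odd ho hd ((bar_mem_fx hd hu).1 h)

theorem star_sq {p a : G} (ha : a ∈ Cz p) (h : a * a = 1) : star p a * star p a = 1 := by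
  rw [← star_mul ha ha, h, star_one]

theorem inverts_mem_XX {p a d : G} (ha : a ∈ Cz p) (hd : d ∈ Cz p)
    (h : star p a * star p d * (star p a)⁻¹ = (star p d)⁻¹) : a * d * a⁻¹ * d ∈ XX p := by
  have h1 : a * d * a⁻¹ ∈ Cz p := mul_mem (mul_mem ha hd) (inv_mem ha)
  rw [← star_eq_one (mul_mem h1 hd), star_mul h1 hd, star_conj ha hd, h, inv_mul_cancel]

/-- If there is only one component, the points over its module are collinear with `z`. -/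
theorem Pt.col_of_unique {z y : G} (hz : Pt z) (hy : Pt y) (hne : y ≠ z) (hu : y ∈ UU z)
    {δ : KK z} (hδ : Cmp (VV z) δ) (hm : bar z y ∈ cV (VV z) δ)
    (hun : ∀ e, Cmp (VV z) e → SameD δ e) : Col z y := by
  have h1 : bar z y ≠ 1 := fun e => ((hz.bar_eq_one hu).1 e).elim hy.ne hne
  refine hz.col_of_odd hy hne hu ?_
  have h2 : MulAction.orbit (KK z) (bar z y) = (cV (VV z) δ : Set (VV z)) \ {1} := by
    ext x
    refine ⟨?_, fun hx => ?_⟩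
    · rintro ⟨g, rfl⟩
      exact ⟨hδ.invt_of_unique hun g _ hm, smul_ne_one' g h1⟩
    · rcases four_trans VV_sq hδ.card (inv_cV_self δ) (hδ.fpf (red z)) hm h1 hx.1 hx.2 with
        e | e | e
      exacts [⟨1, by simp [e]⟩, ⟨δ, e.symm⟩, ⟨δ⁻¹, e.symm⟩]
  rw [MulAction.index_stabilizer, h2, Set.ncard_sdiff_singleton_of_mem (one_mem _),
    show (cV (VV z) δ : Set (VV z)).ncard = 4 from hδ.card]
  decide

/-- The data of Lemma A. -/
theorem CP.exists_LA {β : ℕ} {y z : G} (h : CP β y z) {δ : KK z} (hδ : Cmp (VV z) δ)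
    (hy : y ∈ pre z (cV (VV z) δ))
    (h1 : ∀ w ∈ pre z (cV (VV z) δ), ∀ a ∈ UU y, ⁅w, a⁆ ∈ zpowers y)
    (h2 : ∃ w ∈ pre z (cV (VV z) δ), ∃ a ∈ UU y, ⁅w, a⁆ ≠ 1) :
    ∃ d ∈ Cz z, ∃ a, star z d = δ ∧ a * d * a⁻¹ = d⁻¹ ∧ LA y (d * y * d⁻¹) d a := by
  obtain ⟨w, hw, a, ha, h2⟩ := h2
  obtain ⟨hyU, hy1⟩ := mem_pre.1 hy
  obtain ⟨hwU, hw1⟩ := mem_pre.1 hw
  have hr := red z
  have hb : bar z y ≠ 1 := fun e => h.not_mem_zpowers ((bar_eq_one hyU).1 e)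
  have haz := h.le_Cz ha
  have hfix : star z a • bar z y = bar z y := by
    rw [star_smul haz hyU, Cz_conj (UU_le_Cz y ha)]
  have hel := fun x => four_elems_smul (x := x) VV_sq hδ.card (inv_cV_self δ) (hδ.fpf hr) hy1 hb
  have hmove : star z a • (δ • bar z y) ≠ δ • bar z y := fun e => by
    have h3 : star z a • bar z w = bar z w := by
      rcases (hel _).1 hw1 with e' | e' | e' | e' <;> rw [e']
      exacts [smul_one _, hfix, e, by rw [smul_mul', hfix, e]]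
    have h4 := (star_smul_eq_iff haz hwU).1 h3
    have h5 := inv_mem (h1 w hw a ha)
    rw [commutatorElement_inv] at h5
    have h6 : ⁅a, w⁆ ∈ zpowers y ⊓ zpowers z := ⟨h5, h4⟩
    rw [h.zpowers_inf, mem_bot] at h6
    exact h2 (by rw [← commutatorElement_inv, h6, inv_one])
  have hinv : star z a * δ * (star z a)⁻¹ = δ⁻¹ :=
    (hδ.sameD_conj_of_fix hr hy1 hb hfix).resolve_left fun e => hmove (by
      rw [← mul_smul, mul_inv_eq_iff_eq_mul.1 e, mul_smul, hfix])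
  obtain ⟨d, hd, od, inv, rfl, gen⟩ := star_lift haz (ea_sq h.ea ha) (hδ.odd hr) hinv
  have hW : ∀ g ∈ Cz z, Invt (star z g) (cV (VV z) (star z d)) →
      g * y * g⁻¹ ∈ pre z (cV (VV z) (star z d)) := fun g hg hi =>
    mem_pre.2 ⟨conj_mem_UU_of_mem hg hyU, star_smul hg hyU ▸ hi _ hy1⟩
  have hc : ∀ w ∈ pre z (cV (VV z) (star z d)), ∀ a ∈ UU y, ⁅a, w⁆ ∈ zpowers y :=
    fun w hw a ha => by rw [← commutatorElement_inv]; exact inv_mem (h1 w hw a ha)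
  have hy' := hW d hd (inv_cV_self _)
  have hdual : Dual y (d * y * d⁻¹) := by
    refine ⟨h.pt, h.pt.conj d, h.ea, h.ea_of_pt (h.pt.conj d),
      mem_Cz.2 (ea_comm' h.ea' (pre_le_UU hy') hyU), hc _ hy', fun b hb => ?_⟩
    rw [← cj_UU, mem_cj] at hb
    have h3 := hc _ (hW d⁻¹ (inv_mem hd) (by rw [star_inv hd]; exact (inv_cV_self _).inv)) _ hb
    rw [← cj_zpowers, mem_cj]
    convert h3 using 1
    simp only [commutatorElement_def]; group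
  refine ⟨d, hd, a, rfl, inv, rfl, hdual, od, ha, gen, ?_, ?_⟩
  · refine (h.pt.mem_zpowers.1 (hc _ hy' a ha)).resolve_left fun e => hmove ?_
    rw [star_smul hd hyU, star_smul_eq_iff haz (pre_le_UU hy'), e]
    exact one_mem _
  · have h3 := four_smul_smul VV_sq hδ.card (inv_cV_self _) (hδ.fpf hr) hy1
    have hU := pre_le_UU hy'
    rw [star_smul hd hyU, star_smul hd hU, ← bar_mul hyU hU,
      h.pt'.bar_eq_bar (conj_mem_UU_of_mem hd hU) (mul_mem hyU hU)] at h3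
    rw [cj_inf, cj_UU, cj_Cz]
    ext b
    refine and_congr_right fun hb => ?_
    have h4 : d * y * d⁻¹ ∈ Cz b := Cz_symm (UU_le_Cz _ hb)
    have h5 : z ∈ Cz b := Cz_symm ((h.conj_of_mem hd).le_Cz hb)
    have h6 : d * (d * y * d⁻¹) * d⁻¹ ∈ Cz b ↔ y ∈ Cz b := by
      rcases h3 with e | e <;> rw [e]
      · exact mul_mem_cancel_right h4
      · rw [mul_mem_cancel_left h5, mul_mem_cancel_right h4]
    exact ⟨fun e => Cz_symm (h6.1 (Cz_symm e)), fun e => Cz_symm (h6.2 (Cz_symm e))⟩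

theorem inverts_of_mem_zpowers {K : Type*} [Group K] {b d x : K} (h : b * d * b⁻¹ = d⁻¹)
    (hx : x ∈ zpowers d) : b * x * b⁻¹ = x⁻¹ := by
  obtain ⟨n, rfl⟩ := hx
  simp only [← conj_zpow, h, inv_zpow]

theorem inverts_mul {K : Type*} [Group K] {b d x : K} (h : b * d * b⁻¹ = d⁻¹)
    (h' : b * x * b⁻¹ = x⁻¹) (hc : d * x = x * d) : b * (d * x) * b⁻¹ = (d * x)⁻¹ := by
  rw [show b * (d * x) * b⁻¹ = b * d * b⁻¹ * (b * x * b⁻¹) by group, h, h', hc, mul_inv_rev]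

theorem eq_one_of_inverts_of_norm {K : Type*} [Group K] {B : Subgroup K} (hB : ∀ b ∈ B, b * b = 1)
    {b g : K} (hb : b ∈ B) (hg : g * b * g⁻¹ ∈ B) (ho : Odd (orderOf g))
    (hi : b * g * b⁻¹ = g⁻¹) : g = 1 := by
  have h1 : g * g ∈ B := by
    have := mul_mem hg (inv_mem hb)
    rwa [show g * b * g⁻¹ * b⁻¹ = g * (b * g * b⁻¹)⁻¹ by group, hi, inv_inv] at this
  exact eq_one_of_odd_of_eq_inv ho (eq_inv_of_mul_eq_one_left (hB _ (mem_of_sq_mem ho h1)))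

theorem eq_one_of_odd_of_two {K : Type*} [Group K] {P : Subgroup K} (hP : IsPGroup 2 P) {g : K}
    (hg : g ∈ P) (ho : Odd (orderOf g)) : g = 1 := by
  obtain ⟨n, hn⟩ := hP ⟨g, hg⟩
  exact orderOf_eq_one_iff.1 (((Nat.coprime_two_right.2 ho).pow_right n).eq_one_of_dvd
    (orderOf_dvd_of_pow_eq_one (congrArg Subtype.val hn)))

theorem LA.card_cases {y y' d a : G} (h : LA y y' d a) (inv : a * d * a⁻¹ = d⁻¹)
    (hB : ¬ A1 y' y ≤ XX y) : Nat.card (UU y) ≤ 16 ∨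
      (Nat.card (UU y) = 32 ∧ ∀ g ∈ Cz y, g ∈ Cz y' → Odd (orderOf g) → g ∈ XX y) := by
  have hr := red y
  have hp := h.dual.pt
  have hsq : ∀ b ∈ imgK y (A1 y' y), b * b = 1 := fun b hb => by
    obtain ⟨c, hc, hc', rfl⟩ := mem_imgK.1 hb
    exact star_sq hc' (ea_sq h.dual.ea' hc.1)
  obtain ⟨k, α, e, hF⟩ := hr.exists_frame' hsq
  have hk : 1 ≤ k := Nat.pos_of_ne_zero fun h0 => hB fun b hb => by
    have h1 := hF.card
    rw [h0, pow_zero, card_eq_one] at h1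
    exact (star_eq_one hb.2).1 (mem_bot.1 (h1 ▸ star_mem_imgK hb hb.2))
  have hV0 : ∀ {x : G}, x ∈ UU y → (bar y x ∈ img y (A1 y y') ↔ x ∈ A1 y y') :=
    fun hx => hp.bar_mem_img_iff h.dual.mem_A1 hx
  have hv : bar y a ∉ img y (A1 y y') := fun e => h.not_mem ((hV0 h.mem).1 e).2
  have hN : NQ (imgK y (A1 y' y)) (img y (A1 y y')) (img y (UU y ⊓ UU y')) (bar y a) := by
    refine ⟨index_eq_two_iff_exists_notMem_and.2 ⟨_, hv, fun x => ?_⟩, img_mono (inf_le_A1 y y'), hv,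
      fun b hb x hx => ?_, fun b hb x hx => ?_, fun b hb x hx => ?_, fun b hb h1 => ?_,
      fun x hx => ?_⟩
    · obtain ⟨u, hu, rfl⟩ := exists_bar x
      rw [← bar_mul hu h.mem, hV0 hu, hV0 (mul_mem hu h.mem)]
      exact (h.mem_or hu).symm
    · obtain ⟨c, hc, hc', rfl⟩ := mem_imgK.1 hb
      obtain ⟨u, hu, rfl⟩ := exists_comm_of_mem_cV hc' hx
      exact bar_mem_img (h.dual.comm_mem hc hu) (comm_mem_UU_of_Cz hc' hu)
    · obtain ⟨c, hc, hc', rfl⟩ := mem_imgK.1 hb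
      obtain ⟨u, hu, hu', rfl⟩ := mem_img.1 hx
      rw [← bar_comm hc' hu']
      exact bar_mem_img (h.dual.comm_mem_E hc hu) (comm_mem_UU_of_Cz hc' hu')
    · obtain ⟨c, hc, hc', rfl⟩ := mem_imgK.1 hb
      obtain ⟨u, hu, hu', rfl⟩ := mem_img.1 hx
      rw [bar_mem_fx hc' hu',
        commutatorElement_eq_one_iff_mul_comm.2 (ea_comm' h.dual.ea' hc.1 hu.2)]
      exact one_mem _
    · obtain ⟨c, hc, hc', rfl⟩ := mem_imgK.1 hb
      rw [← bar_comm hc' h.mem] at h1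
      obtain ⟨u, hu, hu', h2⟩ := mem_img.1 h1
      have h3 := comm_mem_UU_of_Cz hc' h.mem
      rw [star_eq_one hc', h.mem_XX_iff hc]
      rcases (hp.bar_eq_bar hu' h3).1 h2 with e | e
      · exact Or.inl (h.mem_E_of_comm hc (by rw [← commutatorElement_inv, ← e]; exact inv_mem hu))
      · refine Or.inr (h.mem_E_of_comm (mul_mem hc h.dual.symm.mem_A1) ?_)
        rw [show ⁅a, c * y'⁆ = ⁅c, a⁆⁻¹ * (c * ⁅a, y'⁆ * c⁻¹) by
          simp only [commutatorElement_def]; group, h.act, Cz_conj hc']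
        have := inv_mem hu
        rwa [e, mul_inv_rev, hp.inv] at this
    · obtain ⟨u, hu, hu', rfl⟩ := mem_img.1 hx
      obtain ⟨b, hb, h1⟩ := h.exists_comm hu
      refine ⟨_, star_mem_imgK hb hb.2, ?_⟩
      rw [← bar_comm hb.2 h.mem, mul_comm, VV_inv, ← bar_inv' hu',
        ← bar_mul (comm_mem_UU_of_Cz hb.2 h.mem) (inv_mem hu')]
      exact bar_mem_img h1 h1.1
  have h1 := hN.not_le hr hF ⟨0, hk⟩
  have h2 := hN.card_E_le hr hF ⟨0, hk⟩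
  have hk2 := hN.le_two hr hF
  obtain ⟨ε, hε, oε, hε'⟩ := exists_star_odd (hF.odd ⟨0, hk⟩)
  obtain ⟨b, hb, hb', hb''⟩ := mem_imgK.1 (hF.mem ⟨0, hk⟩)
  obtain ⟨x, hx, hx'⟩ := SetLike.not_le_iff_exists.1 h1
  obtain ⟨u, hu, rfl⟩ := exists_comm_of_mem_cV hε (hε' ▸ hx)
  have h3 : img y (UU y ⊓ UU y') ⊓ fx (VV y) (e ⟨0, hk⟩) = ⊥ := eq_bot_iff.2 fun x hx => by
    obtain ⟨c, hc, hc', rfl⟩ := mem_img.1 (inf1 hx)
    rw [h.eq_one hε oε hb (inverts_mem_XX hb' hε (by rw [hb'', hε', hF.inv])) hu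
      (fun e => hx' ((hV0 (comm_mem_UU_of_Cz hε hu)).2 ⟨comm_mem_UU_of_Cz hε hu, e⟩)) inv hc
      (hp.mem_Cz_of_fx hε oε hc' (hε' ▸ inf2 hx)), bar_one]
    exact one_mem _
  have h4 := hN.card_V VV_sq hsq
  rw [h3, card_bot] at h2
  rw [hF.card] at h4
  have h6 := hp.card_UU
  obtain rfl | rfl : k = 1 ∨ k = 2 := by omega
  · omega
  have h9 := hN.card_cV hr hF 0
  have h11 := card_le_card_group (cV (VV y) (e 0))
  refine Or.inr ⟨by omega, fun g hg hg' og => ?_⟩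
  obtain ⟨c1, c2, hn, -⟩ := hN.cmp_two hr hF
  obtain ⟨s, hs, t, ht, h12⟩ := c1.odd_mem_of_card_le hr c2 hn (by omega) (odd_orderOf_star hg og)
  obtain ⟨β, hβ, hβ'⟩ := hF.exists_inverting_all
  rw [← star_eq_one hg]
  refine eq_one_of_inverts_of_norm hsq hβ ?_ (odd_orderOf_star hg og) ?_
  · obtain ⟨c, hc, hc', rfl⟩ := mem_imgK.1 hβ
    have h13 : g * c * g⁻¹ ∈ Cz y := mul_mem (mul_mem hg hc') (inv_mem hg)
    rw [← star_conj hg hc']
    exact star_mem_imgK ⟨conj_mem_UU_of_mem hg' hc.1, h13⟩ h13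
  · rw [h12]
    refine inverts_mul (inverts_of_mem_zpowers (inverts_mul (hβ' 0) (hβ' 1) (hF.dd 0 1)) hs)
      (inverts_of_mem_zpowers (inverts_mul (hβ' 0) (by rw [← conj_inv, hβ' 1])
        (Commute.inv_right (hF.dd 0 1))) ht) ?_
    obtain ⟨m, rfl⟩ := hs
    obtain ⟨n, rfl⟩ := ht
    exact Commute.zpow_zpow (c2.comm hr c1) m n

/-- Lemma A for critical distance at least two. -/
theorem CP.lemA_false {β : ℕ} {y z : G} (h : CP β y z) (hβ : 2 ≤ β) {δ : KK z}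
    (hδ : Cmp (VV z) δ) (hy : y ∈ pre z (cV (VV z) δ))
    (h1 : ∀ w ∈ pre z (cV (VV z) δ), ∀ a ∈ UU y, ⁅w, a⁆ ∈ zpowers y)
    (h2 : ∃ w ∈ pre z (cV (VV z) δ), ∃ a ∈ UU y, ⁅w, a⁆ ≠ 1) : False := by
  obtain ⟨d, hd, a, rfl, inv, hL⟩ := h.exists_LA hδ hy h1 h2
  obtain ⟨hyU, hy1⟩ := mem_pre.1 hy
  have hr := red z
  by_cases hB : A1 (d * y * d⁻¹) y ≤ XX y
  · refine hδ.ne_one (star_of_mem ((h.pt.abU h.ea).nc hd fun q hq t ht => ?_))
    exact hL.comm_mem_UU hB hyU hd h.le_Cz (h.min.TT_le_UU (by omega : 1 + 0 < β) (h.pt'.near 0))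
      (Cz_le_normalizer_TT 1 z) (hq.near.UU_le ht)
  by_cases hun : ∀ e, Cmp (VV z) e → SameD (star z d) e
  · have := h.eq_one_of_col (h.pt'.col_of_unique h.pt h.ne hyU hδ hy1 hun).symm
    omega
  push Not at hun
  obtain ⟨δ', hδ', hn⟩ := hun
  have h3 := hδ.card_sup hr hδ' hn
  have h4 := card_le_card_group (cV (VV z) (star z d) ⊔ cV (VV z) δ')
  have h5 := h.pt'.card_UU
  have h6 := h.pt.card_UU_eq h.pt'
  rcases hL.card_cases inv hB with h7 | ⟨h7, h8⟩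
  · omega
  obtain ⟨q, hq⟩ := h.pt'.exists_col
  have hT : Thin G := by
    by_cases q1 : bar z q ∈ cV (VV z) (star z d)
    · exact (hq.r1 hδ q1).1
    by_cases q2 : bar z q ∈ cV (VV z) δ'
    · exact (hq.r1 hδ' q2).1
    refine (hq.r2 hδ hδ' hn ?_ q1 q2).1
    rw [eq_top_of_card_eq (cV (VV z) (star z d) ⊔ cV (VV z) (δ')) (by omega)]
    trivial
  obtain ⟨g, hg, og, rfl⟩ := exists_star_odd (hδ'.odd hr)
  have h9 := (hδ.sep hr hδ' hn).left
  have h10 := h8 g (h.pt'.mem_Cz_of_fx hg og hyU (h9 hy1))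
    (h.pt'.mem_Cz_of_fx hg og (conj_mem_UU_of_mem hd hyU)
      (h9 (star_smul hd hyU ▸ inv_cV_self _ _ hy1))) og
  exact hδ'.ne_one (by rw [eq_one_of_odd_of_two (hT.isPGroup_XX h.pt) h10 og, star_one])

/-- Lemma A. -/
theorem CP.lemA {β : ℕ} {y z : G} (h : CP β y z) {δ : KK z}
    (hδ : Cmp (VV z) δ) (hy : y ∈ pre z (cV (VV z) δ))
    (h1 : ∀ w ∈ pre z (cV (VV z) δ), ∀ a ∈ UU y, ⁅w, a⁆ ∈ zpowers y)
    (h2 : ∃ w ∈ pre z (cV (VV z) δ), ∃ a ∈ UU y, ⁅w, a⁆ ≠ 1) : Nat.card (UU z) = 8 := by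
  obtain rfl : β = 1 := by
    by_contra h3
    exact h.lemA_false (by have := h.pos; omega) hδ hy h1 h2
  exact ((h.col h).symm.r1 hδ (mem_pre.1 hy).2).2.2.1

end Cfsg.Lib.Ngrp.Geo
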