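import Mathlib
import Cfsg.Agent.Solv.NilpotentHall
import Cfsg.Agent.Solv.ThompsonDihedral
import Cfsg.Agent.Local.ProdCard

/-!
# Reduced modules, part 1: commutator maps, coprime decomposition, RM2
-/

set_option autoImplicit false

namespace Cfsg.Lib.Ngrp
open Subgroup
open scoped Pointwise

section Defs

variable {K : Type*} [Group K] (V : Type*) [CommGroup V] [MulDistribMulAction K V]

/-- The commutator map `v ↦ [v, g] = g • v * v⁻¹`. -/
def cm (g : K) : V →* V where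
  toFun v := g • v * v⁻¹
  map_one' := by simp
  map_mul' x y := by
    rw [smul_mul', mul_inv]
    exact mul_mul_mul_comm _ _ _ _

/-- `[V, g]`. -/
def cV (g : K) : Subgroup V := (cm V g).range

/-- `C_V(g)`. -/
def fx (g : K) : Subgroup V := (cm V g).ker

variable {V}

/-- `W` is invariant under `g`. -/
def Invt (g : K) (W : Subgroup V) : Prop := ∀ w ∈ W, g • w ∈ W

end Defs

/-- Reduced modules: `K` solvable with `O₂(K) = 1` acts faithfully on the elementary abelian
2-group `V`. -/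
structure Red (K V : Type*) [Group K] [CommGroup V] [MulDistribMulAction K V] : Prop where
  expo : ∀ v : V, v * v = 1
  faith : ∀ g : K, (∀ v : V, g • v = v) → g = 1
  solv : Group.IsSolvable K
  core : pCore 2 K = ⊥

section Card

variable {V : Type*} [CommGroup V]

theorem card_sup_mul_inf (A B : Subgroup V) :
    Nat.card ↥(A ⊔ B) * Nat.card ↥(A ⊓ B) = Nat.card A * Nat.card B :=
  Cfsg.Lib.Local.CD.card_sup_mul_card_inf_of_le_centralizer fun a _ =>
    mem_centralizer_iff.2 fun b _ => mul_comm b a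

theorem card_sup_of_inf_bot {A B : Subgroup V} (h : A ⊓ B = ⊥) :
    Nat.card ↥(A ⊔ B) = Nat.card A * Nat.card B := by
  have := card_sup_mul_inf A B
  rwa [h, card_bot, mul_one] at this

theorem card_map_mul_inf_ker {V' : Type*} [Group V'] (f : V →* V') (W : Subgroup V) :
    Nat.card (W.map f) * Nat.card ↥(W ⊓ f.ker) = Nat.card W := by
  have h1 := card_eq_card_quotient_mul_card_subgroup (f.comp W.subtype).ker
  rw [Nat.card_congr (QuotientGroup.quotientKerEquivRange (f.comp W.subtype)).toEquiv,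
    MonoidHom.range_comp, range_subtype, ← MonoidHom.comap_ker, comap_subtype] at h1
  rw [h1]
  congr 1
  rw [← inf_subgroupOf_left, Nat.card_congr (subgroupOfEquivOfLe inf_le_left).toEquiv]

theorem eq_of_le_of_card_le [Finite V] {A B : Subgroup V} (h : A ≤ B)
    (hc : Nat.card B ≤ Nat.card A) : A = B :=
  Subgroup.eq_of_le_of_card_ge h hc

theorem eq_bot_of_card_le_one [Finite V] {A : Subgroup V} (h : Nat.card A ≤ 1) : A = ⊥ :=
  eq_bot_of_card_le A h

theorem two_le_card_of_ne_bot [Finite V] {A : Subgroup V} (h : A ≠ ⊥) : 2 ≤ Nat.card A :=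
  one_lt_card_iff_ne_bot A |>.2 h

theorem inv_eq_self (hV : ∀ v : V, v * v = 1) (v : V) : v⁻¹ = v :=
  inv_eq_of_mul_eq_one_right (hV v)

theorem mem_zpowers_iff_of_expo (hV : ∀ v : V, v * v = 1) {u x : V} :
    x ∈ zpowers u ↔ x = 1 ∨ x = u := by
  constructor
  · rintro ⟨n, rfl⟩
    have h2 : u ^ (2 : ℤ) = 1 := by rw [zpow_two]; exact hV u
    rcases Int.even_or_odd' n with ⟨k, rfl | rfl⟩
    · left; simp only []; rw [zpow_mul, h2, one_zpow]
    · right; simp only []; rw [zpow_add, zpow_mul, h2, one_zpow, one_mul, zpow_one]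
  · rintro (rfl | rfl)
    · exact one_mem _
    · exact mem_zpowers _

theorem card_zpowers_of_expo (hV : ∀ v : V, v * v = 1) {u : V} (hu : u ≠ 1) :
    Nat.card (zpowers u) = 2 := by
  rw [Nat.card_zpowers]
  exact orderOf_eq_prime (by rw [pow_two]; exact hV u) hu

theorem card_zpowers_le_of_expo (hV : ∀ v : V, v * v = 1) (u : V) :
    Nat.card (zpowers u) ≤ 2 := by
  by_cases hu : u = 1
  · simp [hu]
  · exact (card_zpowers_of_expo hV hu).le

/-- A subgroup of order two is generated by its nontrivial element. -/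
theorem exists_eq_zpowers_of_card_two {A : Subgroup V} (h : Nat.card A = 2) :
    ∃ u : V, u ≠ 1 ∧ A = zpowers u := by
  have : Finite A := Nat.finite_of_card_ne_zero (by omega)
  have hne : A ≠ ⊥ := fun h0 => by rw [h0, card_bot] at h; omega
  obtain ⟨⟨u, hu⟩, hu1⟩ := (ne_bot_iff_exists_ne_one).1 hne
  have hu1' : u ≠ 1 := fun h0 => hu1 (Subtype.ext h0)
  refine ⟨u, hu1', ?_⟩
  have hle : zpowers u ≤ A := zpowers_le.2 hu
  have : Finite (zpowers u) := Finite.of_injective _ (inclusion_injective hle)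
  symm
  refine Subgroup.eq_of_le_of_card_ge hle ?_
  rw [h]
  exact (one_lt_card_iff_ne_bot _).2 (zpowers_ne_bot.2 hu1')

theorem eq_of_card_le_two [Finite V] {A : Subgroup V} (h : Nat.card A ≤ 2) {x y : V} (hx : x ∈ A)
    (hy : y ∈ A) (hx1 : x ≠ 1) (hy1 : y ≠ 1) : x = y := by
  classical
  by_contra hne
  have : Fintype A := Fintype.ofFinite A
  have h3 : ({(1 : A), ⟨x, hx⟩, ⟨y, hy⟩} : Finset A).card = 3 := by
    rw [Finset.card_eq_three]
    refine ⟨1, ⟨x, hx⟩, ⟨y, hy⟩, ?_, ?_, ?_, rfl⟩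
    · exact fun h => hx1 (congrArg Subtype.val h).symm
    · exact fun h => hy1 (congrArg Subtype.val h).symm
    · exact fun h => hne (congrArg Subtype.val h)
  have := Finset.card_le_univ ({(1 : A), ⟨x, hx⟩, ⟨y, hy⟩} : Finset A)
  rw [Nat.card_eq_fintype_card] at h
  omega

/-- The order of a subgroup of an elementary abelian 2-group is a power of two. -/
theorem exists_card_eq_two_pow [Finite V] (hV : ∀ v : V, v * v = 1) (A : Subgroup V) :
    ∃ n : ℕ, Nat.card A = 2 ^ n :=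
  IsPGroup.iff_card.1 fun a => ⟨1, Subtype.ext (by simpa [pow_two] using hV a)⟩

/-- The elements of a four-group. -/
theorem four_elems [Finite V] (hV : ∀ v : V, v * v = 1) {W : Subgroup V} (h : Nat.card W = 4)
    {u w : V} (hu : u ∈ W) (hw : w ∈ W) (hu1 : u ≠ 1) (hw1 : w ≠ 1) (huw : u ≠ w) {x : V} :
    x ∈ W ↔ x = 1 ∨ x = u ∨ x = w ∨ x = u * w := by
  have h1 : zpowers u ⊓ zpowers w = ⊥ := by
    rw [eq_bot_iff]
    intro x hx
    rcases (mem_zpowers_iff_of_expo hV).1 hx.1 with h | h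
    · exact h
    · rcases (mem_zpowers_iff_of_expo hV).1 hx.2 with h' | h'
      · exact h'
      · exact absurd (h.symm.trans h') huw
  have h2 : zpowers u ⊔ zpowers w = W := by
    apply eq_of_le_of_card_le (sup_le (zpowers_le.2 hu) (zpowers_le.2 hw))
    rw [card_sup_of_inf_bot h1, card_zpowers_of_expo hV hu1, card_zpowers_of_expo hV hw1, h]
  constructor
  · intro hx
    rw [← h2, mem_sup] at hx
    obtain ⟨y, hy, z, hz, rfl⟩ := hx
    rcases (mem_zpowers_iff_of_expo hV).1 hy with rfl | rfl <;>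
      rcases (mem_zpowers_iff_of_expo hV).1 hz with rfl | rfl <;> simp
  · rintro (rfl | rfl | rfl | rfl)
    · exact one_mem _
    · exact hu
    · exact hw
    · exact mul_mem hu hw

end Card

section Basic

variable {K V : Type*} [Group K] [CommGroup V] [MulDistribMulAction K V]

theorem cm_apply (g : K) (v : V) : cm V g v = g • v * v⁻¹ := rfl

theorem mem_fx {g : K} {v : V} : v ∈ fx V g ↔ g • v = v := by
  rw [fx, MonoidHom.mem_ker, cm_apply, mul_inv_eq_one]

theorem mem_cV {g : K} {x : V} : x ∈ cV V g ↔ ∃ v : V, g • v * v⁻¹ = x := Iff.rfl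

theorem cm_mem_cV (g : K) (v : V) : cm V g v ∈ cV V g := ⟨v, rfl⟩

theorem smul_eq_cm_mul (g : K) (v : V) : g • v = cm V g v * v := by
  rw [cm_apply, inv_mul_cancel_right]

theorem cm_eq_one_iff {g : K} {v : V} : cm V g v = 1 ↔ g • v = v := by
  rw [cm_apply, mul_inv_eq_one]

theorem cV_eq_map (g : K) : cV V g = (⊤ : Subgroup V).map (cm V g) :=
  MonoidHom.range_eq_map _

theorem map_cm_le_cV (g : K) (W : Subgroup V) : W.map (cm V g) ≤ cV V g := map_le_range _ _

theorem card_cV_mul_fx (g : K) : Nat.card (cV V g) * Nat.card (fx V g) = Nat.card V := by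
  have := card_map_mul_inf_ker (cm V g) ⊤
  rwa [← cV_eq_map, top_inf_eq, card_top] at this

theorem card_map_cm_mul (g : K) (W : Subgroup V) :
    Nat.card (W.map (cm V g)) * Nat.card ↥(W ⊓ fx V g) = Nat.card W :=
  card_map_mul_inf_ker (cm V g) W

theorem index_fx (g : K) : (fx V g).index = Nat.card (cV V g) := index_ker _

theorem smul_cm (h g : K) (v : V) : h • cm V g v = cm V (h * g * h⁻¹) (h • v) := by
  simp [cm_apply, smul_mul', mul_smul]

theorem smul_cm_of_comm {h g : K} (hc : h * g = g * h) (v : V) :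
    h • cm V g v = cm V g (h • v) := by
  rw [smul_cm, hc, mul_inv_cancel_right]

theorem cm_cm_comm {h g : K} (hc : h * g = g * h) (v : V) :
    cm V h (cm V g v) = cm V g (cm V h v) := by
  rw [cm_apply h, smul_cm_of_comm hc, ← map_inv, ← map_mul]; rfl

theorem cm_mul (g h : K) (v : V) : cm V (g * h) v = cm V g (h • v) * cm V h v := by
  simp [cm_apply, mul_smul, mul_assoc]

theorem cm_mul' (g h : K) (v : V) : cm V (g * h) v = g • cm V h v * cm V g v := by
  simp [cm_apply, mul_smul, smul_mul', mul_assoc]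

theorem cm_inv (g : K) (v : V) : cm V g⁻¹ v = (cm V g (g⁻¹ • v))⁻¹ := by
  simp [cm_apply]

theorem cm_one (v : V) : cm V (1 : K) v = 1 := by simp [cm_apply]

theorem cV_inv (g : K) : cV V g⁻¹ = cV V g := by
  have key : ∀ g : K, cV V g⁻¹ ≤ cV V g := by
    rintro g _ ⟨v, rfl⟩
    rw [cm_inv]; exact inv_mem (cm_mem_cV _ _)
  exact le_antisymm (key g) (by simpa using key g⁻¹)

theorem fx_inv (g : K) : fx V g⁻¹ = fx V g := by
  ext v; rw [mem_fx, mem_fx, inv_smul_eq_iff, eq_comm]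

theorem cV_mul_le (g h : K) : cV V (g * h) ≤ cV V g ⊔ cV V h := by
  rintro _ ⟨v, rfl⟩
  rw [cm_mul]; exact mul_mem_sup (cm_mem_cV _ _) (cm_mem_cV _ _)

theorem fx_inf_le_mul (g h : K) : fx V g ⊓ fx V h ≤ fx V (g * h) := by
  intro v hv
  rw [mem_fx, mul_smul, mem_fx.1 hv.2, mem_fx.1 hv.1]

theorem cV_one : cV V (1 : K) = ⊥ := by
  rw [eq_bot_iff]; rintro _ ⟨v, rfl⟩; exact cm_one v

theorem fx_one : fx V (1 : K) = ⊤ := by
  rw [eq_top_iff]; intro v _; rw [mem_fx, one_smul]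

theorem cV_pow_le (g : K) (n : ℕ) : cV V (g ^ n) ≤ cV V g := by
  induction n with
  | zero => rw [pow_zero, cV_one]; exact bot_le
  | succ n ih => rw [pow_succ]; exact (cV_mul_le _ _).trans (sup_le ih le_rfl)

theorem fx_le_pow (g : K) (n : ℕ) : fx V g ≤ fx V (g ^ n) := by
  induction n with
  | zero => rw [pow_zero, fx_one]; exact le_top
  | succ n ih => rw [pow_succ]; exact (le_inf ih le_rfl).trans (fx_inf_le_mul _ _)

theorem cV_le_of_mem_zpowers [Finite K] {g x : K} (h : x ∈ zpowers g) : cV V x ≤ cV V g := by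
  obtain ⟨n, rfl⟩ := mem_powers_iff_mem_zpowers.2 h
  exact cV_pow_le g n

theorem fx_le_of_mem_zpowers [Finite K] {g x : K} (h : x ∈ zpowers g) : fx V g ≤ fx V x := by
  obtain ⟨n, rfl⟩ := mem_powers_iff_mem_zpowers.2 h
  exact fx_le_pow g n

theorem mem_smul_iff {g : K} {W : Subgroup V} {x : V} : x ∈ g • W ↔ g⁻¹ • x ∈ W :=
  mem_pointwise_smul_iff_inv_smul_mem

theorem smul_mem_smul (g : K) {W : Subgroup V} {x : V} (h : x ∈ W) : g • x ∈ g • W :=
  smul_mem_pointwise_smul x g W h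

theorem card_smul (g : K) (W : Subgroup V) : Nat.card ↥(g • W) = Nat.card W :=
  (Nat.card_congr (equivSMul g W).toEquiv).symm

theorem cV_conj (h g : K) : cV V (h * g * h⁻¹) = h • cV V g := by
  ext x
  rw [mem_smul_iff]
  constructor
  · rintro ⟨v, rfl⟩
    refine ⟨h⁻¹ • v, ?_⟩
    rw [smul_cm]; congr 2; group
  · rintro ⟨v, hv⟩
    refine ⟨h • v, ?_⟩
    rw [← smul_cm, hv, smul_inv_smul]

theorem fx_conj (h g : K) : fx V (h * g * h⁻¹) = h • fx V g := by
  ext x
  rw [mem_smul_iff, mem_fx, mem_fx, mul_smul, mul_smul, smul_eq_iff_eq_inv_smul]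

theorem map_cm_conj (h g : K) (W : Subgroup V) :
    (h • W).map (cm V (h * g * h⁻¹)) = h • W.map (cm V g) := by
  ext x
  rw [mem_smul_iff]
  constructor
  · rintro ⟨v, hv, rfl⟩
    refine ⟨h⁻¹ • v, mem_smul_iff.1 hv, ?_⟩
    rw [smul_cm]; congr 2; group
  · rintro ⟨v, hv, he⟩
    refine ⟨h • v, smul_mem_smul h hv, ?_⟩
    rw [← smul_cm, he, smul_inv_smul]

theorem cV_eq_bot_iff {g : K} : cV V g = ⊥ ↔ ∀ v : V, g • v = v := by
  rw [cV, MonoidHom.range_eq_bot_iff, MonoidHom.ext_iff]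
  exact forall_congr' fun v => cm_eq_one_iff

theorem map_cm_eq_bot_iff {g : K} {W : Subgroup V} : W.map (cm V g) = ⊥ ↔ W ≤ fx V g :=
  map_eq_bot_iff _

namespace Invt

variable {g h : K} {W W' : Subgroup V}

theorem one : Invt (1 : K) W := fun w hw => by rwa [one_smul]

theorem top : Invt g (⊤ : Subgroup V) := fun _ _ => mem_top _

theorem bot : Invt g (⊥ : Subgroup V) := fun w hw => by rw [mem_bot.1 hw, smul_one]; exact one_mem _

theorem mul (hg : Invt g W) (hh : Invt h W) : Invt (g * h) W := fun w hw => by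
  rw [mul_smul]; exact hg _ (hh _ hw)

theorem pow (hg : Invt g W) (n : ℕ) : Invt (g ^ n) W := by
  induction n with
  | zero => rw [pow_zero]; exact one
  | succ n ih => rw [pow_succ]; exact ih.mul hg

theorem smul_eq [Finite V] (hg : Invt g W) : g • W = W := by
  apply eq_of_le_of_card_le
  · intro x hx
    have := hg _ (mem_smul_iff.1 hx)
    rwa [smul_inv_smul] at this
  · rw [card_smul]

theorem of_smul_eq (hg : g • W = W) : Invt g W := fun w hw => by
  rw [← hg]; exact smul_mem_smul g hw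

theorem inv [Finite V] (hg : Invt g W) : Invt g⁻¹ W := fun w hw => by
  rw [← hg.smul_eq] at hw; exact mem_smul_iff.1 hw

theorem inf (h1 : Invt g W) (h2 : Invt g W') : Invt g (W ⊓ W') := fun w hw =>
  ⟨h1 w hw.1, h2 w hw.2⟩

theorem sup (h1 : Invt g W) (h2 : Invt g W') : Invt g (W ⊔ W') := fun w hw => by
  obtain ⟨x, hx, y, hy, rfl⟩ := mem_sup.1 hw
  rw [smul_mul']; exact mul_mem_sup (h1 x hx) (h2 y hy)

theorem cm_mem (hg : Invt g W) {w : V} (hw : w ∈ W) : cm V g w ∈ W :=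
  mul_mem (hg w hw) (inv_mem hw)

theorem map_le (hg : Invt g W) : W.map (cm V g) ≤ W := by
  rintro _ ⟨w, hw, rfl⟩; exact hg.cm_mem hw

theorem of_cV_le (hg : cV V g ≤ W) : Invt g W := fun w hw => by
  rw [smul_eq_cm_mul]; exact mul_mem (hg (cm_mem_cV _ _)) hw

theorem of_le_fx (hg : W ≤ fx V g) : Invt g W := fun w hw => by
  rw [mem_fx.1 (hg hw)]; exact hw

theorem of_map_le (hg : W.map (cm V g) ≤ W) : Invt g W := fun w hw => by
  rw [smul_eq_cm_mul]; exact mul_mem (hg ⟨w, hw, rfl⟩) hw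

theorem map_of_comm (hc : h * g = g * h) (hW : Invt h W) : Invt h (W.map (cm V g)) := by
  rintro _ ⟨w, hw, rfl⟩
  rw [smul_cm_of_comm hc]; exact ⟨_, hW w hw, rfl⟩

theorem of_mem_zpowers [Finite K] (hg : Invt g W) {x : K} (hx : x ∈ zpowers g) : Invt x W := by
  obtain ⟨n, rfl⟩ := mem_powers_iff_mem_zpowers.2 hx
  exact hg.pow n

theorem conj (hg : Invt g W) (h : K) : Invt (h * g * h⁻¹) (h • W) := fun w hw => by
  rw [mul_smul, mul_smul]; exact smul_mem_smul h (hg _ (mem_smul_iff.1 hw))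

end Invt

theorem inv_cV_self (g : K) : Invt g (cV V g) := Invt.of_cV_le le_rfl

theorem inv_fx_self (g : K) : Invt g (fx V g) := Invt.of_le_fx le_rfl

theorem inv_cV_of_comm {h g : K} (hc : h * g = g * h) : Invt h (cV V g) :=
  Invt.of_smul_eq (by rw [← cV_conj, hc, mul_inv_cancel_right])

theorem inv_fx_of_comm {h g : K} (hc : h * g = g * h) : Invt h (fx V g) :=
  Invt.of_smul_eq (by rw [← fx_conj, hc, mul_inv_cancel_right])

theorem inv_cV_of_inverts {h g : K} (hc : h * g * h⁻¹ = g⁻¹) : Invt h (cV V g) :=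
  Invt.of_smul_eq (by rw [← cV_conj, hc, cV_inv])

theorem inv_fx_of_inverts {h g : K} (hc : h * g * h⁻¹ = g⁻¹) : Invt h (fx V g) :=
  Invt.of_smul_eq (by rw [← fx_conj, hc, fx_inv])

theorem inv_cV_of_or {h g : K} (hc : h * g * h⁻¹ = g ∨ h * g * h⁻¹ = g⁻¹) : Invt h (cV V g) := by
  rcases hc with hc | hc
  · exact inv_cV_of_comm (mul_inv_eq_iff_eq_mul.1 hc)
  · exact inv_cV_of_inverts hc

theorem inv_fx_of_or {h g : K} (hc : h * g * h⁻¹ = g ∨ h * g * h⁻¹ = g⁻¹) : Invt h (fx V g) := by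
  rcases hc with hc | hc
  · exact inv_fx_of_comm (mul_inv_eq_iff_eq_mul.1 hc)
  · exact inv_fx_of_inverts hc

/-- An element of odd order fixes what its square fixes. -/
theorem smul_eq_of_sq {d : K} (hd : Odd (orderOf d)) {v : V} (h : d • d • v = v) : d • v = v := by
  obtain ⟨k, hk⟩ := hd
  have h1 : v ∈ fx V ((d * d) ^ k) := fx_le_pow _ k (mem_fx.2 (by rw [mul_smul, h]))
  have h2 : d * (d * d) ^ k = 1 := by
    rw [← pow_two, ← pow_mul, ← pow_succ', ← hk, pow_orderOf_eq_one]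
  calc d • v = d • (d * d) ^ k • v := by rw [mem_fx.1 h1]
    _ = v := by rw [← mul_smul, h2, one_smul]

theorem fx_sq {d : K} (hd : Odd (orderOf d)) : fx V (d * d) = fx V d := by
  ext v
  rw [mem_fx, mem_fx, mul_smul]
  exact ⟨smul_eq_of_sq hd, fun h => by rw [h, h]⟩

variable (hV : ∀ v : V, v * v = 1)
include hV

/-- `[v, a]` is fixed by `a` when `a² = 1`. -/
theorem cm_mem_fx_of_sq {a : K} (ha : a * a = 1) (v : V) : cm V a v ∈ fx V a := by
  rw [mem_fx, cm_apply, smul_mul', ← mul_smul, ha, one_smul, inv_eq_self hV, mul_comm]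

theorem cV_le_fx_of_sq {a : K} (ha : a * a = 1) : cV V a ≤ fx V a := by
  rintro _ ⟨v, rfl⟩; exact cm_mem_fx_of_sq hV ha v

/-- Coprime action: `[V, d] ∩ C_V(d) = 1`. -/
theorem cV_inf_fx {d : K} (hd : Odd (orderOf d)) : cV V d ⊓ fx V d = ⊥ := by
  rw [eq_bot_iff]
  rintro _ ⟨⟨v, rfl⟩, hx⟩
  have hx' : d • cm V d v = cm V d v := mem_fx.1 hx
  have h2 : d • d • v = v := by
    conv_lhs => rw [smul_eq_cm_mul d v, smul_mul', hx', smul_eq_cm_mul d v, ← mul_assoc, hV,
      one_mul]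
  rw [mem_bot, cm_eq_one_iff]
  exact smul_eq_of_sq hd h2

theorem eq_one_of_mem_cV_fx {d : K} (hd : Odd (orderOf d)) {x : V} (h1 : x ∈ cV V d)
    (h2 : x ∈ fx V d) : x = 1 := by
  have : x ∈ cV V d ⊓ fx V d := ⟨h1, h2⟩
  rwa [cV_inf_fx hV hd, mem_bot] at this

variable [Finite V]

/-- Coprime action on an invariant subgroup: `W = [W, d] C_W(d)`. -/
theorem map_cm_sup_inf_fx {d : K} (hd : Odd (orderOf d)) {W : Subgroup V} (hW : Invt d W) :
    W.map (cm V d) ⊔ W ⊓ fx V d = W := by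
  apply eq_of_le_of_card_le (sup_le hW.map_le inf_le_left)
  rw [card_sup_of_inf_bot, card_map_cm_mul]
  rw [eq_bot_iff, ← cV_inf_fx hV hd]
  exact inf_le_inf (map_cm_le_cV _ _) inf_le_right

theorem cV_sup_fx {d : K} (hd : Odd (orderOf d)) : cV V d ⊔ fx V d = ⊤ := by
  have := map_cm_sup_inf_fx hV hd (W := ⊤) Invt.top
  rwa [← cV_eq_map, top_inf_eq] at this

theorem isCompl_cV_fx {d : K} (hd : Odd (orderOf d)) : IsCompl (cV V d) (fx V d) :=
  ⟨disjoint_iff.2 (cV_inf_fx hV hd), codisjoint_iff.2 (cV_sup_fx hV hd)⟩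

theorem exists_dec {d : K} (hd : Odd (orderOf d)) (v : V) :
    ∃ w ∈ cV V d, ∃ c ∈ fx V d, v = w * c := by
  have : v ∈ cV V d ⊔ fx V d := by rw [cV_sup_fx hV hd]; exact mem_top v
  obtain ⟨w, hw, c, hc, rfl⟩ := mem_sup.1 this
  exact ⟨w, hw, c, hc, rfl⟩

theorem exists_dec_of_inv {d : K} (hd : Odd (orderOf d)) {W : Subgroup V} (hW : Invt d W) {v : V}
    (hv : v ∈ W) : ∃ w ∈ W ⊓ cV V d, ∃ c ∈ W ⊓ fx V d, v = w * c := by
  rw [← map_cm_sup_inf_fx hV hd hW] at hv
  obtain ⟨w, hw, c, hc, rfl⟩ := mem_sup.1 hv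
  exact ⟨w, ⟨hW.map_le hw, map_cm_le_cV _ _ hw⟩, c, hc, rfl⟩

omit hV in
/-- If `d` has no fixed point on the invariant subgroup `W` then `[W, d] = W`. -/
theorem map_cm_eq_of_inf_fx {d : K} {W : Subgroup V} (hW : Invt d W) (h : W ⊓ fx V d = ⊥) :
    W.map (cm V d) = W := by
  apply eq_of_le_of_card_le hW.map_le
  rw [← card_map_cm_mul d W, h, card_bot, mul_one]

omit hV in
theorem le_cV_of_inf_fx {d : K} {W : Subgroup V} (hW : Invt d W) (h : W ⊓ fx V d = ⊥) :
    W ≤ cV V d := by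
  rw [← map_cm_eq_of_inf_fx hW h]; exact map_cm_le_cV _ _

/-- `[V, d, d] = [V, d]`. -/
theorem map_cm_cV {d : K} (hd : Odd (orderOf d)) : (cV V d).map (cm V d) = cV V d :=
  map_cm_eq_of_inf_fx (inv_cV_self d) (cV_inf_fx hV hd)

/-- `[W, d] = W ∩ [V, d]` for invariant `W`. -/
theorem map_cm_eq_inf {d : K} (hd : Odd (orderOf d)) {W : Subgroup V} (hW : Invt d W) :
    W.map (cm V d) = W ⊓ cV V d := by
  refine le_antisymm (le_inf hW.map_le (map_cm_le_cV _ _)) ?_
  have h1 : Invt d (W ⊓ cV V d) := hW.inf (inv_cV_self d)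
  rw [← map_cm_eq_of_inf_fx h1]
  · exact map_mono inf_le_left
  · rw [eq_bot_iff, ← cV_inf_fx hV hd]
    exact inf_le_inf inf_le_right le_rfl

omit [Finite V] in
/-- An element of odd order acting quadratically on `W` centralises `W`. -/
theorem le_fx_of_map_le_fx {d : K} (hd : Odd (orderOf d)) {W : Subgroup V}
    (h : W.map (cm V d) ≤ fx V d) : W ≤ fx V d := by
  rw [← map_cm_eq_bot_iff, eq_bot_iff, ← cV_inf_fx hV hd]
  exact le_inf (map_cm_le_cV _ _) h

omit [Finite V] in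
theorem mem_fx_of_cm_mem_fx {d : K} (hd : Odd (orderOf d)) {v : V} (h : cm V d v ∈ fx V d) :
    v ∈ fx V d :=
  mem_fx.2 (cm_eq_one_iff.1 (eq_one_of_mem_cV_fx hV hd (cm_mem_cV _ _) h))

omit hV in
/-- An invariant subgroup of order at most two is centralised. -/
theorem le_fx_of_card_le_two {g : K} {W : Subgroup V} (hW : Invt g W) (h : Nat.card W ≤ 2) :
    W ≤ fx V g := by
  intro w hw
  rw [mem_fx]
  by_cases h1 : w = 1
  · rw [h1, smul_one]
  · refine eq_of_card_le_two h (hW w hw) hw ?_ h1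
    intro h2
    apply h1
    rw [← inv_smul_smul g w, h2, smul_one]

end Basic

section RM2

variable {K V : Type*} [Group K] [CommGroup V] [MulDistribMulAction K V]

/-- If `a` inverts `d` (odd order), what `a` and `a^d` fix is fixed by `d`. -/
theorem mem_fx_of_inverts {a d : K} (ha : a * a = 1) (hd : Odd (orderOf d))
    (hinv : a * d * a⁻¹ = d⁻¹) {v : V} (h1 : v ∈ fx V a) (h2 : v ∈ fx V (d * a * d⁻¹)) :
    v ∈ fx V d := by
  have hai : a⁻¹ = a := inv_eq_of_mul_eq_one_right ha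
  have h3 : d * a * d⁻¹ * a = d * d := by
    have : a * d⁻¹ * a = d := by
      rw [← hinv, hai]
      calc a * (a * d * a) * a = (a * a) * d * (a * a) := by group
        _ = d := by rw [ha, one_mul, mul_one]
    calc d * a * d⁻¹ * a = d * (a * d⁻¹ * a) := by group
      _ = d * d := by rw [this]
  rw [← fx_sq hd, ← h3]
  exact fx_inf_le_mul _ _ ⟨h2, h1⟩

/-- If `a` inverts `d` and centralises the `d`-invariant subgroup `W`, so does `d`. -/
theorem le_fx_of_inverts [Finite V] {a d : K} (ha : a * a = 1) (hd : Odd (orderOf d))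
    (hinv : a * d * a⁻¹ = d⁻¹) {W : Subgroup V} (hW : Invt d W) (h : W ≤ fx V a) :
    W ≤ fx V d := fun w hw => by
  refine mem_fx_of_inverts ha hd hinv (h hw) ?_
  rw [fx_conj, mem_smul_iff]
  exact h (hW.inv w hw)

variable [Finite V] (hV : ∀ v : V, v * v = 1) {a d : K} (ha : a * a = 1) (hd : Odd (orderOf d))
  (hinv : a * d * a⁻¹ = d⁻¹) {W : Subgroup V} (hWa : Invt a W) (hWd : Invt d W)
  (hW : W ⊓ fx V d = ⊥)
include hV ha hd hinv hWa hWd hW

omit [Finite V] hV hWa hWd in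
theorem rm2_inf_smul : (W ⊓ fx V a) ⊓ d • (W ⊓ fx V a) = ⊥ := by
  rw [eq_bot_iff, ← hW]
  intro x hx
  refine ⟨hx.1.1, mem_fx_of_inverts ha hd hinv hx.1.2 ?_⟩
  rw [fx_conj, mem_smul_iff]
  exact (mem_smul_iff.1 hx.2).2

/-- RM2: `C_W(a) = [W, a]`. -/
theorem rm2_inf_fx : W ⊓ fx V a = W.map (cm V a) := by
  have hle : W.map (cm V a) ≤ W ⊓ fx V a :=
    le_inf hWa.map_le ((map_cm_le_cV _ _).trans (cV_le_fx_of_sq hV ha))
  symm
  apply eq_of_le_of_card_le hle
  have h1 := card_sup_of_inf_bot (rm2_inf_smul ha hd hinv hW)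
  have h2 : (W ⊓ fx V a) ⊔ d • (W ⊓ fx V a) ≤ W := by
    refine sup_le inf_le_left fun x hx => ?_
    have := hWd _ (mem_smul_iff.1 hx).1
    rwa [smul_inv_smul] at this
  have h3 := card_le_of_le h2
  rw [h1, card_smul, ← card_map_cm_mul a W] at h3
  exact Nat.le_of_mul_le_mul_right h3 Nat.card_pos

/-- RM2: `|W| = |[W, a]|²`. -/
theorem rm2_card : Nat.card W = Nat.card (W.map (cm V a)) ^ 2 := by
  rw [← card_map_cm_mul a W, rm2_inf_fx hV ha hd hinv hWa hWd hW, pow_two]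

/-- RM2: `[W, a] ∩ [W, a]^d = 1`. -/
theorem rm2_disj : W.map (cm V a) ⊓ d • W.map (cm V a) = ⊥ := by
  rw [← rm2_inf_fx hV ha hd hinv hWa hWd hW]
  exact rm2_inf_smul ha hd hinv hW

/-- RM2: `W = [W, a] [W, a]^d`. -/
theorem rm2_sup : W.map (cm V a) ⊔ d • W.map (cm V a) = W := by
  apply eq_of_le_of_card_le
  · refine sup_le hWa.map_le fun x hx => ?_
    have := hWd _ (hWa.map_le (mem_smul_iff.1 hx))
    rwa [smul_inv_smul] at this
  · rw [card_sup_of_inf_bot (rm2_disj hV ha hd hinv hWa hWd hW), card_smul,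
      rm2_card hV ha hd hinv hWa hWd hW, pow_two]

end RM2

section RM2'

variable {K V : Type*} [Group K] [CommGroup V] [MulDistribMulAction K V] [Finite V]
  (hV : ∀ v : V, v * v = 1) {a d : K} (ha : a * a = 1) (hd : Odd (orderOf d))
  (hinv : a * d * a⁻¹ = d⁻¹)
include hV ha hd hinv

/-- RM2 for `W = [V, d]`. -/
theorem rm2_cV_inf_fx : cV V d ⊓ fx V a = (cV V d).map (cm V a) :=
  rm2_inf_fx hV ha hd hinv (inv_cV_of_inverts hinv) (inv_cV_self d) (cV_inf_fx hV hd)

theorem rm2_cV_card : Nat.card (cV V d) = Nat.card ((cV V d).map (cm V a)) ^ 2 :=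
  rm2_card hV ha hd hinv (inv_cV_of_inverts hinv) (inv_cV_self d) (cV_inf_fx hV hd)

theorem rm2_cV_disj : (cV V d).map (cm V a) ⊓ d • (cV V d).map (cm V a) = ⊥ :=
  rm2_disj hV ha hd hinv (inv_cV_of_inverts hinv) (inv_cV_self d) (cV_inf_fx hV hd)

theorem rm2_cV_sup : (cV V d).map (cm V a) ⊔ d • (cV V d).map (cm V a) = cV V d :=
  rm2_sup hV ha hd hinv (inv_cV_of_inverts hinv) (inv_cV_self d) (cV_inf_fx hV hd)

/-- If `D` is centralised by `a`, then `|D : C_D(d)| ≤ |[[V,d],a]|` (used in PLp). -/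
theorem rm2_card_le {D : Subgroup V} (hD : D ≤ fx V a) :
    Nat.card D ≤ Nat.card ((cV V d).map (cm V a)) * Nat.card ↥(D ⊓ fx V d) := by
  rw [← card_map_cm_mul d D]
  refine Nat.mul_le_mul_right _ ?_
  have hle : D.map (cm V d) ≤ ((cV V d).map (cm V a)).map (cm V d) := by
    rintro _ ⟨x, hx, rfl⟩
    obtain ⟨w, hw, c, hc, rfl⟩ := exists_dec hV hd x
    refine ⟨w, ?_, by rw [map_mul, cm_eq_one_iff.2 (mem_fx.1 hc), mul_one]⟩
    rw [← rm2_cV_inf_fx hV ha hd hinv]
    refine ⟨hw, ?_⟩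
    have h1 : cm V a w * cm V a c = 1 := by
      rw [← map_mul]; exact cm_eq_one_iff.2 (mem_fx.1 (hD hx))
    have h2 : cm V a w = (cm V a c)⁻¹ := eq_inv_of_mul_eq_one_left h1
    refine mem_fx.2 (cm_eq_one_iff.1 (eq_one_of_mem_cV_fx hV hd
      ((inv_cV_of_inverts hinv).cm_mem hw) ?_))
    rw [h2]; exact inv_mem ((inv_fx_of_inverts hinv).cm_mem hc)
  refine (card_le_of_le hle).trans ?_
  rw [← card_map_cm_mul d ((cV V d).map (cm V a))]
  exact Nat.le_mul_of_pos_right _ Nat.card_pos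

end RM2'

namespace Red

variable {K V : Type*} [Group K] [CommGroup V] [MulDistribMulAction K V] (h : Red K V)
include h

theorem eq_one_of_cV {g : K} (hg : cV V g = ⊥) : g = 1 := h.faith g (cV_eq_bot_iff.1 hg)

theorem cV_ne_bot {g : K} (hg : g ≠ 1) : cV V g ≠ ⊥ := fun h0 => hg (h.eq_one_of_cV h0)

theorem eq_one_of_fx {g : K} (hg : ⊤ ≤ fx V g) : g = 1 :=
  h.faith g fun v => mem_fx.1 (hg (mem_top v))

theorem eq_of_smul_eq {g g' : K} (hg : ∀ v : V, g • v = g' • v) : g = g' := by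
  have := h.faith (g'⁻¹ * g) fun v => by rw [mul_smul, hg, inv_smul_smul]
  exact (inv_mul_eq_one.1 this).symm

/-- An element of odd order with `[V, g, g] = 1` is trivial. -/
theorem eq_one_of_odd {g : K} (hg : Odd (orderOf g)) (hc : cV V g ≤ fx V g) : g = 1 := by
  apply h.eq_one_of_cV
  rw [eq_bot_iff, ← cV_inf_fx h.expo hg]
  exact le_inf le_rfl hc

/-- An element centralising `[V, d]` and `C_V(d)` is trivial. -/
theorem eq_one_of_dec [Finite V] {d g : K} (hd : Odd (orderOf d)) (h1 : cV V d ≤ fx V g)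
    (h2 : fx V d ≤ fx V g) : g = 1 :=
  h.eq_one_of_fx (by rw [← cV_sup_fx h.expo hd]; exact sup_le h1 h2)

variable [Finite K]

theorem odd_of_mem {x : K} (hx : x ∈ fittingSubgroup K) : Odd (orderOf x) := by
  by_contra hne
  rw [Nat.not_odd_iff_even] at hne
  obtain ⟨m, hm⟩ := hne
  have hpos := orderOf_pos x
  have h1 : x ^ m ≠ 1 := pow_ne_one_of_lt_orderOf (by omega) (by omega)
  have h2 : (x ^ m) ^ 2 = 1 := by
    rw [← pow_mul, mul_two, ← hm, pow_orderOf_eq_one]
  have h3 : IsPGroup 2 (zpowers (x ^ m)) := by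
    apply IsPGroup.of_card (n := 1)
    rw [Nat.card_zpowers, pow_one]
    exact orderOf_eq_prime h2 h1
  have h4 := Solv.le_pCore_of_le_fitting h3 (zpowers_le.2 (pow_mem hx m))
  rw [h.core, le_bot_iff, zpowers_eq_bot] at h4
  exact h1 h4

theorem odd_card : Odd (Nat.card (fittingSubgroup K)) := by
  by_contra hne
  rw [Nat.not_odd_iff_even, even_iff_two_dvd] at hne
  obtain ⟨x, hx⟩ := exists_prime_orderOf_dvd_card' 2 hne
  have := h.odd_of_mem x.2
  rw [orderOf_coe, hx] at this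
  exact absurd this (by decide)

theorem mem_of_comm {g : K} (hg : ∀ x ∈ fittingSubgroup K, x * g = g * x) :
    g ∈ fittingSubgroup K := by
  have := h.solv
  exact Solv.centralizer_fitting_le K (mem_centralizer_iff.2 hg)

/-- A 2-element centralising `F` is trivial. -/
theorem eq_one_of_comm {g : K} (hg : ∀ x ∈ fittingSubgroup K, x * g = g * x) {n : ℕ}
    (h2 : g ^ 2 ^ n = 1) : g = 1 := by
  have h1 := h.odd_of_mem (h.mem_of_comm hg)
  have h3 : orderOf g ∣ 2 ^ n := orderOf_dvd_of_pow_eq_one h2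
  rw [← orderOf_eq_one_iff]
  exact Nat.Coprime.eq_one_of_dvd ((Nat.coprime_two_right.2 h1).pow_right n) h3

end Red

end Cfsg.Lib.Ngrp
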