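import Cfsg.Agent.Ngrp.AmMod1
import Cfsg.Agent.Solv.Cores

/-!
# Reduced modules, part 2: RM1 (dihedral frames), RM3 (quadratic action), RM3'
-/

set_option autoImplicit false

namespace Cfsg.Lib.Ngrp
open Subgroup
open scoped Pointwise

section Frame

variable {K : Type*} [Group K]

theorem comm_of_sq {B : Subgroup K} (hB : ∀ b ∈ B, b * b = 1) {x y : K} (hx : x ∈ B)
    (hy : y ∈ B) : x * y = y * x := by
  have h1 := hB _ (mul_mem hx hy)
  have h2 : (x * y)⁻¹ = x * y := inv_eq_of_mul_eq_one_right h1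
  rw [mul_inv_rev, inv_eq_of_mul_eq_one_right (hB x hx),
    inv_eq_of_mul_eq_one_right (hB y hy)] at h2
  exact h2.symm

theorem eq_one_of_odd_of_eq_inv {d : K} (hd : Odd (orderOf d)) (h : d = d⁻¹) : d = 1 := by
  have h2 : d ^ 2 = 1 := by rw [pow_two]; nth_rw 2 [h]; exact mul_inv_cancel d
  rw [← orderOf_eq_one_iff]
  exact Nat.Coprime.eq_one_of_dvd (Nat.coprime_two_right.2 hd) (orderOf_dvd_of_pow_eq_one h2)

/-- An element of odd order normalising `{d, d⁻¹}` centralises `d`. -/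
theorem comm_of_odd_of_or {g d : K} (hg : Odd (orderOf g))
    (h : g * d * g⁻¹ = d ∨ g * d * g⁻¹ = d⁻¹) : g * d = d * g := by
  rcases h with h | h
  · exact mul_inv_eq_iff_eq_mul.1 h
  · have h2 : g * g * d = d * (g * g) := by
      have h3 : g * d⁻¹ * g⁻¹ = d := by rw [← conj_inv, h, inv_inv]
      calc g * g * d = g * (g * d * g⁻¹) * g⁻¹ * (g * g) := by group
        _ = d * (g * g) := by rw [h, h3]
    obtain ⟨k, hk⟩ := hg
    have h4 : g = ((g * g) ^ k)⁻¹ := by
      apply eq_inv_of_mul_eq_one_left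
      rw [← pow_two, ← pow_mul, ← pow_succ', ← hk, pow_orderOf_eq_one]
    have h5 : Commute (g * g) d := h2
    rw [h4]
    exact (h5.pow_left k).inv_left

/-- RM1: a dihedral frame for the elementary abelian group `B` of order `2 ^ k`. -/
structure Frame (B : Subgroup K) {k : ℕ} (a d : Fin k → K) : Prop where
  sq : ∀ b ∈ B, b * b = 1
  card : Nat.card B = 2 ^ k
  mem : ∀ i, a i ∈ B
  dF : ∀ i, d i ∈ fittingSubgroup K
  prime : ∀ i, (orderOf (d i)).Prime
  odd : ∀ i, Odd (orderOf (d i))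
  inv : ∀ i, a i * d i * (a i)⁻¹ = (d i)⁻¹
  act : ∀ b ∈ B, ∀ i, b * d i * b⁻¹ = d i ∨ b * d i * b⁻¹ = (d i)⁻¹
  dd : ∀ i j, d i * d j = d j * d i
  ad : ∀ i j, i ≠ j → a i * d j = d j * a i
  gen : ⨆ i, zpowers (a i) = B
  faith : ∀ c ∈ B, (∀ i, c * d i = d i * c) → c = 1

namespace Frame

variable {B : Subgroup K} {k : ℕ} {a d : Fin k → K} (h : Frame B a d)
include h

theorem comm {x y : K} (hx : x ∈ B) (hy : y ∈ B) : x * y = y * x := comm_of_sq h.sq hx hy

theorem a_sq (i : Fin k) : a i * a i = 1 := h.sq _ (h.mem i)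

theorem inv_eq {x : K} (hx : x ∈ B) : x⁻¹ = x := inv_eq_of_mul_eq_one_right (h.sq x hx)

theorem d_ne (i : Fin k) : d i ≠ 1 := fun h0 => by
  have := h.prime i
  rw [h0, orderOf_one] at this
  exact Nat.not_prime_one this

theorem d_ne_inv (i : Fin k) : d i ≠ (d i)⁻¹ := fun h0 =>
  h.d_ne i (eq_one_of_odd_of_eq_inv (h.odd i) h0)

theorem not_comm_of_inverts {b : K} {i : Fin k} (hb : b * d i * b⁻¹ = (d i)⁻¹) :
    b * d i ≠ d i * b := fun h0 => by
  rw [h0, mul_inv_cancel_right] at hb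
  exact h.d_ne_inv i hb

theorem not_comm (i : Fin k) : a i * d i ≠ d i * a i := h.not_comm_of_inverts (h.inv i)

theorem a_ne (i : Fin k) : a i ≠ 1 := fun h0 => h.not_comm i (by rw [h0, one_mul, mul_one])

theorem a_ne_of_ne {i j : Fin k} (hij : i ≠ j) : a i ≠ a j := fun h0 =>
  h.not_comm j (by rw [← h0]; exact h.ad i j hij)

theorem comm_or_inverts {b : K} (hb : b ∈ B) (i : Fin k) :
    b * d i = d i * b ∨ b * d i * b⁻¹ = (d i)⁻¹ :=
  (h.act b hb i).imp mul_inv_eq_iff_eq_mul.1 id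

omit h in
theorem mul_comm_of_inverts {x b c : K} (hb : b * x * b⁻¹ = x⁻¹) (hc : c * x * c⁻¹ = x⁻¹) :
    b * c * x = x * (b * c) := by
  have h3 : b * x⁻¹ * b⁻¹ = x := by rw [← conj_inv, hb, inv_inv]
  calc b * c * x = b * (c * x * c⁻¹) * b⁻¹ * (b * c) := by group
    _ = x * (b * c) := by rw [hc, h3]

omit h in
theorem mul_inverts_of_comm {x b c : K} (hb : b * x * b⁻¹ = x⁻¹) (hc : c * x = x * c) :
    b * c * x * (b * c)⁻¹ = x⁻¹ := by
  calc b * c * x * (b * c)⁻¹ = b * (c * x * c⁻¹) * b⁻¹ := by group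
    _ = x⁻¹ := by rw [hc, mul_inv_cancel_right, hb]

/-- Every `b ∈ B` lies in `B_i = C_B(d_i)` or in `B_i a_i`. -/
theorem comm_or_mul {b : K} (hb : b ∈ B) (i : Fin k) :
    b * d i = d i * b ∨ b * a i * d i = d i * (b * a i) :=
  (h.comm_or_inverts hb i).imp id fun h1 => mul_comm_of_inverts h1 (h.inv i)

/-- Elements of `B` are determined by the set of `d i` they centralise. -/
theorem ext {b c : K} (hb : b ∈ B) (hc : c ∈ B)
    (hbc : ∀ i, b * d i = d i * b ↔ c * d i = d i * c) : b = c := by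
  have : b * c = 1 := by
    refine h.faith _ (mul_mem hb hc) fun i => ?_
    rcases h.comm_or_inverts hb i with h1 | h1
    · have h2 := (hbc i).1 h1
      rw [mul_assoc, h2, ← mul_assoc, h1, mul_assoc]
    · rcases h.comm_or_inverts hc i with h2 | h2
      · exact absurd ((hbc i).2 h2) (h.not_comm_of_inverts h1)
      · exact mul_comm_of_inverts h1 h2
  rw [← h.inv_eq hc]
  exact eq_inv_of_mul_eq_one_left this

theorem eq_one_or_eq {b : K} (hb : b ∈ B) (i : Fin k) (hj : ∀ j, j ≠ i → b * d j = d j * b) :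
    b = 1 ∨ b = a i := by
  by_cases hi : b * d i = d i * b
  · left
    refine h.faith b hb fun j => ?_
    by_cases hji : j = i
    · rw [hji]; exact hi
    · exact hj j hji
  · right
    refine h.ext hb (h.mem i) fun j => ?_
    by_cases hji : j = i
    · subst hji; exact iff_of_false hi (h.not_comm j)
    · exact iff_of_true (hj j hji) (h.ad i j (Ne.symm hji))

/-- The product of the `a i`, `i ∈ J`. -/
theorem exists_inverting (J : Finset (Fin k)) :
    ∃ b ∈ B, (∀ i ∈ J, b * d i * b⁻¹ = (d i)⁻¹) ∧ ∀ i ∉ J, b * d i = d i * b := by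
  classical
  induction J using Finset.induction_on with
  | empty => exact ⟨1, one_mem _, by simp, by simp⟩
  | insert j J hj ih =>
    obtain ⟨b, hb, h1, h2⟩ := ih
    refine ⟨b * a j, mul_mem hb (h.mem j), fun i hi => ?_, fun i hi => ?_⟩
    · rcases Finset.mem_insert.1 hi with rfl | hi
      · rw [h.comm hb (h.mem i)]
        exact mul_inverts_of_comm (h.inv i) (h2 i hj)
      · exact mul_inverts_of_comm (h1 i hi) (h.ad j i fun h0 => hj (h0 ▸ hi))
    · rw [Finset.mem_insert, not_or] at hi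
      rw [mul_assoc, h.ad j i (Ne.symm hi.1), ← mul_assoc, h2 i hi.2, mul_assoc]

/-- The product `a₁ ⋯ a_k`. -/
theorem exists_inverting_all : ∃ b ∈ B, ∀ i, b * d i * b⁻¹ = (d i)⁻¹ := by
  obtain ⟨b, hb, h1, -⟩ := h.exists_inverting Finset.univ
  exact ⟨b, hb, fun i => h1 i (Finset.mem_univ i)⟩

end Frame

theorem Frame.elems_one {B : Subgroup K} {a d : Fin 1 → K} (h : Frame B a d) {b : K}
    (hb : b ∈ B) : b = 1 ∨ b = a 0 :=
  h.eq_one_or_eq hb 0 fun j hj => absurd (Subsingleton.elim j 0) hj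

theorem Frame.elems_two {B : Subgroup K} {a d : Fin 2 → K} (h : Frame B a d) {b : K}
    (hb : b ∈ B) : b = 1 ∨ b = a 0 ∨ b = a 1 ∨ b = a 0 * a 1 := by
  have key : ∀ c ∈ B, c * d 1 = d 1 * c → c = 1 ∨ c = a 0 := fun c hc h1 =>
    h.eq_one_or_eq hc 0 fun j hj => by
      have : j = 1 := by omega
      rw [this]; exact h1
  rcases h.comm_or_mul hb 1 with h1 | h1
  · rcases key b hb h1 with h2 | h2
    · exact Or.inl h2
    · exact Or.inr (Or.inl h2)
  · rcases key _ (mul_mem hb (h.mem 1)) h1 with h2 | h2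
    · right; right; left
      rw [← h.inv_eq (h.mem 1)]; exact eq_inv_of_mul_eq_one_left h2
    · right; right; right
      rw [← h2, mul_assoc, h.a_sq, mul_one]

end Frame

section Indep

variable {V : Type*} [CommGroup V] {ι : Type*}

theorem card_biSup_of_indep {P : ι → Subgroup V} (h : iSupIndep P) (s : Finset ι) :
    Nat.card ↥(⨆ i ∈ s, P i) = ∏ i ∈ s, Nat.card (P i) := by
  classical
  induction s using Finset.induction_on with
  | empty => simp
  | insert j s hj ih =>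
    rw [Finset.iSup_insert, Finset.prod_insert hj, card_sup_of_inf_bot, ih]
    exact disjoint_iff.1 (h.disjoint_biSup (y := (s : Set ι)) hj)

theorem prod_card_le_of_indep [Finite V] {P : ι → Subgroup V} (h : iSupIndep P) (s : Finset ι)
    {D : Subgroup V} (hD : ∀ i ∈ s, P i ≤ D) : ∏ i ∈ s, Nat.card (P i) ≤ Nat.card D := by
  rw [← card_biSup_of_indep h s]
  exact card_le_of_le (iSup₂_le hD)

theorem eq_one_of_prod_eq_one {P : ι → Subgroup V} (h : iSupIndep P) (s : Finset ι) {w : ι → V}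
    (hw : ∀ i ∈ s, w i ∈ P i) (h1 : ∏ i ∈ s, w i = 1) {j : ι} (hj : j ∈ s) : w j = 1 := by
  classical
  rw [← Finset.mul_prod_erase s w hj] at h1
  have h2 : w j ∈ ⨆ i ∈ ((s.erase j : Finset ι) : Set ι), P i := by
    rw [eq_inv_of_mul_eq_one_left h1]
    refine inv_mem (prod_mem fun i hi => ?_)
    exact (le_biSup P (Finset.mem_coe.2 hi)) (hw i (Finset.mem_of_mem_erase hi))
  have h3 := disjoint_iff.1 (h.disjoint_biSup (y := ((s.erase j : Finset ι) : Set ι))
    (x := j) (by simp))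
  have : w j ∈ P j ⊓ ⨆ i ∈ ((s.erase j : Finset ι) : Set ι), P i := ⟨hw j hj, h2⟩
  rwa [h3, mem_bot] at this

end Indep

namespace Red

variable {K V : Type*} [Group K] [CommGroup V] [MulDistribMulAction K V] [Finite K] (h : Red K V)
include h

/-- **RM1**. -/
theorem exists_frame {B : Subgroup K} (hB : ∀ b ∈ B, b * b = 1) {k : ℕ}
    (hk : Nat.card B = 2 ^ k) : ∃ a d : Fin k → K, Frame B a d := by
  have : IsMulCommutative B := ⟨⟨fun x y => Subtype.ext (comm_of_sq hB x.2 y.2)⟩⟩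
  obtain ⟨d, a, h1, h2, h3, h4, -, h6, -⟩ := Solv.Coprime.exists_dihedral_family (A := B)
    (fun b hb => by rw [pow_two]; exact hB b hb) k (K := fittingSubgroup K) (B := B)
    inferInstance h.odd_card (le_normalizer_of_normal) le_rfl hk (by
      rw [eq_bot_iff]
      intro b hb
      exact h.eq_one_of_comm (n := 1) (mem_centralizer_iff.1 hb.2)
        (by rw [pow_one, pow_two]; exact hB b hb.1))
  exact ⟨a, d, hB, hk, fun i => (h1 i).2.2.1, fun i => (h1 i).1, fun i => (h1 i).2.1,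
    fun i => h.odd_of_mem (h1 i).1, fun i => (h1 i).2.2.2.2, fun b hb i => (h1 i).2.2.2.1 b hb,
    h2, h3, h4, h6⟩

theorem exists_frame' {B : Subgroup K} (hB : ∀ b ∈ B, b * b = 1) :
    ∃ (k : ℕ) (a d : Fin k → K), Frame B a d := by
  obtain ⟨k, hk⟩ := IsPGroup.iff_card.1 (show IsPGroup 2 B from
    fun b => ⟨1, Subtype.ext (by simpa [pow_two] using hB b b.2)⟩)
  exact ⟨k, h.exists_frame hB hk⟩

/-- An involution inverts a nontrivial element of `F`. -/
theorem exists_inverted {a : K} (ha : a * a = 1) (h1 : a ≠ 1) :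
    ∃ d ∈ fittingSubgroup K, d ≠ 1 ∧ (orderOf d).Prime ∧ a * d * a⁻¹ = d⁻¹ := by
  have ho : orderOf a = 2 := orderOf_eq_prime (by rw [pow_two]; exact ha) h1
  obtain ⟨a', d, hf⟩ := h.exists_frame (B := zpowers a) (k := 1) (by
    rintro _ ⟨n, rfl⟩
    show a ^ n * a ^ n = 1
    rw [← zpow_add, ← two_mul, zpow_mul, zpow_two, ha, one_zpow]) (by
    rw [Nat.card_zpowers, ho, pow_one])
  rcases hf.elems_one (mem_zpowers a) with h2 | h2
  · exact absurd h2 h1
  · exact ⟨d 0, hf.dF 0, hf.d_ne 0, hf.prime 0, h2 ▸ hf.inv 0⟩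

omit [Finite K] in
/-- If the involution `a` inverts `d ≠ 1` of odd order then `[[V,d],a] ≠ 1`. -/
theorem two_le_card_map [Finite V] {a d : K} (ha : a * a = 1) (hd : Odd (orderOf d))
    (hinv : a * d * a⁻¹ = d⁻¹) (h1 : d ≠ 1) : 2 ≤ Nat.card ((cV V d).map (cm V a)) := by
  apply two_le_card_of_ne_bot
  intro h0
  have := rm2_cV_card h.expo ha hd hinv
  rw [h0, card_bot, one_pow] at this
  exact h.cV_ne_bot h1 (eq_bot_of_card_le_one this.le)

omit [Finite K] in
theorem not_cV_le_fx [Finite V] {a d : K} (ha : a * a = 1) (hd : Odd (orderOf d))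
    (hinv : a * d * a⁻¹ = d⁻¹) (h1 : d ≠ 1) : ¬ cV V d ≤ fx V a := fun h0 => by
  have := h.two_le_card_map ha hd hinv h1
  rw [map_cm_eq_bot_iff.2 h0, card_bot] at this
  omega

end Red

section RM3

variable {K V : Type*} [Group K] [CommGroup V] [MulDistribMulAction K V] [Finite V]

/-- The hypothesis `[W_i, B, B] = 1` of RM3. -/
def QuadOn (V : Type*) [CommGroup V] [MulDistribMulAction K V] (B : Subgroup K) {k : ℕ}
    (d : Fin k → K) : Prop :=
  ∀ i, ∀ b ∈ B, ∀ b' ∈ B, (cV V (d i)).map (cm V b) ≤ fx V b'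

omit [Finite V] in
theorem quadOn_of_quad {B : Subgroup K} (hq : ∀ b ∈ B, ∀ b' ∈ B, cV V b ≤ fx V b') {k : ℕ}
    (d : Fin k → K) : QuadOn V B d := fun _ b hb b' hb' =>
  (map_cm_le_cV _ _).trans (hq b hb b' hb')

namespace Frame

variable {B : Subgroup K} {k : ℕ} {a d : Fin k → K} (h : Frame B a d) (hr : Red K V)
include h

omit [Finite V] in
theorem invt_cV {b : K} (hb : b ∈ B) (i : Fin k) : Invt b (cV V (d i)) :=
  inv_cV_of_or (h.act b hb i)

omit [Finite V] in
theorem invt_fx {b : K} (hb : b ∈ B) (i : Fin k) : Invt b (fx V (d i)) :=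
  inv_fx_of_or (h.act b hb i)

include hr

theorem card_cV (i : Fin k) :
    Nat.card (cV V (d i)) = Nat.card ((cV V (d i)).map (cm V (a i))) ^ 2 :=
  rm2_cV_card hr.expo (h.a_sq i) (h.odd i) (h.inv i)

theorem two_le (i : Fin k) : 2 ≤ Nat.card ((cV V (d i)).map (cm V (a i))) :=
  hr.two_le_card_map (h.a_sq i) (h.odd i) (h.inv i) (h.d_ne i)

theorem four_le (i : Fin k) : 4 ≤ Nat.card (cV V (d i)) := by
  rw [h.card_cV hr i]
  have := h.two_le hr i
  nlinarith

theorem not_le_fx (i : Fin k) : ¬ cV V (d i) ≤ fx V (a i) :=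
  hr.not_cV_le_fx (h.a_sq i) (h.odd i) (h.inv i) (h.d_ne i)

variable (hq : QuadOn V B d)
include hq

/-- RM3: `B_i` centralises `W_i`. -/
theorem rm3_fx_of_comm {b : K} (hb : b ∈ B) {i : Fin k} (hc : b * d i = d i * b) :
    cV V (d i) ≤ fx V b := by
  rw [← rm2_cV_sup hr.expo (h.a_sq i) (h.odd i) (h.inv i)]
  have h1 := hq i _ (h.mem i) b hb
  refine sup_le h1 fun x hx => ?_
  have := inv_fx_of_comm (V := V) hc.symm _ (h1 (mem_smul_iff.1 hx))
  rwa [smul_inv_smul] at this

theorem rm3_fx_a {i j : Fin k} (hij : i ≠ j) : cV V (d i) ≤ fx V (a j) :=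
  h.rm3_fx_of_comm hr hq (h.mem j) (h.ad j i hij.symm)

/-- RM3: `d_j` centralises `W_i`. -/
theorem rm3_fx_d {i j : Fin k} (hij : i ≠ j) : cV V (d i) ≤ fx V (d j) :=
  le_fx_of_inverts (h.a_sq j) (h.odd j) (h.inv j) (inv_cV_of_comm (h.dd j i))
    (h.rm3_fx_a hr hq hij)

/-- RM3: the `W_i` are independent. -/
theorem rm3_indep : iSupIndep fun i => cV V (d i) := by
  intro i
  rw [disjoint_iff, eq_bot_iff, ← cV_inf_fx hr.expo (h.odd i)]
  exact inf_le_inf le_rfl (iSup₂_le fun j hj => h.rm3_fx_d hr hq hj)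

theorem rm3_indep_map : iSupIndep fun i => (cV V (d i)).map (cm V (a i)) :=
  (h.rm3_indep hr hq).mono fun i => (h.invt_cV (h.mem i) i).map_le

/-- An element of `B` inverting `d_i` acts on `W_i` as `a_i`. -/
theorem rm3_smul_eq {b : K} (hb : b ∈ B) {i : Fin k} (hi : b * d i * b⁻¹ = (d i)⁻¹) {w : V}
    (hw : w ∈ cV V (d i)) : b • w = a i • w := by
  have h1 := h.rm3_fx_of_comm hr hq (mul_mem (h.mem i) hb) (mul_comm_of_inverts (h.inv i) hi) hw
  rw [mem_fx, mul_smul] at h1
  calc b • w = (a i * a i) • b • w := by rw [h.a_sq, one_smul]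
    _ = a i • w := by rw [mul_smul, h1]

theorem rm3_map_eq {b : K} (hb : b ∈ B) {i : Fin k} (hi : b * d i * b⁻¹ = (d i)⁻¹) :
    (cV V (d i)).map (cm V b) = (cV V (d i)).map (cm V (a i)) := by
  ext x
  constructor
  · rintro ⟨w, hw, rfl⟩
    exact ⟨w, hw, by rw [cm_apply, cm_apply, h.rm3_smul_eq hr hq hb hi hw]⟩
  · rintro ⟨w, hw, rfl⟩
    exact ⟨w, hw, by rw [cm_apply, cm_apply, h.rm3_smul_eq hr hq hb hi hw]⟩

/-- RM3: a subgroup containing the `[W_i, a_i]`, `i ∈ J`, has order at least `∏ |[W_i, a_i]|`. -/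
theorem rm3_prod_le (J : Finset (Fin k)) {D : Subgroup V}
    (hD : ∀ i ∈ J, (cV V (d i)).map (cm V (a i)) ≤ D) :
    ∏ i ∈ J, Nat.card ((cV V (d i)).map (cm V (a i))) ≤ Nat.card D :=
  prod_card_le_of_indep (h.rm3_indep_map hr hq) J hD

theorem rm3_prod_le_cV (J : Finset (Fin k)) {b : K} (hb : b ∈ B)
    (hJ : ∀ i ∈ J, b * d i * b⁻¹ = (d i)⁻¹) :
    ∏ i ∈ J, Nat.card ((cV V (d i)).map (cm V (a i))) ≤ Nat.card (cV V b) :=
  h.rm3_prod_le hr hq J fun i hi => by
    rw [← h.rm3_map_eq hr hq hb (hJ i hi)]; exact map_cm_le_cV _ _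

omit hq in
theorem two_pow_le_prod (J : Finset (Fin k)) :
    2 ^ J.card ≤ ∏ i ∈ J, Nat.card ((cV V (d i)).map (cm V (a i))) :=
  Finset.pow_card_le_prod J _ 2 fun i _ => h.two_le hr i

/-- RM3: `|[V, a₁ ⋯ a_k]| ≥ ∏ |[W_i, a_i]| ≥ 2 ^ k`. -/
theorem rm3_exists : ∃ b ∈ B, (∀ i, b * d i * b⁻¹ = (d i)⁻¹) ∧
    ∏ i, Nat.card ((cV V (d i)).map (cm V (a i))) ≤ Nat.card (cV V b) ∧
    2 ^ k ≤ Nat.card (cV V b) := by
  obtain ⟨b, hb, h1⟩ := h.exists_inverting_all
  have h2 := h.rm3_prod_le_cV hr hq Finset.univ hb fun i _ => h1 i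
  refine ⟨b, hb, h1, h2, le_trans ?_ h2⟩
  simpa using h.two_pow_le_prod hr Finset.univ

/-- RM3: `|V| ≥ 4 ^ k`. -/
theorem rm3_card : 4 ^ k ≤ Nat.card V := by
  have h1 := prod_card_le_of_indep (h.rm3_indep hr hq) Finset.univ (D := ⊤) fun _ _ => le_top
  have h2 := Finset.pow_card_le_prod Finset.univ (fun i => Nat.card (cV V (d i))) 4
    fun i _ => h.four_le hr i
  rw [card_top] at h1
  simpa using h2.trans h1

/-- `[∏ w_i, a_j] = [w_j, a_j]`. -/
theorem rm3_cm_prod (J : Finset (Fin k)) {w : Fin k → V} (hw : ∀ i ∈ J, w i ∈ cV V (d i))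
    {j : Fin k} (hj : j ∈ J) : cm V (a j) (∏ i ∈ J, w i) = cm V (a j) (w j) := by
  rw [map_prod]
  refine Finset.prod_eq_single_of_mem j hj fun i hi hij => ?_
  exact cm_eq_one_iff.2 (mem_fx.1 (h.rm3_fx_a hr hq hij (hw i hi)))

end Frame

end RM3

section RM3'

/-- The faithful quotient of an action. -/
abbrev actIm (H V : Type*) [Group H] [CommGroup V] [MulDistribMulAction H V] :
    Subgroup (MulAut V) := (MulDistribMulAction.toMulAut H V).range

/-- The projection onto the faithful quotient. -/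
def actHom (H V : Type*) [Group H] [CommGroup V] [MulDistribMulAction H V] : H →* actIm H V :=
  (MulDistribMulAction.toMulAut H V).rangeRestrict

variable {H V : Type*} [Group H] [CommGroup V] [MulDistribMulAction H V]

theorem actHom_smul (g : H) (v : V) : actHom H V g • v = g • v := rfl

theorem actHom_surjective : Function.Surjective (actHom H V) :=
  MonoidHom.rangeRestrict_surjective _

theorem actIm_faith (k : actIm H V) (hk : ∀ v : V, k • v = v) : k = 1 :=
  Subtype.ext (MulEquiv.ext hk)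

theorem actHom_eq_one_iff {g : H} : actHom H V g = 1 ↔ ∀ v : V, g • v = v :=
  ⟨fun h v => by rw [← actHom_smul, h, one_smul], fun h => actIm_faith _ h⟩

theorem cm_actHom (g : H) : cm V (actHom H V g) = cm V g := rfl

theorem cV_actHom (g : H) : cV V (actHom H V g) = cV V g := rfl

theorem fx_actHom (g : H) : fx V (actHom H V g) = fx V g := rfl

/-- To verify `Red` for the faithful quotient. -/
theorem red_actIm [Finite H] (hV : ∀ v : V, v * v = 1) (hs : Group.IsSolvable H)
    (hc : ∀ P : Subgroup H, P.Normal → (∀ g ∈ P, ∃ n : ℕ, ∀ v : V, g ^ 2 ^ n • v = v) →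
      ∀ g ∈ P, ∀ v : V, g • v = v) : Red (actIm H V) V where
  expo := hV
  faith := actIm_faith
  solv := Group.isSolvable_of_surjective actHom_surjective
  core := by
    have : Finite (actIm H V) := Finite.of_surjective _ actHom_surjective
    rw [eq_bot_iff]
    intro k hk
    obtain ⟨g, rfl⟩ := actHom_surjective k
    refine mem_bot.2 (actHom_eq_one_iff.2 (hc ((pCore 2 (actIm H V)).comap (actHom H V))
      inferInstance (fun x hx => ?_) g hk))
    obtain ⟨n, hn⟩ := Solv.pCore_isPGroup 2 (actIm H V) ⟨actHom H V x, hx⟩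
    refine ⟨n, actHom_eq_one_iff.1 ?_⟩
    rw [map_pow]
    exact congrArg Subtype.val hn

/-- A 2-group acting on a nontrivial finite elementary abelian 2-group fixes a nontrivial vector. -/
theorem exists_fixed_of_isPGroup [Finite V] [Nontrivial V] (hV : ∀ v : V, v * v = 1)
    {P : Subgroup H} (hP : IsPGroup 2 P) : ∃ v : V, v ≠ 1 ∧ ∀ g ∈ P, g • v = v := by
  obtain ⟨n, hn⟩ := exists_card_eq_two_pow hV (⊤ : Subgroup V)
  rw [card_top] at hn
  have hn0 : n ≠ 0 := by
    rintro rfl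
    exact absurd hn (Finite.one_lt_card (α := V)).ne'
  obtain ⟨v, hv, hne⟩ := hP.exists_fixed_point_of_prime_dvd_card_of_fixed_point V
    (by rw [hn]; exact dvd_pow_self 2 hn0) (a := 1) (fun g => smul_one g)
  exact ⟨v, hne.symm, fun g hg => hv ⟨g, hg⟩⟩

/-- A group transitive on the nontrivial vectors is reduced. -/
theorem red_of_trans {K : Type*} [Group K] [Finite K] [MulDistribMulAction K V] [Finite V]
    (hV : ∀ v : V, v * v = 1) (hf : ∀ g : K, (∀ v : V, g • v = v) → g = 1)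
    (hs : Group.IsSolvable K) (htr : ∀ v w : V, v ≠ 1 → w ≠ 1 → ∃ k : K, k • v = w) :
    Red K V where
  expo := hV
  faith := hf
  solv := hs
  core := by
    rw [eq_bot_iff]
    intro g hg
    refine mem_bot.2 (hf g fun w => ?_)
    by_cases hw : w = 1
    · rw [hw, smul_one]
    have : Nontrivial V := nontrivial_of_ne w 1 hw
    obtain ⟨v, hv, hfix⟩ := exists_fixed_of_isPGroup hV (Solv.pCore_isPGroup 2 K)
    obtain ⟨k, rfl⟩ := htr v w hv hw
    have hn : (pCore 2 K).Normal := inferInstance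
    have := hfix _ (hn.conj_mem g hg k⁻¹)
    rw [inv_inv, mul_smul, mul_smul, inv_smul_eq_iff] at this
    exact this

theorem Red.no_inv_of_card_eight {K : Type*} [Group K] [Finite K] [MulDistribMulAction K V]
    [Finite V] (h : Red K V) (hc : Nat.card V = 8)
    (htr : ∀ v w : V, v ≠ 1 → w ≠ 1 → ∃ k : K, k • v = w) {a : K} (ha : a * a = 1) : a = 1 := by
  by_contra h1
  obtain ⟨d, hdF, hd1, -, hinv⟩ := h.exists_inverted ha h1
  have hd := h.odd_of_mem hdF
  have h2 := rm2_cV_card h.expo ha hd hinv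
  have h3 := h.two_le_card_map ha hd hinv hd1
  have h4 := card_cV_mul_fx (V := V) d
  set n := Nat.card ((cV V d).map (cm V a))
  have hpos : 0 < Nat.card (fx V d) := Nat.card_pos
  have hn : n = 2 := by
    by_contra hn
    have : 9 ≤ Nat.card (cV V d) := by rw [h2]; have : 3 ≤ n := by omega
                                       nlinarith
    nlinarith
  have h5 : Nat.card (fx V d) = 2 := by rw [h2, hn, hc] at h4; omega
  have : Nontrivial (fittingSubgroup K) :=
    nontrivial_of_ne ⟨d, hdF⟩ 1 fun h0 => hd1 (congrArg Subtype.val h0)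
  obtain ⟨z, hz, hz1⟩ : ∃ z ∈ center (fittingSubgroup K), z ≠ 1 := by
    by_contra h0
    push Not at h0
    have hb : center (fittingSubgroup K) = ⊥ := eq_bot_iff.2 h0
    exact Group.IsNilpotent.center_ne_bot _ hb
  obtain ⟨u, hu1, hu⟩ := exists_eq_zpowers_of_card_two h5
  apply hz1
  refine Subtype.ext (h.faith _ fun w => ?_)
  by_cases hw : w = 1
  · rw [hw, smul_one]
  obtain ⟨k, rfl⟩ := htr u w hu1 hw
  have hn : (fittingSubgroup K).Normal := inferInstance
  have hc : k⁻¹ * z * k * d = d * (k⁻¹ * z * k) := by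
    have := congrArg Subtype.val (mem_center_iff.1 hz ⟨_, hn.conj_mem d hdF k⟩)
    simp only [coe_mul] at this
    calc k⁻¹ * z * k * d = k⁻¹ * (z * (k * d * k⁻¹)) * k := by group
      _ = d * (k⁻¹ * z * k) := by rw [← this]; group
  have h6 := le_fx_of_card_le_two (inv_fx_of_comm (V := V) hc) h5.le (hu ▸ mem_zpowers u)
  rw [mem_fx, mul_smul, mul_smul, inv_smul_eq_iff] at h6
  exact h6

/-- **RM3'**: a solvable group acting on `2³` transitively on the nontrivial vectors induces a group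
of odd order: an element whose square acts trivially acts trivially. -/
theorem rm3' [Finite H] [Finite V] (hV : ∀ v : V, v * v = 1) (hc : Nat.card V = 8)
    (hs : Group.IsSolvable H) (htr : ∀ v w : V, v ≠ 1 → w ≠ 1 → ∃ k : H, k • v = w) {g : H}
    (hg : ∀ v : V, g • g • v = v) (v : V) : g • v = v := by
  have : Finite (actIm H V) := Finite.of_surjective _ actHom_surjective
  have htr' : ∀ v w : V, v ≠ 1 → w ≠ 1 → ∃ k : actIm H V, k • v = w := fun v w hv hw =>
    (htr v w hv hw).elim fun k hk => ⟨actHom H V k, hk⟩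
  have hr : Red (actIm H V) V :=
    red_of_trans hV actIm_faith (Group.isSolvable_of_surjective actHom_surjective) htr'
  refine actHom_eq_one_iff.1 (hr.no_inv_of_card_eight hc htr' ?_) v
  rw [← map_mul, actHom_eq_one_iff]
  intro v; rw [mul_smul]; exact hg v

open scoped IsMulCommutative in
/-- **RM3'**, ambient form. -/
theorem rm3'_amb {G : Type*} [Group G] [Finite G] {D H : Subgroup G}
    (hD : IsElementaryAbelian 2 D) (hc : Nat.card D = 8) (hH : H ≤ normalizer (D : Set G))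
    (hs : Group.IsSolvable H)
    (htr : ∀ x ∈ D, x ≠ 1 → ∀ y ∈ D, y ≠ 1 → ∃ k ∈ H, k * x * k⁻¹ = y) {g : G} (hg : g ∈ H)
    (hg2 : g * g ∈ centralizer (D : Set G)) : g ∈ centralizer (D : Set G) := by
  have := hD.1
  let _ : MulDistribMulAction H D :=
    MulDistribMulAction.compHom D ((normalizerMonoidHom D).comp (inclusion hH))
  have hsm : ∀ (k : H) (v : D), ((k • v : D) : G) = k * v * (k : G)⁻¹ := fun k v => rfl
  rw [mem_centralizer_iff]
  intro x hx
  have := rm3' (H := H) (V := D) (fun v => Subtype.ext (by simpa [pow_two] using hD.2 v v.2)) hc hs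
    (fun v w hv hw => by
      obtain ⟨k, hk, he⟩ := htr v v.2 (fun h0 => hv (Subtype.ext h0)) w w.2
        (fun h0 => hw (Subtype.ext h0))
      exact ⟨⟨k, hk⟩, Subtype.ext he⟩) (g := ⟨g, hg⟩) (fun v => Subtype.ext (by
        rw [hsm, hsm]
        have := mem_centralizer_iff.1 hg2 v v.2
        calc g * (g * v * g⁻¹) * g⁻¹ = (g * g) * v * (g * g)⁻¹ := by group
          _ = v := by rw [← this]; group)) ⟨x, hx⟩
  have h2 := congrArg Subtype.val this
  rw [hsm] at h2
  exact (mul_inv_eq_iff_eq_mul.1 h2).symm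

end RM3'

end Cfsg.Lib.Ngrp
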