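import Cfsg.Agent.Ngrp.AmGeo
import Cfsg.Agent.Ngrp.AmPL

/-! Distance in the natural geometry, the critical distance and critical pairs. -/

set_option autoImplicit false

namespace Cfsg.Lib.Ngrp.Geo
open Subgroup Cfsg.Lib.Trans Cfsg.Lib.Local Cfsg.Lib.Local.JC Cfsg.Lib.Trans.TJ
open scoped commutatorElement

variable {G : Type*} [Group G]

/-- The points `p`, `q` are joined by a path of at most `n` collinearity steps. -/
inductive Near : ℕ → G → G → Prop
  | refl (n : ℕ) {p : G} (h : Pt p) : Near n p p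
  | step {n : ℕ} {p q r : G} (h : Col p q) (h' : Near n q r) : Near (n + 1) p r

namespace Near

variable {n m : ℕ} {p q r : G}

theorem pt (h : Near n p q) : Pt p := by
  cases h with
  | refl _ h => exact h
  | step h _ => exact h.pt

theorem pt' (h : Near n p q) : Pt q := by
  induction h with
  | refl _ h => exact h
  | step _ _ ih => exact ih

theorem mono (h : Near n p q) (hm : n ≤ m) : Near m p q := by
  induction h generalizing m with
  | refl _ h => exact refl _ h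
  | step h _ ih =>
    obtain ⟨m, rfl⟩ := Nat.exists_eq_add_one_of_ne_zero (show m ≠ 0 by omega)
    exact step h (ih (by omega))

theorem trans (h : Near n p q) (h' : Near m q r) : Near (n + m) p r := by
  induction h with
  | refl _ _ => exact h'.mono (by omega)
  | step h _ ih => exact (step h (ih h')).mono (by omega)

theorem conj (h : Near n p q) (g : G) : Near n (g * p * g⁻¹) (g * q * g⁻¹) := by
  induction h with
  | refl _ h => exact refl _ (h.conj g)
  | step h _ ih => exact step (h.conj g) ih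

theorem eq_of_zero (h : Near 0 p q) : p = q := by
  cases h; rfl

theorem cases_succ (h : Near (n + 1) p q) : p = q ∨ ∃ r, Col p r ∧ Near n r q := by
  cases h with
  | refl _ _ => exact Or.inl rfl
  | step h h' => exact Or.inr ⟨_, h, h'⟩

theorem cases_one (h : Near 1 p q) : p = q ∨ Col p q := by
  rcases h.cases_succ with e | ⟨r, h1, h2⟩
  · exact Or.inl e
  · exact Or.inr (h2.eq_of_zero ▸ h1)

end Near

theorem Pt.near {p : G} (h : Pt p) (n : ℕ) : Near n p p := .refl n h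

variable [Finite G]

theorem Col.near {p q : G} (h : Col p q) : Near 1 p q := .step h (.refl 0 h.pt')

theorem Near.snoc {n : ℕ} {p q r : G} (h : Near n p q) (h' : Col q r) : Near (n + 1) p r :=
  h.trans h'.near

theorem Near.symm {n : ℕ} {p q : G} (h : Near n p q) : Near n q p := by
  induction h with
  | refl _ h => exact .refl _ h
  | step h _ ih => exact ih.snoc h.symm

theorem Near.cases_succ' {n : ℕ} {p q : G} (h : Near (n + 1) p q) :
    p = q ∨ ∃ r, Near n p r ∧ Col q r := by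
  rcases h.symm.cases_succ with e | ⟨r, h1, h2⟩
  · exact Or.inl e.symm
  · exact Or.inr ⟨r, h2.symm, h1⟩

theorem Fl.near {p q : G} {l : Subgroup G} (h : Fl p l) (h' : Fl q l) : Near 1 p q := by
  by_cases e : q = p
  · exact e ▸ h'.pt.near 1
  · exact (h.col h'.mem h'.ne e).near

omit [Finite G] in
theorem Near.conj_of_mem {n : ℕ} {p q g : G} (h : Near n p q) (hg : g ∈ Cz p) :
    Near n p (g * q * g⁻¹) := by
  have := h.conj g; rwa [Cz_conj hg] at this

omit [Finite G] in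
theorem Near.conj_of_mem' {n : ℕ} {p q g : G} (h : Near n p q) (hg : g ∈ Cz q) :
    Near n (g * p * g⁻¹) q := by
  have := h.conj g; rwa [Cz_conj hg] at this

omit [Finite G]

/-- `U_p` and `U_q` commute. -/
def CommU (p q : G) : Prop := UU p ≤ centralizer (UU q : Set G)

theorem commU_iff {p q : G} : CommU p q ↔ ∀ a ∈ UU p, ∀ u ∈ UU q, a * u = u * a :=
  ⟨fun h _ ha u hu => (h ha u hu).symm, fun h a ha u hu => (h a ha u hu).symm⟩

theorem CommU.symm {p q : G} (h : CommU p q) : CommU q p := le_centralizer_iff.1 h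

theorem CommU.conj {p q : G} (h : CommU p q) (g : G) : CommU (g * p * g⁻¹) (g * q * g⁻¹) := by
  rw [CommU, ← cj_UU, ← cj_UU, ← cj_centralizer]
  exact cj_mono g h

theorem commU_conj_iff {p q : G} (g : G) : CommU (g * p * g⁻¹) (g * q * g⁻¹) ↔ CommU p q :=
  ⟨fun h => by simpa [mul_assoc] using h.conj g⁻¹, fun h => h.conj g⟩

/-- `T^i(p)`: the subgroup generated by the `U_q` with `q` at distance at most `i` from `p`. -/
def TT (i : ℕ) (p : G) : Subgroup G := ⨆ (q : G) (_ : Near i p q), UU q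

theorem TT_le_iff {i : ℕ} {p : G} {H : Subgroup G} : TT i p ≤ H ↔ ∀ q, Near i p q → UU q ≤ H :=
  iSup₂_le_iff

theorem Near.UU_le {i : ℕ} {p q : G} (h : Near i p q) : UU q ≤ TT i p :=
  le_iSup₂ (f := fun q (_ : Near i p q) => UU q) q h

theorem Pt.UU_le_TT {p : G} (h : Pt p) (i : ℕ) : UU p ≤ TT i p := (h.near i).UU_le

theorem TT_mono {i j : ℕ} (h : i ≤ j) (p : G) : TT i p ≤ TT j p :=
  TT_le_iff.2 fun _ hq => (hq.mono h).UU_le

theorem Near.TT_le {i j : ℕ} {p q : G} (h : Near i p q) : TT j q ≤ TT (i + j) p :=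
  TT_le_iff.2 fun _ hq => (h.trans hq).UU_le

theorem cj_TT_le (i : ℕ) (g p : G) : cj g (TT i p) ≤ TT i (g * p * g⁻¹) := by
  rw [cj_le_iff_le_cj_inv]
  exact TT_le_iff.2 fun q hq => cj_le_iff_le_cj_inv.1 (cj_UU g q ▸ (hq.conj g).UU_le)

theorem cj_TT (i : ℕ) (g p : G) : cj g (TT i p) = TT i (g * p * g⁻¹) := by
  refine le_antisymm (cj_TT_le i g p) ?_
  have := cj_TT_le i g⁻¹ (g * p * g⁻¹)
  rw [cj_inv_le_iff_le_cj] at this
  simpa [mul_assoc] using this

theorem Cz_le_normalizer_TT (i : ℕ) (p : G) : Cz p ≤ normalizer (TT i p : Set G) := fun g hg => by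
  rw [← cj_eq_self_iff, cj_TT, Cz_conj hg]

theorem conj_mem_TT_of_mem {i : ℕ} {p t g : G} (hg : g ∈ Cz p) (h : t ∈ TT i p) :
    g * t * g⁻¹ ∈ TT i p := mem_normalizer_conj (Cz_le_normalizer_TT i p hg) h

/-- The groups `U_p`, `U_q` commute whenever `p`, `q` are at distance less than `β`. -/
def Beta (G : Type*) [Group G] (β : ℕ) : Prop :=
  ∀ (n : ℕ) (p q : G), n < β → Near n p q → CommU p q

theorem Beta.commU {β n : ℕ} (h : Beta G β) {p q : G} (hn : n < β) (h' : Near n p q) : CommU p q :=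
  h n p q hn h'

theorem Beta.TT_le [Finite G] {β i j n : ℕ} (h : Beta G β) {p q : G} (hn : i + n + j < β)
    (h' : Near n p q) : TT i p ≤ centralizer (TT j q : Set G) :=
  TT_le_iff.2 fun _ hr => le_centralizer_iff.1 (TT_le_iff.2 fun _ hs =>
    (h.commU hn ((hr.symm.trans h').trans hs)).symm)

theorem Beta.TT_le_UU [Finite G] {β i n : ℕ} (h : Beta G β) {p q : G} (hn : i + n < β)
    (h' : Near n p q) : TT i p ≤ centralizer (UU q : Set G) :=
  TT_le_iff.2 fun _ hr => h.commU hn (hr.symm.trans h')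

theorem Beta.ea [Finite G] {β : ℕ} (h : Beta G β) (hβ : 1 ≤ β) {p : G} (hp : Pt p) :
    IsElementaryAbelian 2 (UU p) := ea_UU_of_comm (commU_iff.1 (h.commU hβ (hp.near 0)))

/-- A critical pair: `y`, `z` are at the critical distance `β` and `U_y`, `U_z` do not commute. -/
structure CP (β : ℕ) (y z : G) : Prop where
  pos : 1 ≤ β
  min : Beta G β
  near : Near β y z
  nc : ¬ CommU y z

theorem exists_CP [Finite G] {z : G} (hz : Pt z) (h : IsElementaryAbelian 2 (UU z)) :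
    ∃ (β : ℕ) (p q : G), CP β p q := by
  classical
  have hex : ∃ n, ∃ p q : G, Near n p q ∧ ¬ CommU p q := by
    by_contra hn
    push Not at hn
    obtain ⟨l, hl⟩ := hz
    let H : Subgroup G := ⨆ n, TT n z
    have hH : ∀ {K : Subgroup G}, H ≤ K ↔ ∀ n q, Near n z q → UU q ≤ K :=
      iSup_le_iff.trans (forall_congr' fun _ => TT_le_iff)
    have hc : H ≤ centralizer (H : Set G) := hH.2 fun _ _ hq => le_centralizer_iff.1
      (hH.2 fun _ _ hr => hn _ _ _ (hr.symm.trans hq))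
    have h2 : IsPGroup 2 H := isPGroup_of_ea (ea_of_sq fun x hx => by
      let K : Subgroup G :=
        { carrier := {x | x ∈ H ∧ x * x = 1}
          one_mem' := ⟨one_mem _, one_mul 1⟩
          mul_mem' := fun {a b} ha hb => ⟨mul_mem ha.1 hb.1, by
            rw [mul_assoc, ← mul_assoc b, hc ha.1 b hb.1, mul_assoc, hb.2, mul_one, ha.2]⟩
          inv_mem' := fun ha => ⟨inv_mem ha.1, by rw [← mul_inv_rev, ha.2, inv_one]⟩ }
      exact (hH (K := K).2 (fun n q hq u hu => ⟨hH.1 le_rfl n q hq hu, ea_sq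
        (ea_UU_of_comm (commU_iff.1 (hn 0 _ _ (hq.pt'.near 0)))) hu⟩) hx).2)
    have key : ∀ g : G, Near 1 z (g * z * g⁻¹) → g ∈ normalizer (H : Set G) := fun g hg =>
      mem_normalizer_of_cj_le (cj_le_iff_le_cj_inv.2 (hH.2 fun n q hq => cj_le_iff_le_cj_inv.1
        (cj_UU g q ▸ hH.1 le_rfl _ _ (hg.trans (hq.conj g)))))
    have := hl.mx_bot h2 (fun g hg => key g (hl.near (hl.conj_of_norm hg)))
      fun g hg => key g (by rw [Cz_conj hg]; exact hl.pt.near 1)
    exact hl.ne (mem_bot.1 (this ▸ hH.1 le_rfl 0 z (hl.pt.near 0) hl.pt.mem_UU))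
  obtain ⟨p, q, h1, h2⟩ := Nat.find_spec hex
  refine ⟨Nat.find hex, p, q, Nat.pos_of_ne_zero fun h0 => h2 ?_, fun n p q hn hpq =>
    by_contra fun hc => Nat.find_min hex hn ⟨p, q, hpq, hc⟩, h1, h2⟩
  rw [h0] at h1
  obtain rfl := h1.eq_of_zero
  obtain ⟨g, rfl⟩ := hz.exists_conj h1.pt
  exact CommU.conj (commU_iff.2 fun _ ha _ hu => ea_comm' h ha hu) g

namespace CP

variable {β : ℕ} {y z : G} (h : CP β y z)
include h

theorem pt : Pt y := h.near.pt
theorem pt' : Pt z := h.near.pt'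
theorem ah : AH G := h.pt.ah

theorem conj (g : G) : CP β (g * y * g⁻¹) (g * z * g⁻¹) :=
  ⟨h.pos, h.min, h.near.conj g, mt (commU_conj_iff g).1 h.nc⟩

theorem conj_of_mem {g : G} (hg : g ∈ Cz z) : CP β (g * y * g⁻¹) z := by
  have := h.conj g; rwa [Cz_conj hg] at this

theorem of_near {p q : G} (h1 : Near β p q) (h2 : ¬ CommU p q) : CP β p q :=
  ⟨h.pos, h.min, h1, h2⟩

theorem not_near {n : ℕ} (hn : n < β) : ¬ Near n y z := fun h' => h.nc (h.min.commU hn h')

theorem ne : y ≠ z := fun e => h.not_near h.pos (e ▸ h.pt.near 0)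

variable [Finite G]

theorem symm : CP β z y := ⟨h.pos, h.min, h.near.symm, fun h' => h.nc h'.symm⟩

theorem ea_of_pt {p : G} (hp : Pt p) : IsElementaryAbelian 2 (UU p) := h.min.ea h.pos hp
theorem ea : IsElementaryAbelian 2 (UU y) := h.ea_of_pt h.pt
theorem ea' : IsElementaryAbelian 2 (UU z) := h.ea_of_pt h.pt'

theorem eq_one_of_col (h' : Col y z) : β = 1 := by
  have := h.pos
  by_contra h1
  exact h.not_near (by omega) h'.near

theorem col (h : CP 1 y z) : Col y z := h.near.cases_one.resolve_left h.ne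

/-- The first step of a path from `y` to `z`. -/
theorem exists_step : ∃ p, Col y p ∧ Near (β - 1) p z := by
  obtain ⟨b, rfl⟩ := Nat.exists_eq_add_of_le' h.pos
  exact h.near.cases_succ.resolve_left h.ne

/-- The last step of a path from `y` to `z`. -/
theorem exists_step' : ∃ x, Col z x ∧ Near (β - 1) y x :=
  let ⟨x, h1, h2⟩ := h.symm.exists_step; ⟨x, h1, h2.symm⟩

theorem mem_centralizer : y ∈ centralizer (UU z : Set G) := by
  obtain ⟨p, h1, h2⟩ := h.exists_step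
  exact h.min.commU (Nat.sub_lt h.pos one_pos) h2 h1.symm.mem_UU

theorem mem_centralizer' : z ∈ centralizer (UU y : Set G) := h.symm.mem_centralizer

theorem le_Cz : UU y ≤ Cz z := fun a ha => mem_Cz.2 (h.mem_centralizer' a ha)
theorem le_Cz' : UU z ≤ Cz y := h.symm.le_Cz
theorem mem_XX : y ∈ XX z := centralizer_UU_le h.pt' h.mem_centralizer
theorem mem_XX' : z ∈ XX y := h.symm.mem_XX
theorem zpowers_le_XX : zpowers y ≤ XX z := zpowers_le.2 h.mem_XX
theorem zpowers_le_XX' : zpowers z ≤ XX y := zpowers_le.2 h.mem_XX'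

theorem comm_mem' {a u : G} (ha : a ∈ UU y) (hu : u ∈ UU z) : ⁅a, u⁆ ∈ UU z :=
  mul_mem (conj_mem_UU_of_mem (h.le_Cz ha) hu) (inv_mem hu)

theorem comm_mem {a u : G} (ha : a ∈ UU y) (hu : u ∈ UU z) : ⁅a, u⁆ ∈ UU y := by
  rw [← commutatorElement_inv]; exact inv_mem (h.symm.comm_mem' hu ha)

theorem zpowers_inf : zpowers y ⊓ zpowers z = ⊥ := eq_bot_iff.2 fun x hx => by
  rcases h.pt.mem_zpowers.1 hx.1 with e | e
  · exact e
  · rcases h.pt'.mem_zpowers.1 hx.2 with e' | e'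
    · exact e'
    · exact absurd (e.symm.trans e') h.ne

theorem not_mem_zpowers : y ∉ zpowers z := by
  rw [h.pt'.mem_zpowers, not_or]; exact ⟨h.pt.ne, h.ne⟩

/-- One of the two directions is active. -/
theorem active : ¬ UU y ≤ XX z ∨ ¬ UU z ≤ XX y := by
  by_contra hn
  push Not at hn
  refine h.nc (commU_iff.2 fun a ha u hu => commutatorElement_eq_one_iff_mul_comm.1 ?_)
  exact mem_bot.1 (h.zpowers_inf ▸ ⟨comm_mem_of_XX' (hn.2 hu) ha, comm_mem_of_XX (hn.1 ha) hu⟩)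

theorem le_Cz_of_mem_inf {c : G} (hc : c ∈ UU y) : UU y ≤ Cz c :=
  fun _ ha => mem_Cz.2 (ea_comm' h.ea ha hc)

end CP

theorem Pt.comm_congr {p n d u : G} (h : Pt p) (hd : d ∈ Cz p) (hn : n * d⁻¹ ∈ XX p)
    (hu : u ∈ UU p) : ⁅n, u⁆ * ⁅d, u⁆⁻¹ ∈ zpowers p := by
  have h1 := comm_mem_of_XX hn (conj_mem_UU_of_mem hd hu)
  convert h1 using 1
  simp only [commutatorElement_def]
  group

theorem comm_mem_of_normal {H N : Subgroup G} (hN : H ≤ normalizer (N : Set G)) {n u : G}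
    (hn : n ∈ N) (hu : u ∈ H) : ⁅n, u⁆ ∈ N := by
  have := mul_mem hn (mem_normalizer_conj (hN hu) (inv_mem hn))
  convert this using 1
  simp only [commutatorElement_def]
  group

theorem le_normalizer_inf_XX (p : G) (H : Subgroup G) :
    Cz p ⊓ H ≤ normalizer ((XX p ⊓ H : Subgroup G) : Set G) :=
  (inf_le_inf (Cz_le_normalizer_XX p) le_normalizer).trans inf_normalizer_le_normalizer_inf

/-- (PLp) -/
theorem CP.plp [Finite G] {β : ℕ} {y z : G} (h : CP β y z) {d e a u c : G} (hd : d ∈ Cz z)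
    (he : e ∈ Cz y) (od : Odd (orderOf d)) (oe : Odd (orderOf e)) (hdX : d ∉ XX z)
    (ha : a ∈ UU y) (hu : u ∈ UU z) (ia : ⁅e, a⁆ * d * ⁅e, a⁆⁻¹ * d ∈ XX z)
    (iu : ⁅d, u⁆ * e * ⁅d, u⁆⁻¹ * e ∈ XX y) (hc : c ∈ UU y) (hc' : c ∈ UU z) (hdc : d ∈ Cz c)
    (hec : e ∈ Cz c) : c = 1 := by
  by_contra h1
  have hA := h.le_Cz_of_mem_inf hc
  have hU := h.symm.le_Cz_of_mem_inf hc'
  have ha' : ⁅e, a⁆ ∈ UU y := mul_mem (conj_mem_UU_of_mem he ha) (inv_mem ha)
  have hu' : ⁅d, u⁆ ∈ UU z := mul_mem (conj_mem_UU_of_mem hd hu) (inv_mem hu)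
  refine PL' (Cz c) (ah_solvable_Cz h.ah (ea_sq h.ea hc) h1) inf_le_right inf_le_right
    (le_normalizer_inf_XX z _) (le_normalizer_inf_XX y _) ⟨hd, hdc⟩ ⟨he, hec⟩ (fun e => hdX e.1)
    od oe (by rw [pow_orderOf_eq_one]; exact one_mem _)
    (by rw [pow_orderOf_eq_one]; exact one_mem _)
    (mem_inf.2 ⟨ia, mul_mem (mul_mem (mul_mem (hA ha') hdc) (inv_mem (hA ha'))) hdc⟩)
    (mem_inf.2 ⟨iu, mul_mem (mul_mem (mul_mem (hU hu') hec) (inv_mem (hU hu'))) hec⟩) ?_ ?_
  · rintro N - hN ⟨n, hn, h2, h3⟩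
    have h4 : ⁅n, u⁆ ∈ UU z := mul_mem (conj_mem_UU_of_mem h2.1 hu) (inv_mem hu)
    exact ⟨⁅n, u⁆, comm_mem_of_normal hN hn (hU hu), ⟨h.le_Cz' h4, hU h4⟩,
      h.zpowers_le_XX' (h.pt'.comm_congr hd h3.1 hu), hU (mul_mem h4 (inv_mem hu'))⟩
  · rintro N - hN ⟨n, hn, h2, h3⟩
    have h4 : ⁅n, a⁆ ∈ UU y := mul_mem (conj_mem_UU_of_mem h2.1 ha) (inv_mem ha)
    exact ⟨⁅n, a⁆, comm_mem_of_normal hN hn (hA ha), ⟨h.le_Cz h4, hA h4⟩,
      h.zpowers_le_XX (h.pt.comm_congr he h3.1 ha), hA (mul_mem h4 (inv_mem ha'))⟩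

end Cfsg.Lib.Ngrp.Geo
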