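import Cfsg.Agent.Ngrp.AmLemA

/-! In a critical pair `(y, z)`, the group `U_y` induces a group of order two on `U_z / ⟨z⟩`. -/

set_option autoImplicit false

namespace Cfsg.Lib.Ngrp.Geo
open Subgroup Cfsg.Lib.Trans Cfsg.Lib.Local Cfsg.Lib.Local.JC Cfsg.Lib.Trans.TJ Cfsg.Lib.Local.Tv
open scoped commutatorElement

section Mod

variable {K V : Type*} [Group K] [CommGroup V] [MulDistribMulAction K V] [Finite V]

theorem card_cV_le_index_mul (g : K) (W : Subgroup V) :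
    Nat.card (cV V g) ≤ W.index * Nat.card (W.map (cm V g)) := by
  have h1 := card_cV_mul_fx (V := V) g
  have h2 := card_map_cm_mul g W
  have h3 := W.index_mul_card
  have h4 : Nat.card (W ⊓ fx V g : Subgroup V) ≤ Nat.card (fx V g) :=
    Subgroup.card_le_of_le inf_le_right
  refine Nat.le_of_mul_le_mul_right ?_ (Nat.card_pos (α := fx V g))
  rw [h1, ← h3, ← h2, mul_assoc]
  exact Nat.mul_le_mul_left _ (Nat.mul_le_mul_left _ h4)

theorem card_map_le_of_le_fx (hV : ∀ v : V, v * v = 1) {a d : K} (ha : a * a = 1)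
    (hd : Odd (orderOf d)) (hi : a * d * a⁻¹ = d⁻¹) {D : Subgroup V} (hD : D ≤ fx V a) :
    Nat.card (D.map (cm V d)) ≤ Nat.card ((cV V d).map (cm V a)) := by
  have h1 := rm2_card_le hV ha hd hi hD
  rw [← card_map_cm_mul d D] at h1
  exact Nat.le_of_mul_le_mul_right h1 Nat.card_pos

end Mod

variable {G : Type*} [Group G] [Finite G]

theorem card_img_le (p : G) {A : Subgroup G} (hA : A ≤ UU p) : Nat.card (img p A) ≤ Nat.card A :=
  (Nat.card_le_card_of_surjective _ (MonoidHom.subgroupMap_surjective _ _)).trans_eq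
    (Nat.card_congr (subgroupOfEquivOfLe hA).toEquiv)

namespace CP

variable {β : ℕ} {y z : G} (h : CP β y z)
include h

theorem imgK_sq {b : KK z} (hb : b ∈ imgK z (UU y)) : b * b = 1 := by
  obtain ⟨c, hc, hc', rfl⟩ := mem_imgK.1 hb
  exact star_sq hc' (ea_sq h.ea hc)

theorem cV_le_img {b : KK z} (hb : b ∈ imgK z (UU y)) : cV (VV z) b ≤ img z (UU y ⊓ UU z) := by
  obtain ⟨c, hc, hc', rfl⟩ := mem_imgK.1 hb
  intro x hx
  obtain ⟨u, hu, rfl⟩ := exists_comm_of_mem_cV hc' hx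
  exact bar_mem_img ⟨h.comm_mem hc hu, h.comm_mem' hc hu⟩ (h.comm_mem' hc hu)

theorem img_le_fx {b : KK z} (hb : b ∈ imgK z (UU y)) : img z (UU y ⊓ UU z) ≤ fx (VV z) b := by
  obtain ⟨c, hc, hc', rfl⟩ := mem_imgK.1 hb
  intro x hx
  obtain ⟨u, hu, hu', rfl⟩ := mem_img.1 hx
  rw [bar_mem_fx hc' hu', commutatorElement_eq_one_iff_mul_comm.2 (ea_comm' h.ea hc hu.1)]
  exact one_mem _

theorem quadOn {k : ℕ} (d : Fin k → KK z) : QuadOn (VV z) (imgK z (UU y)) d :=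
  quadOn_of_quad (fun _ hb _ hb' => (h.cV_le_img hb).trans (h.img_le_fx hb')) d

theorem bar_mem_U0 {u : G} (hu : u ∈ UU z) : bar z u ∈ img z (UU z ⊓ XX y) ↔ u ∈ XX y :=
  (h.pt'.bar_mem_img_iff (mem_inf.2 ⟨h.pt'.mem_UU, h.mem_XX'⟩) hu).trans (and_iff_right hu)

theorem index_U0 : (img z (UU z ⊓ XX y)).index = Nat.card (imgK y (UU z)) := by
  have h1 := card_imgK h.le_Cz'
  have h2 := h.pt'.card_img (mem_inf.2 ⟨h.pt'.mem_UU, h.mem_XX'⟩) inf_le_left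
  have h3 := (img z (UU z ⊓ XX y)).index_mul_card
  rw [h.pt'.card_UU, h2, ← h3, mul_assoc, mul_comm (Nat.card _)] at h1
  exact Nat.eq_of_mul_eq_mul_right Nat.card_pos (Nat.eq_of_mul_eq_mul_left two_pos h1)

theorem img_le_U0 : img z (UU y ⊓ UU z) ≤ img z (UU z ⊓ XX y) :=
  img_mono (le_inf inf_le_right (inf_le_left.trans (UU_le_XX y)))

theorem cm_U0 {b : KK z} (hb : b ∈ imgK z (UU y)) {x : VV z} (hx : x ∈ img z (UU z ⊓ XX y)) :
    cm (VV z) b x = 1 ∨ (y ∈ UU z ∧ cm (VV z) b x = bar z y) := by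
  obtain ⟨c, hc, hc', rfl⟩ := mem_imgK.1 hb
  obtain ⟨u, hu, hu', rfl⟩ := mem_img.1 hx
  rw [← bar_comm hc' hu']
  rcases h.pt.mem_zpowers.1 (comm_mem_of_XX' hu.2 hc) with e | e
  · exact Or.inl (by rw [e, bar_one])
  · exact Or.inr ⟨e ▸ h.comm_mem' hc hu', by rw [e]⟩

theorem card_cV_le {b : KK z} (hb : b ∈ imgK z (UU y)) :
    Nat.card (cV (VV z) b) ≤ Nat.card (imgK y (UU z)) * 2 := by
  refine (card_cV_le_index_mul b _).trans (Nat.mul_le_mul h.index_U0.le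
    ((Subgroup.card_le_of_le ?_).trans (card_zpowers_le_of_expo VV_sq (bar z y))))
  rintro _ ⟨x, hx, rfl⟩
  rcases h.cm_U0 hb hx with e | ⟨-, e⟩ <;> rw [e]
  exacts [one_mem _, mem_zpowers _]

/-- The solvability obstruction, in terms of the two modules. -/
theorem plpM {δ : KK z} {ε : KK y} (oδ : Odd (orderOf δ)) (oε : Odd (orderOf ε)) (h1 : δ ≠ 1)
    {a w c : G} (ha : a ∈ UU y) (ha' : bar y a ∈ cV (VV y) ε)
    (ia : star z a * δ * (star z a)⁻¹ = δ⁻¹) (hw : w ∈ UU z) (hw' : bar z w ∈ cV (VV z) δ)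
    (iw : star y w * ε * (star y w)⁻¹ = ε⁻¹) (hc : c ∈ UU y ⊓ UU z)
    (c1 : bar z c ∈ fx (VV z) δ) (c2 : bar y c ∈ fx (VV y) ε) : c = 1 := by
  obtain ⟨d, hd, od, rfl⟩ := exists_star_odd oδ
  obtain ⟨e, he, oe, rfl⟩ := exists_star_odd oε
  have key : ∀ {y z : G}, CP β y z → ∀ {a e : G}, a ∈ UU y → e ∈ Cz y →
      bar y a ∈ cV (VV y) (star y e) → ∃ a' ∈ UU y, star z ⁅e, a'⁆ = star z a := by
    intro y z h a e ha he ha'
    obtain ⟨u, hu, h2⟩ := exists_comm_of_mem_cV he ha'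
    have h3 := comm_mem_UU_of_Cz he hu
    exact ⟨u, hu, (star_eq_star (h.le_Cz h3) (h.le_Cz ha)).2
      (h.zpowers_le_XX ((bar_eq_bar h3 ha).1 h2))⟩
  obtain ⟨a', h2, h3⟩ := key h ha he ha'
  obtain ⟨w', h4, h5⟩ := key h.symm hw hd hw'
  exact h.plp hd he od oe (fun e => h1 (star_of_mem e)) h2 h4
    (inverts_mem_XX (h.le_Cz (comm_mem_UU_of_Cz he h2)) hd (h3 ▸ ia))
    (inverts_mem_XX (h.le_Cz' (comm_mem_UU_of_Cz hd h4)) he (h5 ▸ iw)) hc.1 hc.2
    (h.pt'.mem_Cz_of_fx hd od hc.2 c1) (h.pt.mem_Cz_of_fx he oe hc.1 c2)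

theorem card_inf_le {δ : KK z} {ε : KK y} (oδ : Odd (orderOf δ)) (oε : Odd (orderOf ε))
    (h1 : δ ≠ 1) {a w : G} (ha : a ∈ UU y) (ha' : bar y a ∈ cV (VV y) ε)
    (ia : star z a * δ * (star z a)⁻¹ = δ⁻¹) (hw : w ∈ UU z) (hw' : bar z w ∈ cV (VV z) δ)
    (iw : star y w * ε * (star y w)⁻¹ = ε⁻¹) : Nat.card (UU y ⊓ UU z : Subgroup G) ≤
      Nat.card ((cV (VV z) δ).map (cm (VV z) (star z a))) *
        Nat.card ((cV (VV y) ε).map (cm (VV y) (star y w))) := by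
  have m1 := star_mem_imgK ha (h.le_Cz ha)
  have m2 := star_mem_imgK hw (h.le_Cz' hw)
  refine le_trans ?_ (Nat.mul_le_mul
    (card_map_le_of_le_fx VV_sq (h.imgK_sq m1) oδ ia (h.img_le_fx m1))
    (card_map_le_of_le_fx VV_sq (h.symm.imgK_sq m2) oε iw (h.symm.img_le_fx m2)))
  rw [← Nat.card_prod]
  refine Nat.card_le_card_of_injective (fun c : (UU y ⊓ UU z : Subgroup G) =>
    (⟨_, mem_map_of_mem _ (bar_mem_img c.2 c.2.2)⟩,
      ⟨_, mem_map_of_mem _ (bar_mem_img (mem_inf.2 ⟨c.2.2, c.2.1⟩) c.2.1)⟩)) fun c c' e => ?_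
  have e1 : cm _ δ (bar z c) = cm _ δ (bar z c') := congrArg (fun t => (t.1 : VV z)) e
  have e2 : cm _ ε (bar y c) = cm _ ε (bar y c') := congrArg (fun t => (t.2 : VV y)) e
  refine Subtype.ext (mul_inv_eq_one.1 (h.plpM oδ oε h1 ha ha' ia hw hw' iw
    (mul_mem c.2 (inv_mem c'.2)) ?_ ?_))
  · rw [bar_mul c.2.2 (inv_mem c'.2.2), bar_inv c'.2.2, fx, MonoidHom.mem_ker, map_mul, map_inv, e1,
      mul_inv_cancel]
  · rw [bar_mul c.2.1 (inv_mem c'.2.1), bar_inv c'.2.1, fx, MonoidHom.mem_ker, map_mul, map_inv, e2,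
      mul_inv_cancel]

variable {k : ℕ} {α δ : Fin k → KK z} (hF : Frame (imgK z (UU y)) α δ)
include hF

theorem prod_le : ∏ i, Nat.card ((cV (VV z) (δ i)).map (cm (VV z) (α i))) ≤
    Nat.card (imgK y (UU z)) * 2 := by
  obtain ⟨b, hb, -, h1, -⟩ := hF.rm3_exists (red z) (h.quadOn δ)
  exact h1.trans (h.card_cV_le hb)

theorem prod_le_img (J : Finset (Fin k)) :
    ∏ i ∈ J, Nat.card ((cV (VV z) (δ i)).map (cm (VV z) (α i))) ≤
      Nat.card (img z (UU y ⊓ UU z)) :=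
  hF.rm3_prod_le (red z) (h.quadOn δ) J fun i _ => (map_cm_le_cV _ _).trans (h.cV_le_img (hF.mem i))

theorem card_ne_eight (hk : 2 ≤ k) : Nat.card (UU z) ≠ 8 := fun e => by
  have h1 := hF.rm3_card (red z) (h.quadOn δ)
  have h2 := h.pt'.card_UU
  have h3 : 4 ^ 2 ≤ 4 ^ k := Nat.pow_le_pow_right (by decide) hk
  omega

omit h in
theorem cmp {i : Fin k} (hi : Nat.card ((cV (VV z) (δ i)).map (cm (VV z) (α i))) = 2) :
    Cmp (VV z) (δ i) := ⟨hF.dF i, by rw [hF.card_cV (red z), hi]; rfl⟩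

theorem indep (hk : 2 ≤ k) {J : Finset (Fin k)} {w : Fin k → VV z}
    (hw : ∀ i ∈ J, w i ∈ cV (VV z) (δ i)) (hJ : ∏ i ∈ J, w i ∈ img z (UU z ⊓ XX y)) {j : Fin k}
    (hj : j ∈ J) (hj' : Nat.card ((cV (VV z) (δ j)).map (cm (VV z) (α j))) = 2) :
    w j ∈ fx (VV z) (α j) := by
  have hr := red z
  have key : ∀ i ∈ J, w i ∉ fx (VV z) (α i) → y ∈ UU z ∧ cm (VV z) (α i) (w i) = bar z y :=
    fun i hi hn => by
      have := h.cm_U0 (hF.mem i) hJ
      rw [hF.rm3_cm_prod hr (h.quadOn δ) J hw hi] at this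
      exact this.resolve_left hn
  by_contra hn
  obtain ⟨hy, h1⟩ := key j hj hn
  have h2 : bar z y ∈ cV (VV z) (δ j) := h1 ▸ (hF.invt_cV (hF.mem j) j).cm_mem (hw j hj)
  have h0 : bar z y ≠ 1 := h1 ▸ hn
  have h3 : w j ∈ img z (UU z ⊓ XX y) := by
    rw [← Finset.mul_prod_erase J w hj] at hJ
    refine (mul_mem_cancel_right (prod_mem fun i hi => ?_)).1 hJ
    obtain ⟨hij, hi⟩ := Finset.mem_erase.1 hi
    have h4 : w i ∈ fx (VV z) (α i) := by
      by_contra h4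
      refine h0 (eq_one_of_mem_cV_fx VV_sq (hF.odd j) h2 (hF.rm3_fx_d hr (h.quadOn δ) hij ?_))
      exact (key i hi h4).2 ▸ (hF.invt_cV (hF.mem i) i).cm_mem (hw i hi)
    have h5 : w i ∈ cV (VV z) (δ i) ⊓ fx (VV z) (α i) := ⟨hw i hi, h4⟩
    rw [rm2_cV_inf_fx VV_sq (hF.a_sq i) (hF.odd i) (hF.inv i)] at h5
    exact h.img_le_U0 (h.cV_le_img (hF.mem i) (map_cm_le_cV _ _ h5))
  have h4 : bar z y ∈ img z (UU z ⊓ XX y) := (h.bar_mem_U0 hy).2 (UU_le_XX y h.pt.mem_UU)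
  have h5 : bar z y ∈ fx (VV z) (α j) := h.img_le_fx (hF.mem j) (bar_mem_img ⟨h.pt.mem_UU, hy⟩ hy)
  have hc := cmp hF hj'
  refine h.card_ne_eight hF hk (h.lemA hc (mem_pre.2 ⟨hy, h2⟩) (fun x hx a ha => ?_) ?_)
  · obtain ⟨hx, hx'⟩ := mem_pre.1 hx
    refine comm_mem_of_XX ((h.bar_mem_U0 hx).1 ?_) ha
    rcases (four_elems VV_sq hc.card h2 (hw j hj) h0 (fun e => hn (e ▸ one_mem _))
      fun e => hn (e ▸ h5)).1 hx' with e | e | e | e <;> rw [e]
    exacts [one_mem _, h4, h3, mul_mem h4 h3]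
  · obtain ⟨x, hx, e⟩ := exists_bar (w j)
    obtain ⟨a, ha, ha', e'⟩ := mem_imgK.1 (hF.mem j)
    refine ⟨x, mem_pre.2 ⟨hx, e ▸ hw j hj⟩, a, ha, fun e'' => hn ?_⟩
    rw [← e, ← e', bar_mem_fx ha' hx, ← commutatorElement_inv, e'', inv_one]
    exact one_mem _

theorem star_ne_one (hk : 2 ≤ k) {i : Fin k}
    (hi : Nat.card ((cV (VV z) (δ i)).map (cm (VV z) (α i))) = 2) {w : G} (hw : w ∈ UU z)
    (h1 : bar z w ∈ cV (VV z) (δ i)) (h2 : bar z w ∉ fx (VV z) (α i)) : star y w ≠ 1 :=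
  fun e => h2 (h.indep hF hk (J := {i}) (w := fun _ => bar z w) (by simpa using h1)
    (by simpa using (h.bar_mem_U0 hw).2 ((star_eq_one (h.le_Cz' hw)).1 e)) (by simp) hi)

theorem pow_le (hk : 2 ≤ k)
    (hi : ∀ i, Nat.card ((cV (VV z) (δ i)).map (cm (VV z) (α i))) = 2) :
    2 ^ k ≤ Nat.card (imgK y (UU z)) := by
  choose w hw hw' using fun i => SetLike.not_le_iff_exists.1 (hF.not_le_fx (red z) i)
  have : Nat.card (Fin k → Bool) ≤ Nat.card (VV z ⧸ img z (UU z ⊓ XX y)) := by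
    refine Nat.card_le_card_of_injective
      (fun s => QuotientGroup.mk (∏ i, if s i then w i else 1)) fun s t e => funext fun j => ?_
    rw [QuotientGroup.eq, VV_inv, ← Finset.prod_mul_distrib] at e
    have := h.indep hF hk (fun i _ => mul_mem (by split_ifs; exacts [hw i, one_mem _])
      (by split_ifs; exacts [hw i, one_mem _])) e (Finset.mem_univ j) (hi j)
    by_contra h1
    cases hs : s j <;> cases ht : t j <;> simp_all
  rwa [← index_eq_card, h.index_U0, Nat.card_fun, Nat.card_eq_fintype_card,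
    Nat.card_eq_fintype_card, Fintype.card_bool, Fintype.card_fin] at this

theorem inverts_of_not_mem {i : Fin k} {a w : G} (ha : a ∈ UU y) (hw : w ∈ UU z)
    (h1 : bar z w ∈ cV (VV z) (δ i)) (h2 : ⁅a, w⁆ ∉ zpowers z) :
    star z a * δ i * (star z a)⁻¹ = (δ i)⁻¹ :=
  (hF.comm_or_inverts (star_mem_imgK ha (h.le_Cz ha)) i).resolve_left fun e =>
    h2 ((bar_mem_fx (h.le_Cz ha) hw).1 (hF.rm3_fx_of_comm (red z) (h.quadOn δ)
      (star_mem_imgK ha (h.le_Cz ha)) e h1))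

/-- The commutators of `U_y` with an element over a component. -/
theorem exists_centre {i : Fin k}
    (hi : Nat.card ((cV (VV z) (δ i)).map (cm (VV z) (α i))) = 2) {w : G} (hw : w ∈ UU z)
    (h1 : bar z w ∈ cV (VV z) (δ i)) (h2 : bar z w ∉ fx (VV z) (α i)) :
    ∃ u ∈ UU y ⊓ UU z, bar z u ≠ 1 ∧ bar z u ∈ cV (VV z) (δ i) ∧
      (cV (VV z) (δ i)).map (cm (VV z) (α i)) = zpowers (bar z u) ∧
      ∀ a ∈ UU y, ⁅w, a⁆ = 1 ∨ ⁅w, a⁆ = z ∨ ⁅w, a⁆ = u ∨ ⁅w, a⁆ = z * u := by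
  obtain ⟨a, ha, ha', e⟩ := mem_imgK.1 (hF.mem i)
  have h3 : ∀ a ∈ UU y, ⁅w, a⁆ = ⁅a, w⁆ := fun a ha => by
    rw [← commutatorElement_inv, inv_eq_of_sq (ea_sq h.ea (h.comm_mem ha hw))]
  have h4 := h.comm_mem' ha hw
  have h5 : bar z ⁅a, w⁆ ∈ (cV (VV z) (δ i)).map (cm (VV z) (α i)) :=
    ⟨_, h1, by rw [bar_comm ha' hw, e]⟩
  have h6 : bar z ⁅a, w⁆ ≠ 1 := by rwa [bar_comm ha' hw, e]
  have h7 : (cV (VV z) (δ i)).map (cm (VV z) (α i)) = zpowers (bar z ⁅a, w⁆) :=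
    (eq_of_le_of_card_le (zpowers_le.2 h5) (by rw [hi, card_zpowers_of_expo VV_sq h6])).symm
  refine ⟨_, ⟨h.comm_mem ha hw, h4⟩, h6, (hF.invt_cV (hF.mem i) i).map_le h5, h7, fun b hb => ?_⟩
  rw [h3 b hb]
  by_cases h8 : ⁅b, w⁆ ∈ zpowers z
  · exact (h.pt'.mem_zpowers.1 h8).imp_right Or.inl
  have h9 := hF.rm3_smul_eq (red z) (h.quadOn δ) (star_mem_imgK hb (h.le_Cz hb))
    (h.inverts_of_not_mem hF hb hw h1 h8) h1
  refine Or.inr (Or.inr ((h.pt'.bar_eq_bar (h.comm_mem' hb hw) h4).1 ?_))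
  rw [bar_comm (h.le_Cz hb) hw, bar_comm ha' hw, cm_apply, cm_apply, h9, e]

theorem isTv_of_centre (hk : 2 ≤ k) {i : Fin k}
    (hi : Nat.card ((cV (VV z) (δ i)).map (cm (VV z) (α i))) = 2) {w : G} (hw : w ∈ UU z)
    (h1 : bar z w ∈ cV (VV z) (δ i)) (h2 : bar z w ∉ fx (VV z) (α i)) {x : VV y}
    (h3 : ∀ a ∈ UU y, bar y ⁅w, a⁆ = 1 ∨ bar y ⁅w, a⁆ = x) : IsTv (star y w) x := by
  refine isTv_of_le VV_sq (star_sq (h.le_Cz' hw) (ea_sq h.ea' hw)) (fun v hv => ?_)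
    ((red y).cV_ne_bot (h.star_ne_one hF hk hi hw h1 h2))
  obtain ⟨a, ha, rfl⟩ := exists_comm_of_mem_cV (h.le_Cz' hw) hv
  exact (mem_zpowers_iff_of_expo VV_sq).2 (h3 a ha)

theorem not_isTv (hk : 2 ≤ k) {i : Fin k}
    (hi : Nat.card ((cV (VV z) (δ i)).map (cm (VV z) (α i))) = 2) {w : G} (hw : w ∈ UU z)
    (h1 : bar z w ∈ cV (VV z) (δ i)) (h2 : bar z w ∉ fx (VV z) (α i)) {x : VV y} :
    ¬ IsTv (star y w) x := fun ht => by
  have hr := red z
  have hr' := red y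
  have hwy := h.le_Cz' hw
  obtain ⟨ε, hε, iε, hx, -⟩ := hr'.tv_exists ht
  obtain ⟨-, -, -, h3, h4⟩ := hr'.tv_of_inverts ht hε.mem hε.ne_one iε
  obtain ⟨v, hv, hv'⟩ := SetLike.not_le_iff_exists.1
    (hr'.not_cV_le_fx ht.sq (hε.odd hr') iε hε.ne_one)
  obtain ⟨a, ha, rfl⟩ := exists_bar v
  have haz := h.le_Cz ha
  have h5 : ∀ b ∈ UU y, bar y ⁅w, b⁆ = 1 ∨ bar y ⁅w, b⁆ = x := fun b hb =>
    (mem_zpowers_iff_of_expo VV_sq).1 (isTv_cV VV_sq ht ▸ bar_comm hwy hb ▸ cm_mem_cV _ _)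
  have h6 : bar y ⁅w, a⁆ = x := (h5 a ha).resolve_left (by rwa [bar_comm hwy ha])
  by_cases h7 : ⁅a, w⁆ ∈ zpowers z
  · have h8 : ⁅w, a⁆ = z := by
      rw [← commutatorElement_inv, ← h.pt'.inv, inv_inj]
      refine (h.pt'.mem_zpowers.1 h7).resolve_left fun e => ht.ne ?_
      rw [← h6, ← commutatorElement_inv, e, inv_one, bar_one]
    rw [h8] at h6
    have hz : z ∈ UU y := h8 ▸ h.symm.comm_mem' hw ha
    by_cases h9 : a ∈ XX z
    · refine h.card_ne_eight hF hk ((h.pt'.card_UU_eq h.pt).trans (h.symm.lemA hε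
        (mem_pre.2 ⟨hz, h6 ▸ hx⟩) (fun c hc u hu => comm_mem_of_XX ?_ hu) ⟨a, mem_pre.2 ⟨ha, hv⟩, w,
          hw, fun e => h.pt'.ne (by rw [← h8, ← commutatorElement_inv, e, inv_one])⟩))
      obtain ⟨hc, hc'⟩ := mem_pre.1 hc
      have h10 := (h.symm.bar_mem_U0 ha).2 h9
      have h11 := (h.symm.bar_mem_U0 hz).2 (UU_le_XX z h.pt'.mem_UU)
      refine (h.symm.bar_mem_U0 hc).1 ?_
      rcases (four_elems VV_sq hε.card hx hv ht.ne (fun e => hv' (e ▸ one_mem _))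
        fun e => hv' (e ▸ inf2 (h4 ▸ mem_zpowers x))).1 hc' with e | e | e | e <;> rw [e]
      exacts [one_mem _, h6 ▸ h11, h10, mul_mem (h6 ▸ h11) h10]
    have h10 : ∀ {c : G}, c ∈ UU y → c ∈ UU z → bar y c = 1 ∨ bar y c = x →
        bar z c = 1 ∨ (y ∈ UU z ∧ bar z c = bar z y) := fun {c} hc hc' e => by
      rcases e with e | e
      · rcases (h.pt.bar_eq_one hc).1 e with e | e
        exacts [Or.inl (by rw [e, bar_one]), Or.inr ⟨e ▸ hc', by rw [e]⟩]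
      · rcases (h.pt.bar_eq_bar hc hz).1 (e.trans h6.symm) with e | e
        · exact Or.inl (by rw [e, bar_self])
        · have hy : y ∈ UU z := (mul_mem_cancel_right h.pt'.mem_UU).1 (e ▸ hc')
          exact Or.inr ⟨hy, by rw [e, h.pt'.bar_mul_right hy]⟩
    have h11 : IsTv (star z a) (bar z y) := by
      refine isTv_of_le VV_sq (star_sq haz (ea_sq h.ea ha)) (fun v hv0 => ?_)
        (hr.cV_ne_bot fun e => h9 ((star_eq_one haz).1 e))
      obtain ⟨u, hu, rfl⟩ := exists_comm_of_mem_cV haz hv0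
      have h12 := h.symm.comm_mem' hu ha
      have h13 : bar y ⁅u, a⁆ ∈ cV (VV y) ε ⊓ fx (VV y) (star y w) := by
        refine ⟨?_, h.symm.img_le_fx (star_mem_imgK hw hwy)
          (bar_mem_img (mem_inf.2 ⟨h.symm.comm_mem hu ha, h12⟩) h12)⟩
        rw [bar_comm (h.le_Cz' hu) ha]
        refine (hε.invt_of_fix hr' hx ht.ne ?_).cm_mem hv
        rw [← h6, star_smul (h.le_Cz' hu) hz, Cz_conj (UU_le_Cz z hu)]
      rw [h4, mem_zpowers_iff_of_expo VV_sq] at h13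
      rw [← commutatorElement_inv, bar_inv' (h.symm.comm_mem hu ha), mem_zpowers_iff_of_expo VV_sq]
      exact (h10 h12 (h.symm.comm_mem hu ha) h13).imp_right And.right
    obtain ⟨b, hb, hb', e⟩ := mem_imgK.1 (hF.mem i)
    have h12 : bar z ⁅w, b⁆ = cm (VV z) (α i) (bar z w) := by
      rw [← commutatorElement_inv, bar_inv' (h.comm_mem' hb hw), bar_comm hb' hw, e]
    obtain ⟨-, h13⟩ := (h10 (h.symm.comm_mem' hw hb) (h.symm.comm_mem hw hb)
      (h5 b hb)).resolve_left (by rwa [h12])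
    have h14 := hr.tv_inverts_of_mem h11 (cmp hF hi)
      (h13 ▸ h12 ▸ (hF.invt_cV (hF.mem i) i).cm_mem h1)
    refine h2 (mem_fx.2 ?_)
    rw [← hF.rm3_smul_eq hr (h.quadOn δ) (star_mem_imgK ha haz) h14 h1, star_smul_eq_iff haz hw]
    exact h7
  have h8 := h.inverts_of_not_mem hF ha hw h1 h7
  have h9 := h.card_inf_le (hF.odd i) (hε.odd hr') (hF.d_ne i) ha hv h8 hw h1 iε
  rw [hF.rm3_map_eq hr (h.quadOn δ) (star_mem_imgK ha haz) h8, hi, h3,
    card_zpowers_of_expo VV_sq ht.ne] at h9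
  obtain ⟨j, hj⟩ : ∃ j : Fin k, j ≠ i :=
    Fintype.exists_ne_of_one_lt_card (by rw [Fintype.card_fin]; exact hk) i
  have h10 := h.prod_le_img hF {i, j}
  rw [Finset.prod_pair hj.symm, hi] at h10
  have h11 := hF.two_le hr j
  have h12 := card_img_le z (inf_le_right : UU y ⊓ UU z ≤ UU z)
  have hz : z ∉ UU y := fun e => by
    have := h.pt'.card_img (mem_inf.2 ⟨e, h.pt'.mem_UU⟩) inf_le_right
    omega
  have hj2 : Nat.card ((cV (VV z) (δ j)).map (cm (VV z) (α j))) = 2 := by omega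
  obtain ⟨v', hw1, hw2⟩ := SetLike.not_le_iff_exists.1 (hF.not_le_fx hr j)
  obtain ⟨w', hw', rfl⟩ := exists_bar v'
  obtain ⟨u, hu, u1, u2, -, u3⟩ := h.exists_centre hF hj2 hw' hw1 hw2
  have ht' : IsTv (star y w') (bar y u) := h.isTv_of_centre hF hk hj2 hw' hw1 hw2 fun b hb => by
    have := h.symm.comm_mem' hw' hb
    rcases u3 b hb with e | e | e | e
    · exact Or.inl (by rw [e, bar_one])
    · exact (hz (e ▸ this)).elim
    · exact Or.inr (by rw [e])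
    · exact (hz ((mul_mem_cancel_right (inf1 hu)).1 (e ▸ this))).elim
  obtain ⟨ε', hε', -, hx', -⟩ := hr'.tv_exists ht'
  refine u1 ((congrArg _ (h.plpM (hF.odd i) (hε.odd hr') (hF.d_ne i) ha hv h8 hw h1 iε hu
    (hF.rm3_fx_d hr (h.quadOn δ) hj u2) ((hε.sep hr' hε' fun hs => ?_).right hx'))).trans bar_one)
  have h13 := (hr'.tv_eq_of_comm ht ht' hε hx (hs.cV_eq (V := VV y) ▸ hx') (by
    rw [← star_mul (h.le_Cz' hw') hwy, ← star_mul hwy (h.le_Cz' hw'), ea_comm' h.ea' hw hw'])).1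
  rw [star_eq_star hwy (h.le_Cz' hw'), ← h.bar_mem_U0 (mul_mem hw (inv_mem hw')),
    bar_mul hw (inv_mem hw'), bar_inv' hw'] at h13
  have h14 := h.indep hF hk (J := {i, j}) (w := fun l => if l = i then bar z w else bar z w')
    (by simp [h1, hj, hw1]) (by simpa [Finset.prod_pair hj.symm, hj] using h13) (by simp) hi
  exact h2 (by simpa using h14)

theorem mem_of_centre (hk : 2 ≤ k) {i : Fin k}
    (hi : Nat.card ((cV (VV z) (δ i)).map (cm (VV z) (α i))) = 2) :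
    z ∈ UU y ∧ y ∉ pre z (cV (VV z) (δ i)) := by
  obtain ⟨v, h1, h2⟩ := SetLike.not_le_iff_exists.1 (hF.not_le_fx (red z) i)
  obtain ⟨w, hw, rfl⟩ := exists_bar v
  obtain ⟨u, hu, u1, u2, u3, u4⟩ := h.exists_centre hF hi hw h1 h2
  refine ⟨by_contra fun hz => h.not_isTv hF hk hi hw h1 h2 (h.isTv_of_centre hF hk hi hw h1 h2
    (x := bar y u) fun b hb => ?_), fun hy => h.not_isTv hF hk hi hw h1 h2
      (h.isTv_of_centre hF hk hi hw h1 h2 (x := bar y z) fun b hb => ?_)⟩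
  · have := h.symm.comm_mem' hw hb
    rcases u4 b hb with e | e | e | e
    · exact Or.inl (by rw [e, bar_one])
    · exact (hz (e ▸ this)).elim
    · exact Or.inr (by rw [e])
    · exact (hz ((mul_mem_cancel_right (inf1 hu)).1 (e ▸ this))).elim
  · obtain ⟨hy, hy'⟩ := mem_pre.1 hy
    have h3 : bar z y ∈ cV (VV z) (δ i) ⊓ fx (VV z) (α i) :=
      ⟨hy', h.img_le_fx (hF.mem i) (bar_mem_img (mem_inf.2 ⟨h.pt.mem_UU, hy⟩) hy)⟩
    rw [rm2_cV_inf_fx VV_sq (hF.a_sq i) (hF.odd i) (hF.inv i), u3, mem_zpowers_iff_of_expo VV_sq,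
      bar_eq_one hy, h.pt'.bar_eq_bar hy hu.2] at h3
    have h4 := h.symm.comm_mem' hw hb
    have h5 : ∀ c ∈ UU y, y = c ∨ y = z * c → bar y c = 1 ∨ bar y c = bar y z := fun c hc e => by
      rcases e with e | e
      · exact Or.inl (by rw [← e, bar_self])
      · have hz : z ∈ UU y := (mul_mem_cancel_right hc).1 (e ▸ h.pt.mem_UU)
        refine Or.inr ((h.pt.bar_eq_bar hc hz).2 (Or.inr ?_))
        rw [← ea_comm' h.ea hz h.pt.mem_UU, e, ← mul_assoc, h.pt'.sq, one_mul]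
    have h6 := h3.resolve_left h.not_mem_zpowers
    rcases u4 b hb with e | e | e | e
    · exact Or.inl (by rw [e, bar_one])
    · exact Or.inr (by rw [e])
    · exact h5 _ h4 (e ▸ h6)
    · refine h5 _ h4 (e ▸ h6.symm.imp_right fun e' => ?_)
      rw [← mul_assoc, h.pt'.sq, one_mul, e']

theorem exists_two (hk : 2 ≤ k) (h1 : Nat.card (imgK y (UU z)) ≤ 2 ^ k) :
    ∃ i, Nat.card ((cV (VV z) (δ i)).map (cm (VV z) (α i))) = 2 := by
  by_contra hn
  push Not at hn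
  have h2 : ∏ _ : Fin k, 4 ≤ ∏ i, Nat.card ((cV (VV z) (δ i)).map (cm (VV z) (α i))) := by
    refine Finset.prod_le_prod' fun i _ => ?_
    obtain ⟨n, e⟩ := exists_card_eq_two_pow VV_sq ((cV (VV z) (δ i)).map (cm (VV z) (α i)))
    have h3 := hF.two_le (red z) i
    have h4 := hn i
    rw [e] at h3 h4 ⊢
    rcases n with _ | _ | n
    exacts [absurd h3 (by decide), absurd rfl h4, by omega]
  have h3 := h.prod_le hF
  have h4 : 2 ^ 2 ≤ 2 ^ k := Nat.pow_le_pow_right (by decide) hk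
  rw [Finset.prod_const, Finset.card_univ, Fintype.card_fin, show 4 = 2 * 2 from rfl, mul_pow] at h2
  nlinarith

theorem two_pow_le (hk : 2 ≤ k) : 2 ^ k ≤ Nat.card (imgK y (UU z)) := by
  by_contra hn
  refine hn (h.pow_le hF hk fun i => ?_)
  obtain ⟨k', α', δ', hF'⟩ := (red y).exists_frame' fun _ => h.symm.imgK_sq
  have h1 := h.prod_le hF
  rw [← Finset.mul_prod_erase _ _ (Finset.mem_univ i)] at h1
  have h2 := hF.two_pow_le_prod (red z) (Finset.univ.erase i)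
  rw [Finset.card_erase_of_mem (Finset.mem_univ i), Finset.card_univ, Fintype.card_fin] at h2
  have h3 := hF.two_le (red z) i
  rw [hF'.card] at h1 hn
  have h4 : 2 ^ k' ≤ 2 ^ (k - 1) := Nat.pow_le_pow_right (by decide)
    (Nat.le_sub_one_of_lt (lt_of_not_ge fun e => hn (Nat.pow_le_pow_right (by decide) e)))
  have h5 : 0 < 2 ^ (k - 1) := by positivity
  nlinarith

theorem false_of_rank (hk : 2 ≤ k) (h1 : Nat.card (imgK y (UU z)) ≤ 2 ^ k) : False := by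
  have hr := red z
  have hr' := red y
  obtain ⟨κ, ε, hF'⟩ := hr'.exists_frame (fun _ => h.symm.imgK_sq)
    (h1.antisymm (h.two_pow_le hF hk))
  obtain ⟨i, hi⟩ := h.exists_two hF hk h1
  obtain ⟨i', hi'⟩ := h.symm.exists_two hF' hk hF.card.le
  obtain ⟨v, w1, w2⟩ := SetLike.not_le_iff_exists.1 (hF.not_le_fx hr i)
  obtain ⟨w, hw, rfl⟩ := exists_bar v
  have hwy := h.le_Cz' hw
  have hm := star_mem_imgK hw hwy
  obtain ⟨j, hj⟩ : ∃ j, star y w * ε j * (star y w)⁻¹ = (ε j)⁻¹ := by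
    by_contra hn
    push Not at hn
    exact h.star_ne_one hF hk hi hw w1 w2
      (hF'.faith _ hm fun j => (hF'.comm_or_inverts hm j).resolve_right (hn j))
  have h2 := hF'.rm3_map_eq hr' (h.symm.quadOn ε) hm hj
  have h3 := hF'.two_le hr' j
  obtain ⟨a, ha, a1, a2⟩ : ∃ a ∈ UU y, bar y a ∈ cV (VV y) (ε j) ∧ ⁅a, w⁆ ∉ zpowers z := by
    by_contra hn
    push Not at hn
    have h4 : (cV (VV y) (ε j)).map (cm (VV y) (κ j)) ≤ zpowers (bar y z) := by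
      rw [← h2]
      rintro _ ⟨x, hx, rfl⟩
      obtain ⟨a, ha, rfl⟩ := exists_bar x
      rw [← bar_comm hwy ha, ← commutatorElement_inv, bar_inv' (h.comm_mem ha hw)]
      rcases h.pt'.mem_zpowers.1 (hn a ha hx) with e | e <;> rw [e]
      exacts [bar_one (p := y) ▸ one_mem _, mem_zpowers _]
    have h5 := card_zpowers_le_of_expo VV_sq (bar y z)
    have h6 := Subgroup.card_le_of_le h4
    refine (h.symm.mem_of_centre hF' hk (i := j) (by omega)).2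
      (mem_pre.2 ⟨(h.mem_of_centre hF hk hi).1, (hF'.invt_cV (hF'.mem j) j).map_le ?_⟩)
    rw [eq_of_le_of_card_le h4 (by omega)]
    exact mem_zpowers _
  have h4 := h.inverts_of_not_mem hF ha hw w1 a2
  have h5 := h.card_inf_le (hF.odd i) (hF'.odd j) (hF.d_ne i) ha a1 h4 hw w1 hj
  rw [hF.rm3_map_eq hr (h.quadOn δ) (star_mem_imgK ha (h.le_Cz ha)) h4, hi, h2, inf_comm,
    h.pt.card_img (mem_inf.2 ⟨(h.symm.mem_of_centre hF' hk hi').1, h.pt.mem_UU⟩) inf_le_right] at h5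
  obtain ⟨l, hl⟩ : ∃ l : Fin k, l ≠ j :=
    Fintype.exists_ne_of_one_lt_card (by rw [Fintype.card_fin]; exact hk) j
  have h6 := h.symm.prod_le_img hF' {j, l}
  rw [Finset.prod_pair hl.symm] at h6
  have h7 := hF'.two_le hr' l
  nlinarith

omit hF

theorem card_imgK_le : Nat.card (imgK z (UU y)) ≤ 2 := by
  obtain ⟨⟨p, q⟩, hp, hm⟩ := Set.exists_max_image {t : G × G | CP β t.1 t.2}
    (fun t => Nat.card (imgK t.2 (UU t.1))) (Set.toFinite _) ⟨(y, z), h⟩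
  refine (hm (y, z) h).trans ?_
  obtain ⟨k, α, δ, hF⟩ := (red q).exists_frame' fun _ => CP.imgK_sq hp
  by_contra hn
  refine CP.false_of_rank hp hF ?_ (hF.card ▸ hm (q, p) (CP.symm hp))
  rw [hF.card] at hn
  by_contra h1
  exact hn (Nat.pow_le_pow_right (by decide) (by omega : k ≤ 1))

theorem not_le_XX : ¬ UU y ≤ XX z := fun h1 => by
  have h2 := h.active.resolve_left (not_not.2 h1)
  rcases h.pos.eq_or_lt with rfl | hβ
  · obtain ⟨g, e1, e2⟩ := (h.col h).exists_flip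
    have := cj_mono g h1
    rw [cj_UU, cj_XX, e1, e2] at this
    exact h2 this
  obtain ⟨b, hb, hb'⟩ := SetLike.not_le_iff_exists.1 h2
  have hr := red y
  have hby := h.le_Cz' hb
  have ht : IsTv (star y b) (bar y z) := by
    refine isTv_of_le VV_sq (star_sq hby (ea_sq h.ea' hb)) (fun v hv => ?_)
      (hr.cV_ne_bot fun e => hb' ((star_eq_one hby).1 e))
    obtain ⟨a, ha, rfl⟩ := exists_comm_of_mem_cV hby hv
    rcases h.pt'.mem_zpowers.1 (comm_mem_of_XX' (h1 ha) hb) with e | e <;> rw [e]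
    exacts [bar_one (p := y) ▸ one_mem _, mem_zpowers _]
  obtain ⟨ε, hε, iε, hx, -⟩ := hr.tv_exists ht
  have hz : z ∈ UU y := by_contra fun e => ht.ne (dif_neg e)
  obtain ⟨v, hv, hv'⟩ := SetLike.not_le_iff_exists.1 (hr.not_cV_le_fx ht.sq (hε.odd hr) iε hε.ne_one)
  obtain ⟨a, ha, rfl⟩ := exists_bar v
  refine h.symm.lemA_false hβ hε (mem_pre.2 ⟨hz, hx⟩)
    (fun w hw u hu => comm_mem_of_XX (h1 (pre_le_UU hw)) hu)
    ⟨a, mem_pre.2 ⟨ha, hv⟩, b, hb, fun e => hv' ?_⟩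
  rw [bar_mem_fx hby ha, ← commutatorElement_inv, e, inv_one]
  exact one_mem _

theorem card_imgK_eq : Nat.card (imgK z (UU y)) = 2 := by
  refine h.card_imgK_le.antisymm (Nat.succ_le_of_lt (one_lt_card_iff_ne_bot _ |>.2 fun e => ?_))
  exact h.not_le_XX fun a ha => (star_eq_one (h.le_Cz ha)).1
    (mem_bot.1 (e ▸ star_mem_imgK ha (h.le_Cz ha)))

theorem star_eq_of_not_mem {a b : G} (ha : a ∈ UU y) (hb : b ∈ UU y) (ha' : a ∉ XX z)
    (hb' : b ∉ XX z) : star z a = star z b := by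
  obtain ⟨x, -, hx⟩ := (Nat.card_eq_two_iff' (1 : imgK z (UU y))).1 h.card_imgK_eq
  have := fun c (hc : c ∈ UU y) (hc' : c ∉ XX z) => hx ⟨_, star_mem_imgK hc (h.le_Cz hc)⟩
    fun e => hc' ((star_eq_one (h.le_Cz hc)).1 (congrArg Subtype.val e))
  exact congrArg Subtype.val ((this a ha ha').trans (this b hb hb').symm)

theorem exists_rank_one : ∃ a ∈ UU y, a ∉ XX z ∧ ∀ b ∈ UU y, b ∈ XX z ∨ b * a ∈ XX z := by
  obtain ⟨a, ha, ha'⟩ := SetLike.not_le_iff_exists.1 h.not_le_XX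
  refine ⟨a, ha, ha', fun b hb => or_iff_not_imp_left.2 fun hb' => ?_⟩
  rw [← inv_eq_of_sq (ea_sq h.ea ha)]
  exact (star_eq_star (h.le_Cz hb) (h.le_Cz ha)).1 (h.star_eq_of_not_mem hb ha hb' ha')

end CP

end Cfsg.Lib.Ngrp.Geo
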