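import Cfsg.Agent.Ngrp.AmGeo4
import Cfsg.Agent.Ngrp.AmNear
import Cfsg.Agent.Ngrp.AmMod4

set_option autoImplicit false

namespace Cfsg.Lib.Ngrp.Geo
open Subgroup Cfsg.Lib.Trans Cfsg.Lib.Local Cfsg.Lib.Local.JC Cfsg.Lib.Trans.TJ
open scoped commutatorElement

variable {G : Type*} [Group G] [Finite G]

theorem rm4K {p : G} {k k' : KK p} (hk : k ∈ fittingSubgroup (KK p))
    (hk' : k' ∈ fittingSubgroup (KK p)) (h4 : Nat.card (cV (VV p) k) = 4)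
    (h4' : Nat.card (cV (VV p) k') = 4) :
    (cV (VV p) k = cV (VV p) k' ∧ fx (VV p) k = fx (VV p) k') ∨ cV (VV p) k ≤ fx (VV p) k' :=
  (Cmp.dich (red p) ⟨hk, h4⟩ ⟨hk', h4'⟩).imp (fun h => ⟨h.cV_eq.symm, h.fx_eq.symm⟩) fun h => h.left

theorem r1K {p q : G} (h : Col p q) {k : KK p} (hk : k ∈ fittingSubgroup (KK p))
    (h4 : Nat.card (cV (VV p) k) = 4) (hq : bar p q ∈ cV (VV p) k) : Nat.card (UU p) = 8 :=
  (h.r1 ⟨hk, h4⟩ hq).2.2.1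

end Cfsg.Lib.Ngrp.Geo
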