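import Cfsg.Agent.Ngrp.AmRb0

/-! One-sided data of a critical pair whose commutator group has order two. -/

set_option autoImplicit false

namespace Cfsg.Lib.Ngrp.Geo
open Subgroup Cfsg.Lib.Trans Cfsg.Lib.Local Cfsg.Lib.Local.JC Cfsg.Lib.Trans.TJ
open scoped commutatorElement

variable {G : Type*} [Group G]

theorem conj_mul_eq (g x y : G) : g * (x * y) * g⁻¹ = (g * x * g⁻¹) * (g * y * g⁻¹) := by group

theorem mem_Cz_of_inverts {a d c : G} (ho : Odd (orderOf d)) (hi : a * d * a⁻¹ = d⁻¹)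
    (h1 : a ∈ Cz c) (h2 : d * a * d⁻¹ ∈ Cz c) : d ∈ Cz c := by
  have h3 : d * d ∈ Cz c := by
    have e : d * d = (d * a * d⁻¹) * a⁻¹ := by
      have : a * d⁻¹ * a⁻¹ = d := by
        rw [← inv_inj, ← hi]; rw [hi]; simp only [mul_inv_rev, inv_inv, ← mul_assoc]; exact hi
      calc d * d = d * (a * d⁻¹ * a⁻¹) := by rw [this]
        _ = _ := by group
    rw [e]; exact mul_mem h2 (inv_mem h1)
  obtain ⟨k, hk⟩ := ho
  have e : d = ((d * d) ^ k)⁻¹ := by
    rw [eq_inv_iff_mul_eq_one, ← pow_two, ← pow_mul, ← pow_succ', ← hk, pow_orderOf_eq_one]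
  rw [e]; exact inv_mem (pow_mem h3 k)

theorem Cz_mul {g x y : G} (h1 : g ∈ Cz x) (h2 : g ∈ Cz y) : g ∈ Cz (x * y) :=
  Cz_symm (mul_mem (Cz_symm h1) (Cz_symm h2))

theorem Cz_conj_inverts {a d c : G} (hi : a * d * a⁻¹ = d⁻¹) (h : c ∈ Cz d) :
    a * c * a⁻¹ ∈ Cz d := by
  have := conj_mem_Cz a h
  rw [hi] at this
  exact Cz_symm (by simpa using inv_mem (Cz_symm this))

variable [Finite G]

theorem CP.abU {β : ℕ} {y z : G} (h : CP β y z) : AbU G := h.pt.abU h.ea

/-- The action of `U_y` on `U_z` is generated by one transvection. -/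
structure Sd (β : ℕ) (y z a b u d : G) : Prop where
  cp : CP β y z
  ha : a ∈ UU y
  hu : u ∈ UU z
  huy : u ∈ UU y
  hb : b ∈ UU z
  ab : a * b * a⁻¹ = u * b
  ker : ∀ w ∈ UU z, w ∈ centralizer (UU y : Set G) ∨ w * b ∈ centralizer (UU y : Set G)
  dC : d ∈ Cz z
  odd : Odd (orderOf d)
  inv : a * d * a⁻¹ = d⁻¹
  du : d * u * d⁻¹ = b
  db : d * b * d⁻¹ = u * b
  dec : ∀ w ∈ UU z, w ∈ Cz d ∨ w * u ∈ Cz d ∨ w * b ∈ Cz d ∨ w * (u * b) ∈ Cz d
  un : u ≠ 1
  fit : star z d ∈ fittingSubgroup (KK z)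
  c4 : Nat.card (cV (VV z) (star z d)) = 4

namespace Sd

variable {β : ℕ} {y z a b u d : G} (h : Sd β y z a b u d)
include h

theorem pz : Pt z := h.cp.pt'
theorem py : Pt y := h.cp.pt
theorem abU : AbU G := h.cp.abU
theorem aC : a ∈ Cz z := h.cp.le_Cz h.ha
theorem a_sq : a * a = 1 := h.abU.sq h.ha
theorem u_sq : u * u = 1 := h.abU.sq h.hu
theorem b_sq : b * b = 1 := h.abU.sq h.hb
theorem ub : u * b = b * u := h.abU.comm h.hu h.hb
theorem hub : u * b ∈ UU z := mul_mem h.hu h.hb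
theorem uC : u ∈ centralizer (UU y : Set G) := fun _ hx => h.abU.comm hx h.huy
theorem zC : z ∈ centralizer (UU y : Set G) := h.cp.mem_centralizer'
theorem au : a * u * a⁻¹ = u := by rw [h.uC a h.ha]; group

theorem dub : d * (u * b) * d⁻¹ = u := by
  rw [conj_mul_eq, h.du, h.db, h.ub, ← mul_assoc, h.b_sq, one_mul]

theorem b_ne_u : b ≠ u := fun e => by
  have := h.db
  rw [e, h.u_sq] at this
  exact conj_ne_one h.un this

theorem u_notC : u ∉ Cz d := fun e => h.b_ne_u (by rw [← h.du, Cz_conj (Cz_symm e)])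

theorem b_notC : b ∉ Cz d := fun e => h.un (by
  have := h.db
  rw [Cz_conj (Cz_symm e)] at this
  simpa using this.symm)

theorem ub_notC : u * b ∉ Cz d := fun e => h.b_notC (by
  have := h.dub
  rw [Cz_conj (Cz_symm e)] at this
  have h1 : b = 1 := by simpa using this
  rw [h1]; exact one_mem _)

theorem zd : z ∈ Cz d := Cz_symm h.dC

theorem not_mem_zp {w : G} (hw : w ∉ Cz d) : w ∉ zpowers z := fun e => hw (zpowers_le.2 h.zd e)

theorem bar_u : bar z u ≠ 1 := fun e => h.not_mem_zp h.u_notC ((bar_eq_one h.hu).1 e)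
theorem bar_b : bar z b ≠ 1 := fun e => h.not_mem_zp h.b_notC ((bar_eq_one h.hb).1 e)
theorem bar_ne : bar z u ≠ bar z b := fun e => h.not_mem_zp h.ub_notC ((bar_eq_one h.hub).1 (by
  rw [bar_mul h.hu h.hb, e, VV_sq]))

theorem su : star z d • bar z u = bar z b := by rw [star_smul h.dC h.hu, h.du]
theorem sb : star z d • bar z b = bar z u * bar z b := by
  rw [star_smul h.dC h.hb, h.db, bar_mul h.hu h.hb]

theorem u_mem : bar z u ∈ cV (VV z) (star z d) := ⟨bar z b, by rw [cm_apply, h.sb]; simp⟩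
theorem b_mem : bar z b ∈ cV (VV z) (star z d) := h.su ▸ inv_cV_self _ _ h.u_mem

theorem mem_cV {x : VV z} : x ∈ cV (VV z) (star z d) ↔
    x = 1 ∨ x = bar z u ∨ x = bar z b ∨ x = bar z u * bar z b :=
  four_elems VV_sq h.c4 h.u_mem h.b_mem h.bar_u h.bar_b h.bar_ne

theorem d_notX : d ∉ XX z := fun e => h.bar_ne (by rw [← h.su, star_of_mem e, one_smul])

theorem d_ne : d ≠ 1 := fun e => h.d_notX (e ▸ one_mem _)

theorem b_notA : b ∉ centralizer (UU y : Set G) := fun e => h.un (by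
  have := h.ab
  rw [e a h.ha, mul_inv_cancel_right] at this
  simpa using this.symm)

theorem a_notX : a ∉ XX z := fun e => h.bar_u (by
  have := star_smul h.aC h.hb
  rw [star_of_mem e, one_smul, h.ab, bar_mul h.hu h.hb] at this
  simpa using this.symm)

/-- `a` maps an element of `U_z` outside the axis to its product with `u`. -/
theorem act {w : G} (hw : w ∈ UU z) (h1 : w ∉ centralizer (UU y : Set G)) :
    a * w * a⁻¹ = u * w := by
  have h2 := (h.ker w hw).resolve_left h1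
  have h3 : a * (w * b) * a⁻¹ = w * b := by rw [h2 a h.ha]; group
  rw [conj_mul_eq, h.ab, ← mul_assoc, mul_left_inj] at h3
  rw [h.abU.comm h.hu hw, eq_mul_inv_of_mul_eq h3, inv_eq_of_sq h.u_sq]

theorem mem_cent_of_a {w : G} (hw : w ∈ UU z) (h1 : a ∈ Cz w) : w ∈ centralizer (UU y : Set G) := by
  by_contra h2
  have := h.act hw h2
  rw [Cz_conj h1] at this
  exact h.un (by simpa using this.symm)

/-- What `d` fixes lies in the axis. -/
theorem mem_cent {c : G} (hc : c ∈ UU z) (h1 : c ∈ Cz d) : c ∈ centralizer (UU y : Set G) := by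
  by_contra h2
  have h3 := Cz_conj_inverts h.inv h1
  rw [h.act hc h2] at h3
  exact h.u_notC (by simpa using mul_mem h3 (inv_mem h1))

theorem cent_cases {w : G} (hw : w ∈ UU z) (h1 : w ∈ centralizer (UU y : Set G)) :
    w ∈ Cz d ∨ w * u ∈ Cz d := by
  rcases h.dec w hw with e | e | e | e
  · exact Or.inl e
  · exact Or.inr e
  · exact absurd ((mul_mem_cancel_left h1).1 (h.mem_cent (mul_mem hw h.hb) e)) h.b_notA
  · exact absurd ((mul_mem_cancel_left h.uC).1
      ((mul_mem_cancel_left h1).1 (h.mem_cent (mul_mem hw h.hub) e))) h.b_notA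

/-- An element of `U_z` whose image is fixed by `d` is fixed by `d`. -/
theorem mem_Cz_of_fx {w : G} (hw : w ∈ UU z) (h1 : bar z w ∈ fx (VV z) (star z d)) : w ∈ Cz d := by
  have key : ∀ x ∈ UU z, bar z x ∈ cV (VV z) (star z d) → bar z x ≠ 1 → w * x ∉ Cz d := by
    intro x hx h2 h3 h4
    refine h3 (eq_one_of_mem_cV_fx VV_sq (odd_orderOf_star h.dC h.odd) h2 ?_)
    have h5 : bar z (w * x) ∈ fx (VV z) (star z d) := by
      rw [mem_fx, star_smul h.dC (mul_mem hw hx), Cz_conj (Cz_symm h4)]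
    rw [bar_mul hw hx] at h5
    exact (mul_mem_cancel_left h1).1 h5
  rcases h.dec w hw with e | e | e | e
  · exact e
  · exact absurd e (key u h.hu h.u_mem h.bar_u)
  · exact absurd e (key b h.hb h.b_mem h.bar_b)
  · refine absurd e (key _ h.hub ?_ fun e' => h.not_mem_zp h.ub_notC ((bar_eq_one h.hub).1 e'))
    rw [bar_mul h.hu h.hb]; exact mul_mem h.u_mem h.b_mem

theorem mem_fx_of_Cz {w : G} (hw : w ∈ UU z) (h1 : w ∈ Cz d) : bar z w ∈ fx (VV z) (star z d) := by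
  rw [mem_fx, star_smul h.dC hw, Cz_conj (Cz_symm h1)]

/-- (1) `d` centralizes no point at distance less than `β` from `y`. -/
theorem not_fix {n : ℕ} {p : G} (hp : Near n p y) (hn : n < β) : d ∉ Cz p := by
  have key : ∀ q : G, CommU y q → d ∈ Cz q → UU q ≤ Cz d := fun q h1 h2 c hc => by
    refine Cz_symm (mem_Cz_of_inverts h.odd h.inv (mem_Cz.2 (h1 h.ha c hc).symm) ?_)
    have h3 := conj_mem_UU_of_mem (inv_mem h2) hc
    have h4 := conj_mem_Cz d (mem_Cz.2 (h1 h.ha _ h3).symm)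
    simpa [mul_assoc] using h4
  have base : d ∉ Cz y := fun e => h.d_ne (eq_one_of_odd_of_eq_inv h.odd (by
    have := key y (h.cp.min.commU h.cp.pos (h.py.near 0)) e h.ha
    rw [← h.inv, Cz_conj this]))
  induction n generalizing p with
  | zero => rw [hp.eq_of_zero]; exact base
  | succ n ih =>
    rcases hp.cases_succ with e | ⟨r, h1, h2⟩
    · rw [e]; exact base
    · exact fun e => ih h2 (by omega)
        (Cz_symm (key p (h.cp.min.commU hn hp).symm e h1.mem_UU))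

/-- (1) the last step of a path from `y` to `z`. -/
theorem step_mem {x : G} (h1 : Col z x) (h2 : Near (β - 1) y x) : x * u ∈ Cz d := by
  have h3 := Nat.sub_lt h.cp.pos one_pos
  refine (h.cent_cases h1.mem_UU ((h.cp.min.commU h3 h2).symm h1.pt'.mem_UU)).resolve_left ?_
  exact fun e => h.not_fix h2.symm h3 (Cz_symm e)

/-- An element of `C(z)` fixing `u` normalizes `⟨z, u, b⟩`. -/
theorem norm {g : G} (hg : g ∈ Cz z) (hgu : g ∈ Cz u) : ⁅g, b⁆ ∈ four z u := by
  have hf : star z g * star z d * (star z g)⁻¹ ∈ fittingSubgroup (KK z) :=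
    (inferInstance : (fittingSubgroup (KK z)).Normal).conj_mem _ h.fit _
  have hgu' : star z g • bar z u = bar z u := by rw [star_smul hg h.hu, Cz_conj hgu]
  have h1 : bar z u ∈ cV (VV z) (star z g * star z d * (star z g)⁻¹) := by
    rw [cV_conj, ← hgu']; exact smul_mem_smul _ h.u_mem
  rcases rm4K hf h.fit (by rw [cV_conj, card_smul, h.c4]) h.c4 with ⟨e, -⟩ | e
  · have h2 : star z g • bar z b ∈ cV (VV z) (star z d) := by
      rw [← e, cV_conj]; exact smul_mem_smul _ h.b_mem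
    have h3 : ⁅g, b⁆ ∈ UU z := mul_mem (conj_mem_UU_of_mem hg h.hb) (inv_mem h.hb)
    have h4 := star_smul_mul hg h.hb
    have hm := @mem_four _ _ _ _ ⁅g, b⁆ h.pz.sq h.u_sq (h.abU.comm h.pz.mem_UU h.hu)
    rcases h.mem_cV.1 h2 with e' | e' | e' | e'
    · exact absurd ((smul_eq_iff_eq_inv_smul _).1 e' |>.trans (smul_one _)) h.bar_b
    · exact absurd (MulAction.injective _ (e'.trans hgu'.symm)).symm h.bar_ne
    · rw [e', VV_sq] at h4
      rcases (h.pz.bar_eq_one h3).1 h4.symm with e1 | e1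
      · exact hm.2 (Or.inl e1)
      · exact hm.2 (Or.inr (Or.inl e1))
    · rw [e', mul_assoc, VV_sq, mul_one] at h4
      rcases (h.pz.bar_eq_bar h3 h.hu).1 h4.symm with e1 | e1
      · exact hm.2 (Or.inr (Or.inr (Or.inl e1)))
      · exact hm.2 (Or.inr (Or.inr (Or.inr e1)))
  · exact absurd (eq_one_of_mem_cV_fx VV_sq (odd_orderOf_star h.dC h.odd) h.u_mem (e h1)) h.bar_u

theorem eight (h1 : Col z u) : Nat.card (UU z) = 8 := r1K h1 h.fit h.c4 h.u_mem

/-- If `|U_z| = 8` all elements of `U_z` outside `⟨z⟩` are collinear with `z`. -/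
theorem col_of_eight (h8 : Nat.card (UU z) = 8) {w : G} (hw : w ∈ UU z) (h1 : bar z w ≠ 1) :
    Col z w := by
  have h2 : cV (VV z) (star z d) = ⊤ := by
    rw [← card_eq_iff_eq_top, h.c4]
    have := h.pz.card_UU
    omega
  obtain ⟨q, hq⟩ := h.pz.exists_col
  have k1 : ∀ q x x', Col z q → bar z q = x → star z d • x = x' → ∃ r, Col z r ∧ bar z r = x' :=
    fun q x x' hq e e' => ⟨_, hq.conj_of_mem h.dC, by rw [← star_smul h.dC hq.mem_UU, e, e']⟩
  have sub : star z d • (bar z u * bar z b) = bar z u := by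
    rw [← bar_mul h.hu h.hb, star_smul h.dC h.hub, h.dub]
  have k2 : ∃ r, Col z r ∧ bar z r = bar z u := by
    rcases h.mem_cV.1 (h2 ▸ mem_top (bar z q)) with e | e | e | e
    · exact absurd e hq.bar_ne_one
    · exact ⟨q, hq, e⟩
    · obtain ⟨r, hr, e'⟩ := k1 q _ _ hq e h.sb
      exact k1 r _ _ hr e' sub
    · exact k1 q _ _ hq e sub
  obtain ⟨r, hr, e⟩ := k2
  obtain ⟨r', hr', e'⟩ := k1 r _ _ hr e h.su
  obtain ⟨r'', hr'', e''⟩ := k1 r' _ _ hr' e' h.sb
  rcases h.mem_cV.1 (h2 ▸ mem_top (bar z w)) with e1 | e1 | e1 | e1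
  · exact absurd e1 h1
  · exact hr.of_bar_eq hw (e1.trans e.symm)
  · exact hr'.of_bar_eq hw (e1.trans e'.symm)
  · exact hr''.of_bar_eq hw (e1.trans e''.symm)

/-- FullHom: an element moving `u` and fixing `b`. -/
theorem rot_u {n : G} (hn : n ∈ Cz z) (e : star z n = star z d) :
    ∃ t ∈ XX z, (∀ c ∈ UU z, c ∈ Cz d → t ∈ Cz c) ∧ ⁅⁅t, n⁆, u⁆ = z ∧ ⁅⁅t, n⁆, b⁆ = 1 :=
  h.abU.exists_comm_rot h.pz h.hu h.hb h.dC hn h.fit e h.bar_u h.su h.sb

theorem exists_t : ∃ t ∈ XX z, (∀ c ∈ UU z, c ∈ Cz d → t ∈ Cz c) ∧ t * u * t⁻¹ = z * u ∧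
    t ∈ Cz b := by
  obtain ⟨t, h1, h2, h3, h4⟩ := h.rot_u h.dC rfl
  refine ⟨⁅t, d⁆, comm_mem_XX h1 h.dC, fun c hc hcd => ?_, ?_, ?_⟩
  · have := h2 c hc hcd
    exact mul_mem (mul_mem (mul_mem this (Cz_symm hcd)) (inv_mem this)) (inv_mem (Cz_symm hcd))
  · rw [← h3, commutatorElement_def _ u]; group
  · exact mem_Cz.2 (commutatorElement_eq_one_iff_mul_comm.1 h4)

end Sd

end Cfsg.Lib.Ngrp.Geo
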