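import Cfsg.Agent.Ngrp.AmRb1

/-! Critical distance at least two: the cases `β = 2` and `y ∈ T`, and `U_p ∩ U_q = ⟨p, q⟩`. -/

set_option autoImplicit false

namespace Cfsg.Lib.Ngrp.Geo
open Subgroup Cfsg.Lib.Trans Cfsg.Lib.Local Cfsg.Lib.Local.JC Cfsg.Lib.Trans.TJ
open scoped commutatorElement

variable {G : Type*} [Group G] [Finite G]

omit [Finite G] in
theorem conj_conj (g k x : G) : g * k * x * (g * k)⁻¹ = g * (k * x * k⁻¹) * g⁻¹ := by group

omit [Finite G] in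
theorem comm_eq_conj_mul {g x : G} (hx : x * x = 1) : ⁅g, x⁆ = g * x * g⁻¹ * x := by
  rw [commutatorElement_def, inv_eq_of_sq hx]

omit [Finite G] in
theorem conj_eq_comm_mul (g x : G) : g * x * g⁻¹ = ⁅g, x⁆ * x := by
  rw [commutatorElement_def]; group

theorem CP.plp' {β : ℕ} {y z : G} (h : CP β y z) {d e a u c : G} (hd : d ∈ Cz z)
    (he : e ∈ Cz y) (od : Odd (orderOf d)) (oe : Odd (orderOf e)) (hdX : d ∉ XX z)
    (ha : a ∈ UU y) (hu : u ∈ UU z) (ia : ⁅e, a⁆ * d * ⁅e, a⁆⁻¹ * d ∈ XX z)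
    (iu : ⁅d, u⁆ * e * ⁅d, u⁆⁻¹ * e ∈ XX y) (hc : c * c = 1) (hA : UU y ≤ Cz c) (hU : UU z ≤ Cz c)
    (hdc : d ∈ Cz c) (hec : e ∈ Cz c) : c = 1 := by
  by_contra h1
  have ha' : ⁅e, a⁆ ∈ UU y := mul_mem (conj_mem_UU_of_mem he ha) (inv_mem ha)
  have hu' : ⁅d, u⁆ ∈ UU z := mul_mem (conj_mem_UU_of_mem hd hu) (inv_mem hu)
  refine PL' (Cz c) (ah_solvable_Cz h.ah hc h1) inf_le_right inf_le_right
    (le_normalizer_inf_XX z _) (le_normalizer_inf_XX y _) ⟨hd, hdc⟩ ⟨he, hec⟩ (fun e => hdX e.1)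
    od oe (by rw [pow_orderOf_eq_one]; exact one_mem _)
    (by rw [pow_orderOf_eq_one]; exact one_mem _)
    (mem_inf.2 ⟨ia, mul_mem (mul_mem (mul_mem (hA ha') hdc) (inv_mem (hA ha'))) hdc⟩)
    (mem_inf.2 ⟨iu, mul_mem (mul_mem (mul_mem (hU hu') hec) (inv_mem (hU hu'))) hec⟩) ?_ ?_
  · rintro N - hN ⟨n, hn, h2, h3⟩
    have h4 : ⁅n, u⁆ ∈ UU z := mul_mem (conj_mem_UU_of_mem h2.1 hu) (inv_mem hu)
    exact ⟨⁅n, u⁆, comm_mem_of_normal hN hn (hU hu), ⟨h.le_Cz' h4, hU h4⟩,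
      h.zpowers_le_XX' (h.pt'.comm_congr hd h3.1 hu), hU (mul_mem h4 (inv_mem hu'))⟩
  · rintro N - hN ⟨n, hn, h2, h3⟩
    have h4 : ⁅n, a⁆ ∈ UU y := mul_mem (conj_mem_UU_of_mem h2.1 ha) (inv_mem ha)
    exact ⟨⁅n, a⁆, comm_mem_of_normal hN hn (hA ha), ⟨h.le_Cz h4, hA h4⟩,
      h.zpowers_le_XX (h.pt.comm_congr he h3.1 ha), hA (mul_mem h4 (inv_mem ha'))⟩

/-- (PLg) -/
theorem Sd.plg {β : ℕ} {y z a b u d x g c : G} (h : Sd β y z a b u d) (hx : Col z x)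
    (hn : Near (β - 1) y x) (g1 : g * z * g⁻¹ = x) (g2 : g * x * g⁻¹ = z * x) (hc : c ∈ UU z)
    (hcd : c ∈ Cz d) (hcg : c ∈ Cz g) : c = 1 := by
  by_contra h1
  have hyx : CommU y x := h.cp.min.commU (Nat.sub_lt h.cp.pos one_pos) hn
  have hac : a ∈ Cz c := mem_Cz.2 (h.mem_cent hc hcd a h.ha)
  have hax : a ∈ Cz x := mem_Cz.2 (hyx h.ha x hx.pt'.mem_UU).symm
  have g3 : g * (z * x) * g⁻¹ = z := by
    rw [conj_mul_eq, g1, g2, hx.comm, ← mul_assoc, hx.sq, one_mul]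
  have hgN : g ∈ normalizer (four z x : Set G) := mem_normalizer_of_cj_le (by
    rw [cj_four, g1, g2]
    exact four_le (right_mem_four z x) (mul_mem (left_mem_four z x) (right_mem_four z x)))
  have hv := h.step_mem hx hn
  refine PL (Cz c) (ah_solvable_Cz h.cp.ah (h.abU.sq hc) h1) (H₁ := Cz z ⊓ Cz c)
    (H₂ := normalizer (four z x : Set G) ⊓ Cz c) (X₁ := XX z)
    (X₂ := centralizer (four z x : Set G)) inf_le_right inf_le_right
    (inf_le_left.trans (Cz_le_normalizer_XX z))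
    (inf_le_left.trans (normalizer_le_normalizer_centralizer _)) ⟨h.dC, Cz_symm hcd⟩
    ⟨hgN, Cz_symm hcg⟩ h.d_notX h.odd (m₂ := 3) (by decide)
    (by rw [pow_orderOf_eq_one]; exact one_mem _) ?_ ?_ ?_
  · rw [hx.mem_centralizer_iff, mem_Cz', mem_Cz', pow_three, conj_conj, conj_conj, conj_conj,
      conj_conj, g1, g2, g3, g1]
    exact ⟨rfl, rfl⟩
  · rintro N hNH hN ⟨n, hn, h2, h3⟩
    obtain ⟨t, t1, t2, t3, -⟩ := h.rot_u h2.1 ((star_eq_star h2.1 h.dC).2 h3)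
    have h4 : ⁅t, n⁆ ∈ N := by
      rw [← commutatorElement_inv]; exact inv_mem (comm_mem_of_normal hN hn (t2 c hc hcd))
    have h5 := comm_mem_XX t1 h2.1
    have hxu := mul_mem hx.mem_UU h.hu
    have h6 : ⁅⁅t, n⁆, x * u⁆ = 1 := by
      rw [comm_comm_eq h.pz t1 h2.1 hxu hxu (by
        rw [(star_eq_star h2.1 h.dC).2 h3]; exact mem_fx.1 (h.mem_fx_of_Cz hxu hv)),
        h.abU.sq hxu, commutatorElement_one_right]
    rw [comm_mul_right h5 hx.mem_UU h.hu, t3] at h6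
    generalize ⁅t, n⁆ = s at h4 h5 h6
    have s1 : s * z * s⁻¹ = z := Cz_conj h5.1
    have s2 : s * x * s⁻¹ = z * x := by
      rw [conj_eq_comm_mul, eq_inv_of_mul_eq_one_left h6, h.pz.inv]
    have s3 : s * (z * x) * s⁻¹ = x := by
      rw [conj_mul_eq, s1, s2, ← mul_assoc, h.pz.sq, one_mul]
    have s2' : s⁻¹ * x * s⁻¹⁻¹ = z * x := by
      conv_lhs => rw [← s3]
      group
    have s3' : s⁻¹ * (z * x) * s⁻¹⁻¹ = x := by rw [← s2]; group
    refine ⟨s, h4, ⟨hx.fl.XX_le h5, hNH h4⟩, ?_⟩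
    rw [hx.mem_centralizer_iff, mem_Cz', mem_Cz', conj_conj, conj_conj, conj_conj, conj_conj,
      conj_conj, conj_conj, g1, g2, s2', s3', g3, g2, s1, s3]
    exact ⟨rfl, rfl⟩
  · rintro N hNH hN ⟨n, hn, h2, h3⟩
    have h4 : n * z * n⁻¹ = x := by
      have := Cz_conj (hx.mem_centralizer_iff.1 h3).2
      rw [← this, ← g1]; group
    have h5 : n⁻¹ * a * n ∈ centralizer (UU z : Set G) := by
      have := hyx h.ha
      rw [← h4, ← cj_UU, ← cj_centralizer, mem_cj] at this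
      exact this
    have h6 : ⁅a, n⁻¹⁆ ∈ N := by
      rw [← commutatorElement_inv]; exact inv_mem (comm_mem_of_normal hN (inv_mem hn) hac)
    have h7 : ⁅a, n⁻¹⁆ * a⁻¹ ∈ XX z := by
      have := conj_mem_XX_of_mem h.aC (inv_mem (centralizer_UU_le h.pz h5))
      convert this using 1
      rw [commutatorElement_def]; group
    refine ⟨_, h6, ⟨?_, hNH h6⟩, inverts_of_congr (Cz_le_normalizer_XX z h.dC) ?_ h7⟩
    · simpa using mul_mem h7.1 h.aC
    · rw [h.inv, inv_mul_cancel]; exact one_mem _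

omit [Finite G] in
theorem Col.exists_fixed {z x g c : G} (hx : Col z x) (g1 : g * z * g⁻¹ = x)
    (g2 : g * x * g⁻¹ = z * x) (h : ⁅g, c⁆ ∈ four z x) :
    ∃ m ∈ four z x, m * c ∈ Cz g := by
  have g3 : g * (z * x) * g⁻¹ = z := by
    rw [conj_mul_eq, g1, g2, hx.comm, ← mul_assoc, hx.sq, one_mul]
  have key : ∀ m, g * m * g⁻¹ * ⁅g, c⁆ = m → m * c ∈ Cz g := fun m e =>
    Cz_symm (mem_Cz'.2 (by rw [conj_mul_eq, conj_eq_comm_mul g c, ← mul_assoc, e]))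
  rcases hx.mem_four.1 h with e | e | e | e
  · exact ⟨1, one_mem _, key 1 (by rw [e]; simp)⟩
  · exact ⟨x, right_mem_four z x, key x (by
      rw [e, g2, hx.comm, mul_assoc, hx.pt.sq, mul_one])⟩
  · exact ⟨z * x, mul_mem (left_mem_four z x) (right_mem_four z x), key _ (by rw [e, g3])⟩
  · exact ⟨z, left_mem_four z x, key z (by
      rw [e, g1, hx.comm, ← mul_assoc, hx.sq, one_mul])⟩

/-- (2) for the last step of a path. -/
theorem Sd.inter {β : ℕ} {y z a b u d x c : G} (h : Sd β y z a b u d) (hx : Col z x)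
    (hn : Near (β - 1) y x) (hc : c ∈ UU z) (hc' : c ∈ UU x) : c ∈ four z x := by
  by_contra h0
  have hU := h.abU
  have hyx : CommU y x := h.cp.min.commU (Nat.sub_lt h.cp.pos one_pos) hn
  obtain ⟨t, ht, t2⟩ := hx.exists_XX_swap
  obtain ⟨t', ht', t2'⟩ := hx.symm.exists_XX_swap
  have lz : four z x ≤ UU z := hx.fl.le_UU
  have lx : four z x ≤ UU x := hx.fl'.le_UU
  have zl := left_mem_four z x
  have xl := right_mem_four z x
  have t1 : t * z * t⁻¹ = z := Cz_conj ht.1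
  have g1 : t * t' * z * (t * t')⁻¹ = x := by
    rw [conj_conj, t2', conj_mul_eq, t1, t2, hx.comm, mul_assoc, h.pz.sq, mul_one]
  have g2 : t * t' * x * (t * t')⁻¹ = z * x := by rw [conj_conj, Cz_conj ht'.1, t2]
  have h1 : ∀ c ∈ UU z, c ∈ UU x → ⁅t * t', c⁆ ∈ four z x := fun c hc hc' => by
    have e : ⁅t * t', c⁆ = t * ⁅t', c⁆ * t⁻¹ * ⁅t, c⁆ := by
      simp only [commutatorElement_def]; group
    rw [e]
    exact mul_mem (mem_normalizer_conj (hx.fl.XX_le ht) (zpowers_le.2 xl (comm_mem_of_XX ht' hc')))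
      (zpowers_le.2 zl (comm_mem_of_XX ht hc))
  obtain ⟨m, hm, h2⟩ := hx.exists_fixed g1 g2 (h1 c hc hc')
  have h3 : m * c ∉ four z x := fun e => h0 ((mul_mem_cancel_left hm).1 e)
  have h4 : m * c ∈ UU z := mul_mem (lz hm) hc
  have h5 : m * c ∈ UU x := mul_mem (lx hm) hc'
  have hgN : t * t' ∈ normalizer (four z x : Set G) := mul_mem (hx.fl.XX_le ht) (hx.fl'.XX_le ht')
  generalize t * t' = g at g1 g2 h2 h1 hgN
  generalize m * c = c at h2 h3 h4 h5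
  have hv := h.step_mem hx hn
  have xd : x ∉ Cz d := fun e => h.not_fix hn.symm (Nat.sub_lt h.cp.pos one_pos) (Cz_symm e)
  have k1 : ∀ k, k * z * k⁻¹ = x → k * x * k⁻¹ = z * x → ∀ w ∈ UU z, w ∈ UU x → w ∉ four z x →
      w ∈ Cz k → w * x ∈ Cz d := by
    intro k k1 k2 w hw hw' h6 h7
    have h8 := (h.cent_cases hw (hyx.symm hw')).resolve_left
      fun h8 => h6 (h.plg hx hn k1 k2 hw h8 h7 ▸ one_mem _)
    have e : w * x = (w * u) * (x * u)⁻¹ := by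
      rw [mul_inv_rev, inv_eq_of_sq hx.sq]; group
    rw [e]; exact mul_mem h8 (inv_mem hv)
  have h7 := k1 g g1 g2 c h4 h5 h3 h2
  have k2 : ∀ s ∈ centralizer (four z x : Set G), ⁅s, c⁆ ∈ Cz d ∧ ⁅s, c⁆ ∈ four z x := by
    intro s hs
    obtain ⟨s1, s2⟩ := hx.mem_centralizer_iff.1 hs
    have a1 := conj_mem_UU_of_mem s1 h4
    have a2 := conj_mem_UU_of_mem s2 h5
    have a3 : s * c * s⁻¹ ∉ four z x := fun e => h3 (by
      have := mem_normalizer_conj' (centralizer_le_normalizer _ hs) e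
      simpa [mul_assoc] using this)
    have e : ∀ w, s * g * s⁻¹ * w * (s * g * s⁻¹)⁻¹ = s * (g * (s⁻¹ * w * s⁻¹⁻¹) * g⁻¹) * s⁻¹ :=
      fun w => by group
    have a5 := k1 (s * g * s⁻¹) (by rw [e, Cz_conj (inv_mem s1), g1, Cz_conj s2])
      (by rw [e, Cz_conj (inv_mem s2), g2, conj_mul_eq, Cz_conj s1, Cz_conj s2])
      _ a1 a2 a3 (conj_mem_Cz s h2)
    refine ⟨?_, ?_⟩
    · have := mul_mem a5 (inv_mem h7)
      convert this using 1
      rw [commutatorElement_def]; group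
    · obtain ⟨m', hm', b2⟩ := hx.exists_fixed g1 g2 (h1 _ a1 a2)
      have b3 := k1 g g1 g2 _ (mul_mem (lz hm') a1) (mul_mem (lx hm') a2)
        (fun e => a3 ((mul_mem_cancel_left hm').1 e)) b2
      have b4 : m' * ⁅s, c⁆ = 1 := by
        have e1 : m' * ⁅s, c⁆ = m' * (s * c * s⁻¹) * c⁻¹ := by rw [commutatorElement_def]; group
        refine h.plg hx hn g1 g2 ?_ ?_ ?_ <;> rw [e1]
        · exact mul_mem (mul_mem (lz hm') a1) (inv_mem h4)
        · have := mul_mem b3 (inv_mem h7)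
          convert this using 1
          group
        · exact mul_mem b2 (inv_mem h2)
      rw [eq_inv_of_mul_eq_one_right b4]; exact inv_mem hm'
  have k3 : ∀ s ∈ centralizer (four z x : Set G), s ∈ Cz c := by
    intro s hs
    obtain ⟨a1, a2⟩ := k2 s hs
    have a3 := (k2 _ (mem_normalizer_conj (normalizer_le_normalizer_centralizer _ hgN) hs)).1
    have e : ⁅g * s * g⁻¹, c⁆ = g * ⁅s, c⁆ * g⁻¹ := by
      rw [conjugate_commutatorElement, Cz_conj (Cz_symm h2)]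
    rw [e] at a3
    rcases hx.mem_four.1 a2 with e1 | e1 | e1 | e1
    · exact mem_Cz.2 (commutatorElement_eq_one_iff_mul_comm.1 e1)
    · rw [e1, g1] at a3; exact absurd a3 xd
    · rw [e1] at a1; exact absurd a1 xd
    · rw [e1] at a1; exact absurd ((mul_mem_cancel_left h.zd).1 a1) xd
  have k4 : ∀ w ∈ UU z, w ∉ four z x → (∀ s ∈ centralizer (four z x : Set G), s ∈ Cz w) →
      t ∉ Cz w := by
    intro w hw h8 h9 h10
    refine h8 ?_
    have := hx.fl.mem_of_normal (isPGroup_zpowers_two (hU.sq hw))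
      (fun e => h8 (by rw [zpowers_eq_bot.1 e]; exact one_mem _))
      (fun s hs => Cz_le_normalizer_zpowers w (by
        rcases (hx.mem_normalizer_iff hs.1).1 hs.2 with e | e
        · exact h9 s (hx.mem_centralizer_iff.2 ⟨hs.1, mem_Cz'.2 e⟩)
        · refine (mul_mem_cancel_left (inv_mem h10)).1 (h9 _ (hx.mem_centralizer_iff.2
            ⟨mul_mem (inv_mem ht.1) hs.1, mem_Cz'.2 ?_⟩))
          rw [conj_conj, e, ← t2]; group))
    rcases (mem_zpowers_two (hU.sq hw)).1 this with e | e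
    · exact absurd e h.pz.ne
    · rw [← e]; exact zl
  rcases h.pz.conj_XX ht h4 with e | e
  · exact k4 c h4 h3 k3 (mem_Cz'.2 e)
  · refine k4 (c * x) (mul_mem h4 hx.mem_UU) (fun e => h3 ((mul_mem_cancel_right xl).1 e))
      (fun s hs => Cz_mul (k3 s hs) (hx.mem_centralizer_iff.1 hs).2) (mem_Cz'.2 ?_)
    rw [conj_mul_eq, e, t2, hU.comm h.pz.mem_UU h4, mul_assoc, ← mul_assoc z, h.pz.sq, one_mul]

/-- (2) `U_p ∩ U_q = ⟨p, q⟩` for collinear points. -/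
theorem Sd.inter' {β : ℕ} {y z a b u d p q c : G} (h : Sd β y z a b u d) (hp : Col p q)
    (hc : c ∈ UU p) (hc' : c ∈ UU q) : c ∈ four p q := by
  obtain ⟨x, h1, h2⟩ := h.cp.exists_step'
  obtain ⟨g, rfl, rfl⟩ := h1.exists_conj hp
  rw [← cj_UU, mem_cj] at hc hc'
  rw [← cj_four, mem_cj]
  exact h.inter h1 h2 hc hc'

/-- Both sides of a critical pair. -/
structure Rb (β : ℕ) (y z a b u d a' e : G) : Prop where
  sd : Sd β y z a b u d
  sd' : Sd β z y b a' u e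
  aa : a * a' ∈ four y u
  ny : y ∉ UU z

namespace Rb

variable {β : ℕ} {y z a b u d a' e : G} (h : Rb β y z a b u d a' e)
include h

theorem four_le_cent : four y u ≤ centralizer (UU z : Set G) := four_le h.sd'.zC h.sd'.uC

theorem mem_four_iff {x : G} : x ∈ four y u ↔ x = 1 ∨ x = y ∨ x = u ∨ x = y * u :=
  mem_four h.sd.py.sq h.sd.u_sq (h.sd.abU.comm h.sd.py.mem_UU h.sd.huy)

/-- (PLp) -/
theorem plp {c : G} (hc : c ∈ UU y) (hc' : UU z ≤ Cz c) (h1 : c ∈ Cz d) (h2 : c ∈ Cz e) :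
    c = 1 := by
  have hU := h.sd.abU
  refine h.sd.cp.plp' h.sd.dC h.sd'.dC h.sd.odd h.sd'.odd h.sd.d_notX h.sd.huy h.sd.hu ?_ ?_
    (hU.sq hc) (h.sd.cp.le_Cz_of_mem_inf hc) hc' (Cz_symm h1) (Cz_symm h2)
  · refine inverts_of_congr (a := a) (Cz_le_normalizer_XX z h.sd.dC) ?_ ?_
    · rw [h.sd.inv, inv_mul_cancel]; exact one_mem _
    · rw [comm_eq_conj_mul h.sd.u_sq, h.sd'.du, inv_eq_of_sq h.sd.a_sq,
        hU.comm h.sd'.hb h.sd.huy, mul_assoc, hU.comm h.sd'.hb h.sd.ha]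
      exact centralizer_UU_le h.sd.pz (mul_mem h.sd'.uC (h.four_le_cent h.aa))
  · refine inverts_of_congr (a := b) (Cz_le_normalizer_XX y h.sd'.dC) ?_ ?_
    · rw [h.sd'.inv, inv_mul_cancel]; exact one_mem _
    · rw [comm_eq_conj_mul h.sd.u_sq, h.sd.du, ← h.sd.ub, mul_inv_cancel_right]
      exact UU_le_XX y h.sd.huy

/-- An element of `C(y)` fixing `u` has commutator with `a` in `⟨y, u⟩`. -/
theorem norm {g : G} (hg : g ∈ Cz y) (hgu : g ∈ Cz u) : ⁅g, a⁆ ∈ four y u := by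
  have h1 := h.sd'.norm hg hgu
  have h2 : g ∈ Cz (a * a') := Cz_symm (four_le (Cz_symm hg) (Cz_symm hgu) h.aa)
  have e : ⁅g, a⁆ = (a * a') * ⁅g, a'⁆ * (a * a')⁻¹ := by
    have e1 : a = (a * a') * a' := by rw [mul_assoc, h.sd'.b_sq, mul_one]
    conv_lhs => rw [e1, commutatorElement_def, conj_mul_eq, Cz_conj h2]
    rw [commutatorElement_def]; group
  rw [e]; exact mul_mem (mul_mem h.aa h1) (inv_mem h.aa)

theorem eq_of_two {p : G} (h2 : β = 2) (h1 : Col p y) (h1' : Col p z) : u = p := by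
  have hU := h.sd.abU
  have e1 := h.sd.step_mem h1'.symm (by rw [h2]; exact h1.symm.near)
  have e2 := h.sd'.step_mem h1.symm (by rw [h2]; exact h1'.symm.near)
  have := h.plp (mul_mem h1.symm.mem_UU h.sd.huy)
    (h.sd'.cp.le_Cz_of_mem_inf (mul_mem h1'.symm.mem_UU h.sd.hu)) e1 e2
  rw [eq_inv_of_mul_eq_one_right this, h1.pt.inv]

theorem not_eight (h3 : 3 ≤ β) {p : G} (hp : Pt p) : Nat.card (UU p) ≠ 8 := fun h8 =>
  h.sd.cp.not_near (n := 1 + 1) (by omega) ((h.sd'.col_of_eight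
    ((h.sd.py.card_UU_eq hp).trans h8) h.sd.huy h.sd'.bar_u).near.trans
    (h.sd.col_of_eight ((h.sd.pz.card_UU_eq hp).trans h8) h.sd.hu h.sd.bar_u).symm.near)

theorem not_col (h3 : 3 ≤ β) : ¬ Col y u := fun h1 => h.not_eight h3 h.sd.py (h.sd'.eight h1)

end Rb

end Cfsg.Lib.Ngrp.Geo
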