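import Cfsg.Agent.Ngrp.AmRb2

/-! Critical distance at least two is impossible once every critical pair is of type (Rb). -/

set_option autoImplicit false

namespace Cfsg.Lib.Ngrp.Geo
open Subgroup Cfsg.Lib.Trans Cfsg.Lib.Local Cfsg.Lib.Local.JC Cfsg.Lib.Trans.TJ
open scoped commutatorElement IsMulCommutative

variable {G : Type*} [Group G] [Finite G]

theorem exists_fix_comm {V : Subgroup G} (hV : IsElementaryAbelian 2 V) {a d w : G}
    (ha : a ∈ normalizer (V : Set G)) (hd : d ∈ normalizer (V : Set G)) (ha2 : a * a = 1)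
    (ho : Odd (orderOf d)) (hi : a * d * a⁻¹ = d⁻¹) (hw : w ∈ V) (haw : a ∈ Cz w) :
    ∃ v ∈ V, w * ⁅a, v⁆ ∈ Cz d := by
  have := hV.1
  let _ : MulDistribMulAction (normalizer (V : Set G)) V :=
    MulDistribMulAction.compHom V (normalizerMonoidHom V)
  have hsm : ∀ (k : normalizer (V : Set G)) (v : V), ((k • v : V) : G) = k * v * (k : G)⁻¹ :=
    fun k v => rfl
  have hV2 : ∀ v : V, v * v = 1 := fun v => Subtype.ext (ea_sq hV v.2)
  have ho' : Odd (orderOf (⟨d, hd⟩ : normalizer (V : Set G))) := by rwa [← orderOf_coe]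
  have hi' : (⟨a, ha⟩ : normalizer (V : Set G)) * ⟨d, hd⟩ * (⟨a, ha⟩)⁻¹ = (⟨d, hd⟩)⁻¹ :=
    Subtype.ext hi
  obtain ⟨x, hx, c, hc, e⟩ := exists_dec hV2 ho' (⟨w, hw⟩ : V)
  have h1 : cm V (⟨a, ha⟩ : normalizer (V : Set G)) x * cm V (⟨a, ha⟩ : normalizer (V : Set G)) c
      = 1 := by
    rw [← map_mul, ← e, cm_eq_one_iff]; exact Subtype.ext (Cz_conj haw)
  have h2 : x ∈ fx V (⟨a, ha⟩ : normalizer (V : Set G)) := by
    refine mem_fx.2 (cm_eq_one_iff.1 (eq_one_of_mem_cV_fx hV2 ho'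
      ((inv_cV_of_inverts hi').cm_mem hx) ?_))
    rw [eq_inv_of_mul_eq_one_left h1]; exact inv_mem ((inv_fx_of_inverts hi').cm_mem hc)
  have h3 : x ∈ (cV V (⟨d, hd⟩ : normalizer (V : Set G))).map
      (cm V (⟨a, ha⟩ : normalizer (V : Set G))) := by
    rw [← rm2_cV_inf_fx hV2 (Subtype.ext ha2) ho' hi']; exact ⟨hx, h2⟩
  obtain ⟨v, -, rfl⟩ := h3
  refine ⟨v, v.2, Cz_symm (mem_Cz'.2 ?_)⟩
  have h4 : (⟨w, hw⟩ : V) * cm V (⟨a, ha⟩ : normalizer (V : Set G)) v = c := by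
    rw [e, mul_right_comm, hV2, one_mul]
  have h5 : w * ⁅a, (v : G)⁆ = c := congrArg Subtype.val h4
  rw [h5]; exact congrArg Subtype.val (mem_fx.1 hc)

omit [Finite G] in
theorem ea_of_gen {H : Subgroup G} (hc : H ≤ centralizer (H : Set G))
    (hg : ∀ K : Subgroup G, (∀ x ∈ H, x * x = 1 → x ∈ K) → H ≤ K) : IsElementaryAbelian 2 H :=
  ea_of_sq fun x hx => by
    let K : Subgroup G :=
      { carrier := {x | x ∈ H ∧ x * x = 1}
        one_mem' := ⟨one_mem _, one_mul 1⟩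
        mul_mem' := fun {a b} ha hb => ⟨mul_mem ha.1 hb.1, by
          rw [mul_assoc, ← mul_assoc b, hc ha.1 b hb.1, mul_assoc, hb.2, mul_one, ha.2]⟩
        inv_mem' := fun ha => ⟨inv_mem ha.1, by rw [← mul_inv_rev, ha.2, inv_one]⟩ }
    exact (hg K (fun x h1 h2 => ⟨h1, h2⟩) hx).2

theorem CP.ea_TT {β : ℕ} {y z p : G} (h : CP β y z) (h3 : 3 ≤ β) (hp : Pt p) :
    IsElementaryAbelian 2 (TT 1 p) :=
  ea_of_gen (h.min.TT_le (n := 0) (by omega) (hp.near 0)) fun _ hK =>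
    TT_le_iff.2 fun _ hq u hu => hK u (hq.UU_le hu) (h.abU.sq hu)

theorem CP.nc2 {β : ℕ} {y z p g : G} (h : CP β y z) (h4 : 4 ≤ β) (hg : g ∈ Cz p)
    (h1 : ∀ t ∈ TT 2 p, ⁅g, t⁆ ∈ TT 1 p) : g ∈ XX p := by
  refine mem_XX_of_normalizer hg fun l hl => ?_
  let R : Subgroup G := ⨆ r : {r : G // Fl r l}, TT 1 r.1
  have hle : ∀ r, Fl r l → TT 1 r ≤ R := fun r hr =>
    le_iSup (fun r : {r : G // Fl r l} => TT 1 r.1) ⟨r, hr⟩
  have hR : ∀ {K : Subgroup G}, R ≤ K ↔ ∀ r, Fl r l → TT 1 r ≤ K :=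
    iSup_le_iff.trans Subtype.forall
  have hea : IsElementaryAbelian 2 R := ea_of_gen
    (hR.2 fun r hr => le_centralizer_iff.1 (hR.2 fun s hs =>
      h.min.TT_le (n := 1) (by omega) (hs.near hr))) fun _ hK => hR.2 fun r hr =>
    TT_le_iff.2 fun _ hq u hu => hK u (hle r hr (hq.UU_le hu)) (h.abU.sq hu)
  refine hl.mx (isPGroup_of_ea hea) (fun e => hl.ne (mem_bot.1
    (e ▸ hle p hl (hl.pt.UU_le_TT 1 hl.pt.mem_UU)))) (fun k hk => mem_normalizer_of_cj_le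
      (cj_le_iff_le_cj_inv.2 (hR.2 fun r hr => cj_le_iff_le_cj_inv.1 (by
        rw [cj_TT]; exact hle _ (hr.conj_of_norm hk))))) (mem_normalizer_of_cj_le
      (cj_le_iff.2 fun t ht => ?_))
  rw [conj_eq_comm_mul]
  exact mul_mem (hle p hl (h1 t (hR.2 (fun r hr => (hl.near hr).TT_le) ht))) ht

namespace Sd

variable {β : ℕ} {y z a b u d : G} (h : Sd β y z a b u d)
include h

theorem mul_mem_cent {w w' : G} (hw : w ∈ UU z) (hw' : w' ∈ UU z)
    (h1 : w ∉ centralizer (UU y : Set G)) (h2 : w' ∉ centralizer (UU y : Set G)) :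
    w * w' ∈ centralizer (UU y : Set G) := by
  have := mul_mem ((h.ker w hw).resolve_left h1) ((h.ker w' hw').resolve_left h2)
  rwa [h.abU.comm hw' h.hb, mul_assoc, ← mul_assoc b, h.b_sq, one_mul] at this

theorem exists_t' : ∃ t ∈ XX z, (∀ c ∈ UU z, c ∈ Cz d → t ∈ Cz c) ∧ t ∈ Cz u ∧
    t * b * t⁻¹ = z * b := by
  obtain ⟨t, h1, h2, h3, h4⟩ := h.exists_t
  have e : ∀ w, d⁻¹ * t * d⁻¹⁻¹ * w * (d⁻¹ * t * d⁻¹⁻¹)⁻¹ = d⁻¹ * (t * (d * w * d⁻¹) * t⁻¹) * d :=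
    fun w => by group
  refine ⟨d⁻¹ * t * d⁻¹⁻¹, conj_mem_XX_of_mem (inv_mem h.dC) h1, fun c hc hcd => ?_,
    mem_Cz'.2 ?_, ?_⟩
  · exact mul_mem (mul_mem (inv_mem (Cz_symm hcd)) (h2 c hc hcd)) (inv_mem (inv_mem (Cz_symm hcd)))
  · rw [e, h.du, Cz_conj h4, ← h.du]; group
  · rw [e, h.db, conj_mul_eq, h3, Cz_conj h4, mul_assoc z, ← h.db, ← Cz_conj h.dC]
    conv_rhs => rw [Cz_conj h.dC]
    group

theorem cent_of_eight (h8 : Nat.card (UU z) = 8) {w : G} (hw : w ∈ UU z)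
    (h1 : w ∈ centralizer (UU y : Set G)) : w ∈ four z u := by
  have h2 : cV (VV z) (star z d) = ⊤ := by
    rw [← card_eq_iff_eq_top, h.c4]
    have := h.pz.card_UU
    omega
  have k : ∀ c ∈ UU z, c ∈ Cz d → c ∈ four z u := fun c hc hcd =>
    zpowers_le.2 (left_mem_four z u) ((bar_eq_one hc).1 (eq_one_of_mem_cV_fx VV_sq
      (odd_orderOf_star h.dC h.odd) (h2 ▸ mem_top _) (h.mem_fx_of_Cz hc hcd)))
  rcases h.cent_cases hw h1 with e | e
  · exact k w hw e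
  · exact (mul_mem_cancel_right (right_mem_four z u)).1 (k _ (mul_mem hw h.hu) e)

theorem four_le_cent : four z u ≤ centralizer (UU y : Set G) := four_le h.zC h.uC

theorem trans_eight (h8 : Nat.card (UU z) = 8) {w w' : G} (hw : w ∈ UU z) (hw' : w' ∈ UU z)
    (h1 : w ∉ four z u) (h2 : w' ∉ four z u) : ∃ g ∈ Cz z, g ∈ Cz u ∧ g * w * g⁻¹ = w' := by
  have hU := h.abU
  have c1 := fun e => h1 (h.cent_of_eight h8 hw e)
  have c2 := fun e => h2 (h.cent_of_eight h8 hw' e)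
  have hm := fun x => @mem_four _ _ _ _ x h.pz.sq h.u_sq (hU.comm h.pz.mem_UU h.hu)
  obtain ⟨t, t1, -, t2, t3⟩ := h.exists_t'
  have t4 : t * w * t⁻¹ = z * w := by
    have h3 := h.cent_of_eight h8 (mul_mem hw h.hb) ((h.ker w hw).resolve_left c1)
    have h4 := Cz_conj (Cz_symm (four_le (Cz_symm t1.1) (Cz_symm t2) h3))
    rw [conj_mul_eq, t3, ← mul_assoc, mul_left_inj] at h4
    rw [eq_mul_inv_of_mul_eq h4, h.pz.inv, hU.comm hw h.pz.mem_UU]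
  have a1 := h.act hw c1
  have e : w' = (w' * w) * w := by rw [mul_assoc, hU.sq hw, mul_one]
  rcases (hm _).1 (h.cent_of_eight h8 (mul_mem hw' hw) (h.mul_mem_cent hw' hw c2 c1)) with
    e1 | e1 | e1 | e1 <;> rw [e, e1]
  · exact ⟨1, one_mem _, one_mem _, by simp⟩
  · exact ⟨t, t1.1, t2, t4⟩
  · exact ⟨a, h.aC, mem_Cz'.2 h.au, a1⟩
  · refine ⟨a * t, mul_mem h.aC t1.1, mul_mem (mem_Cz'.2 h.au) t2, ?_⟩
    rw [conj_conj, t4, conj_mul_eq, Cz_conj h.aC, a1, mul_assoc]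

end Sd

theorem Rb.act {β : ℕ} {y z a b u d a' e a1 w : G} (h : Rb β y z a b u d a' e) (ha : a1 ∈ UU y)
    (h1 : a1 ∉ centralizer (UU z : Set G)) (hw : w ∈ UU z) (h2 : w ∉ centralizer (UU y : Set G)) :
    a1 * w * a1⁻¹ = u * w := by
  have h3 := h.sd'.mul_mem_cent ha h.sd.ha h1 fun e => h.sd.a_notX (centralizer_UU_le h.sd.pz e)
  have e : a1 = (a1 * a) * a := by rw [mul_assoc, h.sd.a_sq, mul_one]
  rw [e, conj_conj, h.sd.act hw h2, conj_eq_of_mem_centralizer h3 (mul_mem h.sd.hu hw)]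

/-- `p` and `q` lie on different lines through `m`. -/
def Op (m p q : G) : Prop := Col m p ∧ Col m q ∧ q ∉ four m p

theorem Op.symm {m p q : G} (h : Op m p q) : Op m q p :=
  ⟨h.2.1, h.1, fun e => h.2.2 (by
    rw [h.2.1.fl.four_eq e h.1.ne_one h.1.ne]; exact right_mem_four m q)⟩

omit [Finite G] in
theorem Op.conj {m p q : G} (h : Op m p q) (g : G) :
    Op (g * m * g⁻¹) (g * p * g⁻¹) (g * q * g⁻¹) :=
  ⟨h.1.conj g, h.2.1.conj g, by rw [← cj_four, conj_mem_cj]; exact h.2.2⟩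

theorem Col.exists_op {m p : G} (h : Col m p) : ∃ q, Op m p q := by
  by_contra hn
  push Not at hn
  exact h.fl.ne_UU (le_antisymm (UU_le_of_col fun q hq => by_contra fun e => hn q ⟨h, hq, e⟩)
    h.fl.le_UU)

/-- Every critical pair is of type (Rb). -/
def AllRb (G : Type*) [Group G] [Finite G] (β : ℕ) : Prop :=
  ∀ y z : G, CP β y z → ∃ a b u d a' e, Rb β y z a b u d a' e

theorem CP.exists_mid {y z : G} (h : CP 2 y z) : ∃ m, Op m y z := by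
  obtain ⟨m, h1, h2⟩ := h.exists_step
  have h3 : Col m z := h2.cases_one.resolve_left fun e => h.not_near one_lt_two (e ▸ h1.near)
  exact ⟨m, h1.symm, h3, fun e => h.not_near one_lt_two
    (h1.symm.fl'.near (h1.symm.fl.of_mem e h.pt'.ne))⟩

theorem two_act (hR : AllRb G 2) {y z : G} (h : CP 2 y z) {m p q a b : G} (ho : Op m p q)
    (ha : a ∈ UU p) (ha' : a ∉ four p m) (hb : b ∈ UU q) (hb' : b ∉ four q m) :
    a * b * a⁻¹ = m * b := by
  obtain ⟨m0, h0⟩ := h.exists_mid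
  obtain ⟨a0, b0, u0, d0, a0', e0, r0⟩ := hR y z h
  obtain rfl := r0.eq_of_two rfl h0.1 h0.2.1
  have h8 := r0.sd.eight h0.2.1.symm
  obtain ⟨g1, e1, e1'⟩ := ho.1.exists_conj h0.2.1.symm
  obtain ⟨g2, e2, e2'⟩ := h0.1.exists_conj h0.2.1.symm
  have o1 := ho.conj g1
  have o2 := h0.conj g2
  rw [e1, e1'] at o1
  rw [e2, e2'] at o2
  obtain ⟨k, k1, k2, k3⟩ := r0.sd.trans_eight h8 o1.2.1.mem_UU o2.2.1.mem_UU o1.2.2 o2.2.2
  have hc : CP 2 p q := h.of_near (ho.1.symm.near.trans ho.2.1.near) fun hc => h.nc (by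
    have := (hc.conj g1).conj k
    rwa [k3, e1', Cz_conj k2, ← e2', commU_conj_iff] at this)
  obtain ⟨a1, b1, u1, d1, a1', e1, r1⟩ := hR p q hc
  obtain rfl := r1.eq_of_two rfl ho.1 ho.2.1
  exact r1.act ha (fun e => ha' (r1.sd'.cent_of_eight (r1.sd'.eight ho.1.symm) ha e)) hb
    fun e => hb' (r1.sd.cent_of_eight (r1.sd.eight ho.2.1.symm) hb e)

theorem two_chain (hR : AllRb G 2) {y z : G} (h : CP 2 y z) {p0 p1 p2 p3 p4 p5 : G}
    (o1 : Op p1 p2 p0) (o2 : Op p2 p1 p3) (o3 : Op p3 p2 p4) (o4 : Op p4 p3 p5) :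
    (p5 * p0) ^ 4 = p3 := by
  have e1 : p0 * p4 * p0⁻¹ = p2 * p4 := two_act hR h o2 o1.2.1.mem_UU o1.2.2 o3.2.1.mem_UU o3.2.2
  have e2 : p0 * p3 * p0⁻¹ = p3 := conj_eq_of_mem_centralizer
    (h.min.commU one_lt_two o1.1.near o1.2.1.mem_UU) o2.2.1.mem_UU
  have o5 := o4.conj p0
  rw [e1, e2] at o5
  have o6 : Op p3 p4 (p2 * p4) := ⟨o3.2.1, o5.1.symm, fun e => o3.symm.2.2
    ((mul_mem_cancel_right (right_mem_four p3 p4)).1 e)⟩
  have e3 := two_act hR h o6 o4.2.1.mem_UU o4.2.2 o5.2.1.mem_UU o5.2.2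
  have s0 := inv_eq_of_sq o1.2.1.sq
  have s5 := inv_eq_of_sq o4.2.1.sq
  have e4 : (p5 * p0) ^ 4 = p5 * (p0 * p5 * p0⁻¹) * p5⁻¹ * (p0 * p5 * p0⁻¹) := by
    rw [s0, s5]; simp only [pow_succ, pow_zero, one_mul, mul_assoc]
  rw [e4, e3, mul_assoc, o5.2.1.sq, mul_one]

theorem two_false (hR : AllRb G 2) {y z : G} (h : CP 2 y z) : False := by
  obtain ⟨p2, h1⟩ := h.pt.exists_col
  obtain ⟨p0, o1⟩ := h1.exists_op
  obtain ⟨p3, o2⟩ := h1.symm.exists_op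
  obtain ⟨p4, o3⟩ := o2.2.1.symm.exists_op
  obtain ⟨p5, o4⟩ := o3.2.1.symm.exists_op
  have e1 := two_chain hR h o1 o2 o3 o4
  have e2 := two_chain hR h o4 o3.symm o2.symm o1
  refine o2.2.1.ne ?_
  rw [← e1, ← o2.1.pt.inv, ← e2, ← inv_pow, mul_inv_rev, inv_eq_of_sq o1.2.1.sq,
    inv_eq_of_sq o4.2.1.sq]

theorem Rb.not_mem_TT {β : ℕ} {y z a b u d a' e : G} (h : Rb β y z a b u d a' e) (h3 : 3 ≤ β) :
    y ∉ TT 1 z := by
  intro hy
  have hc := h.sd.cp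
  have hu : u ∈ TT 1 z := h.sd.pz.UU_le_TT 1 h.sd.hu
  have key : ∀ t, t ∈ centralizer (TT 1 z : Set G) → ⁅a, t⁆ ∈ four y u := fun t ht => by
    rw [← commutatorElement_inv]
    exact inv_mem (h.norm (le_Cz_of_mem hy ht) (le_Cz_of_mem hu ht))
  rcases h3.eq_or_lt with h3 | h4
  · subst h3
    obtain ⟨p, h1, h2⟩ := hc.exists_step
    have hp : p ∈ TT 1 z := by
      rcases h2.symm.cases_succ' with e1 | ⟨r, h4, h5⟩
      · exact e1 ▸ h.sd.pz.UU_le_TT 1 h.sd.pz.mem_UU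
      · exact h4.UU_le h5.symm.mem_UU
    have hea := hc.ea_TT le_rfl h.sd.pz
    have hT : TT 1 z ≤ centralizer (TT 1 z : Set G) := fun x hx w hw => ea_comm' hea hw hx
    obtain ⟨v, hv, h4⟩ := exists_fix_comm hea (Cz_le_normalizer_TT 1 z h.sd.aC)
      (Cz_le_normalizer_TT 1 z h.sd.dC) h.sd.a_sq h.sd.odd h.sd.inv hp
      (mem_Cz.2 (h.sd.abU.comm h.sd.ha h1.mem_UU))
    have h5 := h.sd'.step_mem h1 h2.symm
    have k : ∀ c, c = p * u ∨ c = y * p * u → c ∈ Cz d → c ∈ Cz e → False := by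
      intro c h6 h7 h8
      have h9 : c ∈ UU y ∧ c ∈ TT 1 z := by
        rcases h6 with rfl | rfl
        · exact ⟨mul_mem h1.mem_UU h.sd.huy, mul_mem hp hu⟩
        · exact ⟨mul_mem h1.mul.mem_UU h.sd.huy, mul_mem (mul_mem hy hp) hu⟩
      have h10 := h.plp h9.1 (fun w hw => le_Cz_of_mem h9.2 (hT (h.sd.pz.UU_le_TT 1 hw))) h7 h8
      refine h.not_col le_rfl ?_
      rcases h6 with rfl | rfl
      · rwa [eq_inv_of_mul_eq_one_right h10, inv_eq_of_sq h1.sq]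
      · rw [eq_inv_of_mul_eq_one_right h10, inv_eq_of_sq h1.mul.sq]; exact h1.mul
    rcases h.mem_four_iff.1 (key v (hT hv)) with e1 | e1 | e1 | e1 <;> rw [e1] at h4
    · exact h.sd.not_fix h1.symm.near (by omega) (Cz_symm (by simpa using h4))
    · exact h.sd.not_fix h1.mul_symm.near (by omega) (Cz_symm (h1.comm ▸ h4))
    · exact k _ (Or.inl rfl) h4 h5
    · rw [← mul_assoc, ← h1.comm] at h4
      exact k _ (Or.inr rfl) h4 (by rw [mul_assoc]; exact mul_mem h.sd'.zd h5)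
  · exact h.sd.a_notX (hc.nc2 h4 h.sd.aC fun t ht => four_le hy hu
      (key t (hc.min.TT_le (n := 0) (by omega) (h.sd.pz.near 0) ht)))

end Cfsg.Lib.Ngrp.Geo
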