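import Cfsg.Agent.Ngrp.AmRb3

/-! The last case: critical distance at least three. -/

set_option autoImplicit false

namespace Cfsg.Lib.Ngrp.Geo
open Subgroup Cfsg.Lib.Trans Cfsg.Lib.Local Cfsg.Lib.Local.JC Cfsg.Lib.Trans.TJ
open scoped commutatorElement

variable {G : Type*} [Group G]

/-- The centralizer of `T^{β-1}(z)` in `U_r`. -/
def KT (β : ℕ) (z r : G) : Subgroup G := UU r ⊓ centralizer (TT (β - 1) z : Set G)

theorem KT_conj {β : ℕ} {z r g x : G} (hg : g ∈ Cz z) (h : x ∈ KT β z r) :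
    g * x * g⁻¹ ∈ KT β z (g * r * g⁻¹) :=
  ⟨conj_mem_UU g h.1, mem_normalizer_conj
    (normalizer_le_normalizer_centralizer _ (Cz_le_normalizer_TT _ z hg)) h.2⟩

/-- `K(r)` and `K(r')` meet outside `⟨z⟩`. -/
def KM (β : ℕ) (z r r' : G) : Prop := ∃ x ∈ KT β z r, x ∈ KT β z r' ∧ x ∉ zpowers z

theorem KM.symm {β : ℕ} {z r r' : G} (h : KM β z r r') : KM β z r' r :=
  let ⟨x, h1, h2, h3⟩ := h; ⟨x, h2, h1, h3⟩

theorem KM.conj {β : ℕ} {z r r' g : G} (h : KM β z r r') (hg : g ∈ Cz z) :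
    KM β z (g * r * g⁻¹) (g * r' * g⁻¹) :=
  let ⟨x, h1, h2, h3⟩ := h
  ⟨_, KT_conj hg h1, KT_conj hg h2, fun e => h3 (by
    have := mem_normalizer_conj' (Cz_le_normalizer_zpowers z hg) e
    simpa [mul_assoc] using this)⟩

variable [Finite G]

theorem Op.mul_left {z r r' : G} (h : Op z r r') : Op z (z * r) r' :=
  ⟨h.1.mul, h.2.1, h.1.four_mul ▸ h.2.2⟩

theorem Op.mul_right {z r r' : G} (h : Op z r r') : Op z r (z * r') := h.symm.mul_left.symm

theorem CP.four_le_KT {β : ℕ} {y0 z0 z r : G} (h : CP β y0 z0) (hr : Col z r) :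
    four z r ≤ KT β z r :=
  le_inf hr.fl'.le_UU (hr.fl.le_UU.trans (le_centralizer_iff.1
    (h.min.TT_le_UU (n := 0) (Nat.sub_lt h.pos one_pos) (hr.pt.near 0))))

theorem Rb.not_mem_four {β : ℕ} {y z a b u d a' e r : G} (h : Rb β y z a b u d a' e) (h3 : 3 ≤ β)
    (hr : Col z r) : u ∉ four z r := fun h1 =>
  h.not_eight h3 h.sd.pz (h.sd.eight (hr.fl.col h1 h.sd.un fun e => h.sd.bar_u (e ▸ bar_self)))

theorem exists_KT {β : ℕ} (hR : AllRb G β) (h3 : 3 ≤ β) {y0 z0 z q : G} (h : CP β y0 z0)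
    (hq : Col z q) : ∃ x ∈ KT β z q, x ∉ four z q := by
  have hn : ∀ s, Near (β - 1) z s → ¬ CommU s q → CP β s q := fun s h1 h2 =>
    h.of_near ((h1.symm.snoc hq).mono (by omega)) h2
  by_cases h0 : ∀ s, Near (β - 1) z s → CommU s q
  · obtain ⟨x, h1, h2⟩ := SetLike.not_le_iff_exists.1 fun e => hq.fl'.ne_UU
      (le_antisymm e hq.fl'.le_UU)
    exact ⟨x, ⟨h1, le_centralizer_iff.1 (TT_le_iff.2 h0) h1⟩, h2⟩
  push Not at h0
  obtain ⟨s1, n1, c1⟩ := h0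
  obtain ⟨a1, b1, u1, d1, a1', e1, r1⟩ := hR _ _ (hn s1 n1 c1)
  have f1 := r1.sd.step_mem hq.symm n1.symm
  refine ⟨u1, ⟨r1.sd.hu, ?_⟩, four_comm z q ▸ r1.not_mem_four h3 hq.symm⟩
  have key : ∀ s, Near (β - 1) z s → u1 ∈ centralizer (UU s : Set G) := by
    intro s n2
    by_cases c2 : CommU s q
    · exact c2.symm r1.sd.hu
    obtain ⟨a2, b2, u2, d2, a2', e2, r2⟩ := hR _ _ (hn s n2 c2)
    have f2 := r2.sd.step_mem hq.symm n2.symm
    rcases rm4K r1.sd.fit r2.sd.fit r1.sd.c4 r2.sd.c4 with ⟨k1, k2⟩ | k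
    · have g1 := r1.sd.mem_fx_of_Cz (mul_mem hq.symm.mem_UU r1.sd.hu) f1
      have g2 := r2.sd.mem_fx_of_Cz (mul_mem hq.symm.mem_UU r2.sd.hu) f2
      rw [bar_mul hq.symm.mem_UU r1.sd.hu, k2] at g1
      rw [bar_mul hq.symm.mem_UU r2.sd.hu] at g2
      have g3 : bar q u1 * bar q u2 = 1 := eq_one_of_mem_cV_fx VV_sq
        (odd_orderOf_star r2.sd.dC r2.sd.odd) (mul_mem (k1 ▸ r1.sd.u_mem) r2.sd.u_mem) (by
          have := mul_mem g1 g2
          rwa [mul_mul_mul_comm, VV_sq, one_mul] at this)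
      rw [← bar_mul r1.sd.hu r2.sd.hu, bar_eq_one (mul_mem r1.sd.hu r2.sd.hu)] at g3
      exact (mul_mem_cancel_right r2.sd.uC).1 (zpowers_le.2 r2.sd.zC g3)
    · exact r2.sd.mem_cent r1.sd.hu (r2.sd.mem_Cz_of_fx r1.sd.hu (k r1.sd.u_mem))
  exact fun t ht => (mem_Cz.1 (TT_le_iff (H := Cz u1).2
    (fun s hs w hw => mem_Cz.2 (key s hs w hw)) ht))

namespace Rb

variable {β : ℕ} {y z a b u d a' e : G} (h : Rb β y z a b u d a' e)
include h

theorem not_mem_UU {r r' : G} (o : Op z r' r) : r ∉ UU r' := fun h1 =>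
  o.2.2 (h.sd.inter' o.1 o.2.1.mem_UU h1)

theorem kA {r r' x : G} (o : Op z r' r) (h2 : x ∈ KT β z r') (h3 : x ∉ zpowers z) :
    x ∉ four z r := fun h4 => by
  rcases o.2.1.mem_four.1 h4 with e1 | e1 | e1 | e1 <;> rw [e1] at h2 h3
  · exact h3 (one_mem _)
  · exact h3 (mem_zpowers z)
  · exact h.not_mem_UU o h2.1
  · exact h.not_mem_UU o.mul_right h2.1

theorem kC {r x : G} (hr : Col z r) (h1 : x ∈ UU r) (h2 : x ∈ UU (z * r)) : x ∈ four z r :=
  four_le (right_mem_four z r) (mul_mem (left_mem_four z r) (right_mem_four z r))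
    (h.sd.inter' hr.mul_right h1 h2)

theorem kD {r r' x : G} (o : Op z r' r) (h1 : x ∈ KT β z r') (h2 : x * r ∈ KT β z r') : False :=
  h.not_mem_UU o ((mul_mem_cancel_left h1).1 h2).1

theorem act_KT (h3 : 3 ≤ β) {q g : G} (hq : Col z q) (hg : g ∈ KT β z q) :
    a ∈ Cz g ∨ a * g * a⁻¹ = u * g := by
  obtain ⟨p, h1, h2⟩ := h.sd.cp.exists_step
  have hT : g ∈ TT 1 z := hq.near.UU_le hg.1
  have h4 := h.norm (le_Cz_of_mem (h2.symm.UU_le h1.symm.mem_UU) hg.2) (le_Cz_of_mem h.sd.hu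
    (h.sd.cp.min.commU (n := 1) (by omega) hq.symm.near hg.1))
  have h5 : ⁅a, g⁆ ∈ TT 1 z := mul_mem (conj_mem_TT_of_mem h.sd.aC hT) (inv_mem hT)
  have hu : u ∈ TT 1 z := h.sd.pz.UU_le_TT 1 h.sd.hu
  rw [← commutatorElement_inv, inv_mem_iff] at h4
  rcases h.mem_four_iff.1 h4 with e1 | e1 | e1 | e1
  · exact Or.inl (mem_Cz.2 (commutatorElement_eq_one_iff_mul_comm.1 e1))
  · exact absurd (e1 ▸ h5) (h.not_mem_TT h3)
  · exact Or.inr (by rw [conj_eq_comm_mul, e1])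
  · exact absurd ((mul_mem_cancel_right hu).1 (e1 ▸ h5)) (h.not_mem_TT h3)

theorem exists_q : ∃ q, Col z q ∧ q * b ∈ Cz d := by
  have hU := h.sd.abU
  obtain ⟨q, h1, h2⟩ : ∃ q, Col z q ∧ q ∉ centralizer (UU y : Set G) := by
    by_contra hn
    push Not at hn
    exact h.sd.b_notA (UU_le_of_col hn h.sd.hb)
  rcases h.sd.dec q h1.mem_UU with e1 | e1 | e1 | e1
  · exact absurd (h.sd.mem_cent h1.mem_UU e1) h2
  · exact absurd ((mul_mem_cancel_right h.sd.uC).1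
      (h.sd.mem_cent (mul_mem h1.mem_UU h.sd.hu) e1)) h2
  · exact ⟨q, h1, e1⟩
  · refine ⟨_, h1.conj_of_mem h.sd.aC, ?_⟩
    rwa [h.sd.act h1.mem_UU h2, hU.comm h.sd.hu h1.mem_UU, mul_assoc]

theorem three_false (hR : AllRb G β) (h3 : 3 ≤ β) : False := by
  have hU := h.sd.abU
  have hc := h.sd.cp
  obtain ⟨q, hq, hqb⟩ := h.exists_q
  have hqU := hq.mem_UU
  have hcU : q * b ∈ UU z := mul_mem hqU h.sd.hb
  have eq : q = q * b * b := by rw [mul_assoc, h.sd.b_sq, mul_one]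
  have qA : q ∉ centralizer (UU y : Set G) := fun e1 =>
    h.sd.b_notA ((mul_mem_cancel_left e1).1 (h.sd.mem_cent hcU hqb))
  have aq := h.sd.act hqU qA
  have d2 : d * q * d⁻¹ = u * q := by
    conv_lhs => rw [eq, conj_mul_eq, Cz_conj (Cz_symm hqb), h.sd.db]
    rw [h.sd.ub, ← mul_assoc, ← eq, hU.comm hqU h.sd.hu]
  have d3 : d * (u * q) * d⁻¹ = q * b * u := by
    rw [conj_mul_eq, h.sd.du, d2, hU.comm h.sd.hu hqU, ← mul_assoc, hU.comm h.sd.hb hqU]
  have d1 : d * (q * b * u) * d⁻¹ = q := by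
    rw [conj_mul_eq, Cz_conj (Cz_symm hqb), h.sd.du, ← eq]
  have o23 : Op z q (u * q) := ⟨hq, aq ▸ hq.conj_of_mem h.sd.aC, fun e1 => h.not_mem_four h3 hq
    ((mul_mem_cancel_right (right_mem_four z q)).1 e1)⟩
  have o31 := o23.conj d
  rw [Cz_conj h.sd.dC, d2, d3] at o31
  have o12 := o31.conj d
  rw [Cz_conj h.sd.dC, d3, d1] at o12
  obtain ⟨t, tX, tC, tu, tb⟩ := h.sd.exists_t
  obtain ⟨s, sX, sC, su, sb⟩ := h.sd.exists_t'
  have t2 : t * q * t⁻¹ = q := by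
    conv_lhs => rw [eq, conj_mul_eq, Cz_conj (tC _ hcU hqb), Cz_conj tb, ← eq]
  have t3 : t * (u * q) * t⁻¹ = z * (u * q) := by rw [conj_mul_eq, tu, t2, mul_assoc]
  have t1 : t * (q * b * u) * t⁻¹ = z * (q * b * u) := by
    rw [conj_mul_eq, Cz_conj (tC _ hcU hqb), tu, ← mul_assoc, hU.comm hcU h.sd.pz.mem_UU,
      mul_assoc]
  have s1 : s * (q * b * u) * s⁻¹ = q * b * u := by
    rw [conj_mul_eq, Cz_conj (sC _ hcU hqb), Cz_conj su]
  have s3 : s * (u * q) * s⁻¹ = z * (u * q) := by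
    rw [conj_mul_eq, Cz_conj su]
    conv_lhs => rw [eq, conj_mul_eq, Cz_conj (sC _ hcU hqb), sb]
    rw [← mul_assoc (q * b), hU.comm hcU h.sd.pz.mem_UU, mul_assoc z, ← eq, ← mul_assoc,
      hU.comm h.sd.hu h.sd.pz.mem_UU, mul_assoc]
  have qK := hc.four_le_KT hq (right_mem_four z q)
  -- elements of `K(q)` fixed by `a`
  have k0 : ∀ x ∈ KT β z q, a ∈ Cz x → x ∈ KT β z (u * q) := fun x h1 h2 => by
    have := KT_conj h.sd.aC h1
    rwa [Cz_conj h2, aq] at this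
  have k1 : ∀ x ∈ KT β z q, x ∉ four z q → ∃ x' ∈ KT β z q, a ∈ Cz x' ∧ x' ∉ zpowers z ∧
      x * x' ∈ four z q := by
    intro x h1 h2
    have hz : zpowers z ≤ four z q := zpowers_le.2 (left_mem_four z q)
    rcases h.act_KT h3 hq h1 with e1 | e1
    · exact ⟨x, h1, e1, fun e2 => h2 (hz e2), by rw [hU.sq h1.1]; exact one_mem _⟩
    · refine ⟨x * q, mul_mem h1 qK, mem_Cz'.2 ?_, fun e2 => h2 ((mul_mem_cancel_right
        (right_mem_four z q)).1 (hz e2)), ?_⟩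
      · have := hc.min.commU (n := 1) (by omega) hq.symm.near h1.1 u h.sd.hu
        rw [conj_mul_eq, e1, aq, this, mul_assoc, ← mul_assoc u, h.sd.u_sq, one_mul]
      · rw [← mul_assoc, hU.sq h1.1, one_mul]; exact right_mem_four z q
  have k2 : ∀ x ∈ KT β z q, a ∈ Cz x → a ∈ Cz (t * x * t⁻¹) → x ∈ zpowers z := by
    intro x h1 h2 h4
    have h5 := KT_conj tX.1 h1
    have h6 := KT_conj tX.1 (k0 x h1 h2)
    rw [t2] at h5
    rw [t3] at h6
    by_contra h7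
    refine h.kA o23 h5 (fun e1 => h7 ?_) (h.kC o23.2.1 (k0 _ h5 h4).1 h6.1)
    have := mem_normalizer_conj' (Cz_le_normalizer_zpowers z tX.1) e1
    simpa [mul_assoc] using this
  have k8 : ∀ x ∈ KT β z q, ∀ w ∈ KT β z q, x ∉ four z q → w ∉ four z q → x * w ∈ four z q := by
    intro x h1 w h2 h4 h5
    obtain ⟨x', a1, a2, a3, a4⟩ := k1 x h1 h4
    obtain ⟨w', b1, b2, b3, b4⟩ := k1 w h2 h5
    have c1 := KT_conj tX.1 a1
    have c2 := KT_conj tX.1 b1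
    rw [t2] at c1 c2
    have c3 := (h.act_KT h3 hq c1).resolve_left fun e1 => a3 (k2 _ a1 a2 e1)
    have c4 := (h.act_KT h3 hq c2).resolve_left fun e1 => b3 (k2 _ b1 b2 e1)
    have c5 := k2 _ (mul_mem a1 b1) (Cz_mul a2 b2) (mem_Cz'.2 (by
      have := hc.min.commU (n := 1) (by omega) hq.symm.near c1.1 u h.sd.hu
      rw [conj_mul_eq t, conj_mul_eq, c3, c4, this, mul_assoc, ← mul_assoc u, h.sd.u_sq, one_mul]))
    have e1 : x * w = (x * x') * (x' * w') * (w * w') := by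
      rw [hU.comm h2.1 b1.1, mul_assoc (x * x'), mul_assoc x', ← mul_assoc w', hU.sq b1.1, one_mul,
        mul_assoc, ← mul_assoc x', hU.sq a1.1, one_mul]
    rw [e1]
    exact mul_mem (mul_mem a4 (zpowers_le.2 (left_mem_four z q) c5)) b4
  have k9 : ∀ r, Col z r → ∀ x ∈ KT β z r, ∀ w ∈ KT β z r, x ∉ four z r → w ∉ four z r →
      x * w ∈ four z r := by
    intro r hr x h1 w h2 h4 h5
    obtain ⟨g, hg, rfl⟩ := hr.exists_conj_mem hq
    have e1 : four z (g * r * g⁻¹) = cj g (four z r) := by rw [cj_four, Cz_conj hg]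
    have := k8 _ (KT_conj hg h1) _ (KT_conj hg h2) (by rwa [e1, conj_mem_cj])
      (by rwa [e1, conj_mem_cj])
    rwa [← conj_mul_eq, e1, conj_mem_cj] at this
  have kB : ∀ r r' x, Op z r' r → KM β z r r' → x ∈ KT β z r → x ∉ four z r →
      x ∈ KT β z r' ∨ x * r ∈ KT β z r' := by
    rintro r r' x o ⟨w, h1, h2, h4⟩ h5 h6
    have zK := hc.four_le_KT o.1 (left_mem_four z r')
    have e1 : x = (x * w) * w := by rw [mul_assoc, hU.sq h1.1, mul_one]
    have e2 : x * r = (x * w * r) * w := by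
      rw [mul_assoc x, hU.comm h1.1 o.2.1.pt'.mem_UU, ← mul_assoc, mul_assoc _ w, hU.sq h1.1,
        mul_one]
    rcases o.2.1.mem_four.1 (k9 r o.2.1 x h5 w h1 h6 (h.kA o h2 h4)) with e3 | e3 | e3 | e3
    · left; rw [e1, e3]; exact mul_mem (one_mem _) h2
    · left; rw [e1, e3]; exact mul_mem zK h2
    · right; rw [e2, e3, o.2.1.sq]; exact mul_mem (one_mem _) h2
    · right; rw [e2, e3, mul_assoc z, o.2.1.sq, mul_one]; exact mul_mem zK h2
  obtain ⟨x0, h1, h2⟩ := exists_KT hR h3 hc hq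
  obtain ⟨x, x2, xa, xz, -⟩ := k1 x0 h1 h2
  have x3 := k0 x x2 xa
  have m23 : KM β z q (u * q) := ⟨x, x2, x3, xz⟩
  have m31 := m23.conj h.sd.dC
  rw [d2, d3] at m31
  have m12 := m31.conj h.sd.dC
  rw [d3, d1] at m12
  have m23' := m23.conj tX.1
  rw [t2, t3] at m23'
  have m12' := m12.conj tX.1
  rw [t1, t2] at m12'
  have m31' := m31.conj tX.1
  rw [t3, t1] at m31'
  have m31'' := m31.conj sX.1
  rw [s3, s1] at m31''
  have xq := h.kA o23.symm x3 xz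
  have xqz : x * q ∉ zpowers z := fun e1 => xq ((mul_mem_cancel_right (right_mem_four z q)).1
    (zpowers_le.2 (left_mem_four z q) e1))
  have fin : ∀ r, Op z r q → Op z r (z * (u * q)) → KM β z (z * (u * q)) r → x ∉ KT β z r := by
    intro r o1 o2 m h4
    have h5 := (kB _ _ x o23.symm.mul_left m23' x2 xq).resolve_left fun e1 =>
      h.kA o23 x2 xz (h.kC o23.2.1 x3.1 e1.1)
    rcases kB _ _ _ o2 m h5 (h.kA o23.mul_right (mul_mem x2 qK) xqz) with e1 | e1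
    · exact h.kD o1 h4 e1
    · rw [mul_assoc] at e1
      have h6 := (mul_mem_cancel_left h4).1 e1
      rw [← mul_assoc, hU.comm hqU h.sd.pz.mem_UU, mul_assoc,
        mul_mem_cancel_left (hc.four_le_KT o1.1 (left_mem_four z r)), hU.comm h.sd.hu hqU,
        ← mul_assoc, hq.sq, one_mul] at h6
      exact h.not_mem_four h3 o1.1 (h.sd.inter' o1.1 h.sd.hu h6.1)
  have f1 := (kB _ _ x o12 m12.symm x2 xq).resolve_left (fin _ o12 o31.symm.mul_right m31'')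
  have f2 := (kB _ _ x o12.mul_left m12'.symm x2 xq).resolve_left
    (fin _ o12.mul_left o31.symm.mul_right.mul_left m31')
  exact h.kA o12.symm (mul_mem x2 qK) xqz (h.kC o12.1 f1.1 f2.1)

end Rb

theorem AllRb.eq_one {β : ℕ} (hR : AllRb G β) {y z : G} (h : CP β y z) : β = 1 := by
  by_contra h1
  have := h.pos
  by_cases h2 : β = 2
  · subst h2; exact two_false hR h
  · obtain ⟨a, b, u, d, a', e, r⟩ := hR y z h
    exact r.three_false hR (by omega)

end Cfsg.Lib.Ngrp.Geo
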