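import Cfsg.Agent.Ngrp.AmMod3

set_option autoImplicit false
set_option linter.unusedSectionVars false

namespace Cfsg.Lib.Ngrp.T2
open Subgroup

variable {K V : Type*} [Group K] [CommGroup V] [MulDistribMulAction K V]

theorem cm_mem_of_card [Finite V] {g : K} {W W' : Subgroup V} (hW : Invt g W) (hW' : Invt g W')
    (hle : W' ≤ W) (hc : Nat.card W ≤ 2 * Nat.card W') {x : V} (hx : x ∈ W) : cm V g x ∈ W' := by
  by_cases h : x ∈ W'
  · exact hW'.cm_mem h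
  have h1 : g • x ∉ W' := fun e => h (by simpa using hW'.inv _ e)
  have h2 : W'.relIndex W ≤ 2 := by
    have e : Nat.card W' * W'.relIndex W = Nat.card W := by
      rw [relIndex, ← Nat.card_congr (subgroupOfEquivOfLe hle).toEquiv, card_mul_index]
    have := Nat.card_pos (α := W')
    nlinarith
  have h3 : W'.relIndex W ≠ 1 := fun e => h (relIndex_eq_one.1 e hx)
  have h4 : W'.relIndex W ≠ 0 := index_ne_zero_of_finite
  have h5 : (W'.subgroupOf W).index = 2 := by unfold relIndex at h2 h3 h4; omega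
  have := (mul_mem_iff_of_index_two h5 (a := ⟨g • x, hW x hx⟩) (b := ⟨x, hx⟩⁻¹)).2
    (by simp [mem_subgroupOf, h, h1])
  exact this

/-- An involution commuting with a fixed-point-free action on a four-group is trivial on it. -/
theorem le_fx_of_comm_four [Finite V] (hV : ∀ v : V, v * v = 1) {g b : K} {W : Subgroup V}
    (hc : Nat.card W = 4) (hg : Invt g W) (hf : W ⊓ fx V g = ⊥) (hb : Invt b W) (hb2 : b * b = 1)
    (hgb : g * b = b * g) : W ≤ fx V b := by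
  rw [← map_cm_eq_bot_iff, eq_bot_iff, ← hf]
  refine le_inf hb.map_le (le_fx_of_card_le_two (Invt.map_of_comm hgb hg) ?_)
  have h1 := card_map_cm_mul b W
  have h2 : Nat.card (W.map (cm V b)) ≤ Nat.card ↥(W ⊓ fx V b) :=
    card_le_of_le (le_inf hb.map_le ((map_cm_le_cV b W).trans (cV_le_fx_of_sq hV hb2)))
  rw [hc] at h1
  nlinarith

/-- The module configuration of a pair of collinear points with non-abelian `U`. -/
structure Cfg (B : Subgroup K) (V0 E : Subgroup V) (y v : V) : Prop where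
  red : Red K V
  sq : ∀ b ∈ B, b * b = 1
  yne : y ≠ 1
  yE : y ∈ E
  vn : v ∉ V0
  idx : ∀ x, x ∈ V0 ∨ v * x ∈ V0
  c1 : ∀ b ∈ B, cV V b ≤ V0
  c2 : ∀ b ∈ B, ∀ x ∈ V0, cm V b x ∈ E
  c3 : ∀ b ∈ B, ∀ x ∈ E, cm V b x ∈ zpowers y
  c4 : ∀ b ∈ B, b • y = y
  surj : ∀ x ∈ V0, ∃ b ∈ B, x * cm V b v ∈ E
  fixE : ∀ x ∈ E, (∀ b ∈ B, b • x = x) → x ∈ zpowers y
  norm : ∀ g : K, g • y = y → ∀ b ∈ B, g * b * g⁻¹ ∈ B
  cardE : Nat.card E ≤ 2 * Nat.card B
  cardV : Nat.card V = 2 * Nat.card B * Nat.card E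
  pl : ∀ d a : K, Odd (orderOf d) → a ∈ B → a * d * a⁻¹ = d⁻¹ → ¬ cV V d ≤ V0 →
    ∀ T ≤ E, y ∈ T → ¬ Invt d T

namespace Cfg

variable {B : Subgroup K} {V0 E : Subgroup V} {y v : V} (h : Cfg B V0 E y v)
  {k : ℕ} {a d : Fin k → K} (f : Frame B a d)
include h

theorem mem_zp {x : V} : x ∈ zpowers y ↔ x = 1 ∨ x = y := mem_zpowers_iff_of_expo h.red.expo

theorem mul_mem_of_not {w x : V} (hw : w ∉ V0) (hx : x ∉ V0) : w * x ∈ V0 := by
  have := mul_mem ((h.idx w).resolve_left hw) ((h.idx x).resolve_left hx)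
  rwa [mul_mul_mul_comm, h.red.expo, one_mul] at this

theorem surj' {w x : V} (hw : w ∉ V0) (hx : x ∈ V0) : ∃ b ∈ B, x * cm V b w ∈ E := by
  obtain ⟨b, hb, e⟩ := h.surj x hx
  refine ⟨b, hb, ?_⟩
  have := mul_mem e (h.c2 b hb _ (h.mul_mem_of_not h.vn hw))
  rwa [map_mul, mul_assoc, ← mul_assoc (cm V b v), h.red.expo, one_mul] at this

include f

theorem y_not_fx (i : Fin k) : y ∉ fx V (d i) := fun hy => by
  have h1 := mul_mem (h.norm _ (mem_fx.1 hy) _ (f.mem i)) (f.mem i)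
  have e : d i * a i * (d i)⁻¹ * a i = d i * d i := by
    have := f.inv i
    rw [f.inv_eq (f.mem i)] at this
    calc d i * a i * (d i)⁻¹ * a i = d i * (a i * (a i * d i * a i) * a i) := by rw [this]; group
      _ = d i * ((a i * a i) * d i * (a i * a i)) := by group
      _ = _ := by rw [f.a_sq, one_mul, mul_one]
  rw [e] at h1
  have h2 : orderOf (d i) ∣ 2 ^ 2 := orderOf_dvd_of_pow_eq_one (by
    rw [← h.sq _ h1]; simp [pow_succ, mul_assoc])
  exact f.d_ne i (orderOf_eq_one_iff.1 (Nat.Coprime.eq_one_of_dvd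
    (Nat.Coprime.pow_right 2 ((Nat.coprime_two_right).2 (f.odd i))) h2))

variable [Finite V]

theorem eq_one_of_E {i : Fin k} {x : V} (hx : x ∈ E) (hx' : x ∈ fx V (d i)) : x = 1 := by
  have h1 := h.fixE x hx fun b hb => cm_eq_one_iff.1 ((h.mem_zp.1 (h.c3 b hb x hx)).resolve_right
    fun e => h.y_not_fx f i (e ▸ (f.invt_fx hb i).cm_mem hx'))
  exact (h.mem_zp.1 h1).resolve_right fun e => h.y_not_fx f i (e ▸ hx')

theorem fix_of_fx {i : Fin k} {x : V} (hx : x ∈ V0) (hx' : x ∈ fx V (d i)) {b : K} (hb : b ∈ B) :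
    x ∈ fx V b := h.eq_one_of_E f (h.c2 b hb x hx) ((f.invt_fx hb i).cm_mem hx')

section Q

variable {i : Fin k} (hQ : ¬ fx V (d i) ≤ V0)
include hQ

theorem q_dec (x : V) : ∃ c ∈ fx V (d i), ∃ e ∈ E, x = c * e := by
  obtain ⟨w, hw, hw'⟩ := SetLike.not_le_iff_exists.1 hQ
  have key : ∀ x ∈ V0, ∃ c ∈ fx V (d i), ∃ e ∈ E, x = c * e := fun x hx => by
    obtain ⟨b, hb, e⟩ := h.surj' hw' hx
    refine ⟨_, (f.invt_fx hb i).cm_mem hw, _, e, ?_⟩
    rw [mul_left_comm, h.red.expo, mul_one]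
  by_cases hx : x ∈ V0
  · exact key x hx
  · obtain ⟨c, hc, e, he, e1⟩ := key _ (h.mul_mem_of_not hw' hx)
    refine ⟨w * c, mul_mem hw hc, e, he, ?_⟩
    rw [mul_assoc, ← e1, ← mul_assoc, h.red.expo, one_mul]

theorem q_card : Nat.card (cV V (d i)) = 4 := by
  refine le_antisymm ?_ (f.four_le h.red i)
  set M := (cV V (d i)).map (cm V (a i)) with hM
  have h1 : M ⊔ fx V (d i) ≤ fx V (d i) ⊔ zpowers y := by
    refine sup_le ?_ le_sup_left
    rintro _ ⟨x, -, rfl⟩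
    obtain ⟨c, hc, e, he, rfl⟩ := h.q_dec f hQ x
    rw [map_mul]
    exact mul_mem_sup ((f.invt_fx (f.mem i) i).cm_mem hc) (h.c3 _ (f.mem i) e he)
  have h2 : M ⊓ fx V (d i) = ⊥ := eq_bot_iff.2 ((inf_le_inf_right _
    (f.invt_cV (f.mem i) i).map_le).trans (cV_inf_fx h.red.expo (f.odd i)).le)
  have h3 := card_le_of_le h1
  rw [card_sup_of_inf_bot h2] at h3
  have h4 := card_sup_mul_inf (fx V (d i)) (zpowers y)
  rw [card_zpowers_of_expo h.red.expo h.yne] at h4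
  have h5 := Nat.card_pos (α := ↥(fx V (d i) ⊓ zpowers y))
  have h6 := Nat.card_pos (α := fx V (d i))
  have h7 : Nat.card M ≤ 2 := by nlinarith
  rw [f.card_cV h.red i, ← hM]
  nlinarith

theorem q_iff {b : K} (hb : b ∈ B) : cV V (d i) ≤ fx V b ↔ E ≤ fx V b := by
  constructor
  · intro h1 e he
    obtain ⟨w, hw, c, hc, e1⟩ := exists_dec h.red.expo (f.odd i) e
    refine h.eq_one_of_E f (i := i) ((zpowers_le.2 h.yE) (h.c3 b hb e he)) ?_
    rw [e1, map_mul, show cm V b w = 1 from h1 hw, one_mul]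
    exact (f.invt_fx hb i).cm_mem hc
  · intro h1 x hx
    obtain ⟨c, hc, e, he, e1⟩ := h.q_dec f hQ x
    refine eq_one_of_mem_cV_fx h.red.expo (f.odd i) ((f.invt_cV hb i).cm_mem hx) ?_
    rw [e1, map_mul, show cm V b e = 1 from h1 he, mul_one]
    exact (f.invt_fx hb i).cm_mem hc

theorem qq {l : Fin k} (hl : ¬ fx V (d l) ≤ V0) : i = l := by
  by_contra hne
  refine f.not_le_fx h.red l ((h.q_iff f hl (f.mem l)).2 ((h.q_iff f hQ (f.mem l)).1 ?_))
  exact le_fx_of_comm_four h.red.expo (h.q_card f hQ) (inv_cV_self _)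
    (cV_inf_fx h.red.expo (f.odd i)) (f.invt_cV (f.mem l) i) (f.a_sq l) (f.ad l i (Ne.symm hne)).symm

end Q

section P

variable {i : Fin k} (hP : fx V (d i) ≤ V0)
include hP

theorem p_fx {b : K} (hb : b ∈ B) : fx V (d i) ≤ fx V b := fun _ hx => h.fix_of_fx f (hP hx) hx hb

theorem p_not_le : ¬ cV V (d i) ≤ V0 := fun h1 => h.vn (by
  have := cV_sup_fx h.red.expo (f.odd i) ▸ sup_le h1 hP
  exact this (mem_top v))

theorem p_fx_d (l : Fin k) : fx V (d i) ≤ fx V (d l) :=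
  le_fx_of_inverts (f.a_sq l) (f.odd l) (f.inv l) (inv_fx_of_comm (f.dd l i)) (h.p_fx f hP (f.mem l))

omit hP in
theorem cV_le_of {g : K} (h2 : fx V (d i) ≤ fx V g) :
    (cV V (d i)).map (cm V g) = cV V g := by
  refine le_antisymm (map_cm_le_cV _ _) ?_
  rintro _ ⟨x, rfl⟩
  obtain ⟨w, hw, c, hc, rfl⟩ := exists_dec h.red.expo (f.odd i) x
  exact ⟨w, hw, by rw [map_mul, show cm V g c = 1 from h2 hc, mul_one]⟩

theorem p_map {b : K} (hb : b ∈ B) : (cV V (d i)).map (cm V b) = cV V b :=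
  h.cV_le_of f (h.p_fx f hP hb)

theorem p_cV {b : K} (hb : b ∈ B) : cV V b ≤ cV V (d i) :=
  h.p_map f hP hb ▸ (f.invt_cV hb i).map_le

theorem p_cV_d (l : Fin k) : cV V (d l) ≤ cV V (d i) :=
  h.cV_le_of f (h.p_fx_d f hP l) ▸ (inv_cV_of_comm (f.dd l i)).map_le

theorem p_fpf {T : Subgroup V} (hT : T ≤ cV V (d i)) : T ⊓ fx V (d i) = ⊥ :=
  eq_bot_iff.2 ((inf_le_inf_right _ hT).trans (cV_inf_fx h.red.expo (f.odd i)).le)

theorem pq {l : Fin k} (hl : ¬ fx V (d l) ≤ V0) : False := by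
  have hne : l ≠ i := fun e => hl (e ▸ hP)
  exact f.not_le_fx h.red l (le_fx_of_comm_four h.red.expo (h.q_card f hl)
    (inv_cV_of_comm (f.dd i l)) (h.p_fpf f hP (h.p_cV_d f hP l)) (f.invt_cV (f.mem l) l) (f.a_sq l)
    (f.ad l i hne).symm)

theorem p_quad {b b' : K} (hb : b ∈ B) (hb' : b' ∈ B) (c : b * d i = d i * b)
    (c' : b' * d i = d i * b') : cV V b ≤ fx V b' := by
  rw [← map_cm_eq_bot_iff]
  by_contra hne
  set T := (cV V b).map (cm V b') with hT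
  have h1 : T ≤ E := by
    rintro _ ⟨x, hx, rfl⟩; exact h.c2 b' hb' x (h.c1 b hb hx)
  have h2 : Invt (d i) T := Invt.map_of_comm c'.symm (inv_cV_of_comm c.symm)
  have h3 : Invt (a i) T :=
    Invt.map_of_comm (f.comm (f.mem i) hb') (inv_cV_of_comm (f.comm (f.mem i) hb))
  have h4 := h.p_fpf f hP ((map_cm_le_cV b' (cV V b)).trans (h.p_cV f hP hb'))
  refine h.pl _ _ (f.odd i) (f.mem i) (f.inv i) (h.p_not_le f hP) T h1 ?_ h2
  by_contra hy
  have h5 : T ≤ fx V (a i) := fun x hx => (h.mem_zp.1 (h.c3 _ (f.mem i) x (h1 hx))).resolve_right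
    fun e => hy (e ▸ h3.cm_mem hx)
  exact hne (eq_bot_iff.2 (h4 ▸ le_inf le_rfl
    (le_fx_of_inverts (f.a_sq i) (f.odd i) (f.inv i) h2 h5)))

end P

theorem all_p {i l : Fin k} (hne : i ≠ l) : fx V (d i) ≤ V0 := by
  by_contra hi
  by_cases hl : fx V (d l) ≤ V0
  · exact h.pq f hl hi
  · exact hne (h.qq f hi hl)

theorem not_three {i l m : Fin k} (h1 : l ≠ i) (h2 : m ≠ i) (h3 : l ≠ m) : False := by
  have hi := h.all_p f h1.symm
  have hm := h.all_p f h3.symm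
  have h4 := le_fx_of_inverts (f.a_sq m) (f.odd m) (f.inv m) (inv_cV_of_comm (f.ad l m h3).symm)
    (h.p_quad f hi (f.mem l) (f.mem m) (f.ad l i h1) (f.ad m i h2))
  refine f.a_ne l (h.red.eq_one_of_cV (eq_bot_iff.2 ?_))
  rw [← h.p_fpf f hm (h.p_cV f hm (f.mem l))]
  exact le_inf le_rfl h4

section Two

variable {i l : Fin k} (hne : i ≠ l) (hB : Nat.card B = 4)
include hne

theorem cV_eq : cV V (d l) = cV V (d i) :=
  le_antisymm (h.p_cV_d f (h.all_p f hne) l) (h.p_cV_d f (h.all_p f hne.symm) i)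

include hB

theorem two_card : Nat.card (cV V (a l)) = 4 ∧ Nat.card (cV V (d l)) = 16 := by
  have hi := h.all_p f hne
  have hl := h.all_p f hne.symm
  have h1 := f.card_cV h.red l
  rw [h.p_map f hl (f.mem l)] at h1
  have h2 := rm2_card h.red.expo (f.a_sq i) (f.odd i) (f.inv i)
    (inv_cV_of_comm (f.comm (f.mem i) (f.mem l))) (inv_cV_of_comm (f.ad l i hne.symm).symm)
    (h.p_fpf f hi (h.p_cV f hi (f.mem l)))
  have h3 := two_le_card_of_ne_bot (h.red.cV_ne_bot (f.a_ne l))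
  have h4 : Nat.card (cV V (d l)) ≤ Nat.card V := card_le_card_group _
  have h5 := h.cardE
  have h6 := h.cardV
  rw [hB] at h5 h6
  generalize Nat.card ((cV V (a l)).map (cm V (a i))) = n at h2
  have h7 : n = 2 := by
    rw [h2] at h1 h3
    have h8 : (n ^ 2) ^ 2 ≤ 64 := by omega
    have h9 : n < 3 := by
      by_contra h10
      have : (3 ^ 2) ^ 2 ≤ (n ^ 2) ^ 2 := by gcongr; omega
      omega
    interval_cases n <;> omega
  subst h7
  exact ⟨h2, by rw [h1, h2]; rfl⟩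

theorem two_cube : d i ^ 3 = 1 := by
  have hi := h.all_p f hne
  have hl := h.all_p f hne.symm
  have h1 : cV V (a l) ≤ fx V (d i ^ 3) := four_le_fx_cube h.red.expo (h.two_card f hne hB).1
    (inv_cV_of_comm (f.ad l i hne.symm).symm) (h.p_fpf f hi (h.p_cV f hi (f.mem l)))
  refine h.red.eq_one_of_dec (f.odd i) ?_ (fx_le_pow _ _)
  rw [← h.cV_eq f hne, ← rm2_cV_sup h.red.expo (f.a_sq l) (f.odd l) (f.inv l),
    h.p_map f hl (f.mem l)]
  refine sup_le h1 fun x hx => ?_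
  have h2 := (inv_fx_of_comm ((Commute.pow_right (f.dd l i) 3).eq)) _ (h1 (mem_smul_iff.1 hx))
  rwa [smul_inv_smul] at h2

theorem two_mem : y ∈ cV V (a l) := by
  have hl := h.all_p f hne.symm
  rw [← h.p_map f hl (f.mem l), ← rm2_cV_inf_fx h.red.expo (f.a_sq l) (f.odd l) (f.inv l)]
  refine ⟨?_, mem_fx.2 (h.c4 _ (f.mem l))⟩
  by_cases hE : E ≤ zpowers y
  · have h1 := card_le_of_le hE
    rw [card_zpowers_of_expo h.red.expo h.yne] at h1
    have h2 := h.cardV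
    rw [hB] at h2
    have h3 : cV V (d l) = ⊤ := eq_of_le_of_card_le le_top (by
      rw [card_top, (h.two_card f hne hB).2]; omega)
    rw [h3]; trivial
  · obtain ⟨x, hx, hx'⟩ := SetLike.not_le_iff_exists.1 hE
    by_contra hy
    refine hx' (h.fixE x hx fun b hb => cm_eq_one_iff.1 ?_)
    exact (h.mem_zp.1 (h.c3 b hb x hx)).resolve_right
      fun e => hy (h.p_cV f hl hb (e ▸ cm_mem_cV b x))

end Two

omit f

/-- The configuration when `B` has order at least four. -/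
theorem main [Finite K] (h4 : 2 < Nat.card B) : Nat.card B = 4 ∧ ∃ a₀ ∈ B, ∃ a₁ ∈ B, ∃ d₀ k₁ k₂ : K,
    Odd (orderOf d₀) ∧ a₀ * d₀ * a₀⁻¹ = d₀⁻¹ ∧ a₁ * d₀ = d₀ * a₁ ∧ Nat.card (cV V a₁) = 4 ∧
    y ∈ cV V a₁ ∧ cV V d₀ ⊓ fx V a₁ = cV V a₁ ∧ Cmp V k₁ ∧ Cmp V k₂ ∧ ¬ SameD k₁ k₂ ∧
    cV V k₁ ⊔ cV V k₂ = cV V d₀ ∧ y ∉ cV V k₁ ∧ y ∉ cV V k₂ := by
  obtain ⟨k, a, d, f⟩ := h.red.exists_frame' h.sq
  have hk : k = 2 := by
    have h1 := f.card
    rcases k with _ | _ | _ | k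
    · omega
    · omega
    · rfl
    · exact (h.not_three f (i := ⟨0, by omega⟩) (l := ⟨1, by omega⟩) (m := ⟨2, by omega⟩)
        (by simp) (by simp) (by simp)).elim
  subst hk
  have hB : Nat.card B = 4 := f.card
  have hne : (0 : Fin 2) ≠ 1 := by decide
  have hns : ¬ SameD (d 0) (d 1) := fun e =>
    f.not_comm_of_inverts (e.inverts (f.inv 0)) (f.ad 0 1 hne)
  have hW := h.cV_eq f hne
  obtain ⟨c1, c2, c3, -, -, c4⟩ := h.red.cmp_pair (f.dF 0) (f.dF 1) (h.two_cube f hne hB)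
    (h.two_cube f hne.symm hB) (f.dd 0 1) hW (hW ▸ (h.two_card f hne hB).2.le) hns
  have e0 : a 0 * d 1 * (a 0)⁻¹ = d 1 := by rw [f.ad 0 1 hne, mul_inv_cancel_right]
  have e1 : a 0 * (d 0 * d 1) * (a 0)⁻¹ = (d 0 * (d 1)⁻¹)⁻¹ := by
    calc a 0 * (d 0 * d 1) * (a 0)⁻¹ = (a 0 * d 0 * (a 0)⁻¹) * (a 0 * d 1 * (a 0)⁻¹) := by group
      _ = _ := by rw [f.inv 0, e0, mul_inv_rev, inv_inv, (Commute.inv_left (f.dd 0 1)).eq]
  have e2 : a 0 * (d 0 * (d 1)⁻¹) * (a 0)⁻¹ = (d 0 * d 1)⁻¹ := by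
    calc a 0 * (d 0 * (d 1)⁻¹) * (a 0)⁻¹
        = (a 0 * d 0 * (a 0)⁻¹) * (a 0 * d 1 * (a 0)⁻¹)⁻¹ := by group
      _ = _ := by rw [f.inv 0, e0, ← mul_inv_rev, f.dd 0 1]
  refine ⟨hB, a 0, f.mem 0, a 1, f.mem 1, d 0, _, _, f.odd 0, f.inv 0, f.ad 1 0 hne.symm,
    (h.two_card f hne hB).1, h.two_mem f hne hB, ?_, c1, c2, c3, c4, fun hy => c3 ?_,
    fun hy => c3 ?_⟩
  · rw [← hW, rm2_cV_inf_fx h.red.expo (f.a_sq 1) (f.odd 1) (f.inv 1),
      h.p_map f (h.all_p f hne.symm) (f.mem 1)]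
  · have : SameD (d 0 * d 1) _ := c1.sameD_conj_of_fix h.red hy h.yne (h.c4 _ (f.mem 0))
    rw [e1] at this
    exact this.trans (SameD.symm (Or.inr rfl))
  · have : SameD (d 0 * (d 1)⁻¹) _ := c2.sameD_conj_of_fix h.red hy h.yne (h.c4 _ (f.mem 0))
    rw [e2] at this
    exact (this.trans (SameD.symm (Or.inr rfl))).symm

end Cfg

end Cfsg.Lib.Ngrp.T2
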