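import Cfsg.Agent.Ngrp.AmGeo4
import Cfsg.Agent.Ngrp.AmT2Mod
import Cfsg.Agent.Solv.Pairing

set_option autoImplicit false
set_option linter.unusedSectionVars false

namespace Cfsg.Lib.Ngrp.T2
open Subgroup Cfsg.Lib.Trans Cfsg.Lib.Local Cfsg.Lib.Local.JC Cfsg.Lib.Trans.TJ Cfsg.Lib.Ngrp.Geo
open scoped commutatorElement

variable {G : Type*} [Group G]

/-- Collinear points in a geometry with non-abelian `U`. -/
structure NA (z y : G) : Prop where
  col : Col z y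
  na : ¬ AbU G

/-- `C_{U_z}(y)`. -/
abbrev U0 (z y : G) : Subgroup G := UU z ⊓ Cz y

/-- `U_z ⊓ U_y`. -/
abbrev EE (z y : G) : Subgroup G := UU z ⊓ UU y

theorem comm_inv_mem {H : Subgroup G} {a b : G} (h : ⁅a, b⁆ ∈ H) : ⁅b, a⁆ ∈ H := by
  rw [← commutatorElement_inv]; exact inv_mem h

theorem comm_eq_one {a b : G} (h : a ∈ Cz b) : ⁅a, b⁆ = 1 :=
  commutatorElement_eq_one_iff_mul_comm.2 (mem_Cz.1 h)

theorem mem_Cz_of_comm {a b : G} (h : ⁅a, b⁆ = 1) : a ∈ Cz b :=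
  mem_Cz.2 (commutatorElement_eq_one_iff_mul_comm.1 h)

theorem conj_eq_comm (a b : G) : a * b * a⁻¹ = ⁅a, b⁆ * b := by
  rw [commutatorElement_def]; group

theorem EE_le_U0 (z y : G) : EE z y ≤ U0 z y := inf_le_inf_left _ (UU_le_Cz y)
theorem EE_le_U0' (z y : G) : EE z y ≤ U0 y z := fun _ h => ⟨h.2, UU_le_Cz z h.1⟩
theorem EE_symm {z y e : G} (h : e ∈ EE z y) : e ∈ EE y z := ⟨h.2, h.1⟩
theorem U0_le_Cz (z y : G) : U0 z y ≤ Cz z := inf_le_left.trans (UU_le_Cz z)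

variable [Finite G]

namespace NA

variable {z y : G} (h : NA z y)
include h

theorem symm : NA y z := ⟨h.col.symm, h.na⟩
theorem mul : NA z (z * y) := ⟨h.col.mul, h.na⟩
theorem mul_right : NA y (z * y) := ⟨h.col.mul_right, h.na⟩
omit [Finite G] in
theorem pt : Pt z := h.col.pt
theorem pt' : Pt y := h.col.pt'
omit [Finite G] in
theorem conj (g : G) : NA (g * z * g⁻¹) (g * y * g⁻¹) := ⟨h.col.conj g, h.na⟩
omit [Finite G] in
theorem of_col {p q : G} (h' : Col p q) : NA p q := ⟨h', h.na⟩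
omit [Finite G] in
theorem zy : z * (z * y) = y := by rw [← mul_assoc, h.pt.sq, one_mul]
omit [Finite G] in
theorem yz : y * (z * y) = z := by rw [h.col.comm, ← mul_assoc, h.col.sq, one_mul]

theorem z_mem : z ∈ EE z y := ⟨h.pt.mem_UU, h.col.symm.mem_UU⟩
theorem y_mem : y ∈ EE z y := ⟨h.col.mem_UU, h.pt'.mem_UU⟩
theorem four_le : four z y ≤ EE z y := JC.four_le h.z_mem h.y_mem

theorem eq_one {x : G} (h1 : x ∈ zpowers z) (h2 : x ∈ zpowers y) : x = 1 := by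
  rcases h.pt.mem_zpowers.1 h1 with e | e
  · exact e
  · exact absurd (e ▸ h2) h.col.symm.not_mem_zpowers

theorem zpowers_le : zpowers z ≤ EE z y := Subgroup.zpowers_le.2 h.z_mem
theorem zpowers_le' : zpowers y ≤ EE z y := Subgroup.zpowers_le.2 h.y_mem

theorem exists_u : ∃ u, Col z u ∧ u ∉ Cz y := by
  by_contra hn
  push Not at hn
  have h1 : UU z ≤ Cz y := UU_le_of_col hn
  refine h.na (h.pt.abU (ea_UU_of_comm fun u hu v hv => ?_))
  refine (UU_le_of_col (H := centralizer (UU z : Set G)) (fun r hr x hx => ?_) hv) u hu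
  obtain ⟨g, hg, rfl⟩ := h.col.exists_conj_mem hr
  have := conj_mem_Cz g (h1 (mem_normalizer_conj' (Cz_le_normalizer_UU z hg) hx))
  refine mem_Cz.1 ?_
  convert this using 1; group

theorem conj_y {u : G} (hu : u ∈ UU z) (hu' : u ∉ Cz y) : u * y * u⁻¹ = z * y :=
  (h.pt.conj_UU hu h.col.mem_UU).resolve_left fun e => hu' (mem_Cz'.2 e)

theorem comm_y {u : G} (hu : u ∈ UU z) (hu' : u ∉ Cz y) : ⁅u, y⁆ = z := by
  rw [commutatorElement_def, h.conj_y hu hu', mul_inv_cancel_right]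

theorem idx : IdxLeTwo (Cz y) (UU z) :=
  idxLeTwo_centralizer h.pt.sq (fun _ ht => mem_Cz.1 (UU_le_Cz z ht))
    fun _ ht => h.pt.conj_UU ht h.col.mem_UU

theorem not_le : ¬ UU z ≤ Cz y := let ⟨_, hu, hu'⟩ := h.exists_u; fun e => hu' (e hu.mem_UU)

theorem card_UU : Nat.card (UU z) = 2 * Nat.card (U0 z y) := card_of_idx h.idx h.not_le

theorem card_U0 : Nat.card (U0 z y) = Nat.card (U0 y z) := by
  have h1 := h.card_UU
  have h2 := h.symm.card_UU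
  rw [h.pt.card_UU_eq h.pt'] at h1
  omega

theorem mul_mem_U0 {u w : G} (hu : u ∈ UU z) (hu' : u ∉ Cz y) (hw : w ∈ UU z) (hw' : w ∉ Cz y) :
    u * w ∈ U0 z y := ⟨mul_mem hu hw, h.idx u hu w hw hu' hw'⟩

theorem conj_mem_third {u a : G} (hu : u ∈ UU z) (hu' : u ∉ Cz y) (ha : a ∈ UU y) :
    u * a * u⁻¹ ∈ UU (z * y) := h.conj_y hu hu' ▸ conj_mem_UU u ha

theorem conj_mem_EE {u e : G} (hu : u ∈ UU z) (he : e ∈ EE z y) : u * e * u⁻¹ ∈ EE z y := by
  rw [conj_eq_comm]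
  exact mul_mem (h.zpowers_le (comm_mem_UU hu he.1)) he

theorem EE_le : EE z y ≤ UU (z * y) := fun e he => by
  obtain ⟨u, hu, hu'⟩ := h.exists_u
  have := h.conj_mem_third hu.mem_UU hu' (h.conj_mem_EE (inv_mem hu.mem_UU) he).2
  simpa [mul_assoc] using this

theorem mem_EE_of {a : G} (h1 : a ∈ UU y) (h2 : a ∈ UU (z * y)) : a ∈ EE z y :=
  ⟨h.yz ▸ h.mul_right.EE_le ⟨h1, h2⟩, h1⟩

theorem mem_UU_of_fl {e r : G} (he : e ∈ EE z y) (hr : Fl r (four z y)) : e ∈ UU r := by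
  rcases h.col.mem_four.1 hr.mem with e1 | e1 | e1 | e1
  · exact absurd e1 hr.ne
  · rw [e1]; exact he.1
  · rw [e1]; exact he.2
  · rw [e1]; exact h.EE_le he

theorem normalizer_le : normalizer (four z y : Set G) ≤ normalizer (EE z y : Set G) :=
  fun m hm => mem_normalizer_of_cj_le (cj_le_iff.2 fun e he => by
    have k : ∀ p, Fl p (four z y) → m * e * m⁻¹ ∈ UU p := fun p hp => by
      have := conj_mem_UU m (h.mem_UU_of_fl he (hp.conj_of_norm (inv_mem hm)))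
      simpa [mul_assoc] using this
    exact ⟨k z h.col.fl, k y h.col.fl'⟩)

theorem UU_le_M : UU z ≤ normalizer (four z y : Set G) := h.col.fl.UU_le_normalizer
theorem UU_le_M' : UU y ≤ normalizer (four z y : Set G) := h.col.fl'.UU_le_normalizer

theorem sq_EE {e : G} (he : e ∈ EE z y) : e * e = 1 := h.eq_one (sq_mem_UU he.1) (sq_mem_UU he.2)

theorem ea_EE : IsElementaryAbelian 2 (EE z y) := ea_of_sq fun _ he => h.sq_EE he

theorem isPGroup_EE : IsPGroup 2 (EE z y) := isPGroup_of_ea h.ea_EE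

theorem EE_ne_bot : EE z y ≠ ⊥ := fun e => h.pt.ne (by simpa [e] using h.z_mem)

theorem normalizer_EE : normalizer (EE z y : Set G) = normalizer (four z y : Set G) :=
  le_antisymm (h.col.fl.mx h.isPGroup_EE h.EE_ne_bot h.normalizer_le) h.normalizer_le

/-- `[U, C(Y)] ≤ U₀`. -/
theorem comm_mem_U0 {u r : G} (hu : u ∈ UU z) (hr : r ∈ Cz z) (hr' : r ∈ Cz y) :
    ⁅u, r⁆ ∈ U0 z y := by
  refine ⟨comm_inv_mem (comm_mem_UU_of_Cz hr hu), ?_⟩
  have h1 := h.col.mem_centralizer_iff.2 ⟨hr, hr'⟩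
  exact (h.col.mem_centralizer_iff.1 (mul_mem (mem_normalizer_conj
    (normalizer_le_normalizer_centralizer _ (h.UU_le_M hu)) h1) (inv_mem h1))).2

theorem comm_mem_EE {w a : G} (hw : w ∈ U0 z y) (ha : a ∈ U0 y z) : ⁅w, a⁆ ∈ EE z y :=
  ⟨comm_inv_mem (comm_mem_UU_of_Cz ha.2 hw.1), comm_mem_UU_of_Cz hw.2 ha.1⟩

theorem a_inj {u a : G} (hu : u ∈ UU z) (hu' : u ∉ Cz y) (ha : a ∈ U0 y z)
    (hc : ⁅u, a⁆ ∈ EE z y) : a ∈ EE z y := by
  refine h.mem_EE_of ha.1 ?_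
  have := mul_mem (inv_mem (h.EE_le hc)) (h.conj_mem_third hu hu' ha.1)
  rwa [conj_eq_comm, inv_mul_cancel_left] at this

theorem twist {u a' a : G} (hu : u ∈ UU z) (hu' : u ∉ Cz y) (ha' : a' ∈ UU y) (ha'' : a' ∉ Cz z)
    (ha : a ∈ U0 y z) : ⁅a', ⁅u, a⁆⁆ * a⁻¹ ∈ EE z y := by
  have hδ := h.comm_mem_U0 hu ha.2 (UU_le_Cz y ha.1)
  set δ := ⁅u, a⁆ with hδe
  have b1 := h.conj_mem_third hu hu' ha.1
  have b2 := h.symm.conj_mem_third ha' ha'' hδ.1
  rw [← h.col.comm] at b2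
  rw [conj_eq_comm] at b1 b2
  have h1 : ⁅a', δ⁆ ∈ U0 y z := h.symm.comm_mem_U0 ha' hδ.2 (UU_le_Cz z hδ.1)
  have h2 : ⁅a', δ⁆ * δ * (δ * a)⁻¹ ∈ EE z y := by
    refine h.mem_EE_of ?_ (mul_mem b2 (inv_mem b1))
    have e : ⁅a', δ⁆ * δ * (δ * a)⁻¹ = ⁅a', δ⁆ * (δ * a⁻¹ * δ⁻¹) := by group
    rw [e]; exact mul_mem h1.1 (conj_mem_UU_of_mem hδ.2 (inv_mem ha.1))
  have e : ⁅a', δ⁆ * a⁻¹ = ⁅a', δ⁆ * δ * (δ * a)⁻¹ * ⁅δ, a⁆ := by
    rw [commutatorElement_def δ a]; group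
  rw [e]; exact mul_mem h2 (h.comm_mem_EE hδ ha)

theorem a_surj {u δ : G} (hu : u ∈ UU z) (hu' : u ∉ Cz y) (hδ : δ ∈ U0 z y) :
    ∃ a ∈ U0 y z, ⁅u, a⁆ * δ⁻¹ ∈ EE z y := by
  obtain ⟨a', ha', ha''⟩ := h.symm.exists_u
  exact ⟨⁅a', δ⁆, h.symm.comm_mem_U0 ha'.mem_UU hδ.2 (UU_le_Cz z hδ.1),
    EE_symm (h.symm.twist ha'.mem_UU ha'' hu hu' hδ)⟩

theorem U0_inf_XX : U0 y z ⊓ XX z = EE z y := by
  refine le_antisymm (fun a ha => ?_) (le_inf (EE_le_U0' z y) (inf_le_left.trans (UU_le_XX z)))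
  obtain ⟨u, hu, hu'⟩ := h.exists_u
  exact h.a_inj hu.mem_UU hu' ha.1 (h.zpowers_le (comm_mem_of_XX' ha.2 hu.mem_UU))

theorem EE_le_core : EE z y ≤ pCoreOf 2 (normalizer (four z y : Set G)) :=
  MSS.le_pCoreOf (inf_le_left.trans h.UU_le_M) h.normalizer_le h.isPGroup_EE

/-- No nontrivial element of `O₂(M)` centralizes `U` and `A`. -/
theorem eq_one_of_cent {c : G} (hc : c ∈ pCoreOf 2 (normalizer (four z y : Set G)))
    (h1 : UU z ≤ Cz c) (h2 : UU y ≤ Cz c) : c = 1 := by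
  obtain ⟨u, hu, hu'⟩ := h.exists_u
  have h3 : pCoreOf 2 (normalizer (four z y : Set G)) ⊓ centralizer (T2 (four z y) : Set G) = ⊥ :=
    h.col.fl.eq_bot_of_moved ((isPGroup_pCoreOf _).to_inf_left)
      (Solv.le_normalizer_inf (le_normalizer_pCoreOf _) ((normalizer_le_normalizer_T2 _).trans
        (normalizer_le_normalizer_centralizer _)))
      (le_centralizer_iff.1 inf_le_right (h.col.fl.UU_le_T2 hu.mem_UU))
      fun e => hu' (h.col.mem_centralizer_iff.1 e).2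
  rw [← mem_bot, ← h3]
  refine ⟨hc, fun t ht => mem_Cz.1 ?_⟩
  rw [h.col.T2_eq] at ht
  refine (sup_le (sup_le h1 h2) fun b hb => ?_ : _ ≤ Cz c) ht
  rw [← h.conj_y hu.mem_UU hu', ← cj_UU] at hb
  exact cj_le_of_mem_of_le (h1 hu.mem_UU) h2 hb

/-- An element of `U_y` centralizing `A₀` centralizes `A`, up to a factor `z`. -/
theorem cent_or {c : G} (hc : c ∈ UU y) (h1 : U0 y z ≤ Cz c) : UU y ≤ Cz c ∨ UU y ≤ Cz (z * c) := by
  by_cases h2 : UU y ≤ Cz c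
  · exact Or.inl h2
  right
  obtain ⟨a', ha', ha''⟩ := SetLike.not_le_iff_exists.1 h2
  have n1 : a' ∉ Cz z := fun e => ha'' (h1 ⟨ha', e⟩)
  have k : ∀ a ∈ U0 y z, a ∈ Cz (z * c) := fun a ha =>
    Cz_symm (mul_mem (Cz_symm ha.2) (Cz_symm (h1 ha)))
  have k' : a' ∈ Cz (z * c) := by
    rw [mem_Cz']
    have e1 := h.symm.conj_y ha' n1
    have e2 := (h.pt'.conj_UU ha' hc).resolve_left fun e => ha'' (mem_Cz'.2 e)
    calc a' * (z * c) * a'⁻¹ = (a' * z * a'⁻¹) * (a' * c * a'⁻¹) := by group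
      _ = (y * (z * y)) * c := by rw [e1, e2]; group
      _ = z * c := by rw [h.yz]
      _ = z * c := rfl
  intro a ha
  by_cases h3 : a ∈ Cz z
  · exact k a ⟨ha, h3⟩
  · have := mul_mem (inv_mem k') (k _ (h.symm.mul_mem_U0 ha' n1 ha h3))
    rwa [inv_mul_cancel_left] at this

/-- `E ⊓ Z(U) = ⟨z⟩`. -/
theorem mem_zp_of_cent {c : G} (hc : c ∈ EE z y) (h1 : UU z ≤ Cz c) : c ∈ zpowers z := by
  have h2 : U0 y z ≤ Cz c := fun a ha => by
    rcases h.pt'.conj_UU ha.1 hc.2 with e | e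
    · exact mem_Cz'.2 e
    · refine absurd (fun u hu => ?_) h.not_le
      have k1 := conj_mem_Cz a (h1 (mem_normalizer_conj' (Cz_le_normalizer_UU z ha.2) hu))
      rw [e, show a * (a⁻¹ * u * a) * a⁻¹ = u by group] at k1
      have := mul_mem (Cz_symm k1) (inv_mem (Cz_symm (h1 hu)))
      rw [mul_inv_cancel_right] at this
      exact Cz_symm this
  rcases h.cent_or hc.2 h2 with e | e
  · rw [h.eq_one_of_cent (h.EE_le_core hc) h1 e]; exact one_mem _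
  · have := h.eq_one_of_cent (h.EE_le_core (mul_mem h.z_mem hc))
      (fun u hu => Cz_symm (mul_mem (Cz_symm (UU_le_Cz z hu)) (Cz_symm (h1 hu)))) e
    rw [eq_inv_of_mul_eq_one_right this]; exact inv_mem (mem_zpowers z)

/-- `C_E(A₀) = Y`. -/
theorem mem_four_of_cent {c : G} (hc : c ∈ EE z y) (h1 : U0 y z ≤ Cz c) : c ∈ four z y := by
  have hy : zpowers y ≤ four z y := Subgroup.zpowers_le.2 (right_mem_four z y)
  rcases h.cent_or hc.2 h1 with e | e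
  · exact hy (h.symm.mem_zp_of_cent (EE_symm hc) e)
  · have := mul_mem (inv_mem (left_mem_four z y))
      (hy (h.symm.mem_zp_of_cent (EE_symm (mul_mem h.z_mem hc)) e))
    rwa [inv_mul_cancel_left] at this

theorem four_le_cent : four z y ≤ centralizer (U0 y z : Set G) := by
  rw [le_centralizer_iff]
  exact fun a ha => h.col.mem_centralizer_iff.2 ⟨ha.2, UU_le_Cz y ha.1⟩

theorem card_A0 : Nat.card (U0 y z) = Nat.card (EE z y) * Nat.card (imgK z (U0 y z)) := by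
  rw [card_imgK (p := z) inf_le_right, h.U0_inf_XX]

theorem card_EE : Nat.card (EE z y) ≤ 4 * Nat.card (imgK z (U0 y z)) := by
  have h1 := Solv.PG.card_mul_card_inf_centralizer_eq (A := EE z y) (B := U0 y z) (Z := zpowers y)
    (commutator_le.2 fun e he a ha => comm_mem_UU he.2 ha.1)
    (cent_zpowers y ▸ inf_le_right.trans (UU_le_Cz y)) (cent_zpowers y ▸ U0_le_Cz y z)
  have h2 : EE z y ⊓ centralizer (U0 y z : Set G) = four z y := le_antisymm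
    (fun c hc => h.mem_four_of_cent hc.1 fun a ha => mem_Cz.2 (hc.2 a ha))
    (le_inf h.four_le h.four_le_cent)
  have h3 : Nat.card (EE z y) ≤ Nat.card (U0 y z ⊓ centralizer (EE z y : Set G) : Subgroup G) :=
    Trans.card_le_of_le (le_inf (EE_le_U0' z y) fun e he x hx => ea_comm' h.ea_EE hx he)
  rw [h2, h.col.fl.card, h.card_A0] at h1
  have h4 := Nat.card_pos (α := EE z y)
  nlinarith

/-- (PL2) -/
theorem pl2 {H : Subgroup G} (hs : Group.IsSolvable H) (h1 : UU z ≤ H) (h2 : UU y ≤ H) {d a : G}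
    (hd : d ∈ Cz z) (hdH : d ∈ H) (ho : Odd (orderOf (star z d))) (ha : a ∈ U0 y z)
    (hinv : star z a * star z d * (star z a)⁻¹ = (star z d)⁻¹)
    (hn : ¬ cV (VV z) (star z d) ≤ img z (U0 z y)) : False := by
  obtain ⟨u, hu, hu'⟩ := h.exists_u
  obtain ⟨a', ha', ha''⟩ := h.symm.exists_u
  have ha2 : a ∈ Cz z := ha.2
  have uz := Cz_conj hu.mem_Cz
  have uy := h.conj_y hu.mem_UU hu'
  have ux : u * (z * y) * u⁻¹ = y := by
    rw [← uy]
    calc u * (u * y * u⁻¹) * u⁻¹ = (u * u) * y * (u * u)⁻¹ := by group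
      _ = y := by rw [hu.sq]; group
  have ay := Cz_conj ha'.mem_Cz
  have az : a' * z * a'⁻¹ = z * y := h.col.comm ▸ h.symm.conj_y ha'.mem_UU ha''
  have ax : a' * (z * y) * a'⁻¹ = z := by
    rw [← az]
    calc a' * (a' * z * a'⁻¹) * a'⁻¹ = (a' * a') * z * (a' * a')⁻¹ := by group
      _ = z := by rw [ha'.sq]; group
  have e1 : ∀ x, u * a' * x * (u * a')⁻¹ = u * (a' * x * a'⁻¹) * u⁻¹ := fun x => by group
  have gz : u * a' * z * (u * a')⁻¹ = y := by rw [e1, az, ux]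
  have gy : u * a' * y * (u * a')⁻¹ = z * y := by rw [e1, ay, uy]
  have gx : u * a' * (z * y) * (u * a')⁻¹ = z := by rw [e1, ax, uz]
  have hg : u * a' ∈ H ⊓ normalizer (four z y : Set G) :=
    ⟨mul_mem (h1 hu.mem_UU) (h2 ha'.mem_UU), mul_mem (h.UU_le_M hu.mem_UU) (h.UU_le_M' ha'.mem_UU)⟩
  refine PL' H hs (H₁ := H ⊓ normalizer (four z y : Set G)) (H₂ := H ⊓ Cz z)
    (X₁ := centralizer (four z y : Set G)) (X₂ := XX z) inf_le_left inf_le_left
    (inf_le_right.trans (normalizer_le_normalizer_centralizer _))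
    (inf_le_right.trans (Cz_le_normalizer_XX z)) (a₁ := u) (a₂ := a) hg ⟨hdH, hd⟩
    (fun e => h.col.ne (gz.symm.trans (Cz_conj (h.col.mem_centralizer_iff.1 e).1)))
    (m₁ := 3) (by decide) ho ?_ ?_ ?_ ?_ ?_ ?_
  · have e2 : ∀ x, (u * a') ^ 3 * x * ((u * a') ^ 3)⁻¹ =
        u * a' * (u * a' * (u * a' * x * (u * a')⁻¹) * (u * a')⁻¹) * (u * a')⁻¹ := fun x => by
      rw [pow_succ, pow_two]; group
    rw [h.col.mem_centralizer_iff, mem_Cz', mem_Cz', e2, e2, gz, gy, gx, gz]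
    exact ⟨rfl, rfl⟩
  · rw [← star_eq_one (pow_mem hd _), star_pow hd, pow_orderOf_eq_one]
  · have : u * (u * a') * u⁻¹ * (u * a') = 1 := by
      calc u * (u * a') * u⁻¹ * (u * a') = (u * u) * (a' * a') := by group
        _ = 1 := by rw [hu.sq, ha'.sq, one_mul]
    rw [this]; exact one_mem _
  · have k := mul_mem (mul_mem ha2 hd) (inv_mem ha2)
    rw [← star_eq_one (mul_mem k hd), star_mul k hd, star_conj ha2 hd, hinv, inv_mul_cancel]
  · rintro N - hN ⟨n, hn1, hn2, hn3⟩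
    have nz : n * z * n⁻¹ = y := by
      calc n * z * n⁻¹ = n * (u * a')⁻¹ * (u * a' * z * (u * a')⁻¹) * (n * (u * a')⁻¹)⁻¹ := by group
        _ = y := by rw [gz]; exact Cz_conj (h.col.mem_centralizer_iff.1 hn3).2
    have hδ : n⁻¹ * a * n ∈ UU z := by
      rw [← mem_cj, cj_UU, nz]; exact ha.1
    have e : a * (n⁻¹ * a * n)⁻¹ = n * ((n⁻¹ * a * n) * n * (n⁻¹ * a * n)⁻¹)⁻¹ := by group
    refine ⟨a * (n⁻¹ * a * n)⁻¹, ?_, mem_inf.2 ⟨mul_mem (h2 ha.1) (inv_mem (h1 hδ)),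
      mul_mem ha2 (inv_mem (UU_le_Cz z hδ))⟩, UU_le_XX z (conj_mem_UU_of_mem ha2 (inv_mem hδ))⟩
    rw [e]; exact mul_mem hn1 (inv_mem (mem_normalizer_conj (hN (h1 hδ)) hn1))
  · rintro N - hN ⟨n, hn1, hn2, hn3⟩
    obtain ⟨_, ⟨x, rfl⟩, hx⟩ := SetLike.not_le_iff_exists.1 hn
    obtain ⟨w, hw, rfl⟩ := exists_bar x
    rw [← (star_eq_star hn2.2 hd).2 hn3, cm_star hn2.2 hw] at hx
    have k1 := comm_mem_UU_of_Cz hn2.2 hw
    have k2 : ⁅n, w⁆ ∉ Cz y := fun e => hx (bar_mem_img ⟨k1, e⟩ k1)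
    refine ⟨⁅n, w⁆, ?_, ⟨h1 k1, h.UU_le_M k1⟩, ?_⟩
    · rw [commutatorElement_def, mul_assoc, mul_assoc, ← mul_assoc w]
      exact mul_mem hn1 (mem_normalizer_conj (hN (h1 hw)) (inv_mem hn1))
    · have := h.mul_mem_U0 k1 k2 (inv_mem hu.mem_UU) fun e => hu' (by simpa using inv_mem e)
      exact h.col.mem_centralizer_iff.2 ⟨UU_le_Cz z this.1, this.2⟩

theorem pl2' {D : Subgroup G} (hD : IsPGroup 2 D) (hD1 : D ≠ ⊥)
    (h1 : UU z ≤ normalizer (D : Set G)) (h2 : UU y ≤ normalizer (D : Set G)) {d a : G}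
    (hd : d ∈ Cz z) (hdH : d ∈ normalizer (D : Set G)) (ho : Odd (orderOf (star z d)))
    (ha : a ∈ U0 y z) (hinv : star z a * star z d * (star z a)⁻¹ = (star z d)⁻¹)
    (hn : ¬ cV (VV z) (star z d) ≤ img z (U0 z y)) : False :=
  h.pl2 (ah_solvable_normalizer h.pt.ah hD hD1) h1 h2 hd hdH ho ha hinv hn

theorem z_mem_U0 : z ∈ U0 z y := EE_le_U0 z y h.z_mem

theorem mem_V0 {w : G} (hw : w ∈ UU z) : bar z w ∈ img z (U0 z y) ↔ w ∈ U0 z y :=
  h.pt.bar_mem_img_iff h.z_mem_U0 hw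

theorem mem_E {w : G} (hw : w ∈ UU z) : bar z w ∈ img z (EE z y) ↔ w ∈ EE z y :=
  h.pt.bar_mem_img_iff h.z_mem hw

theorem bar_mem_zp {w : G} (hw : w ∈ zpowers y) : bar z w ∈ zpowers (bar z y) := by
  rcases h.pt'.mem_zpowers.1 hw with e | e <;> rw [e]
  · rw [bar_one]; exact one_mem _
  · exact mem_zpowers _

theorem bar_mem_zp' {w : G} (hw : w ∈ four z y) : bar z w ∈ zpowers (bar z y) := by
  rcases h.col.mem_four.1 hw with e | e | e | e <;> rw [e]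
  · rw [bar_one]; exact one_mem _
  · rw [bar_self]; exact one_mem _
  · exact mem_zpowers _
  · rw [h.pt.bar_mul_left h.col.mem_UU]; exact mem_zpowers _

theorem card_E : Nat.card (EE z y) = 2 * Nat.card (img z (EE z y)) :=
  h.pt.card_img h.z_mem inf_le_left

theorem card_V : Nat.card (VV z) = 2 * Nat.card (imgK z (U0 y z)) * Nat.card (img z (EE z y)) := by
  have h1 := h.pt.card_UU
  rw [h.card_UU, h.card_U0, h.card_A0, h.card_E] at h1
  linarith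

theorem exists_of_mem_B {b : KK z} (hb : b ∈ imgK z (U0 y z)) : ∃ a ∈ U0 y z, star z a = b :=
  let ⟨a, ha, _, e⟩ := mem_imgK.1 hb; ⟨a, ha, e⟩

theorem cfg {u : G} (hu : u ∈ UU z) (hu' : u ∉ Cz y) :
    Cfg (imgK z (U0 y z)) (img z (U0 z y)) (img z (EE z y)) (bar z y) (bar z u) where
  red := red z
  sq b hb := by
    obtain ⟨a, ha, rfl⟩ := h.exists_of_mem_B hb
    rw [← star_mul ha.2 ha.2]
    exact star_of_mem (UU_le_XX z (h.zpowers_le' (sq_mem_UU ha.1)).1)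
  yne := h.col.bar_ne_one
  yE := bar_mem_img h.y_mem h.col.mem_UU
  vn e := hu' ((h.mem_V0 hu).1 e).2
  idx x := by
    obtain ⟨w, hw, rfl⟩ := exists_bar x
    by_cases e : w ∈ Cz y
    · exact Or.inl (bar_mem_img ⟨hw, e⟩ hw)
    · rw [← bar_mul hu hw]
      exact Or.inr (bar_mem_img (h.mul_mem_U0 hu hu' hw e) (mul_mem hu hw))
  c1 b hb := by
    obtain ⟨a, ha, rfl⟩ := h.exists_of_mem_B hb
    rintro _ ⟨x, rfl⟩
    obtain ⟨w, hw, rfl⟩ := exists_bar x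
    have := comm_inv_mem (h.comm_mem_U0 hw ha.2 (UU_le_Cz y ha.1))
    rw [cm_star ha.2 hw]; exact bar_mem_img this this.1
  c2 b hb x hx := by
    obtain ⟨a, ha, rfl⟩ := h.exists_of_mem_B hb
    obtain ⟨w, hw, -, rfl⟩ := mem_img.1 hx
    have := comm_inv_mem (h.comm_mem_EE hw ha)
    rw [cm_star ha.2 hw.1]; exact bar_mem_img this this.1
  c3 b hb x hx := by
    obtain ⟨a, ha, rfl⟩ := h.exists_of_mem_B hb
    obtain ⟨w, hw, -, rfl⟩ := mem_img.1 hx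
    rw [cm_star ha.2 hw.1]; exact h.bar_mem_zp (comm_mem_UU ha.1 hw.2)
  c4 b hb := by
    obtain ⟨a, ha, rfl⟩ := h.exists_of_mem_B hb
    rw [star_smul ha.2 h.col.mem_UU, Cz_conj (UU_le_Cz y ha.1)]
  surj x hx := by
    obtain ⟨w, hw, -, rfl⟩ := mem_img.1 hx
    obtain ⟨a, ha, e⟩ := h.a_surj hu hu' hw
    have k := comm_inv_mem (comm_mem_UU_of_Cz ha.2 hu)
    refine ⟨star z a, star_mem_imgK ha ha.2, ?_⟩
    have := bar_mem_img e e.1
    rwa [bar_mul k (inv_mem hw.1), bar_inv' hw.1, mul_comm, ← bar_inv' k, commutatorElement_inv,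
      ← cm_star ha.2 hu] at this
  fixE x hx hf := by
    obtain ⟨w, hw, -, rfl⟩ := mem_img.1 hx
    refine h.bar_mem_zp' (h.mem_four_of_cent hw fun a ha => mem_Cz_of_comm ?_)
    exact h.eq_one ((star_smul_eq_iff ha.2 hw.1).1 (hf _ (star_mem_imgK ha ha.2)))
      (comm_mem_UU ha.1 hw.2)
  norm g hg b hb := by
    obtain ⟨a, ha, rfl⟩ := h.exists_of_mem_B hb
    obtain ⟨c, hc, rfl⟩ := exists_star g
    obtain ⟨c', k1, k2, e⟩ := h.col.exists_star_eq hc ((h.col.star_smul_iff hc).1 hg)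
    have k3 := mul_mem (mul_mem k1 ha.2) (inv_mem k1)
    rw [← e, ← star_conj k1 ha.2]
    exact star_mem_imgK ⟨conj_mem_UU_of_mem k2 ha.1, k3⟩ k3
  cardE := by
    have h1 := h.card_EE
    rw [h.card_E] at h1
    omega
  cardV := h.card_V
  pl k b hk hb hinv hn T hT hy hi := by
    obtain ⟨a, ha, rfl⟩ := h.exists_of_mem_B hb
    obtain ⟨d, hd, rfl⟩ := exists_star k
    have h1 : pre z T ≤ EE z y := fun x hx => (h.mem_E (mem_pre.1 hx).1).1 (hT (mem_pre.1 hx).2)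
    have h2 : y ∈ pre z T := mem_pre.2 ⟨h.col.mem_UU, hy⟩
    refine h.pl2' (h.isPGroup_EE.to_le h1) (fun e => h.pt'.ne (by simpa [e] using h2))
      ((UU_le_XX z).trans XX_le_normalizer_pre) (le_normalizer_of_commutator_le' ?_) hd
      (mem_normalizer_pre hd hi) hk ha hinv hn
    exact commutator_le.2 fun s hs t ht => Subgroup.zpowers_le.2 h2 (comm_mem_UU hs (h1 ht).2)

end NA

end Cfsg.Lib.Ngrp.T2
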