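import Cfsg.Agent.Ngrp.AmT2a

set_option autoImplicit false
set_option linter.unusedSectionVars false

namespace Cfsg.Lib.Ngrp.T2
open Subgroup Cfsg.Lib.Trans Cfsg.Lib.Local Cfsg.Lib.Local.JC Cfsg.Lib.Trans.TJ Cfsg.Lib.Ngrp.Geo
open scoped commutatorElement

variable {G : Type*} [Group G] [Finite G]

theorem comm_pow_mul_mem {U X : Subgroup G} {d a : G} (hX : ∀ n : ℕ, ⁅d ^ n, a⁆ ∈ X)
    (hd : ∀ x ∈ X, ⁅d, x⁆ ∈ U) (n : ℕ) : ⁅d ^ n, a⁆ * (⁅d, a⁆ ^ n)⁻¹ ∈ U := by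
  induction n with
  | zero => simp
  | succ n ih =>
    have e : ⁅d ^ (n + 1), a⁆ * (⁅d, a⁆ ^ (n + 1))⁻¹ =
        ⁅d, ⁅d ^ n, a⁆⁆ * (⁅d ^ n, a⁆ * (⁅d, a⁆ ^ n)⁻¹) := by
      rw [pow_succ' d, pow_succ ⁅d, a⁆]
      generalize ⁅d, a⁆ ^ n = t
      simp only [commutatorElement_def]; group
    rw [e]; exact mul_mem (hd _ (hX n)) ih

namespace NA

variable {z y : G} (h : NA z y)
include h

theorem not_card_one : Nat.card (imgK z (U0 y z)) ≠ 1 := fun e => by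
  have h1 := h.card_EE
  have h2 := h.card_UU
  have h3 := h.pt.eight_le_card
  rw [h.card_U0, h.card_A0] at h2
  rw [e] at h1 h2
  exact h.na (h.pt.abU_of_card_eight (by omega))

theorem EE_eq (h4 : Nat.card (EE z y) = 4) : EE z y = four z y :=
  (eq_of_le_of_card_ge h.four_le (by rw [h4, h.col.fl.card])).symm

/-- `[Z(U), A₀] ≤ ⟨z⟩`. -/
theorem comm_center {c a : G} (hc : c ∈ UU z) (hc' : UU z ≤ Cz c) (ha : a ∈ U0 y z) :
    ⁅a, c⁆ ∈ zpowers z := by
  refine h.mem_zp_of_cent (comm_inv_mem (h.comm_mem_EE ⟨hc, Cz_symm (hc' h.col.mem_UU)⟩ ha))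
    fun u hu => Cz_symm (mul_mem ?_ (inv_mem (Cz_symm (hc' hu))))
  have := conj_mem_Cz a (Cz_symm (hc' (mem_normalizer_conj' (Cz_le_normalizer_UU z ha.2) hu)))
  rwa [show a * (a⁻¹ * u * a) * a⁻¹ = u by group] at this

theorem not_card_gt : ¬ 2 < Nat.card (imgK z (U0 y z)) := fun h4 => by
  obtain ⟨u, hu, hu'⟩ := h.exists_u
  have hr := red z
  obtain ⟨hB, b₀, hb₀, b₁, hb₁, k, k₁, k₂, ho, hinv, hc, hP, hyP, hfx, c1, c2, c3, c4, n1, n2⟩ :=
    (h.cfg hu.mem_UU hu').main h4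
  obtain ⟨hT, htop, h32, -⟩ := h.col.r2 c1 c2 c3 (c4 ▸ (hfx.ge hyP).1) n1 n2
  rw [c4] at htop
  rw [htop, top_inf_eq] at hfx
  obtain ⟨a₀, ha₀, rfl⟩ := h.exists_of_mem_B hb₀
  obtain ⟨a, ha, rfl⟩ := h.exists_of_mem_B hb₁
  have haz : a ∈ Cz z := ha.2
  have hE : EE z y = four z y := h.EE_eq (by
    have h1 := h.card_UU
    rw [h.card_U0, h.card_A0, hB, h32] at h1; omega)
  have hfpf : ∀ x : VV z, k • x = x → x = 1 := fun x hx =>
    eq_one_of_mem_cV_fx hr.expo ho (htop ▸ mem_top x) (mem_fx.2 hx)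
  -- the centre of `U`
  have hZ : UU z ⊓ centralizer (UU z : Set G) ≤ zpowers z := fun c hc => by
    have h1 : img z (UU z ⊓ centralizer (UU z : Set G)) ≤ fx (VV z) k := by
      refine le_fx_of_inverts ((h.cfg hu.mem_UU hu').sq _ hb₀) ho hinv ?_ fun x hx => ?_
      · obtain ⟨d, hd, rfl⟩ := exists_star k
        exact invt_img hd (Solv.le_normalizer_inf (Cz_le_normalizer_UU z)
          ((Cz_le_normalizer_UU z).trans (normalizer_le_normalizer_centralizer _)) hd)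
      · obtain ⟨w, hw, -, rfl⟩ := mem_img.1 hx
        exact (bar_mem_fx ha₀.2 hw.1).2
          (h.comm_center hw.1 (fun t ht => mem_Cz.2 (hw.2 t ht)) ha₀)
    exact (bar_eq_one hc.1).1 (hfpf _ (mem_fx.1 (h1 (bar_mem_img hc hc.1))))
  have hX : UU z ⊔ (XX z ⊓ centralizer (UU z : Set G)) = XX z :=
    Solv.PG.sup_inf_centralizer_eq_of_commutator_le (UU_le_XX z) (commutator_XX_UU_le z)
      (cent_zpowers z ▸ XX_le_Cz z)
      (hZ.trans (le_centralizer_iff.1 (cent_zpowers z ▸ XX_le_Cz z)))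
  have hXA : ⁅XX z, U0 y z⁆ ≤ UU z := by
    rw [← hX]
    refine sup_commutator_le le_normalizer
      ((inf_le_left.trans (XX_le_Cz z)).trans (Cz_le_normalizer_UU z)) ?_ ?_
    · exact commutator_le.2 fun w hw t ht => comm_inv_mem (comm_mem_UU_of_Cz ht.2 hw)
    · refine commutator_le.2 fun c hc t ht => (h.U0_inf_XX.le ⟨⟨?_, ?_⟩, ?_⟩).1
      · exact comm_mem_UU_of_Cz (le_Cz_of_mem h.col.mem_UU hc.2) ht.1
      · exact XX_le_Cz z (comm_mem_XX hc.1 ht.2)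
      · exact comm_mem_XX hc.1 ht.2
  have hXN : ⁅XX z, MSS.ncl (U0 y z) (Cz z)⁆ ≤ UU z := by
    refine commutator_iSup_le (fun g => (cj_le_of_mem_of_le g.2 inf_le_right).trans
      (Cz_le_normalizer_UU z)) fun g => ?_
    have := cj_mono (g : G) hXA
    rwa [cj_commutator, cj_eq_of_mem_normalizer (Cz_le_normalizer_XX z g.2),
      cj_eq_of_mem_normalizer (Cz_le_normalizer_UU z g.2)] at this
  obtain ⟨d, hd, hdN, hdo, rfl⟩ := star_lift_normal (MSS.le_normalizer_ncl (U0 y z) (Cz z)) ha₀.2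
    (MSS.le_ncl _ _ ha₀) ho hinv
  have hξX : ∀ n : ℕ, ⁅d ^ n, a⁆ ∈ XX z := fun n => by
    have k1 := pow_mem hd n
    have k2 : ⁅d ^ n, a⁆ ∈ Cz z := mul_mem (mul_mem (mul_mem k1 haz) (inv_mem k1)) (inv_mem haz)
    rw [← star_eq_one k2, star_comm k1 haz, star_pow hd, commutatorElement_eq_one_iff_mul_comm]
    exact (Commute.pow_left hc.symm n).eq
  have hξ : ⁅d, a⁆ ∈ UU z := by
    have h1 := comm_pow_mul_mem hξX
      (fun x hx => comm_inv_mem (hXN (commutator_mem_commutator hx hdN))) (orderOf d)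
    rw [pow_orderOf_eq_one, commutatorElement_one_left, one_mul] at h1
    obtain ⟨s, hs⟩ := Solv.PG.exists_pow_prime_pow_eq_one (hT.isPGroup_XX h.pt) (pow_one d ▸ hξX 1)
    refine MSS.mem_of_pow_mem_of_coprime (n := orderOf d) ?_ (inv_mem_iff.1 h1)
    exact Nat.Coprime.coprime_dvd_left (orderOf_dvd_of_pow_eq_one hs)
      (Nat.Coprime.pow_left s ((Nat.coprime_two_left).2 hdo))
  set P := cV (VV z) (star z a) with hPd
  have hdP : Invt (star z d) P := inv_cV_of_comm hc.symm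
  have hD2 : ∀ x ∈ pre z P, x * x = 1 := fun x hx => by
    obtain ⟨h1, h2⟩ := mem_pre.1 hx
    by_cases h3 : bar z x = 1
    · rcases (h.pt.bar_eq_one h1).1 h3 with e | e <;> rw [e]
      · exact one_mul 1
      · exact h.pt.sq
    rcases four_trans hr.expo hP hdP (eq_bot_iff.2 fun v hv => hfpf v (mem_fx.1 hv.2)) hyP
      h.col.bar_ne_one h2 h3 with e | e | e
    · exact (h.col.of_bar_eq h1 e).sq
    · rw [star_smul hd h.col.mem_UU] at e
      exact ((h.col.conj_of_mem hd).of_bar_eq h1 e).sq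
    · rw [← star_inv hd, star_smul (inv_mem hd) h.col.mem_UU] at e
      exact ((h.col.conj_of_mem (inv_mem hd)).of_bar_eq h1 e).sq
  have hUa : ∀ w ∈ UU z, ⁅a, w⁆ ∈ pre z P := fun w hw =>
    mem_pre.2 ⟨comm_mem_UU_of_Cz haz hw, cm_star haz hw ▸ cm_mem_cV _ _⟩
  have hδ := h.comm_mem_U0 hu.mem_UU haz (UU_le_Cz y ha.1)
  have hδP : ⁅u, a⁆ ∈ pre z P := comm_inv_mem (hUa u hu.mem_UU)
  have hED : EE z y ≤ pre z P :=
    hE ▸ JC.four_le h.pt.mem_pre_self (mem_pre.2 ⟨h.col.mem_UU, hyP⟩)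
  have hδE : ⁅u, a⁆ ∉ EE z y := fun e => by
    have := star_of_mem (UU_le_XX z (h.a_inj hu.mem_UU hu' ha e).1)
    rw [hPd, this, cV_one, card_bot] at hP
    omega
  have ha2 : a * a = 1 := by
    obtain ⟨a', ha', ha''⟩ := h.symm.exists_u
    have t1 := h.twist hu.mem_UU hu' ha'.mem_UU ha'' ha
    set δ := ⁅u, a⁆ with hδd
    have b2 := h.symm.conj_mem_third ha'.mem_UU ha'' hδ.1
    rw [← h.col.comm] at b2
    have k1 : u * (a' * δ * a'⁻¹) * u⁻¹ ∈ UU y := by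
      have := h.mul.conj_mem_third hu.mem_UU (fun e => hu' (by
        have := mul_mem (Cz_symm hu.mem_Cz) (Cz_symm e)
        rw [h.zy] at this; exact Cz_symm this)) b2
      rwa [h.zy] at this
    have k2 : u * (a' * δ * a'⁻¹) * u⁻¹ * a⁻¹ ∈ UU z := by
      have e : u * (a' * δ * a'⁻¹) * u⁻¹ * a⁻¹ =
          u * (⁅a', δ⁆ * a⁻¹) * u⁻¹ * δ * (a * (u * δ * u⁻¹) * a⁻¹) := by
        rw [commutatorElement_def a' δ]
        generalize a' * δ * a'⁻¹ = t
        rw [hδd, commutatorElement_def]; group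
      rw [e]
      exact mul_mem (mul_mem (h.conj_mem_EE hu.mem_UU t1).1 hδ.1)
        (conj_mem_UU_of_mem haz (conj_mem_UU_of_mem hu.mem_Cz hδ.1))
    have k3 : u * (a' * δ * a'⁻¹) * u⁻¹ * a⁻¹ ∈ EE z y := mem_inf.2 ⟨k2, mul_mem k1 (inv_mem ha.1)⟩
    have k4 : u * (a' * δ * a'⁻¹) * u⁻¹ * (u * (a' * δ * a'⁻¹) * u⁻¹) = 1 := by
      calc _ = u * a' * (δ * δ) * (u * a')⁻¹ := by group
        _ = 1 := by rw [hD2 _ hδP]; group
    generalize u * (a' * δ * a'⁻¹) * u⁻¹ = α at k3 k4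
    have k5 := h.sq_EE k3
    have k6 := h.four_le_cent (hE ▸ k3) a ha
    calc a * a = (α * a⁻¹ * (α * a⁻¹)) * (a * a) := by rw [k5, one_mul]
      _ = α * a⁻¹ * (α * a⁻¹ * a) * a := by group
      _ = α * a⁻¹ * (a * (α * a⁻¹)) * a := by rw [k6]
      _ = α * α := by group
      _ = 1 := k4
  have hξP : ⁅d, a⁆ ∈ pre z P := by
    refine mem_pre.2 ⟨hξ, hfx ▸ mem_fx.2 ?_⟩
    have e : a * ⁅d, a⁆ * a⁻¹ = ⁅d, a⁆⁻¹ := by
      rw [commutatorElement_def, inv_eq_of_sq ha2]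
      calc a * (d * a * d⁻¹ * a) * a = a * (d * a * d⁻¹) * (a * a) := by group
        _ = (d * a⁻¹ * d⁻¹ * a⁻¹)⁻¹ * 1 := by rw [ha2]; group
        _ = _ := by rw [inv_eq_of_sq ha2, mul_one]
    rw [star_smul haz hξ, e, bar_inv' hξ]
  have haD : a ∈ normalizer (pre z P : Set G) := mem_normalizer_pre haz (inv_cV_self _)
  refine h.pl2' (D := pre z P ⊔ zpowers a)
    (isPGroup_sup' ((isPGroup_UU z).to_le pre_le_UU) (isPGroup_zpowers_two ha2)
      (Subgroup.zpowers_le.2 haD))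
    (fun e => h.pt.ne (by simpa [e] using (mem_sup_left h.pt.mem_pre_self :
      z ∈ pre z P ⊔ zpowers a)))
    (Solv.PG.le_normalizer_sup_zpowers ((UU_le_XX z).trans XX_le_normalizer_pre) hUa)
    (fun s hs => mem_normalizer_of_cj_le ?_) hd ?_ ho ha₀ hinv
    fun e => hu' ((h.mem_V0 hu.mem_UU).1 (e (htop ▸ mem_top _))).2
  · rw [cj_sup, cj_zpowers]
    refine sup_le (cj_le_iff.2 fun x hx => ?_) (Subgroup.zpowers_le.2 ?_)
    · have hE' : ∀ e ∈ EE z y, s * e * s⁻¹ ∈ pre z P ⊔ zpowers a := fun e he =>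
        mem_sup_left (hED (EE_symm (h.symm.conj_mem_EE hs (EE_symm he))))
      have hδ' : s * ⁅u, a⁆ * s⁻¹ ∈ pre z P ⊔ zpowers a := by
        rw [conj_eq_comm]
        refine mul_mem ?_ (mem_sup_left hδP)
        by_cases hs' : s ∈ Cz z
        · exact mem_sup_left (hED (comm_inv_mem (h.comm_mem_EE hδ ⟨hs, hs'⟩)))
        · have := mul_mem_sup (hED (h.twist hu.mem_UU hu' hs hs' ha)) (mem_zpowers a)
          rwa [inv_mul_cancel_right] at this
      obtain ⟨h1, h2⟩ := mem_pre.1 hx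
      have hyE : bar z y ∈ img z (EE z y) := bar_mem_img h.y_mem h.col.mem_UU
      have k : x ∈ EE z y ∨ x * ⁅u, a⁆⁻¹ ∈ EE z y := by
        rw [← h.mem_E h1, ← h.mem_E (mul_mem h1 (inv_mem hδ.1)), bar_mul h1 (inv_mem hδ.1),
          bar_inv hδ.1]
        rcases (four_elems hr.expo hP hyP (mem_pre.1 hδP).2 h.col.bar_ne_one
          (fun e => hδE ((h.mem_E hδ.1).1 (e ▸ one_mem _)))
          (fun e => hδE ((h.mem_E hδ.1).1 (e ▸ hyE)))).1 h2 with e | e | e | e <;> rw [e]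
        · exact Or.inl (one_mem _)
        · exact Or.inl hyE
        · right; rw [mul_inv_cancel]; exact one_mem _
        · right; rw [mul_inv_cancel_right]; exact hyE
      rcases k with e | e
      · exact hE' x e
      · have := mul_mem (hE' _ e) hδ'
        convert this using 1; group
    · rw [conj_eq_comm]
      exact mul_mem_sup (hED (h.zpowers_le' (comm_mem_UU hs ha.1))) (mem_zpowers a)
  · refine mem_normalizer_of_cj_le ?_
    rw [cj_sup, cj_zpowers, cj_eq_of_mem_normalizer (mem_normalizer_pre hd hdP), conj_eq_comm]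
    exact sup_le le_sup_left (Subgroup.zpowers_le.2 (mul_mem_sup hξP (mem_zpowers a)))

end NA

end Cfsg.Lib.Ngrp.T2
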