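import Cfsg.Agent.Ngrp.AmT2b

set_option autoImplicit false
set_option linter.unusedSectionVars false

namespace Cfsg.Lib.Ngrp.T2
open Subgroup Cfsg.Lib.Trans Cfsg.Lib.Local Cfsg.Lib.Local.JC Cfsg.Lib.Trans.TJ Cfsg.Lib.Ngrp.Geo
open scoped commutatorElement

theorem fix_of_chain {K V : Type*} [Group K] [CommGroup V] [MulDistribMulAction K V] [Finite V]
    (hV : ∀ v : V, v * v = 1) {g : K} (ho : Odd (orderOf g)) {W₁ W₂ : Subgroup V}
    (i1 : Invt g W₁) (i2 : Invt g W₂) (hle : W₂ ≤ W₁) (c0 : Nat.card V = 8)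
    (c1 : Nat.card W₁ = 4) (c2 : Nat.card W₂ = 2) (v : V) : g • v = v := by
  have e := map_cm_cV hV ho
  have h1 : cV V g ≤ W₁ := by
    rintro _ ⟨v, rfl⟩
    exact cm_mem_of_card Invt.top i1 le_top (by rw [card_top]; omega) trivial
  have h2 : cV V g ≤ W₂ := by
    rw [← e]; rintro _ ⟨v, hv, rfl⟩; exact cm_mem_of_card i1 i2 hle (by omega) (h1 hv)
  have h3 : cV V g ≤ ⊥ := by
    rw [← e]; rintro _ ⟨v, hv, rfl⟩
    exact cm_mem_of_card i2 Invt.bot bot_le (by rw [card_bot]; omega) (h2 hv)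
  exact cV_eq_bot_iff.1 (le_bot_iff.1 h3) v

variable {G : Type*} [Group G] [Finite G]

/-- The configuration with `|U| = 16`. -/
structure GG (z y : G) : Prop extends NA z y where
  hE : EE z y = four z y
  hU : Nat.card (UU z) = 16

/-- A central element of `U_z` outside `⟨z⟩`. -/
structure Zc (z c : G) : Prop where
  mem : c ∈ UU z
  cent : UU z ≤ Cz c
  nm : c ∉ zpowers z

theorem Zc.conj {z c : G} (h : Zc z c) (g : G) : Zc (g * z * g⁻¹) (g * c * g⁻¹) :=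
  ⟨conj_mem_UU g h.mem, by rw [← cj_UU, ← cj_Cz]; exact cj_mono g h.cent, fun e => h.nm (by
    rw [← cj_zpowers, mem_cj] at e
    rwa [show g⁻¹ * (g * c * g⁻¹) * g = c by group] at e)⟩

theorem Zc.conj_of_mem {z c g : G} (h : Zc z c) (hg : g ∈ Cz z) : Zc z (g * c * g⁻¹) := by
  have := h.conj g; rwa [Cz_conj hg] at this

namespace GG

variable {z y : G} (h : GG z y)
include h

theorem of_col {p q : G} (h' : Col p q) : GG p q := by
  obtain ⟨g, rfl, rfl⟩ := h.col.exists_conj h'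
  refine ⟨h.toNA.conj g, ?_, (h'.pt.card_UU_eq h.pt).trans h.hU⟩
  rw [← cj_four, ← h.hE, cj_inf, cj_UU, cj_UU]

theorem symm : GG y z := h.of_col h.col.symm

theorem card_four : Nat.card (EE z y) = 4 := by rw [h.hE, h.col.fl.card]

theorem card_eight : Nat.card (U0 z y) = 8 := by have := h.card_UU; have := h.hU; omega

theorem idxE : IdxLeTwo (EE z y) (U0 z y) :=
  idx_of_card (EE_le_U0 z y) (by rw [h.card_four, h.card_eight])

theorem cent_EE {r e : G} (hr : r ∈ Cz z) (hr' : r ∈ Cz y) (he : e ∈ EE z y) : r ∈ Cz e :=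
  le_Cz_of_mem (h.hE ▸ he) (h.col.mem_centralizer_iff.2 ⟨hr, hr'⟩)

theorem card_VV : Nat.card (VV z) = 8 := by have := h.pt.card_UU; have := h.hU; omega

theorem thin : Thin G := by
  obtain ⟨k, hk⟩ := h.col.exists_move
  refine h.col.thin_of_fix (W := ⊤) trivial Invt.top hk fun g ho hg v _ => mem_fx.2 ?_
  obtain ⟨c, hc, rfl⟩ := exists_star g
  have hn := (h.col.star_smul_iff hc).1 hg
  have i2 := invt_img hc (h.normalizer_le hn)
  obtain ⟨d, hd, hd', e⟩ := h.col.exists_star_eq hc hn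
  refine fix_of_chain VV_sq ho (W₁ := img z (U0 z y)) (fun x hx => ?_) i2
    (img_mono (EE_le_U0 z y)) h.card_VV ?_ ?_ v
  · obtain ⟨w, hw, hw', rfl⟩ := mem_img.1 hx
    rw [← e, star_smul hd hw']
    have hwy : w ∈ Cz y := hw.2
    exact bar_mem_img (mem_inf.2 ⟨conj_mem_UU_of_mem hd hw',
      mul_mem (mul_mem hd' hwy) (inv_mem hd')⟩) (conj_mem_UU_of_mem hd hw')
  · have := h.pt.card_img h.z_mem_U0 inf_le_left
    have := h.card_eight; omega
  · have := h.card_E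
    have := h.card_four; omega

theorem UU_le {u w : G} {H : Subgroup G} (hu : u ∈ UU z) (hu' : u ∉ Cz y) (hw : w ∈ U0 z y)
    (hw' : w ∉ EE z y) (h1 : u ∈ H) (h2 : w ∈ H) (h3 : z ∈ H) (h4 : y ∈ H) : UU z ≤ H := by
  have k1 : EE z y ≤ H := h.hE ▸ JC.four_le h3 h4
  have k2 : U0 z y ≤ H := fun x hx => by
    by_cases e : x ∈ EE z y
    · exact k1 e
    · exact (mul_mem_cancel_left h2).1 (k1 (h.idxE w hw x hx hw' e))
  intro x hx
  by_cases e : x ∈ Cz y
  · exact k2 ⟨hx, e⟩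
  · exact (mul_mem_cancel_left h1).1 (k2 (h.mul_mem_U0 hu hu' hx e))

theorem exists_Zc : ∃ c, Zc z c := by
  obtain ⟨u, hu, hu'⟩ := h.exists_u
  obtain ⟨w, hw, hw'⟩ := SetLike.not_le_iff_exists.1 (fun e : U0 z y ≤ EE z y => by
    have := Trans.card_le_of_le e
    rw [h.card_four, h.card_eight] at this; omega)
  obtain ⟨c, hc, hc', hn⟩ : ∃ c ∈ U0 z y, u ∈ Cz c ∧ c ∉ EE z y := by
    rcases h.pt.conj_UU hu.mem_UU hw.1 with e | e
    · exact ⟨w, hw, mem_Cz'.2 e, hw'⟩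
    · refine ⟨w * y, mul_mem hw (EE_le_U0 z y h.y_mem), mem_Cz'.2 ?_,
        fun e' => hw' ((mul_mem_cancel_right h.y_mem).1 e')⟩
      rw [show u * (w * y) * u⁻¹ = u * w * u⁻¹ * (u * y * u⁻¹) by group, e,
        h.conj_y hu.mem_UU hu', ← mem_Cz.1 (U0_le_Cz z y hw), mul_assoc w, h.zy]
  exact ⟨c, hc.1, h.UU_le hu.mem_UU hu' hc hn hc' (self_mem_Cz c) (Cz_symm (U0_le_Cz z y hc))
    (Cz_symm hc.2), fun e => hn (h.zpowers_le e)⟩

variable {c c' : G} (hc : Zc z c)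
include hc

theorem c_mem : c ∈ U0 z y := ⟨hc.mem, Cz_symm (hc.cent h.col.mem_UU)⟩

theorem c_not : c ∉ EE z y := fun e => hc.nm (h.mem_zp_of_cent e hc.cent)

theorem mul_mem_zp {x : G} (hx : x ∈ U0 z y) (hx' : x ∉ EE z y) (h1 : UU z ≤ Cz x) :
    c * x ∈ zpowers z :=
  h.mem_zp_of_cent (h.idxE c (h.c_mem hc) x hx (h.c_not hc) hx') fun _ hw =>
    Cz_symm (mul_mem (Cz_symm (hc.cent hw)) (Cz_symm (h1 hw)))

theorem bar_fix (k : KK z) : k • bar z c = bar z c := by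
  obtain ⟨d, hd, rfl⟩ := exists_star k
  have h1 := hc.conj_of_mem hd
  have h2 := bar_eq_one_of_mem (h.mul_mem_zp hc (h.c_mem h1) (h.c_not h1) h1.cent)
  rw [bar_mul hc.mem h1.mem] at h2
  rw [star_smul hd hc.mem, eq_inv_of_mul_eq_one_right h2, VV_inv]

theorem conj_c {g : G} (hg : g ∈ Cz z) : g * c * g⁻¹ = c ∨ g * c * g⁻¹ = z * c := by
  rw [← h.pt.bar_eq_bar (conj_mem_UU_of_mem hg hc.mem) hc.mem, ← star_smul hg hc.mem]
  exact h.bar_fix hc _

theorem idxC : IdxLeTwo (Cz c) (Cz z) :=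
  idxLeTwo_centralizer h.pt.sq (fun _ => mem_Cz.1) fun _ => h.conj_c hc

theorem sq_c : c * c = z := by
  refine (h.pt.mem_zpowers.1 (sq_mem_UU hc.mem)).resolve_left fun e => ?_
  obtain ⟨u, hu, hu'⟩ := h.exists_u
  have hU := hu.mem_UU
  have k0 : ∀ w ∈ U0 z y, w * w = 1 := fun w hw => by
    by_cases e1 : w ∈ EE z y
    · exact h.sq_EE e1
    · have := h.sq_EE (h.idxE c (h.c_mem hc) w hw (h.c_not hc) e1)
      rwa [mul_assoc, ← mul_assoc w, mem_Cz.1 (hc.cent hw.1), mul_assoc, ← mul_assoc c, e,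
        one_mul] at this
  have k1 : ∀ w ∈ U0 z y, u * w * (u * w) = ⁅u, w⁆ := fun w hw => by
    rw [commutatorElement_def, inv_eq_of_sq hu.sq, inv_eq_of_sq (k0 w hw)]; group
  have hy : y ∈ U0 z y := EE_le_U0 z y h.y_mem
  have ht : u * y ∈ UU z := mul_mem hU hy.1
  have k2 : u * y * (u * y) = z := (k1 y hy).trans (h.comm_y hU hu')
  have k3 : ∀ t ∈ UU z, t * t = z → bar z t = bar z (u * y) ∨ bar z t = bar z c * bar z (u * y) := by
    intro t ht1 e1
    have h1 := h.mul_mem_U0 hU hu' ht1 fun e2 => h.pt.ne (e1.symm.trans (k0 t ⟨ht1, e2⟩))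
    have h2 := k1 _ h1
    rw [← mul_assoc u u, hu.sq, one_mul, e1] at h2
    have h3 : u * t * y ∈ U0 z y := mul_mem h1 hy
    have h4 : u ∈ Cz (u * t * y) := by
      rw [mem_Cz', show u * (u * t * y) * u⁻¹ = ⁅u, u * t⁆ * (u * t) * (u * y * u⁻¹) by
        rw [commutatorElement_def]; group, ← h2, h.conj_y hU hu', ← mem_Cz.1 (U0_le_Cz z y h1),
        mul_assoc (u * t), h.zy]
    have h5 : bar z t = bar z (u * t * y) * bar z (u * y) := by
      rw [bar_mul h1.1 hy.1, bar_mul hU ht1, bar_mul hU hy.1, mul_mul_mul_comm, VV_sq, mul_one,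
        mul_right_comm, VV_sq, one_mul]
    have h6 : UU z ≤ Cz (u * t * y) := h.UU_le hU hu' (h.c_mem hc) (h.c_not hc) h4
      (Cz_symm (hc.cent h3.1)) (Cz_symm (U0_le_Cz z y h3)) (Cz_symm h3.2)
    by_cases e2 : u * t * y ∈ EE z y
    · left; rw [h5, bar_eq_one_of_mem (h.mem_zp_of_cent e2 h6), one_mul]
    · have h7 := bar_eq_one_of_mem (h.mul_mem_zp hc h3 e2 h6)
      rw [bar_mul hc.mem h3.1] at h7
      right; rw [h5, eq_inv_of_mul_eq_one_right h7, VV_inv]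
  have n1 : bar z c ≠ 1 := fun e1 => hc.nm ((Geo.bar_eq_one hc.mem).1 e1)
  have n2 : bar z (u * y) ≠ 1 := fun e1 => by
    rcases (h.pt.bar_eq_one ht).1 e1 with e2 | e2 <;> rw [e2] at k2
    · exact h.pt.ne (by rw [← k2, one_mul])
    · exact h.pt.ne (k2.symm.trans h.pt.sq)
  have n3 : bar z c ≠ bar z (u * y) := fun e1 => by
    rcases (h.pt.bar_eq_bar hc.mem ht).1 e1 with e2 | e2 <;> rw [e2] at e
    · exact h.pt.ne (k2.symm.trans e)
    · rw [mul_assoc, ← mul_assoc (u * y), mem_Cz.1 (UU_le_Cz z ht), mul_assoc z, k2, h.pt.sq,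
        mul_one] at e
      exact h.pt.ne e
  obtain ⟨f, hf, hf1⟩ := h.pt.exists_fitting_ne_one
  have i2 : zpowers (bar z c) ≤ (zpowers (bar z c)).comap (MulDistribMulAction.toMonoidHom _ f) :=
    Subgroup.zpowers_le.2 (show f • bar z c ∈ _ by rw [h.bar_fix hc]; exact mem_zpowers _)
  have i1 : zpowers (bar z c) ⊔ zpowers (bar z (u * y)) ≤ (zpowers (bar z c) ⊔
      zpowers (bar z (u * y))).comap (MulDistribMulAction.toMonoidHom _ f) := by
    refine sup_le (i2.trans (comap_mono le_sup_left)) (Subgroup.zpowers_le.2 ?_)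
    obtain ⟨d, hd, rfl⟩ := exists_star f
    rw [mem_comap, MulDistribMulAction.toMonoidHom_apply, star_smul hd ht]
    rcases k3 _ (conj_mem_UU_of_mem hd ht) (by
      rw [show d * (u * y) * d⁻¹ * (d * (u * y) * d⁻¹) = d * (u * y * (u * y)) * d⁻¹ by group, k2,
        Cz_conj hd]) with e1 | e1 <;> rw [e1]
    · exact mem_sup_right (mem_zpowers _)
    · exact mul_mem_sup (mem_zpowers _) (mem_zpowers _)
  refine hf1 (KK_eq_one (fix_of_chain VV_sq (odd_of_mem_fitting (pCore_KK z) hf) i1 i2 le_sup_left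
    h.card_VV ?_ (card_zpowers_of_expo VV_sq n1)))
  rw [card_sup_of_inf_bot, card_zpowers_of_expo VV_sq n1, card_zpowers_of_expo VV_sq n2]
  refine eq_bot_iff.2 fun x hx => ?_
  rcases (mem_zpowers_iff_of_expo VV_sq).1 hx.1 with e1 | e1
  · exact e1
  · exact ((mem_zpowers_iff_of_expo VV_sq).1 hx.2).resolve_right fun e2 => n3 (e1.symm.trans e2)

theorem mem_EE_of_sq {w : G} (hw : w ∈ U0 z y) (e : w * w = 1) : w ∈ EE z y := by
  by_contra hn
  have := h.sq_EE (h.idxE c (h.c_mem hc) w hw (h.c_not hc) hn)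
  rw [mul_assoc, ← mul_assoc w, mem_Cz.1 (hc.cent hw.1), mul_assoc, ← mul_assoc c, h.sq_c hc, e,
    mul_one] at this
  exact h.pt.ne this

end GG

end Cfsg.Lib.Ngrp.T2
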