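import Cfsg.Agent.Ngrp.GU23
import Cfsg.Agent.Rank2.FusWr
import Cfsg.Agent.Solv.PConstrained

/-!
# Recognition of `GU₂(3)`

A group with wreathed Sylow 2-subgroup, central involution `z` and self-centralizing `O₂` is a
2-group or `GU₂(3)`.
-/

set_option autoImplicit false

namespace Cfsg.Lib.Ngrp.U33

open Cfsg Cfsg.Lib.Trans Cfsg.Lib.Rank2 Cfsg.Lib.Rank2.FusW Cfsg.Lib.Rank2.SylEmb
  Cfsg.Lib.Trans.Wr Subgroup

section StepA

variable {H S : Type*} [Group H] [Group S] [Finite H] {m : ℕ} (F : WrFrame S m) (E : SylEmb S H)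

theorem not_has_base (hz : E.j (F.r (2 ^ (m + 1), 2 ^ (m + 1))) ∈ center H) :
    ¬ E.Has (F.rSub ⊤) := fun h => by
  obtain ⟨g, hg⟩ := isConj_iff.1 (fused_of_base F h (orderOf_z F) (orderOf_h F))
  rw [mem_center_iff.1 hz, mul_inv_cancel_right, E.inj.eq_iff, F.r_inj] at hg
  exact ZM.half_ne_zero (congrArg Prod.snd hg)

theorem exists_odd_ne_one (hne : ¬ IsPGroup 2 H) : ∃ g : H, (orderOf g).Coprime 2 ∧ g ≠ 1 := by
  rw [IsPGroup.iff_card] at hne
  obtain ⟨q, hq, hq1, hq2⟩ : ∃ q, q.Prime ∧ q ∣ Nat.card H ∧ q ≠ 2 := by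
    by_contra h
    push Not at h
    exact hne ⟨_, Nat.eq_prime_pow_of_unique_prime_dvd Nat.card_pos.ne' fun h1 h2 => h _ h1 h2⟩
  have := Fact.mk hq
  obtain ⟨g, hg⟩ := exists_prime_orderOf_dvd_card' q hq1
  refine ⟨g, hg ▸ (Nat.coprime_primes hq Nat.prime_two).2 hq2, ?_⟩
  rintro rfl
  exact hq.one_lt.ne (by rw [← hg, orderOf_one])

include F in
theorem not_mem_range {g : H} (ho : (orderOf g).Coprime 2) (hg : g ≠ 1) : g ∉ E.j.range := by
  rintro ⟨s, rfl⟩
  rw [orderOf_injective _ E.inj] at ho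
  exact hg (by rw [eq_one_of_isPGroup_of_coprime (isPGroup F) ho, map_one])

theorem map_vee_eq (hC : centralizer (pCore 2 H : Set H) ≤ pCore 2 H)
    (hz : E.j (F.r (2 ^ (m + 1), 2 ^ (m + 1))) ∈ center H) (hne : ¬ IsPGroup 2 H) :
    m = 0 ∧ (vee F 0).map E.j = pCore 2 H := by
  have hT := (E.isSylowIn (isPGroup F)).isPGroup
  have hle : pCore 2 H ≤ E.j.range :=
    (Solv.pCore_isPGroup 2 H).le_sylow_of_normal (hT.toSylow E.odd)
  obtain ⟨g, ho, hg⟩ := exists_odd_ne_one hne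
  have h1 : ((pCore 2 H).comap E.j).map E.j = pCore 2 H := map_comap_eq_self hle
  have h2 : centralizer (((pCore 2 H).comap E.j : Subgroup S) : Set S) ≤ (pCore 2 H).comap E.j :=
    fun c hc => hC fun r hr => by
      obtain ⟨s, rfl⟩ := hle hr
      rw [← map_mul, hc s hr, map_mul]
  have hN : ((pCore 2 H).comap E.j).Normal := Normal.comap inferInstance _
  have hgN : g ∈ normalizer ((((pCore 2 H).comap E.j).map E.j : Subgroup H) : Set H) := by
    rw [h1, normalizer_eq_top]; trivial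
  have hgC : g ∉ centralizer ((((pCore 2 H).comap E.j).map E.j : Subgroup H) : Set H) := by
    rw [h1]
    exact fun h => not_mem_range F E ho hg (hle (hC h))
  rw [← h1]
  generalize (pCore 2 H).comap E.j = U at h2 hN hgN hgC
  by_cases hw : ∃ w, F.s w ∈ U
  · obtain ⟨w, hw⟩ := hw
    obtain ⟨-, b, w', -, -, rfl, h3, -⟩ :=
      core F ((center_le_centralizer _).trans h2) hw hgN ho hgC
    refine ⟨?_, by rw [← cj_vee F h3, cj_eq_of_mem_normalizer (by rw [normalizer_eq_top]; trivial)]⟩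
    have h4 := (r_mem_vee F).1 (F.sub_σ_mem_of_normal hw (1, 0))
    by_contra hm
    refine ZM.two_pow_ne_zero (n := m + 2) (j := 2) (by omega) ?_
    simp only [Prod.fst_sub, Prod.snd_sub, Prod.fst_swap, Prod.snd_swap] at h4
    linear_combination h4
  · push Not at hw
    obtain rfl : U = F.rSub ⊤ := F.subgroup_ext (fun u => iff_of_true
      (h2 (F.r_mem_centralizer_of_not_s_mem hw u)) (F.r_mem_rSub.2 trivial))
      fun u => iff_of_false (hw u) (F.s_not_mem_rSub u)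
    exact absurd ⟨g, hgN, ho, hgC⟩ (not_has_base F E hz)

end StepA

/-- The base group inside `GU₂(3)`. -/
def rho (u : ZMod (2 ^ (0 + 2)) × ZMod (2 ^ (0 + 2))) : K96 := kx ^ u.1.val * ky ^ u.2.val

/-- Membership in `O₂`. -/
def inV (k : K96) : Prop := k.1 < 32 ∧ (k.1 / 4 + k.1) % 2 = 0

instance (k : K96) : Decidable (inV k) := inferInstanceAs (Decidable (_ ∧ _))

theorem rho_facts : (∀ u v, rho u = rho v → u = v) ∧ (∀ u v, rho u ≠ rho v * kt) ∧
    (∀ u, (2 * (u.1 - u.2) = 0 ↔ inV (rho u)) ∧ (2 * (u.1 - u.2) = 0 ↔ inV (rho u * kt))) ∧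
    (∀ k : K96, k.1 < 32 → ∃ u, k = rho u ∨ k = rho u * kt) ∧
    (∀ k : K96, inV k → ∃ i : Fin 4, ∃ j e : Fin 2,
      k = (kx * ky) ^ i.val * (ky * ky) ^ j.val * kt ^ e.val) ∧
    (∀ p : K96, inV p → p * p = 1 → ∀ q : K96, inV q → q * q = 1 → p * q * p * q = kz →
      ∃ k : K96, k * kt * k⁻¹ = p ∧ k * (ky * ky) * k⁻¹ = q) ∧
    (∀ k : K96, k * (kx * ky) * k⁻¹ = kx * ky) ∧
    (∀ k : K96, k * kt * k⁻¹ = kt → k * (ky * ky) * k⁻¹ = ky * ky → k.1 < 32) ∧
    (∀ k : K96, ¬ k.1 < 32 → ∃ s : K96, s.1 < 32 ∧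
      (((s * k)⁻¹ * ka).1 < 32)) := by
  refine ⟨?_, ?_, ?_, ?_, ?_, ?_, ?_, ?_, ?_⟩ <;> decide +kernel

section StepB

variable {H S : Type*} [Group H] [Group S] (F : WrFrame S 0)

/-- The embedding of the wreathed group of order 32. -/
noncomputable def psi : S →* K96 :=
  F.lift rho kt (by decide +kernel) (by decide +kernel) (by decide +kernel)

theorem psi_r (u : ZMod (2 ^ (0 + 2)) × ZMod (2 ^ (0 + 2))) : psi F (F.r u) = rho u :=
  F.lift_r _ _ _ _ _ u

theorem psi_s (u : ZMod (2 ^ (0 + 2)) × ZMod (2 ^ (0 + 2))) : psi F (F.s u) = rho u * kt :=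
  F.lift_s _ _ _ _ _ u

theorem psi_x : psi F (F.r (1, 0)) = kx := by rw [psi_r]; decide +kernel

theorem psi_y : psi F (F.r (0, 1)) = ky := by rw [psi_r]; decide +kernel

theorem psi_t : psi F F.t = kt := by rw [← F.s_zero, psi_s]; decide +kernel

theorem psi_z : psi F (F.r (2 ^ (0 + 1), 2 ^ (0 + 1))) = kz := by rw [psi_r]; decide +kernel

theorem psi_inj : Function.Injective (psi F) := fun a b h => by
  rcases F.cases a with ⟨u, rfl⟩ | ⟨u, rfl⟩ <;> rcases F.cases b with ⟨v, rfl⟩ | ⟨v, rfl⟩ <;>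
    simp only [psi_r, psi_s] at h
  · rw [rho_facts.1 _ _ h]
  · exact absurd h (rho_facts.2.1 _ _)
  · exact absurd h.symm (rho_facts.2.1 _ _)
  · rw [rho_facts.1 _ _ (mul_right_cancel h)]

theorem mem_vee_iff (v : S) : v ∈ vee F 0 ↔ inV (psi F v) := by
  rcases F.cases v with ⟨u, rfl⟩ | ⟨u, rfl⟩
  · rw [r_mem_vee, psi_r]; exact (rho_facts.2.2.1 u).1
  · rw [F.s_mem_iff_of_s_mem (s_mem_vee_self F 0), sub_zero, r_mem_vee, psi_s]
    exact (rho_facts.2.2.1 u).2

theorem exists_psi {k : K96} (hk : k.1 < 32) : ∃ s, psi F s = k := by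
  obtain ⟨u, rfl | rfl⟩ := rho_facts.2.2.2.1 k hk
  exacts [⟨_, psi_r F u⟩, ⟨_, psi_s F u⟩]

theorem comp_psi {θ : K96 →* H} {j : S →* H} (hx : θ kx = j (F.r (1, 0)))
    (hy : θ ky = j (F.r (0, 1))) (ht : θ kt = j F.t) (s : S) : θ (psi F s) = j s := by
  have h1 : ∀ u, θ (rho u) = j (F.r u) := fun u => by
    rw [rho, map_mul, map_pow, map_pow, hx, hy, ← map_pow, ← map_pow, ← map_mul, F.r_pow, F.r_pow,
      F.r_mul_r, Prod.smul_mk, Prod.smul_mk, zmod_nsmul_val, zmod_nsmul_val, smul_zero, smul_zero,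
      Prod.mk_add_mk, add_zero, zero_add u.2]
  rcases F.cases s with ⟨u, rfl⟩ | ⟨u, rfl⟩
  · rw [psi_r, h1]
  · rw [psi_s, map_mul, h1, ht, F.s_def, map_mul]

variable [Finite H] (E : SylEmb S H)

theorem exists_equiv_K96 (hN : ((vee F 0).map E.j).Normal)
    (hC : centralizer (((vee F 0).map E.j : Subgroup H) : Set H) ≤ (vee F 0).map E.j)
    (hz : E.j (F.r (2 ^ (0 + 1), 2 ^ (0 + 1))) ∈ center H) (hne : ¬ IsPGroup 2 H) :
    ∃ e : K96 ≃* H, e kx = E.j (F.r (1, 0)) ∧ e ky = E.j (F.r (0, 1)) ∧ e kt = E.j F.t := by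
  obtain ⟨-, -, -, -, f1, f2, f3, f4, f5⟩ := rho_facts
  have hinj := psi_inj F
  set x := F.r (1, 0)
  set y := F.r (0, 1)
  have px : psi F x = kx := psi_x F
  have py : psi F y = ky := psi_y F
  have pt := psi_t F
  have hcV : x * y ∈ vee F 0 := by rw [mem_vee_iff, map_mul, px, py]; decide +kernel
  have hyV : y * y ∈ vee F 0 := by rw [mem_vee_iff, map_mul, py]; decide +kernel
  have htV : F.t ∈ vee F 0 := by rw [mem_vee_iff, pt]; decide +kernel
  have hnm : ∀ h : H, h ∈ normalizer (((vee F 0).map E.j : Subgroup H) : Set H) := fun h => by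
    rw [normalizer_eq_top]; trivial
  have hcen : ∀ c ∈ center S, ∀ h : H, h * E.j c * h⁻¹ = E.j c := fun c hc h => by
    obtain ⟨v, -, hv⟩ := exists_conj_eq (hnm h) (center_le_vee F 0 hc)
    rw [← hv, (of_not_base F (not_has_base F E hz) (Fused.of_eq hv)).2 hc]
  have hc : x * y ∈ center S := by rw [F.r_mul_r, mem_center_r]; simp
  let J : S →* H × K96 := E.j.prod (psi F)
  let D : Subgroup (H × K96) := normalizer (((vee F 0).map J : Subgroup _) : Set (H × K96))
  have hD : ∀ {h k}, (h, k) ∈ D → ∀ v ∈ vee F 0, ∃ v' ∈ vee F 0,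
      E.j v' = h * E.j v * h⁻¹ ∧ psi F v' = k * psi F v * k⁻¹ := fun {h k} hk v hv => by
    obtain ⟨v', hv', h1⟩ := mem_normalizer_conj hk (mem_map_of_mem J hv)
    exact ⟨v', hv', congrArg Prod.fst h1, congrArg Prod.snd h1⟩
  have hD1 : ∀ {h k}, (h, k) ∈ D → ∀ v ∈ vee F 0, ∀ w, k * psi F v * k⁻¹ = psi F w →
      h * E.j v * h⁻¹ = E.j w := fun {h k} hk v hv w hw => by
    obtain ⟨v', -, h1, h2⟩ := hD hk v hv
    rw [← h1, hinj (h2.trans hw)]
  have hD2 : ∀ {h}, (h, (1 : K96)) ∈ D → ∃ c ∈ center S, E.j c = h := fun {h} hk => by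
    have h1 : h ∈ centralizer (((vee F 0).map E.j : Subgroup H) : Set H) :=
      mem_centralizer_map.2 fun v hv => (hD1 hk v hv v (by simp)).symm
    obtain ⟨c, -, rfl⟩ := hC h1
    refine ⟨c, F.mem_center_of_mem_centralizer (not_comm_vee F 0) fun v hv => E.inj ?_, rfl⟩
    rw [map_mul, map_mul]
    exact h1 _ (mem_map_of_mem _ hv)
  have hS : ∀ s, (E.j s, psi F s) ∈ D := fun s => by
    have : (vee F 0).Normal := by
      have := hN.comap E.j
      rwa [comap_map_eq_self_of_injective E.inj] at this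
    exact le_normalizer_map J ⟨s, by rw [normalizer_eq_top]; trivial, rfl⟩
  have hall : ∀ h : H, ∃ k, (h, k) ∈ D := fun h => by
    obtain ⟨p, hp, hp'⟩ := exists_conj_eq (hnm h) htV
    obtain ⟨q, hq, hq'⟩ := exists_conj_eq (hnm h) hyV
    have key : ∀ a b : S, E.Cj h a b → ∀ c ∈ center S, a = c → psi F b = psi F c :=
      fun a b hab c hc hac => by
        subst hac
        rw [Cj.eq hab (hcen a hc h).symm]
    obtain ⟨k, hk1, hk2⟩ := f2 (psi F p) ((mem_vee_iff F p).1 hp)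
      (by rw [← map_mul, key _ _ (Cj.mul hp' hp') 1 (one_mem _) (hinj (by
        rw [map_mul, pt, map_one]; decide +kernel)), map_one])
      (psi F q) ((mem_vee_iff F q).1 hq)
      (by rw [← map_mul, key _ _ (Cj.mul hq' hq') 1 (one_mem _) (hinj (by
        simp only [map_mul, py, map_one]; decide +kernel)), map_one])
      (by rw [← map_mul, ← map_mul, ← map_mul, key _ _ (((Cj.mul hp' hq').mul hp').mul hq') _
        ((mem_center_r F (2 ^ (0 + 1), 2 ^ (0 + 1))).2 rfl) (hinj (by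
          simp only [map_mul, py, pt, psi_z]; decide +kernel)), psi_z])
    refine ⟨k, mem_normalizer_fintype ?_⟩
    rintro _ ⟨v, hv, rfl⟩
    obtain ⟨i, a, b, h1⟩ := f1 _ ((mem_vee_iff F v).1 hv)
    obtain rfl : v = (x * y) ^ i.val * (y * y) ^ a.val * F.t ^ b.val := hinj (by
      simp only [h1, map_mul, map_pow, px, py, pt])
    have h2 : ∀ g a b c : H × K96, ∀ i j l : ℕ, g * (a ^ i * b ^ j * c ^ l) * g⁻¹ =
        (g * a * g⁻¹) ^ i * (g * b * g⁻¹) ^ j * (g * c * g⁻¹) ^ l := fun g a b c i j l => by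
      simp only [conj_pow]; group
    rw [map_mul, map_mul, map_pow, map_pow, map_pow, h2]
    refine mul_mem (mul_mem (pow_mem (mem_map.2 ⟨_, hcV, Prod.ext (hcen _ hc h).symm ?_⟩) _)
      (pow_mem (mem_map.2 ⟨q, hq, Prod.ext hq' ?_⟩) _))
      (pow_mem (mem_map.2 ⟨p, hp, Prod.ext hp' ?_⟩) _)
    · change psi F (x * y) = k * psi F (x * y) * k⁻¹
      rw [map_mul, px, py, f3]
    · change psi F q = k * psi F (y * y) * k⁻¹
      rw [map_mul, py, hk2]
    · change psi F p = k * psi F F.t * k⁻¹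
      rw [pt, hk1]
  have h4 : ∀ c ∈ center S, c ^ 4 = 1 := fun c hc => by
    have h1 := orderOf_dvd_natCard _ hc
    rw [card_center F] at h1
    exact orderOf_dvd_iff_pow_eq_one.1 h1
  obtain ⟨A, hA, hA3⟩ : ∃ A, (A, ka) ∈ D ∧ A * A * A = 1 := by
    obtain ⟨g, ho, hg⟩ := exists_odd_ne_one hne
    obtain ⟨k, hk⟩ := hall g
    obtain ⟨s, hs, hs'⟩ := f5 k fun h => by
      obtain ⟨s, rfl⟩ := exists_psi F h
      obtain ⟨c, -, h2⟩ := hD2 (h := g * (E.j s)⁻¹) (by
        simpa using mul_mem hk (inv_mem (hS s)))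
      exact not_mem_range F E ho hg ⟨c * s, by rw [map_mul, h2, inv_mul_cancel_right]⟩
    obtain ⟨s, rfl⟩ := exists_psi F hs
    obtain ⟨s', h1⟩ := exists_psi F hs'
    have h2 := mul_mem (mul_mem (hS s) hk) (hS s')
    rw [Prod.mk_mul_mk, Prod.mk_mul_mk, h1, mul_inv_cancel_left] at h2
    generalize E.j s * g * E.j s' = B at h2
    have h3 := pow_mem h2 3
    have h5 := pow_mem h2 4
    rw [Prod.pow_mk, show ka ^ 3 = 1 by decide +kernel] at h3
    rw [Prod.pow_mk, show ka ^ 4 = ka by decide +kernel] at h5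
    obtain ⟨c, hc, h6⟩ := hD2 h3
    refine ⟨_, h5, ?_⟩
    calc B ^ 4 * B ^ 4 * B ^ 4 = (B ^ 3) ^ 4 := by group
      _ = 1 := by rw [← h6, ← map_pow, h4 c hc, map_one]
  have hR := relK_K96
  have hx := hS x
  have hy := hS y
  have ht := hS F.t
  rw [px] at hx
  rw [py] at hy
  rw [pt] at ht
  have tr : ∀ {a b : S}, psi F a = psi F b → E.j a = E.j b := fun h => by rw [hinj h]
  have hrel : RelK (E.j x) (E.j y) (E.j F.t) A := by
    refine ⟨?_, ?_, ?_, ?_, ?_, hA3, ?_, ?_, ?_, ?_⟩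
    · simpa only [map_mul, map_one] using tr (a := x * x * x * x) (b := 1) (by
        simp only [map_mul, map_one, px, hR.x4])
    · simpa only [map_mul, map_one] using tr (a := y * y * y * y) (b := 1) (by
        simp only [map_mul, map_one, py, hR.y4])
    · simpa only [map_mul] using tr (a := x * y) (b := y * x) (by
        simp only [map_mul, px, py, hR.xy])
    · simpa only [map_mul, map_one] using tr (a := F.t * F.t) (b := 1) (by
        simp only [map_mul, map_one, pt, hR.tt])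
    · simpa only [map_mul] using tr (a := F.t * x * F.t) (b := y) (by
        simp only [map_mul, px, py, pt, hR.tx])
    · rw [← map_mul, hcen _ hc]
    · rw [← map_mul]
      exact hD1 hA _ htV _ (by rw [map_mul, pt, py, hR.att])
    · rw [← map_inv, ← map_mul, ← map_mul, ← map_mul]
      exact hD1 hA _ (by rw [mem_vee_iff, map_mul, map_inv, px, py]; decide +kernel) _
        (by simp only [map_mul, map_inv, px, py, pt, hR.ai])
    · have h1 := mul_mem (mul_mem (mul_mem (mul_mem (mul_mem ht hA) ht) (inv_mem hx)) hA) hx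
      simp only [Prod.inv_mk, Prod.mk_mul_mk, hR.ta] at h1
      obtain ⟨c, hc, h2⟩ := hD2 h1
      have h3 : (E.j F.t)⁻¹ = E.j F.t := by
        rw [← map_inv]
        exact tr (by rw [map_inv, pt]; decide +kernel)
      have h5 : Commute (E.j c) ((E.j x)⁻¹ * A * E.j x)⁻¹ :=
        (mul_inv_eq_iff_eq_mul.1 (hcen c hc _)).symm
      have h6 : (E.j c * ((E.j x)⁻¹ * A * E.j x)⁻¹) ^ 3 = 1 := by
        rw [h2]
        calc _ = E.j F.t * (A * A * A) * (E.j F.t)⁻¹ := by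
              nth_rw 2 [← h3]
              rw [← pow_three', ← conj_pow]
              congr 1
              group
          _ = 1 := by rw [hA3, mul_one, mul_inv_cancel]
      have h7 : ((E.j x)⁻¹ * A * E.j x) ^ 3 = 1 := by
        calc _ = (E.j x)⁻¹ * (A * A * A) * E.j x := by rw [pow_three']; group
          _ = 1 := by rw [hA3, mul_one, inv_mul_cancel]
      rw [h5.mul_pow, inv_pow, h7, inv_one, mul_one] at h6
      have h8 : E.j c ^ 3 * E.j c = 1 := by rw [← pow_succ, ← map_pow, h4 c hc, map_one]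
      rwa [h6, one_mul, h2] at h8
  obtain ⟨θ, e1, e2, e3, e4⟩ := hrel.exists_hom
  have hθ : ∀ k, (θ k, k) ∈ D := fun k => by
    have h1 : D.comap (θ.prod (MonoidHom.id K96)) = ⊤ := eq_top_of_mem
      (show (θ kx, kx) ∈ D from e1 ▸ hx) (show (θ ky, ky) ∈ D from e2 ▸ hy)
      (show (θ kt, kt) ∈ D from e3 ▸ ht) (show (θ ka, ka) ∈ D from e4 ▸ hA)
    exact h1.ge (mem_top k)
  have hψ := comp_psi F e1 e2 e3
  refine ⟨MulEquiv.ofBijective θ ⟨(injective_iff_map_eq_one θ).2 fun k hk => ?_, fun h => ?_⟩,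
    e1, e2, e3⟩
  · have h1 := hθ k
    rw [hk] at h1
    have h2 : ∀ v ∈ vee F 0, k * psi F v * k⁻¹ = psi F v := fun v hv => by
      obtain ⟨v', -, h3, h4⟩ := hD h1 v hv
      rw [← h4, E.inj (a₂ := v) (h3.trans (by simp))]
    obtain ⟨s, rfl⟩ := exists_psi F (f4 k (pt ▸ h2 _ htV) (by
      simpa only [map_mul, py] using h2 _ hyV))
    rw [hψ, map_eq_one_iff _ E.inj] at hk
    rw [hk, map_one]
  · obtain ⟨k, hk⟩ := hall h
    obtain ⟨c, -, h2⟩ := hD2 (h := h * (θ k)⁻¹) (by simpa using mul_mem hk (inv_mem (hθ k)))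
    exact ⟨psi F c * k, by rw [map_mul, hψ, h2, inv_mul_cancel_right]⟩

end StepB

end Cfsg.Lib.Ngrp.U33
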