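import Cfsg.Agent.Ngrp.AmGeo
import Cfsg.Agent.Local.InvCent

/-!
# The shape of `M₁₂` does not occur: set-up
-/

set_option autoImplicit false

namespace Cfsg.Lib.Ngrp.M12
open Subgroup Cfsg.Lib.Trans Cfsg.Lib.Local Cfsg.Lib.Local.JC Cfsg.Lib.Ngrp.Geo
open scoped commutatorElement Pointwise

variable {G : Type*} [Group G]

/-- Normalisers grow in `p`-groups. -/
theorem climb [Finite G] {D B M : Subgroup G} (hD : IsPGroup 2 D) (hB : IsPGroup 2 B)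
    (hBD : B ≤ normalizer (D : Set G)) (hBM : B ≤ M) (hn : ¬ D ≤ M) :
    ∃ x ∈ D, x ∉ M ∧ ∀ b ∈ B, x * b * x⁻¹ * b⁻¹ ∈ D ⊓ M := by
  have hP : IsPGroup 2 (D ⊔ B : Subgroup G) := IsPGroup.to_sup_of_normal_left' hD hB hBD
  have hlt : (D ⊔ B) ⊓ M < D ⊔ B := lt_of_le_of_ne inf_le_left fun h =>
    hn (le_sup_left.trans (h.ge.trans inf_le_right))
  obtain ⟨n, ⟨hn1, hn2⟩, hn3⟩ := SetLike.exists_of_lt (lt_inf_normalizer hP hlt)
  have hn4 : n ∈ (D : Set G) * (B : Set G) := by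
    rw [← coe_mul_of_right_le_normalizer_left D B hBD]; exact hn1
  obtain ⟨x, hx, b, hb, rfl⟩ := hn4
  have hbT : ∀ b ∈ B, b ∈ (D ⊔ B) ⊓ M := fun b hb => ⟨mem_sup_right hb, hBM hb⟩
  have hxN : x ∈ normalizer (((D ⊔ B) ⊓ M : Subgroup G) : Set G) := by
    have := mul_mem hn2 (Subgroup.inv_mem _ (le_normalizer (hbT b hb)))
    simpa using this
  refine ⟨x, hx, fun hxM => hn3 ⟨hn1, mul_mem hxM (hBM hb)⟩, fun c hc => ⟨?_, ?_⟩⟩
  · have := mul_mem hx (mem_normalizer_conj (hBD hc) (inv_mem hx))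
    simpa [mul_assoc] using this
  · exact mul_mem (mem_normalizer_conj hxN (hbT c hc)).2 (M.inv_mem (hBM hc))

/-- Two non-conjugate involutions commute with a common involution. -/
theorem exists_comm_inv [Finite G] {p h : G} (hp : p * p = 1) (hh : h * h = 1)
    (hn : ¬ IsConj h p) : ∃ i : G, i * i = 1 ∧ i ≠ 1 ∧ i * p = p * i ∧ i * h = h * i := by
  have hp' : p⁻¹ = p := inv_eq_of_mul_eq_one_right hp
  have hh' : h⁻¹ = h := inv_eq_of_mul_eq_one_right hh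
  have e1 : p * (p * h) * p⁻¹ = (p * h)⁻¹ := by
    rw [← mul_assoc, hp, one_mul, mul_inv_rev, hh']
  have e2 : h * (p * h) * h⁻¹ = (p * h)⁻¹ := by
    rw [mul_inv_rev, hh', hp', mul_assoc, mul_assoc, hh, mul_one]
  have f1 : ∀ k : ℕ, p * (p * h) ^ k * p⁻¹ = ((p * h) ^ k)⁻¹ := fun k => by
    rw [← conj_pow, e1, inv_pow]
  have f2 : ∀ k : ℕ, h * (p * h) ^ k * h⁻¹ = ((p * h) ^ k)⁻¹ := fun k => by
    rw [← conj_pow, e2, inv_pow]
  have hpos := orderOf_pos (p * h)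
  have ho := pow_orderOf_eq_one (p * h)
  rcases Nat.even_or_odd (orderOf (p * h)) with ⟨k, hk⟩ | ⟨k, hk⟩
  · have hs : (p * h) ^ k * (p * h) ^ k = 1 := by rw [← pow_add, ← hk, ho]
    have hi : ((p * h) ^ k)⁻¹ = (p * h) ^ k := inv_eq_of_mul_eq_one_right hs
    refine ⟨(p * h) ^ k, hs, pow_ne_one_of_lt_orderOf (by omega) (by omega), ?_, ?_⟩
    · have := f1 k; rw [hi, mul_inv_eq_iff_eq_mul] at this; exact this.symm
    · have := f2 k; rw [hi, mul_inv_eq_iff_eq_mul] at this; exact this.symm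
  · refine absurd (isConj_iff.2 ⟨(p * h) ^ (k + 1), ?_⟩) hn
    have e3 : (p * h) ^ (k + 1) * (p * h) ^ (k + 1) = p * h := by
      rw [← pow_add, show k + 1 + (k + 1) = orderOf (p * h) + 1 by omega, pow_succ, ho, one_mul]
    calc (p * h) ^ (k + 1) * h * ((p * h) ^ (k + 1))⁻¹
        = (p * h) ^ (k + 1) * (h * (h * (p * h) ^ (k + 1) * h⁻¹)) := by rw [f2, mul_assoc]
      _ = (p * h) ^ (k + 1) * (p * h) ^ (k + 1) * h⁻¹ := by
          rw [mul_assoc h, ← mul_assoc h h, hh, one_mul, mul_assoc]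
      _ = p := by rw [e3, mul_inv_cancel_right]

theorem comm_mul_left (a b c : G) : ⁅a * b, c⁆ = a * ⁅b, c⁆ * a⁻¹ * ⁅a, c⁆ := by
  simp only [commutatorElement_def]; group

theorem comm_mul_right (a b c : G) : ⁅a, b * c⁆ = ⁅a, b⁆ * (b * ⁅a, c⁆ * b⁻¹) := by
  simp only [commutatorElement_def]; group

theorem conj_comm (g a b : G) : g * ⁅a, b⁆ * g⁻¹ = ⁅g * a * g⁻¹, g * b * g⁻¹⁆ := by
  simp only [commutatorElement_def]; group

theorem idx_comm {A B : Subgroup G} (h : IdxLeTwo A B) {s v : G}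
    (hA : s ∈ normalizer (A : Set G)) (hB : s ∈ normalizer (B : Set G)) (hv : v ∈ B) :
    ⁅s, v⁆ ∈ A := by
  rw [commutatorElement_def, h.mul_mem_iff (mem_normalizer_conj hB hv) (inv_mem hv), inv_mem_iff]
  exact (mem_normalizer_iff.1 hA v).symm

theorem idx_of_card [Finite G] {A B : Subgroup G} (h : A ≤ B)
    (hc : Nat.card B = Nat.card A * 2) : IdxLeTwo A B := by
  have := card_mul_relIndex h
  rw [hc] at this
  exact idxLeTwo_of_relIndex (Nat.eq_of_mul_eq_mul_left Nat.card_pos this)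

/-- A point of the line `Y` with three lines through it. -/
structure Loc (p : G) (Y : Subgroup G) : Prop where
  fl : Fl p Y
  ea : IsElementaryAbelian 2 (UU p)
  card : Nat.card (UU p) = 8

namespace Loc
variable {p : G} {Y : Subgroup G}

theorem conj (L : Loc p Y) {g : G} (hg : g ∈ normalizer (Y : Set G)) : Loc (g * p * g⁻¹) Y :=
  ⟨L.fl.conj_of_norm hg, by rw [← cj_UU]; exact ea_cj' L.ea g, by rw [← cj_UU, card_cj, L.card]⟩

theorem sq (L : Loc p Y) {v : G} (hv : v ∈ UU p) : v * v = 1 := by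
  rw [← pow_two]; exact L.ea.2 v hv

theorem comm (L : Loc p Y) {v v' : G} (hv : v ∈ UU p) (hv' : v' ∈ UU p) : v * v' = v' * v :=
  ea_comm' L.ea hv hv'

theorem cent (L : Loc p Y) {v : G} (hv : v ∈ UU p) : v ∈ centralizer (Y : Set G) :=
  fun _ hx => L.comm (L.fl.le_UU hx) hv

variable [Finite G]

theorem idx (L : Loc p Y) : IdxLeTwo Y (UU p) :=
  idx_of_card L.fl.le_UU (by rw [L.card, L.fl.card])

theorem idxY (L : Loc p Y) : IdxLeTwo (zpowers p) Y :=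
  idx_of_card (zpowers_le.2 L.fl.mem) (by rw [L.fl.pt.card_zpowers, L.fl.card])

theorem comm_mem (L : Loc p Y) {s v : G} (hs : s ∈ Cz p) (hM : s ∈ normalizer (Y : Set G))
    (hv : v ∈ UU p) : ⁅s, v⁆ ∈ Y := idx_comm L.idx hM (Cz_le_normalizer_UU p hs) hv

theorem commY (L : Loc p Y) {s v : G} (hs : s ∈ Cz p) (hM : s ∈ normalizer (Y : Set G))
    (hv : v ∈ Y) : ⁅s, v⁆ ∈ zpowers p := idx_comm L.idxY (Cz_le_normalizer_zpowers p hs) hM hv

theorem mem_XX (L : Loc p Y) {s v : G} (hs : s ∈ Cz p) (hM : s ∈ normalizer (Y : Set G))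
    (hv : v ∈ UU p) (hY : v ∉ Y) : s ∈ XX p ↔ ⁅s, v⁆ ∈ zpowers p := by
  refine ⟨fun h => comm_mem_of_XX h hv, fun h => Geo.mem_XX.2 ⟨hs, fun x hx => ?_⟩⟩
  by_cases hxY : x ∈ Y
  · exact L.commY hs hM hxY
  · have h1 : v⁻¹ * x ∈ Y := L.idx _ (inv_mem hv) _ hx (by rwa [inv_mem_iff]) hxY
    have e : x = v * (v⁻¹ * x) := by group
    rw [e, comm_mul_right]
    exact mul_mem h (mem_normalizer_conj (Cz_le_normalizer_zpowers p (UU_le_Cz p hv))
      (L.commY hs hM h1))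

theorem idxX (L : Loc p Y) : IdxLeTwo (XX p) (Cz p ⊓ normalizer (Y : Set G)) := by
  obtain ⟨v, hv, hY⟩ : ∃ v ∈ UU p, v ∉ Y := by
    by_contra! h
    exact L.fl.ne_UU (le_antisymm h L.fl.le_UU)
  rintro s ⟨hs, hM⟩ t ⟨ht, hM'⟩ h1 h2
  rw [L.mem_XX hs hM hv hY] at h1
  rw [L.mem_XX ht hM' hv hY] at h2
  rw [L.mem_XX (mul_mem hs ht) (mul_mem hM hM') hv hY, comm_mul_left]
  exact L.idxY _ (mem_normalizer_conj hM (L.comm_mem ht hM' hv)) _ (L.comm_mem hs hM hv)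
    (fun h => h2 ((mem_normalizer_iff.1 (Cz_le_normalizer_zpowers p hs) _).2 h)) h1

end Loc

/-- The configuration. -/
structure St (S : Sylow 2 G) (Y : Subgroup G) (z y u a w h t g d : G) : Prop where
  nat : NatG S z Y
  loc : Loc z Y
  cm : ∀ c ∈ Cz z, c ∈ normalizer (Y : Set G) → c ∈ (S : Subgroup G)
  yY : y ∈ Y
  y1 : y ≠ 1
  yz : y ≠ z
  gz : g * z * g⁻¹ = y
  gy : g * y * g⁻¹ = z * y
  dC : d ∈ Cz z
  dM : d ∉ normalizer (Y : Set G)
  du : d * y * d⁻¹ = u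
  gu : g * u * g⁻¹ = a
  ga : g * a * g⁻¹ = w
  gw : g * w * g⁻¹ = u
  g3 : g * g * g = 1
  hh : u * a * w * y = h
  ht : d⁻¹ * h * d = t
  three : ∃ m ∈ normalizer (Y : Set G), ¬ UU (m * z * m⁻¹) ≤ XX z

theorem exists_st [Finite G] {S : Sylow 2 G} {z : G} {Y : Subgroup G} (h : NatB3 S z Y)
    (hU : Nat.card (natU z Y) = 8) : ∃ y u a w h t g d, St S Y z y u a w h t g d := by
  have hn := h.toNatG
  have hf := nat_fl hn
  have hcm : ∀ c ∈ Cz z, c ∈ normalizer (Y : Set G) → c ∈ (S : Subgroup G) := by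
    have h1 : (S : Subgroup G).relIndex (normalizer (Y : Set G)) = 3 := by
      have := card_mul_relIndex hn.norm
      rw [h.cardM, mul_comm] at this
      exact Nat.eq_of_mul_eq_mul_right Nat.card_pos this
    have h2 := relIndex_mul_relIndex (S : Subgroup G) (Cz z ⊓ normalizer (Y : Set G))
      (normalizer (Y : Set G)) (le_inf (nat_le_Cz hn) hn.norm) inf_le_right
    rw [h1] at h2
    rcases (Nat.dvd_prime Nat.prime_three).1 (Dvd.intro _ h2) with h3 | h3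
    · exact fun c h4 h5 => relIndex_eq_one.1 h3 ⟨h4, h5⟩
    · rw [h3] at h2
      have h4 : (Cz z ⊓ normalizer (Y : Set G)).relIndex (normalizer (Y : Set G)) = 1 := by omega
      exact absurd ((relIndex_eq_one.1 h4).trans inf_le_left) hn.act
  obtain ⟨y, hy, hY⟩ := hf.exists_col
  obtain ⟨g, ho, g1, g2⟩ := hy.exists_rot_odd
  have g3 : g * (z * y) * g⁻¹ = z := by
    rw [← conj_mul, g1, g2, hy.comm, ← mul_assoc, hy.sq, one_mul]
  have k1 : g * g * g ∈ Cz z := mem_Cz'.2 (by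
    calc g * g * g * z * (g * g * g)⁻¹ = g * (g * (g * z * g⁻¹) * g⁻¹) * g⁻¹ := by group
      _ = z := by rw [g1, g2, g3])
  have k2 : g * g * g * y * (g * g * g)⁻¹ = y := by
    calc g * g * g * y * (g * g * g)⁻¹ = g * (g * (g * y * g⁻¹) * g⁻¹) * g⁻¹ := by group
      _ = y := by rw [g2, g3, g1]
  have k3 : g * g * g = 1 := by
    obtain ⟨k, hk⟩ := S.isPGroup' ⟨_, hcm _ k1 (hY ▸ (hy.mem_normalizer_iff k1).2 (Or.inl k2))⟩
    have hk' : (g * g * g) ^ 2 ^ k = 1 := by simpa using congrArg Subtype.val hk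
    have e : g * g * g = g ^ 3 := by rw [pow_succ, pow_two]
    have d1 : orderOf (g ^ 3) ∣ orderOf g := orderOf_pow_dvd 3
    rw [e] at hk' ⊢
    exact orderOf_eq_one_iff.1 (Nat.eq_one_of_dvd_coprimes
      (Nat.Coprime.pow_right k (Nat.coprime_two_right.2 ho)) d1 (orderOf_dvd_of_pow_eq_one hk'))
  obtain ⟨d, dC, dM⟩ := SetLike.not_le_iff_exists.1 hn.notn
  obtain ⟨m, hm, hm'⟩ := h.three
  refine ⟨y, _, _, _, _, _, g, d, hn, ⟨hf, natU_eq hn ▸ h.eaU, natU_eq hn ▸ hU⟩, hcm,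
    hY ▸ hy.mem_four.2 (by simp), hy.ne_one, hy.ne, g1, g2, dC, dM, rfl, rfl, rfl, ?_, k3,
    rfl, rfl, m, hm, fun hh => hm' fun x hx => ?_⟩
  · calc _ = g * g * g * (d * y * d⁻¹) * (g * g * g)⁻¹ := by group
      _ = _ := by rw [k3]; group
  · rw [natU_eq hn, cj_UU] at hx
    obtain ⟨h1, h2⟩ := Geo.mem_XX.1 (hh hx)
    exact (h.ker x h1).1 (natU_eq hn ▸ h2)

/-- `e` acts fixed-point-freely on the lines through `z`. -/
def Rot (z e : G) : Prop := e ∈ Cz z ∧ ∀ v ∈ UU z, ⁅e, v⁆ ∈ zpowers z → v ∈ zpowers z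

theorem Rot.conj {z e c : G} (h : Rot z e) (hc : c ∈ Cz z) : Rot z (c * e * c⁻¹) := by
  refine ⟨mul_mem (mul_mem hc h.1) (inv_mem hc), fun v hv h1 => ?_⟩
  have hn := Cz_le_normalizer_zpowers z hc
  have h2 := h.2 (c⁻¹ * v * c⁻¹⁻¹) (conj_mem_UU_of_mem (inv_mem hc) hv)
    ((mem_normalizer_iff.1 hn _).2 (by rw [conj_comm]; simpa [mul_assoc] using h1))
  have := mem_normalizer_conj hn h2
  simpa [mul_assoc] using this

namespace St
variable [Finite G] {S : Sylow 2 G} {Y : Subgroup G} {z y u a w h t g d : G}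
  (H : St S Y z y u a w h t g d)
include H

theorem col : Col z y := H.loc.fl.col H.yY H.y1 H.yz

theorem memY {x : G} : x ∈ Y ↔ x = 1 ∨ x = z ∨ x = y ∨ x = z * y :=
  H.loc.fl.mem_iff H.yY H.y1 H.yz

omit [Finite G] in
theorem zY : z ∈ Y := H.nat.mem

omit [Finite G] in
theorem zyY : z * y ∈ Y := mul_mem H.zY H.yY

omit [Finite G] in
theorem z1 : z ≠ 1 := H.nat.ne

omit [Finite G] in
theorem zz : z * z = 1 := H.loc.fl.sq

theorem yy : y * y = 1 := H.col.sq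

theorem yz' : y * z = z * y := H.col.comm.symm

theorem zy1 : z * y ≠ 1 := H.col.mul_ne_one

theorem zyz : z * y ≠ z := H.col.mul_ne_left

theorem zyy : z * y ≠ y := H.col.mul_ne_right

omit [Finite G] in
theorem sqY {x : G} (hx : x ∈ Y) : x * x = 1 := H.loc.sq (H.loc.fl.le_UU hx)

omit [Finite G] in
theorem invY {x : G} (hx : x ∈ Y) : x⁻¹ = x := inv_eq_of_mul_eq_one_right (H.sqY hx)

theorem gzy : g * (z * y) * g⁻¹ = z := by
  rw [← conj_mul, H.gz, H.gy, ← H.yz', ← mul_assoc, H.yy, one_mul]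

theorem memR {r : G} : r ∈ centralizer (Y : Set G) ↔ r ∈ Cz z ∧ r ∈ Cz y := by
  rw [← H.loc.fl.four_eq H.yY H.y1 H.yz]; exact H.col.mem_centralizer_iff

theorem memM {m : G} (h1 : m * z * m⁻¹ ∈ Y) (h2 : m * y * m⁻¹ ∈ Y) :
    m ∈ normalizer (Y : Set G) := by
  refine mem_normalizer_of_cj_le (cj_le_iff.2 fun x hx => ?_)
  rcases H.memY.1 hx with rfl | rfl | rfl | rfl
  · simp
  · exact h1
  · exact h2
  · rw [← conj_mul]; exact mul_mem h1 h2

theorem gM : g ∈ normalizer (Y : Set G) := H.memM (H.gz ▸ H.yY) (H.gy ▸ H.zyY)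

theorem locy : Loc y Y := H.gz ▸ H.loc.conj H.gM

theorem loczy : Loc (z * y) Y := H.gy ▸ H.locy.conj H.gM

theorem locp {p : G} (hp : p ∈ Y) (h1 : p ≠ 1) : Loc p Y := by
  rcases H.memY.1 hp with rfl | rfl | rfl | rfl
  exacts [absurd rfl h1, H.loc, H.locy, H.loczy]

omit [Finite G] in
theorem SC : (S : Subgroup G) ≤ Cz z := nat_le_Cz H.nat

omit [Finite G] in
theorem SM : (S : Subgroup G) ≤ normalizer (Y : Set G) := H.nat.norm

omit [Finite G] in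
theorem RS : centralizer (Y : Set G) ≤ (S : Subgroup G) := fun r hr =>
  H.cm r (le_Cz_of_mem H.zY hr) (centralizer_le_normalizer _ hr)

theorem XS : XX z ≤ (S : Subgroup G) := fun r hr => H.cm r (XX_le_Cz z hr) (H.loc.fl.XX_le hr)

omit [Finite G] in
theorem YR : Y ≤ centralizer (Y : Set G) := fun _ hx => H.loc.cent (H.loc.fl.le_UU hx)

omit [Finite G] H in
theorem cR {r x : G} (hr : r ∈ centralizer (Y : Set G)) (hx : x ∈ Y) : r * x * r⁻¹ = x :=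
  conj_eq_of_mem_centralizer hr hx

omit [Finite G] H in
theorem conjR {m r : G} (hm : m ∈ normalizer (Y : Set G)) (hr : r ∈ centralizer (Y : Set G)) :
    m * r * m⁻¹ ∈ centralizer (Y : Set G) :=
  mem_normalizer_conj (normalizer_le_normalizer_centralizer Y hm) hr

theorem Sy {s : G} (hs : s ∈ (S : Subgroup G)) : s * y * s⁻¹ = y ∨ s * y * s⁻¹ = z * y := by
  have := H.SM hs
  rw [← H.loc.fl.four_eq H.yY H.y1 H.yz] at this
  exact (H.col.mem_normalizer_iff (H.SC hs)).1 this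

theorem Sy' {s : G} (hs : s ∈ (S : Subgroup G)) (hR : s ∉ centralizer (Y : Set G)) :
    s * y * s⁻¹ = z * y :=
  (H.Sy hs).resolve_left fun e => hR (H.memR.2 ⟨H.SC hs, mem_Cz'.2 e⟩)

theorem Szy {s : G} (hs : s ∈ (S : Subgroup G)) (hR : s ∉ centralizer (Y : Set G)) :
    s * (z * y) * s⁻¹ = y := by
  rw [← conj_mul, H.Sy' hs hR, Cz_conj (H.SC hs), ← mul_assoc, H.zz, one_mul]

theorem idxR : IdxLeTwo (centralizer (Y : Set G)) (S : Subgroup G) := fun s hs s' hs' h1 h2 =>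
  H.memR.2 ⟨H.SC (mul_mem hs hs'), mem_Cz'.2 (by
    calc _ = s * (s' * y * s'⁻¹) * s⁻¹ := by group
      _ = y := by rw [H.Sy' hs' h2, H.Szy hs h1])⟩

theorem out {c : G} (hc : c ∈ Cz z) (hM : c ∉ normalizer (Y : Set G)) {x : G} (hx : x ∈ Y)
    (h1 : x ≠ 1) (h2 : x ≠ z) : c * x * c⁻¹ ∉ Y := fun hh => by
  have hz : c * z * c⁻¹ ∈ Y := by rw [Cz_conj hc]; exact H.zY
  refine hM (H.memM hz ?_)
  rcases H.memY.1 hx with rfl | rfl | rfl | rfl
  · exact absurd rfl h1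
  · exact absurd rfl h2
  · exact hh
  · rw [← conj_mul] at hh; exact (Y.mul_mem_cancel_left hz).1 hh

omit [Finite G] in
theorem uU : u ∈ UU z := H.du ▸ conj_mem_UU_of_mem H.dC (H.loc.fl.le_UU H.yY)

theorem uY : u ∉ Y := H.du ▸ H.out H.dC H.dM H.yY H.y1 H.yz

omit [Finite G] in
theorem aU : a ∈ UU y := by rw [← H.gu, ← H.gz]; exact conj_mem_UU g H.uU

omit [Finite G] in
theorem wU : w ∈ UU (z * y) := by rw [← H.ga, ← H.gy]; exact conj_mem_UU g H.aU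

theorem aY : a ∉ Y := fun h => H.uY ((mem_normalizer_iff.1 H.gM u).2 (H.gu ▸ h))

theorem wY : w ∉ Y := fun h => H.aY ((mem_normalizer_iff.1 H.gM a).2 (H.ga ▸ h))

omit [Finite G] in
theorem uR : u ∈ centralizer (Y : Set G) := H.loc.cent H.uU

theorem aR : a ∈ centralizer (Y : Set G) := H.locy.cent H.aU

theorem wR : w ∈ centralizer (Y : Set G) := H.loczy.cent H.wU

theorem not_le : ¬ UU y ≤ XX z ∧ ¬ UU (z * y) ≤ XX z := by
  obtain ⟨s, hs, e⟩ := H.col.exists_swap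
  have e' : cj s (UU y) = UU (z * y) := by rw [cj_UU, e]
  have e'' : cj s (XX z) = XX z := by rw [cj_XX, Cz_conj hs]
  have key : UU y ≤ XX z ↔ UU (z * y) ≤ XX z := by rw [← e', ← cj_le_cj (g := s), e'']
  obtain ⟨m, hm, hm'⟩ := H.three
  rcases H.memY.1 (mem_normalizer_conj hm H.zY) with h | h | h | h
  · exact absurd h (conj_ne_one H.z1)
  · rw [h] at hm'; exact absurd (UU_le_XX z) hm'
  · rw [h] at hm'; exact ⟨hm', key.not.1 hm'⟩
  · rw [h] at hm'; exact ⟨key.not.2 hm', hm'⟩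

theorem YX {p : G} (hp : p ∈ Y) (h1 : p ≠ 1) : Y ≤ XX p :=
  (H.locp hp h1).fl.le_UU.trans (UU_le_XX p)

theorem notX {p v : G} (L : Loc p Y) (hn : ¬ UU p ≤ XX z) (hv : v ∈ UU p) (hY : v ∉ Y) :
    v ∉ XX z := fun hX => hn fun x hx => by
  by_cases hxY : x ∈ Y
  · exact H.YX H.zY H.z1 hxY
  · exact ((XX z).mul_mem_cancel_left hX).1 (H.YX H.zY H.z1 (L.idx _ hv _ hx hY hxY))

theorem aX : a ∉ XX z := H.notX H.locy H.not_le.1 H.aU H.aY

theorem wX : w ∉ XX z := H.notX H.loczy H.not_le.2 H.wU H.wY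

omit [Finite G] in
theorem gX {x : G} : g * x * g⁻¹ ∈ XX y ↔ x ∈ XX z := by rw [← H.gz, ← cj_XX, conj_mem_cj]

omit [Finite G] in
theorem gX' {x : G} : g * x * g⁻¹ ∈ XX (z * y) ↔ x ∈ XX y := by
  rw [← H.gy, ← cj_XX, conj_mem_cj]

theorem gX'' {x : G} : g * x * g⁻¹ ∈ XX z ↔ x ∈ XX (z * y) := by
  rw [← conj_mem_cj (g := g) (T := XX (z * y)), cj_XX, H.gzy]

theorem Xu {r : G} (hr : r ∈ (S : Subgroup G)) : r ∈ XX z ↔ ⁅r, u⁆ = 1 ∨ ⁅r, u⁆ = z := by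
  rw [H.loc.mem_XX (H.SC hr) (H.SM hr) H.uU H.uY, mem_zpowers_two H.zz]

theorem Xa {r : G} (hr : r ∈ centralizer (Y : Set G)) : r ∈ XX y ↔ ⁅r, a⁆ = 1 ∨ ⁅r, a⁆ = y := by
  rw [H.locy.mem_XX (le_Cz_of_mem H.yY hr) (centralizer_le_normalizer _ hr) H.aU H.aY,
    mem_zpowers_two H.yy]

theorem Xw {r : G} (hr : r ∈ centralizer (Y : Set G)) :
    r ∈ XX (z * y) ↔ ⁅r, w⁆ = 1 ∨ ⁅r, w⁆ = z * y := by
  rw [H.loczy.mem_XX (le_Cz_of_mem H.zyY hr) (centralizer_le_normalizer _ hr) H.wU H.wY,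
    mem_zpowers_two (H.sqY H.zyY)]

theorem cu {r : G} (hr : r ∈ (S : Subgroup G)) {v : G} (hv : v ∈ UU z) : ⁅r, v⁆ ∈ Y :=
  H.loc.comm_mem (H.SC hr) (H.SM hr) hv

theorem cp {r p v : G} (hr : r ∈ centralizer (Y : Set G)) (hp : p ∈ Y) (h1 : p ≠ 1)
    (hv : v ∈ UU p) : ⁅r, v⁆ ∈ Y :=
  (H.locp hp h1).comm_mem (le_Cz_of_mem hp hr) (centralizer_le_normalizer _ hr) hv

theorem au : ⁅a, u⁆ = z * y := by
  have h1 := (H.Xu (H.RS H.aR)).not.1 H.aX
  have h2 := (H.Xa H.uR).not.1 (H.gw ▸ H.gX.not.2 H.wX)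
  have h3 := H.cu (H.RS H.aR) H.uU
  rw [← commutatorElement_inv, H.invY h3] at h2
  rcases H.memY.1 h3 with h | h | h | h <;> simp_all

theorem wa : ⁅w, a⁆ = z := by rw [← H.ga, ← H.gu, ← conj_comm, H.gu, H.au, H.gzy]

theorem uw : ⁅u, w⁆ = y := by rw [← H.gw, ← H.ga, ← conj_comm, H.ga, H.wa, H.gz]

/-- Normal form rules in the group generated by `u, a, w`. -/
theorem nf0 : u * u = 1 ∧ a * a = 1 ∧ w * w = 1 ∧ z * z = 1 ∧ y * y = 1 ∧
    a * u = u * (a * (z * y)) ∧ w * u = u * (w * y) ∧ w * a = a * (w * z) ∧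
    z * u = u * z ∧ z * a = a * z ∧ z * w = w * z ∧ y * u = u * y ∧ y * a = a * y ∧
    y * w = w * y ∧ y * z = z * y := by
  have c := fun {r x : G} (hr : r ∈ centralizer (Y : Set G)) (hx : x ∈ Y) => hr x hx
  refine ⟨H.loc.sq H.uU, H.locy.sq H.aU, H.loczy.sq H.wU, H.zz, H.yy, ?_, ?_, ?_,
    c H.uR H.zY, c H.aR H.zY, c H.wR H.zY, c H.uR H.yY, c H.aR H.yY, c H.wR H.yY, H.yz'⟩
  · rw [← mul_assoc, ← c (mul_mem H.uR H.aR) H.zyY, ← H.au, commutatorElement_def]; group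
  · rw [← mul_assoc, eq_comm, ← mul_inv_eq_one, mul_assoc u w, ← c H.wR H.yY, ← mul_assoc,
      ← c H.uR H.yY, mul_assoc, mul_assoc, ← H.yy, ← H.uw, commutatorElement_def]
    group
  · rw [← mul_assoc, ← c (mul_mem H.aR H.wR) H.zY, ← H.wa, commutatorElement_def]; group

theorem nf : (u * u = 1 ∧ a * a = 1 ∧ w * w = 1 ∧ z * z = 1 ∧ y * y = 1 ∧
    a * u = u * (a * (z * y)) ∧ w * u = u * (w * y) ∧ w * a = a * (w * z) ∧
    z * u = u * z ∧ z * a = a * z ∧ z * w = w * z ∧ y * u = u * y ∧ y * a = a * y ∧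
    y * w = w * y ∧ y * z = z * y) ∧
    (u⁻¹ = u ∧ a⁻¹ = a ∧ w⁻¹ = w ∧ z⁻¹ = z ∧ y⁻¹ = y ∧ h = u * (a * (w * y))) ∧
    ((∀ x : G, 1 * x = x) ∧ (∀ x : G, x * 1 = x) ∧ (1 : G)⁻¹ = 1 ∧
      (∀ x x' : G, (x * x')⁻¹ = x'⁻¹ * x⁻¹) ∧ (∀ x x' x'' : G, x * x' * x'' = x * (x' * x'')) ∧
      (∀ x x' : G, ⁅x, x'⁆ = x * x' * x⁻¹ * x'⁻¹)) ∧
    ∀ x, u * (u * x) = x ∧ a * (a * x) = x ∧ w * (w * x) = x ∧ z * (z * x) = x ∧
    y * (y * x) = x ∧ a * (u * x) = u * (a * (z * (y * x))) ∧ w * (u * x) = u * (w * (y * x)) ∧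
    w * (a * x) = a * (w * (z * x)) ∧ z * (u * x) = u * (z * x) ∧ z * (a * x) = a * (z * x) ∧
    z * (w * x) = w * (z * x) ∧ y * (u * x) = u * (y * x) ∧ y * (a * x) = a * (y * x) ∧
    y * (w * x) = w * (y * x) ∧ y * (z * x) = z * (y * x) := by
  obtain ⟨h1, h2, h3, h4, h5, h6, h7, h8, h9, h10, h11, h12, h13, h14, h15⟩ := H.nf0
  refine ⟨H.nf0, ⟨inv_eq_of_mul_eq_one_right h1, inv_eq_of_mul_eq_one_right h2,
    inv_eq_of_mul_eq_one_right h3, inv_eq_of_mul_eq_one_right h4, inv_eq_of_mul_eq_one_right h5,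
    by rw [← H.hh]; simp only [mul_assoc]⟩,
    ⟨one_mul, mul_one, inv_one, mul_inv_rev, mul_assoc, commutatorElement_def⟩, fun x => ?_⟩
  refine ⟨?_, ?_, ?_, ?_, ?_, ?_, ?_, ?_, ?_, ?_, ?_, ?_, ?_, ?_, ?_⟩ <;> rw [← mul_assoc]
  · rw [h1, one_mul]
  · rw [h2, one_mul]
  · rw [h3, one_mul]
  · rw [h4, one_mul]
  · rw [h5, one_mul]
  · rw [h6]; simp only [mul_assoc]
  · rw [h7]; simp only [mul_assoc]
  · rw [h8]; simp only [mul_assoc]
  · rw [h9, mul_assoc]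
  · rw [h10, mul_assoc]
  · rw [h11, mul_assoc]
  · rw [h12, mul_assoc]
  · rw [h13, mul_assoc]
  · rw [h14, mul_assoc]
  · rw [h15, mul_assoc]

theorem h2 : h * h = 1 := by simp only [H.nf]

theorem hu : ⁅h, u⁆ = z := by simp only [H.nf]

theorem ha : ⁅h, a⁆ = y := by simp only [H.nf]

theorem hw : ⁅h, w⁆ = z * y := by simp only [H.nf]

theorem gh : g * h * g⁻¹ = h := by
  rw [← H.hh, ← conj_mul, ← conj_mul, ← conj_mul, H.gu, H.ga, H.gw, H.gy]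
  simp only [H.nf]

theorem hR : h ∈ centralizer (Y : Set G) :=
  H.hh ▸ mul_mem (mul_mem (mul_mem H.uR H.aR) H.wR) (H.YR H.yY)

theorem hY : h ∉ Y := fun hh => H.z1 (by
  rw [← H.hu, commutatorElement_eq_one_iff_mul_comm]; exact H.uR h hh)

theorem h1 : h ≠ 1 := fun e => H.hY (e ▸ one_mem _)

theorem hX : h ∈ XX z := (H.Xu (H.RS H.hR)).2 (Or.inr H.hu)

theorem t2 : t * t = 1 := by
  rw [← H.ht]
  calc _ = d⁻¹ * (h * h) * d := by group
    _ = 1 := by rw [H.h2]; group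

theorem tX : t ∈ XX z := by
  have := conj_mem_XX_of_mem (inv_mem H.dC) H.hX
  rwa [inv_inv, H.ht] at this

theorem tS : t ∈ (S : Subgroup G) := H.XS H.tX

theorem tR : t ∉ centralizer (Y : Set G) := fun hh => H.z1 (by
  have e := cR hh H.yY
  rw [← H.hu, ← H.du, commutatorElement_def]
  calc _ = d * (d⁻¹ * h * d * y * (d⁻¹ * h * d)⁻¹ * y⁻¹) * d⁻¹ := by group
    _ = 1 := by rw [H.ht, e]; group)

theorem av {v : G} (hv : v ∈ UU z) (hY : v ∉ Y) : ⁅a, v⁆ = z * y := by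
  have h1 : u⁻¹ * v ∈ Y := H.loc.idx _ (inv_mem H.uU) _ hv (by rw [inv_mem_iff]; exact H.uY) hY
  have e : v = u * (u⁻¹ * v) := by group
  rw [e, comm_mul_right, H.au, commutatorElement_eq_one_iff_mul_comm.2 (H.aR _ h1).symm]
  group

omit [Finite G] in
theorem mx {D : Subgroup G} (hD : IsPGroup 2 D)
    (hM : normalizer (Y : Set G) ≤ normalizer (D : Set G)) {l : G}
    (hl : l ∈ normalizer (D : Set G)) (hl' : l ∉ normalizer (Y : Set G)) : D = ⊥ := by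
  by_contra h
  exact hl' (H.nat.max D hD h hM hl)

theorem rotM {P : Subgroup G} (hP : IsPGroup 2 P) (hM : P ≤ normalizer (Y : Set G)) {k : G}
    (k1 : k * z * k⁻¹ = y) (k2 : k * y * k⁻¹ = z * y) (hk : k ∈ normalizer (P : Set G)) :
    P ≤ centralizer (Y : Set G) := by
  obtain ⟨m, hm, hle⟩ := (isSylowIn_of_le S H.SM).exists_cj_le hP hM
  have h1 : P ≤ Cz (m⁻¹ * z * m⁻¹⁻¹) := by
    rw [← cj_Cz, ← cj_le_iff_le_cj_inv]; exact hle.trans H.SC
  have h2 : ∀ x, P ≤ Cz x → P ≤ Cz (k * x * k⁻¹) := fun x hx => by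
    rw [← cj_Cz, ← cj_eq_of_mem_normalizer hk]; exact cj_mono k hx
  have k3 : k * (z * y) * k⁻¹ = z := by
    rw [← conj_mul, k1, k2, ← H.yz', ← mul_assoc, H.yy, one_mul]
  have h3 : P ≤ Cz z := by
    rcases H.memY.1 (mem_normalizer_conj (inv_mem hm) H.zY) with e | e | e | e
    · exact absurd e (conj_ne_one H.z1)
    · rwa [e] at h1
    · rw [e] at h1; have := h2 _ (h2 _ h1); rwa [k2, k3] at this
    · rw [e] at h1; have := h2 _ h1; rwa [k3] at this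
  exact fun p hp => H.memR.2 ⟨h3 hp, k1 ▸ h2 _ h3 hp⟩

theorem rot_out {e : G} (he : Rot z e) : e * y * e⁻¹ ∉ Y := fun hh => by
  have hM := H.memM (by rw [Cz_conj he.1]; exact H.zY) hh
  exact H.col.not_mem_zpowers (he.2 y (H.loc.fl.le_UU H.yY) (H.loc.commY he.1 hM H.yY))

theorem rotC {P : Subgroup G} (hP : IsPGroup 2 P) (hC : P ≤ Cz z) {e : G} (he : Rot z e)
    (hk : e ∈ normalizer (P : Set G)) : P ≤ XX z := by
  obtain ⟨c, hc, hle⟩ := (isSylowIn_of_le S H.SC).exists_cj_le hP hC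
  have he' := he.conj hc
  have key : cj c P ≤ XX z := fun p hp => by
    have h1 : (c * e * c⁻¹)⁻¹ * p * (c * e * c⁻¹) ∈ cj c P :=
      mem_normalizer_conj' (by rw [← cj_normalizer]; exact conj_mem_cj.2 hk) hp
    rw [H.loc.mem_XX (H.SC (hle hp)) (H.SM (hle hp))
      (conj_mem_UU_of_mem he'.1 (H.loc.fl.le_UU H.yY)) (H.rot_out he')]
    have h2 := mem_normalizer_conj (Cz_le_normalizer_zpowers z he'.1)
      (H.loc.commY (H.SC (hle h1)) (H.SM (hle h1)) H.yY)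
    rw [conj_comm] at h2
    simpa [mul_assoc] using h2
  rwa [← Cz_conj hc, ← cj_XX, cj_le_cj] at key

end St

end Cfsg.Lib.Ngrp.M12
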