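import Cfsg.Agent.Ngrp.M12A

/-!
# The shape of `M₁₂` does not occur: the centraliser of the three planes through a line
-/

set_option autoImplicit false

namespace Cfsg.Lib.Ngrp.M12
open Subgroup Cfsg.Lib.Trans Cfsg.Lib.Local Cfsg.Lib.Local.JC Cfsg.Lib.Ngrp.Geo
open scoped commutatorElement

variable {G : Type*} [Group G]

/-- The centraliser of all `UU p`, `p` on the line. -/
def R1 (Y : Subgroup G) : Subgroup G := ⨅ (p : G) (_ : p ∈ Y) (_ : p ≠ 1), centralizer (UU p : Set G)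

theorem mem_R1 {Y : Subgroup G} {r : G} :
    r ∈ R1 Y ↔ ∀ p ∈ Y, p ≠ 1 → r ∈ centralizer (UU p : Set G) := by
  simp only [R1, mem_iInf]

theorem conj_cent {m p r : G} (h : r ∈ centralizer (UU p : Set G)) :
    m * r * m⁻¹ ∈ centralizer (UU (m * p * m⁻¹) : Set G) := by
  rw [← cj_UU, ← cj_centralizer]; exact conj_mem_cj.2 h

theorem conj_R1 {Y : Subgroup G} {m r : G} (hm : m ∈ normalizer (Y : Set G)) (hr : r ∈ R1 Y) :
    m * r * m⁻¹ ∈ R1 Y := mem_R1.2 fun p hp h1 => by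
  have := conj_cent (m := m) (mem_R1.1 hr _ (mem_normalizer_conj (inv_mem hm) hp) (conj_ne_one h1))
  simpa [mul_assoc] using this

theorem stab_conj {K U : Subgroup G} {x c : G} (hK : x ∈ normalizer (K : Set G))
    (hU : x ∈ normalizer (U : Set G)) (hc : ∀ k ∈ K, ⁅c, k⁆ ∈ U) :
    ∀ k ∈ K, ⁅x * c * x⁻¹, k⁆ ∈ U := fun k hk => by
  have := mem_normalizer_conj hU (hc _ (mem_normalizer_conj' hK hk))
  rw [conj_comm] at this
  simpa [mul_assoc] using this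

theorem conj_eq_comm (a b : G) : a * b * a⁻¹ = ⁅a, b⁆ * b := by
  rw [commutatorElement_def]; group

theorem comm_one {a b : G} (h : a * b = b * a) : ⁅a, b⁆ = 1 :=
  commutatorElement_eq_one_iff_mul_comm.2 h

theorem comm_right_Y {Y : Subgroup G} {r x x' : G} (hx : x ∈ centralizer (Y : Set G))
    (h : ⁅r, x'⁆ ∈ Y) : ⁅r, x * x'⁆ = ⁅r, x⁆ * ⁅r, x'⁆ := by
  rw [comm_mul_right, St.cR hx h]

theorem comm_left_Y {Y : Subgroup G} {r r' x : G} (hr : r ∈ centralizer (Y : Set G))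
    (h : ⁅r', x⁆ ∈ Y) : ⁅r * r', x⁆ = ⁅r', x⁆ * ⁅r, x⁆ := by
  rw [comm_mul_left, St.cR hr h]

theorem Loc.cent_of [Finite G] {p : G} {Y : Subgroup G} (L : Loc p Y) {r v : G}
    (hr : r ∈ centralizer (Y : Set G)) (hv : v ∈ UU p) (hY : v ∉ Y) (h : v * r = r * v) :
    r ∈ centralizer (UU p : Set G) := fun x hx => by
  by_cases hxY : x ∈ Y
  · exact hr x hxY
  · have h1 : v⁻¹ * x ∈ Y := L.idx _ (inv_mem hv) _ hx (by rwa [inv_mem_iff]) hxY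
    have e : x = v * (v⁻¹ * x) := by group
    rw [e, mul_assoc, hr _ h1, ← mul_assoc, h, mul_assoc]

namespace St
variable [Finite G] {S : Sylow 2 G} {Y : Subgroup G} {z y u a w h t g d : G}
  (H : St S Y z y u a w h t g d)
include H

omit [Finite G] in
theorem R1K {r : G} (hr : r ∈ R1 Y) : r ∈ centralizer (UU z : Set G) := mem_R1.1 hr z H.zY H.z1

omit [Finite G] in
theorem KR {r : G} (hr : r ∈ centralizer (UU z : Set G)) : r ∈ centralizer (Y : Set G) :=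
  fun x hx => hr x (H.loc.fl.le_UU hx)

omit [Finite G] in
theorem R1R {r : G} (hr : r ∈ R1 Y) : r ∈ centralizer (Y : Set G) := H.KR (H.R1K hr)

omit [Finite G] in
theorem R1u {r : G} (hr : r ∈ R1 Y) : u * r = r * u := H.R1K hr u H.uU

omit [Finite G] in
theorem R1a {r : G} (hr : r ∈ R1 Y) : a * r = r * a := mem_R1.1 hr y H.yY H.y1 a H.aU

theorem R1w {r : G} (hr : r ∈ R1 Y) : w * r = r * w := mem_R1.1 hr _ H.zyY H.zy1 w H.wU

theorem R1_of {r : G} (hr : r ∈ centralizer (Y : Set G)) (h1 : u * r = r * u) (h2 : a * r = r * a)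
    (h3 : w * r = r * w) : r ∈ R1 Y := mem_R1.2 fun p hp p1 => by
  rcases H.memY.1 hp with rfl | rfl | rfl | rfl
  · exact absurd rfl p1
  · exact H.loc.cent_of hr H.uU H.uY h1
  · exact H.locy.cent_of hr H.aU H.aY h2
  · exact H.loczy.cent_of hr H.wU H.wY h3

theorem YR1 {x : G} (hx : x ∈ Y) : x ∈ R1 Y :=
  H.R1_of (H.YR hx) (H.uR x hx).symm (H.aR x hx).symm (H.wR x hx).symm

theorem UR1 {v : G} (hv : v ∈ UU z) (hr : v ∈ R1 Y) : v ∈ Y := by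
  by_contra hY
  exact H.zy1 ((H.av hv hY).symm.trans (comm_one (H.R1a hr)))

theorem ca {r : G} (hr : r ∈ centralizer (Y : Set G)) : ⁅r, a⁆ ∈ Y := H.cp hr H.yY H.y1 H.aU

theorem cw {r : G} (hr : r ∈ centralizer (Y : Set G)) : ⁅r, w⁆ ∈ Y := H.cp hr H.zyY H.zy1 H.wU

theorem ch {r : G} (hr : r ∈ centralizer (Y : Set G)) : ⁅r, h⁆ = ⁅r, u⁆ * (⁅r, a⁆ * ⁅r, w⁆) := by
  have e : ⁅r, y⁆ = 1 := comm_one (hr y H.yY).symm
  have e1 : ⁅r, w * y⁆ = ⁅r, w⁆ := by rw [comm_right_Y H.wR (e ▸ one_mem _), e, mul_one]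
  have e2 : ⁅r, a * (w * y)⁆ = ⁅r, a⁆ * ⁅r, w⁆ := by rw [comm_right_Y H.aR (e1 ▸ H.cw hr), e1]
  rw [H.nf.2.1.2.2.2.2.2, comm_right_Y H.uR (e2 ▸ mul_mem (H.ca hr) (H.cw hr)), e2]

theorem chY {r : G} (hr : r ∈ centralizer (Y : Set G)) : ⁅r, h⁆ ∈ Y :=
  H.ch hr ▸ mul_mem (H.cu (H.RS hr) H.uU) (mul_mem (H.ca hr) (H.cw hr))

omit [Finite G] H in
theorem CK {c : G} (hc : c ∈ Cz z) :
    c ∈ normalizer ((centralizer (UU z : Set G) : Subgroup G) : Set G) :=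
  normalizer_le_normalizer_centralizer _ (Cz_le_normalizer_UU z hc)

theorem tL : ∀ k ∈ centralizer (UU z : Set G), ⁅t, k⁆ ∈ UU z := by
  have := stab_conj (CK (inv_mem H.dC)) (Cz_le_normalizer_UU z (inv_mem H.dC)) (c := h)
    fun k hk => by
      rw [← commutatorElement_inv]; exact inv_mem (H.loc.fl.le_UU (H.chY (H.KR hk)))
  rwa [inv_inv, H.ht] at this

theorem memU {v : G} (hv : v ∈ UU z) : ∃ x ∈ Y, v = x ∨ v = u * x := by
  by_cases hY : v ∈ Y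
  · exact ⟨v, hY, Or.inl rfl⟩
  · exact ⟨u⁻¹ * v, H.loc.idx _ (inv_mem H.uU) _ hv (by rw [inv_mem_iff]; exact H.uY) hY,
      Or.inr (by group)⟩

theorem uxY {x : G} (hx : x ∈ Y) : u * x ∉ Y := fun hh => H.uY ((Y.mul_mem_cancel_right hx).1 hh)

theorem mx' {X : Set G} (hX : ∀ x ∈ X, x ∈ (S : Subgroup G))
    (hM : ∀ m ∈ normalizer (Y : Set G), ∀ x ∈ X, m * x * m⁻¹ ∈ X) {l : G}
    (hl : ∀ x ∈ X, l * x * l⁻¹ ∈ X) (hl' : l ∉ normalizer (Y : Set G)) : ∀ x ∈ X, x = 1 := by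
  have key : ∀ m : G, (∀ x ∈ X, m * x * m⁻¹ ∈ X) →
      m ∈ normalizer ((closure X : Subgroup G) : Set G) := fun m hm =>
    mem_normalizer_of_cj_le (by
      rw [cj_closure]; exact closure_mono (by rintro _ ⟨x, hx, rfl⟩; exact hm x hx))
  have := H.mx (S.isPGroup'.to_le ((closure_le _).2 hX)) (fun m hm => key m (hM m hm)) (key l hl) hl'
  exact fun x hx => mem_bot.1 (this ▸ subset_closure hx)

theorem exists_l0 : ∃ l : G, l ∈ Cz z ∧ l * l = 1 ∧ l * y * l⁻¹ = u * (z * y) ∧ l * u * l⁻¹ = u ∧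
    ∀ k ∈ centralizer (UU z : Set G), ⁅l, k⁆ ∈ UU z := by
  have hv : d⁻¹ * y * d⁻¹⁻¹ ∈ UU z := conj_mem_UU_of_mem (inv_mem H.dC) (H.loc.fl.le_UU H.yY)
  have hv' := H.out (inv_mem H.dC) (by rw [inv_mem_iff]; exact H.dM) H.yY H.y1 H.yz
  refine ⟨d * a * d⁻¹, mul_mem (mul_mem H.dC (H.SC (H.RS H.aR))) (inv_mem H.dC), ?_, ?_, ?_,
    stab_conj (CK H.dC) (Cz_le_normalizer_UU z H.dC) fun k hk => ?_⟩
  · rw [conj_mul, H.nf0.2.1]; group
  · calc _ = d * (a * (d⁻¹ * y * d⁻¹⁻¹) * a⁻¹) * d⁻¹ := by group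
      _ = d * z * d⁻¹ * (d * y * d⁻¹) * y := by rw [conj_eq_comm a, H.av hv hv']; group
      _ = _ := by rw [Cz_conj H.dC, H.du]; simp only [H.nf]
  · calc _ = d * (a * y * a⁻¹) * d⁻¹ := by rw [← H.du]; group
      _ = _ := by rw [cR H.aR H.yY, H.du]
  · rw [← commutatorElement_inv]; exact inv_mem (H.loc.fl.le_UU (H.ca (H.KR hk)))

theorem R1sq {r : G} (hr : r ∈ R1 Y) : r * r = 1 := by
  obtain ⟨l, lC, -, ly, -, lL⟩ := H.exists_l0
  refine H.mx' (X := {x | ∃ r ∈ R1 Y, x = r * r}) ?_ ?_ (l := l) ?_ ?_ _ ⟨r, hr, rfl⟩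
  · rintro _ ⟨r, hr, rfl⟩; exact H.RS (H.R1R (mul_mem hr hr))
  · rintro m hm _ ⟨r, hr, rfl⟩; exact ⟨_, conj_R1 hm hr, conj_mul.symm⟩
  · rintro _ ⟨r, hr, rfl⟩
    refine ⟨r, hr, ?_⟩
    have h1 := lL r (H.R1K hr)
    rw [← conj_mul, conj_eq_comm, mul_assoc, ← mul_assoc r, ← H.R1K hr _ h1, ← mul_assoc,
      ← mul_assoc, H.loc.sq h1, one_mul]
  · exact fun hh => H.uxY H.zyY (ly ▸ mem_normalizer_conj hh H.yY)

theorem R1comm {r r' : G} (hr : r ∈ R1 Y) (hr' : r' ∈ R1 Y) : r * r' = r' * r := by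
  rw [← inv_eq_of_mul_eq_one_right (H.R1sq (mul_mem hr hr')), mul_inv_rev,
    inv_eq_of_mul_eq_one_right (H.R1sq hr), inv_eq_of_mul_eq_one_right (H.R1sq hr')]

theorem exists_l : ∃ l : G, l ∈ Cz z ∧ l * y * l⁻¹ = u ∧ l * u * l⁻¹ = y ∧
    ∀ r ∈ R1 Y, l * r * l⁻¹ = r ∨ l * r * l⁻¹ = u * y * r := by
  obtain ⟨l, lC, l2, ly, lu, lL⟩ := H.exists_l0
  have li : l⁻¹ = l := inv_eq_of_mul_eq_one_right l2
  have lz := Cz_conj lC
  have key : ∀ x, l * a * l⁻¹ * x * (l * a * l⁻¹)⁻¹ = l * (a * (l * x * l⁻¹) * a⁻¹) * l⁻¹ :=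
    fun x => by simp only [mul_inv_rev, inv_inv, li, mul_assoc]
  have lzy : l * (z * y) * l⁻¹ = u * y := by rw [← conj_mul, lz, ly]; simp only [H.nf]
  refine ⟨l * a * l⁻¹, mul_mem (mul_mem lC (H.SC (H.RS H.aR))) (inv_mem lC), ?_, ?_,
    fun r hr => ?_⟩
  · rw [key, ly, show a * (u * (z * y)) * a⁻¹ = u by simp only [H.nf], lu]
  · rw [key, lu, show a * u * a⁻¹ = u * (z * y) by simp only [H.nf], ← conj_mul, lu, lzy]
    simp only [H.nf]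
  · have h1 := lL r (H.R1K hr)
    have e : l * a * l⁻¹ * r * (l * a * l⁻¹)⁻¹ = l * ⁅a, ⁅l, r⁆⁆ * l⁻¹ * r := by
      have e1 : a * (l * r * l⁻¹) * a⁻¹ = ⁅a, ⁅l, r⁆⁆ * (l * r * l⁻¹) := by
        rw [conj_eq_comm l, ← conj_mul, conj_eq_comm a ⁅l, r⁆, H.R1a hr]; group
      rw [key, e1, ← conj_mul]
      congr 1
      calc l * (l * r * l⁻¹) * l⁻¹ = (l * l) * r * (l * l)⁻¹ := by group
        _ = r := by rw [l2]; group
    rw [e]
    by_cases hY : ⁅l, r⁆ ∈ Y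
    · left; rw [comm_one (H.aR _ hY).symm]; group
    · right; rw [H.av h1 hY, lzy]

theorem rot_al {l : G} (lC : l ∈ Cz z) (ly : l * y * l⁻¹ = u) (lu : l * u * l⁻¹ = y) :
    Rot z (a * l) := by
  have hC : a * l ∈ Cz z := mul_mem (H.SC (H.RS H.aR)) lC
  have ez := Cz_conj hC
  have ey : a * l * y * (a * l)⁻¹ = u * (z * y) := by
    calc _ = a * (l * y * l⁻¹) * a⁻¹ := by group
      _ = _ := by rw [ly]; simp only [H.nf]
  have eu : a * l * u * (a * l)⁻¹ = y := by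
    calc _ = a * (l * u * l⁻¹) * a⁻¹ := by group
      _ = _ := by rw [lu]; simp only [H.nf]
  refine ⟨hC, fun v hv h1 => ?_⟩
  generalize a * l = e at *
  have hZ : zpowers z ≤ Y := zpowers_le.2 H.zY
  have n1 : ∀ x ∈ Y, u * x ∉ zpowers z := fun x hx hh => H.uxY hx (hZ hh)
  have n2 : z * y ∉ zpowers z := fun hh =>
    H.col.not_mem_zpowers (((zpowers z).mul_mem_cancel_left (mem_zpowers z)).1 hh)
  obtain ⟨x, hx, rfl | rfl⟩ := H.memU hv <;> rcases H.memY.1 hx with e | e | e | e <;>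
    rw [e] at h1 ⊢ <;> simp only [commutatorElement_def, ← conj_mul, ez, ey, eu, mul_one] at h1 <;>
    simp only [H.nf] at h1
  · exact one_mem _
  · exact mem_zpowers z
  · exact absurd h1 (n1 _ H.zY)
  · exact absurd h1 (n1 _ H.zY)
  · exact absurd h1 (n1 _ H.yY)
  · exact absurd h1 (n1 _ H.yY)
  · exact absurd h1 n2
  · exact absurd h1 n2

theorem pl3 {c k e : G} (hc : c ∈ R1 Y) (c1 : c ≠ 1) (k1 : k * z * k⁻¹ = y)
    (k2 : k * y * k⁻¹ = z * y) (kc : k ∈ Cz c) (he : Rot z e) (ec : e ∈ Cz c) : False := by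
  have hD := isPGroup_pCoreOf (p := 2) (Cz c)
  have hN := le_normalizer_pCoreOf (p := 2) (Cz c)
  have hch := ah_charP_Cz H.nat.ah (H.R1sq hc) c1
  rw [Local.CharP] at hch
  generalize pCoreOf 2 (Cz c) = D at *
  have kM := H.memM (k1 ▸ H.yY) (k2 ▸ H.zyY)
  have h1 : D ⊓ normalizer (Y : Set G) ≤ centralizer (Y : Set G) :=
    H.rotM (hD.to_le inf_le_left) inf_le_right k1 k2
      (inf_normalizer_le_normalizer_inf ⟨hN kc, le_normalizer kM⟩)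
  have h2 : D ⊓ Cz z ≤ XX z := H.rotC (hD.to_le inf_le_left) inf_le_right he
    (inf_normalizer_le_normalizer_inf ⟨hN ec, le_normalizer he.1⟩)
  have h3 : ∀ x ∈ D ⊓ normalizer (Y : Set G), x ∈ centralizer (UU z : Set G) := fun x hx => by
    have h4 : e⁻¹ * x * e ∈ D := mem_normalizer_conj' (hN ec) hx.1
    have h5 : e⁻¹ * x * e ∈ Cz z :=
      mul_mem (mul_mem (inv_mem he.1) (H.SC (H.RS (h1 hx)))) he.1
    have h6 := h1 ⟨h4, H.SM (H.XS (h2 ⟨h4, h5⟩))⟩ y H.yY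
    refine H.loc.cent_of (h1 hx) (conj_mem_UU_of_mem he.1 (H.loc.fl.le_UU H.yY)) (H.rot_out he) ?_
    calc _ = e * (y * (e⁻¹ * x * e)) * e⁻¹ := by group
      _ = _ := by rw [h6]; group
  have h4 : ∀ p, (∀ x ∈ D ⊓ normalizer (Y : Set G), x ∈ centralizer (UU p : Set G)) →
      ∀ x ∈ D ⊓ normalizer (Y : Set G), x ∈ centralizer (UU (k * p * k⁻¹) : Set G) :=
    fun p hp x hx => by
      have := conj_cent (m := k) (hp (k⁻¹ * x * k) ⟨mem_normalizer_conj' (hN kc) hx.1,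
        Subgroup.mul_mem _ (Subgroup.mul_mem _ (Subgroup.inv_mem _ kM) hx.2) kM⟩)
      simpa [mul_assoc] using this
  have h5 : ∀ x ∈ D ⊓ normalizer (Y : Set G), x ∈ R1 Y := fun x hx =>
    H.R1_of (h1 hx) (h3 x hx u H.uU) (h4 _ h3 x hx a (k1 ▸ H.aU))
      (h4 _ (h4 _ h3) x hx w (k1 ▸ k2 ▸ H.wU))
  have uc : u ∈ Cz c := mem_Cz.2 (H.R1u hc)
  have h6 : D ≤ normalizer (Y : Set G) := by
    by_contra hn
    obtain ⟨x, -, xM, hx⟩ := climb (B := S ⊓ Cz c) hD (S.isPGroup'.to_le inf_le_left)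
      (inf_le_right.trans hN) (inf_le_left.trans H.SM) hn
    have key : ∀ b b', b ∈ centralizer (Y : Set G) → b' ∈ centralizer (Y : Set G) →
        (∀ r ∈ R1 Y, b * r = r * b) → (∀ r ∈ R1 Y, b' * r = r * b') → ⁅b, b'⁆ ∈ Y →
        x * ⁅b, b'⁆ * x⁻¹ ∈ Y := fun b b' hb hb' cb cb' hY => by
      have r1 := h5 _ (hx b ⟨H.RS hb, mem_Cz.2 (cb c hc)⟩)
      have r2 := h5 _ (hx b' ⟨H.RS hb', mem_Cz.2 (cb' c hc)⟩)
      rw [← commutatorElement_def] at r1 r2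
      have e1 : ⁅b, ⁅x, b'⁆ * b'⁆ = ⁅b, b'⁆ := by
        rw [comm_right_Y (H.R1R r2) hY, comm_one (cb _ r2), one_mul]
      rw [conj_comm, conj_eq_comm, conj_eq_comm, comm_left_Y (H.R1R r1) (e1 ▸ hY), e1,
        comm_one (a := ⁅x, b⁆), mul_one]
      · exact hY
      · rw [← mul_assoc, H.R1comm r1 r2, mul_assoc, ← cb' _ r1, mul_assoc]
    refine xM (H.memM ?_ ?_)
    · rw [← H.wa]
      exact key _ _ H.wR H.aR (fun _ => H.R1w) (fun _ => H.R1a) (H.wa ▸ H.zY)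
    · rw [← H.uw]
      exact key _ _ H.uR H.wR (fun _ => H.R1u) (fun _ => H.R1w) (H.uw ▸ H.yY)
  have h7 : u ∈ D := hch ⟨uc, fun x hx => (H.R1u (h5 x ⟨hx, h6 hx⟩)).symm⟩
  exact H.uY (H.UR1 H.uU (h5 u ⟨h7, h6 h7⟩))

theorem fix_coset {k r : G} (k1 : k * z * k⁻¹ = y) (k2 : k * y * k⁻¹ = z * y) (hk : ⁅k, r⁆ ∈ Y) :
    ∃ x ∈ Y, k ∈ Cz (x * r) := by
  have k3 : k * (z * y) * k⁻¹ = z := by rw [← conj_mul, k1, k2]; simp only [H.nf]
  simp only [mem_Cz', ← conj_mul, conj_eq_comm k r]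
  rcases H.memY.1 hk with e | e | e | e <;> rw [e]
  · exact ⟨1, one_mem _, by group⟩
  · exact ⟨y, H.yY, by rw [k2]; simp only [H.nf]⟩
  · exact ⟨_, H.zyY, by rw [k3]; simp only [H.nf]⟩
  · exact ⟨z, H.zY, by rw [k1]; simp only [H.nf]⟩

theorem exists_k : ∃ k : G, k * z * k⁻¹ = y ∧ k * y * k⁻¹ = z * y ∧ ∀ r ∈ R1 Y, ⁅k, r⁆ ∈ Y := by
  have tM := H.SM H.tS
  have t1 : ∀ r ∈ R1 Y, ⁅t, r⁆ ∈ Y := fun r hr =>
    H.UR1 (H.tL r (H.R1K hr)) (mul_mem (conj_R1 tM hr) (inv_mem hr))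
  have gN : g ∈ normalizer (R1 Y : Set G) :=
    mem_normalizer_of_cj_le (cj_le_iff.2 fun r hr => conj_R1 H.gM hr)
  have t2 := stab_conj gN H.gM t1
  have key : ∀ x x', t * x * t⁻¹ = x' → t * (g * t * g⁻¹) * (g * x * g⁻¹) * (t * (g * t * g⁻¹))⁻¹ =
      t * (g * x' * g⁻¹) * t⁻¹ := by rintro x _ rfl; group
  refine ⟨t * (g * t * g⁻¹), ?_, ?_, fun r hr => ?_⟩
  · have := key _ _ (H.Szy H.tS H.tR)
    rwa [H.gzy, H.gy, H.Szy H.tS H.tR] at this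
  · have := key _ _ (Cz_conj (H.SC H.tS))
    rwa [H.gz, H.Sy' H.tS H.tR] at this
  · rw [comm_mul_left]
    exact mul_mem (mem_normalizer_conj tM (t2 r hr)) (t1 r hr)

theorem R1Y {r : G} (hr : r ∈ R1 Y) : r ∈ Y := by
  by_contra rY
  obtain ⟨l, lC, ly, lu, lR⟩ := H.exists_l
  obtain ⟨k, k1, k2, kR⟩ := H.exists_k
  have he := H.rot_al lC ly lu
  have kM := H.memM (k1 ▸ H.yY) (k2 ▸ H.zyY)
  have hA : ∀ r ∈ R1 Y, r ∉ Y → ∃ x ∈ Y, x * r ∈ R1 Y ∧ x * r ∉ Y ∧ k ∈ Cz (x * r) :=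
    fun r hr hY => by
      obtain ⟨x, hx, h1⟩ := H.fix_coset k1 k2 (kR r hr)
      exact ⟨x, hx, mul_mem (H.YR1 hx) hr, fun hh => hY ((Y.mul_mem_cancel_left hx).1 hh), h1⟩
  have hB : ∀ c ∈ R1 Y, k ∈ Cz c → l * c * l⁻¹ = c → c = 1 := fun c hc h1 h2 => by
    by_contra c1
    exact H.pl3 hc c1 k1 k2 h1 he (mul_mem (mem_Cz.2 (H.R1a hc)) (mem_Cz'.2 h2))
  have hB' : ∀ c ∈ R1 Y, c ∉ Y → k ∈ Cz c → l * c * l⁻¹ = u * y * c := fun c hc hY h1 =>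
    (lR c hc).resolve_left fun h2 => hY (hB c hc h1 h2 ▸ one_mem _)
  obtain ⟨x, -, hc, cY, kc⟩ := hA r hr rY
  generalize x * r = c at hc cY kc
  have hD : ∀ m ∈ normalizer (Y : Set G), ⁅m, c⁆ ∈ Y := fun m hm => by
    obtain ⟨x, hx, h1, h2, h3⟩ := hA _ (conj_R1 hm hc)
      fun hh => cY ((mem_normalizer_iff.1 hm c).2 hh)
    have e : x * ⁅m, c⁆ = x * (m * c * m⁻¹) * c := by
      rw [commutatorElement_def, inv_eq_of_mul_eq_one_right (H.R1sq hc), mul_assoc x]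
    rw [← Y.mul_mem_cancel_left hx, e]
    generalize x * (m * c * m⁻¹) = c' at h1 h2 h3
    rw [hB _ (mul_mem h1 hc) (Cz_symm (mul_mem (Cz_symm h3) (Cz_symm kc))) ?_]
    · exact one_mem _
    · have e1 : u * y * c' = c' * (u * y) := by
        rw [mul_assoc, H.R1R h1 y H.yY, ← mul_assoc, H.R1u h1, mul_assoc]
      rw [← conj_mul, hB' c' h1 h2 h3, hB' c hc cY kc, e1]
      simp only [H.nf]
  have hE : ∀ s ∈ centralizer (Y : Set G), ⁅s, c⁆ ≠ y := fun s hs e => by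
    have e1 : s * c * s⁻¹ = y * c := by rw [conj_eq_comm, e]
    have e2 : a * l ∈ Cz (s * c * s⁻¹) := by
      rw [e1]
      refine mul_mem (mem_Cz.2 (H.R1a (mul_mem (H.YR1 H.yY) hc))) (mem_Cz'.2 ?_)
      rw [← conj_mul, ly, hB' c hc cY kc]
      simp only [H.nf]
    have e3 := conj_mem_Cz s⁻¹ e2
    rw [show s⁻¹ * (s * c * s⁻¹) * s⁻¹⁻¹ = c by group] at e3
    exact H.pl3 hc (fun e => cY (e ▸ one_mem _)) k1 k2 kc (he.conj (inv_mem (H.SC (H.RS hs)))) e3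
  have hE' : ∀ s, ⁅k * s * k⁻¹, c⁆ = k * ⁅s, c⁆ * k⁻¹ := fun s => by rw [conj_comm, Cz_conj kc]
  have k3 : k * (z * y) * k⁻¹ = z := by rw [← conj_mul, k1, k2]; simp only [H.nf]
  have hF : ∀ s ∈ centralizer (Y : Set G), s ∈ Cz c := fun s hs => by
    rcases H.memY.1 (hD s (centralizer_le_normalizer _ hs)) with e | e | e | e
    · exact mem_Cz.2 (commutatorElement_eq_one_iff_mul_comm.1 e)
    · exact absurd (by rw [hE', e, k1]) (hE _ (conjR kM hs))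
    · exact absurd e (hE s hs)
    · exact absurd (by rw [hE', hE', e, k3, k1]) (hE _ (conjR kM (conjR kM hs)))
  have hG : ∀ x ∈ Y, t ∉ Cz (x * c) := fun x hx h1 => by
    have h2 := mul_mem (H.YR1 hx) hc
    have h3 : x * c ∉ Y := fun hh => cY ((Y.mul_mem_cancel_left hx).1 hh)
    have h4 : ∀ s ∈ centralizer (Y : Set G), s ∈ Cz (x * c) := fun s hs =>
      Cz_symm (mul_mem (Cz_symm (le_Cz_of_mem hx hs)) (Cz_symm (hF s hs)))
    refine h3 (nat_eq_of_central H.nat (H.R1sq h2) (fun e => h3 (e ▸ one_mem _))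
      (fun s hs => ?_) ▸ H.zY)
    by_cases hR : s ∈ centralizer (Y : Set G)
    · exact h4 s hR
    · exact ((Cz _).mul_mem_cancel_right h1).1 (h4 _ (H.idxR s hs t H.tS hR H.tR))
  have ty := H.Sy' H.tS H.tR
  have tzy := H.Szy H.tS H.tR
  have e0 : t * ⁅t, c⁆ * t⁻¹ * ⁅t, c⁆ = 1 := by rw [← comm_mul_left, H.t2, commutatorElement_one_left]
  rcases H.memY.1 (hD t (H.SM H.tS)) with e | e | e | e
  · exact hG 1 (one_mem _) (mem_Cz'.2 (by rw [one_mul, conj_eq_comm, e, one_mul]))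
  · exact hG y H.yY (mem_Cz'.2 (by rw [← conj_mul, ty, conj_eq_comm, e]; simp only [H.nf]))
  · rw [e, ty] at e0; simp only [H.nf] at e0; exact H.z1 e0
  · rw [e, tzy] at e0; simp only [H.nf] at e0; exact H.z1 e0

end St

end Cfsg.Lib.Ngrp.M12
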