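import Cfsg.Agent.Ngrp.NatDefs
import Cfsg.Agent.Ngrp.AmGeo4
import Cfsg.Agent.Ngrp.AmMod4

/-!
# The module `V / E` of an elementary abelian section normalized by `L`
-/

set_option autoImplicit false

namespace Cfsg.Lib.Ngrp
open Subgroup Cfsg.Lib.Trans Cfsg.Lib.Local Cfsg.Lib.Local.MSS Cfsg.Lib.Local.JC Cfsg.Lib.Trans.TJ
open scoped commutatorElement Pointwise

variable {G : Type*} [Group G]

/-- `x` acts on `V` as an element of odd order. -/
def OddOn (V : Subgroup G) (x : G) : Prop := ∃ m : ℕ, Odd m ∧ x ^ m ∈ centralizer (V : Set G)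

/-- `V / E` is an elementary abelian section normalized by `L`. -/
structure Sec (L V E : Subgroup G) : Prop where
  le : E ≤ V
  nV : L ≤ normalizer (V : Set G)
  nE : L ≤ normalizer (E : Set G)
  sq : ∀ u ∈ V, u * u ∈ E

theorem sec_bot {L V : Subgroup G} (hV : IsElementaryAbelian 2 V)
    (hL : L ≤ normalizer (V : Set G)) : Sec L V ⊥ :=
  ⟨bot_le, hL, fun g _ => mem_normalizer_bot g, fun _ hu => ea_sq hV hu⟩

namespace Sec

variable {L V E : Subgroup G} (h : Sec L V E)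
include h

theorem conj_mem {u e : G} (hu : u ∈ V) (he : e ∈ E) : u * e * u⁻¹ ∈ E := by
  have := mul_mem (mul_mem (h.sq _ (mul_mem hu (h.le he))) (inv_mem he)) (h.sq _ (inv_mem hu))
  convert this using 1
  group

theorem comm_mem {u v : G} (hu : u ∈ V) (hv : v ∈ V) : ⁅u, v⁆ ∈ E := by
  have := mul_mem (mul_mem (h.sq _ (mul_mem hu hv))
    (h.conj_mem (inv_mem hv) (h.sq _ (inv_mem hu)))) (h.sq _ (inv_mem hv))
  convert this using 1
  rw [commutatorElement_def]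
  group

theorem normal : (E.subgroupOf V).Normal := ⟨fun _ hn g => h.conj_mem g.2 hn⟩

theorem conj_V {c u : G} (hc : c ∈ L) (hu : u ∈ V) : c * u * c⁻¹ ∈ V :=
  mem_normalizer_conj (h.nV hc) hu

theorem comm_V {c u : G} (hc : c ∈ L) (hu : u ∈ V) : ⁅c, u⁆ ∈ V :=
  mul_mem (h.conj_V hc hu) (inv_mem hu)

/-- The kernel of the action of `L` on `V / E`. -/
def X : Subgroup G where
  carrier := {c | c ∈ L ∧ ∀ u ∈ V, ⁅c, u⁆ ∈ E}
  one_mem' := ⟨one_mem _, fun u _ => by simp⟩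
  mul_mem' := fun {c d} hc hd => ⟨mul_mem hc.1 hd.1, fun u hu => by
    have := mul_mem (mem_normalizer_conj (h.nE hc.1) (hd.2 u hu)) (hc.2 u hu)
    convert this using 1
    simp only [commutatorElement_def]
    group⟩
  inv_mem' := fun {c} hc => ⟨inv_mem hc.1, fun u hu => by
    have := inv_mem (mem_normalizer_conj (h.nE (inv_mem hc.1)) (hc.2 u hu))
    convert this using 1
    simp only [commutatorElement_def]
    group⟩

theorem mem_X {c : G} : c ∈ h.X ↔ c ∈ L ∧ ∀ u ∈ V, ⁅c, u⁆ ∈ E := Iff.rfl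

theorem X_le : h.X ≤ L := fun _ hc => hc.1

theorem inf_centralizer_le_X : L ⊓ centralizer (V : Set G) ≤ h.X := fun c hc =>
  ⟨hc.1, fun u hu => by
    rw [commutatorElement_eq_one_iff_mul_comm.2 (hc.2 u hu).symm]; exact one_mem _⟩

/-- The module `V / E`. -/
def Mo (_h : Sec L V E) : Type _ := V ⧸ E.subgroupOf V

instance instCommGroupMo : CommGroup h.Mo :=
  haveI := h.normal
  { (inferInstance : Group (V ⧸ E.subgroupOf V)) with
    mul_comm := fun a b => by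
      induction a using QuotientGroup.induction_on with | H a => ?_
      induction b using QuotientGroup.induction_on with | H b => ?_
      change (QuotientGroup.mk (a * b) : V ⧸ E.subgroupOf V) = QuotientGroup.mk (b * a)
      rw [QuotientGroup.eq, mem_subgroupOf]
      have := h.comm_mem (inv_mem b.2) (inv_mem a.2)
      convert this using 1
      simp only [commutatorElement_def, coe_mul, coe_inv]
      group }

instance instFiniteMo [Finite G] : Finite h.Mo := inferInstanceAs (Finite (V ⧸ E.subgroupOf V))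

/-- The projection of `V` onto the module. -/
def mkV : V →* h.Mo := haveI := h.normal; QuotientGroup.mk' (E.subgroupOf V)

/-- The action of `L` on the module. -/
def actV : L →* MulAut h.Mo := haveI := h.normal; Solv.Coprime.sectionAut h.nV h.nE

/-- The group `L / X`, as a group of automorphisms of the module. -/
abbrev Kq : Subgroup (MulAut h.Mo) := h.actV.range

/-- The projection of `L` onto `L / X`. -/
def mkK : L →* h.Kq := h.actV.rangeRestrict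

open Classical in
/-- The image of `u ∈ V` in the module. -/
noncomputable def bar (u : G) : h.Mo := if hu : u ∈ V then h.mkV ⟨u, hu⟩ else 1

open Classical in
/-- The image of `c ∈ L` in `L / X`. -/
noncomputable def hat (c : G) : h.Kq := if hc : c ∈ L then h.mkK ⟨c, hc⟩ else 1

variable {u v c d : G}

theorem bar_eq (hu : u ∈ V) : h.bar u = h.mkV ⟨u, hu⟩ := dif_pos hu
theorem bar_coe (x : V) : h.bar x = h.mkV x := dif_pos x.2
theorem hat_eq (hc : c ∈ L) : h.hat c = h.mkK ⟨c, hc⟩ := dif_pos hc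
theorem hat_coe (x : L) : h.hat x = h.mkK x := dif_pos x.2

theorem mkV_surjective : Function.Surjective h.mkV :=
  haveI := h.normal; QuotientGroup.mk'_surjective _
theorem mkK_surjective : Function.Surjective h.mkK := MonoidHom.rangeRestrict_surjective _

instance instFiniteKq [Finite G] : Finite h.Kq := Finite.of_surjective _ h.mkK_surjective

theorem exists_bar (x : h.Mo) : ∃ u ∈ V, h.bar u = x :=
  let ⟨u, hu⟩ := h.mkV_surjective x; ⟨u, u.2, (h.bar_coe u).trans hu⟩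

theorem exists_hat (k : h.Kq) : ∃ c ∈ L, h.hat c = k :=
  let ⟨c, hc⟩ := h.mkK_surjective k; ⟨c, c.2, (h.hat_coe c).trans hc⟩

theorem bar_one : h.bar 1 = 1 := by rw [h.bar_eq (one_mem _)]; exact map_one _

theorem bar_mul (hu : u ∈ V) (hv : v ∈ V) : h.bar (u * v) = h.bar u * h.bar v := by
  rw [h.bar_eq hu, h.bar_eq hv, h.bar_eq (mul_mem hu hv), ← map_mul]; rfl

theorem bar_inv (hu : u ∈ V) : h.bar u⁻¹ = (h.bar u)⁻¹ := by
  rw [h.bar_eq hu, h.bar_eq (inv_mem hu), ← map_inv]; rfl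

theorem bar_pow (hu : u ∈ V) (n : ℕ) : h.bar (u ^ n) = h.bar u ^ n := by
  rw [h.bar_eq hu, h.bar_eq (pow_mem hu n), ← map_pow]; rfl

theorem bar_eq_one (hu : u ∈ V) : h.bar u = 1 ↔ u ∈ E := by
  have := h.normal
  rw [h.bar_eq hu]
  exact (QuotientGroup.eq_one_iff _).trans mem_subgroupOf

theorem bar_eq_one_of_mem (hu : u ∈ E) : h.bar u = 1 := (h.bar_eq_one (h.le hu)).2 hu

theorem bar_eq_bar (hu : u ∈ V) (hv : v ∈ V) : h.bar u = h.bar v ↔ u * v⁻¹ ∈ E := by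
  rw [← h.bar_eq_one (mul_mem hu (inv_mem hv)), h.bar_mul hu (inv_mem hv), h.bar_inv hv,
    mul_inv_eq_one]

theorem Mo_sq (x : h.Mo) : x * x = 1 := by
  obtain ⟨u, hu, rfl⟩ := h.exists_bar x
  rw [← h.bar_mul hu hu]; exact h.bar_eq_one_of_mem (h.sq u hu)

theorem Mo_inv (x : h.Mo) : x⁻¹ = x := inv_eq_of_mul_eq_one_right (h.Mo_sq x)

theorem bar_inv' (hu : u ∈ V) : h.bar u⁻¹ = h.bar u := by rw [h.bar_inv hu, h.Mo_inv]

theorem hat_one : h.hat 1 = 1 := by rw [h.hat_eq (one_mem _)]; exact map_one _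

theorem hat_mul (hc : c ∈ L) (hd : d ∈ L) : h.hat (c * d) = h.hat c * h.hat d := by
  rw [h.hat_eq hc, h.hat_eq hd, h.hat_eq (mul_mem hc hd), ← map_mul]; rfl

theorem hat_inv (hc : c ∈ L) : h.hat c⁻¹ = (h.hat c)⁻¹ := by
  rw [h.hat_eq hc, h.hat_eq (inv_mem hc), ← map_inv]; rfl

theorem hat_pow (hc : c ∈ L) (n : ℕ) : h.hat (c ^ n) = h.hat c ^ n := by
  rw [h.hat_eq hc, h.hat_eq (pow_mem hc n), ← map_pow]; rfl

theorem hat_conj (hc : c ∈ L) (hd : d ∈ L) :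
    h.hat (c * d * c⁻¹) = h.hat c * h.hat d * (h.hat c)⁻¹ := by
  rw [h.hat_mul (mul_mem hc hd) (inv_mem hc), h.hat_mul hc hd, h.hat_inv hc]

theorem hat_comm (hc : c ∈ L) (hd : d ∈ L) : h.hat ⁅c, d⁆ = ⁅h.hat c, h.hat d⁆ := by
  rw [commutatorElement_def, commutatorElement_def,
    h.hat_mul (mul_mem (mul_mem hc hd) (inv_mem hc)) (inv_mem hd), h.hat_conj hc hd, h.hat_inv hd]

theorem hat_sq (hc : c ∈ L) (h2 : c * c = 1) : h.hat c * h.hat c = 1 := by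
  rw [← h.hat_mul hc hc, h2, h.hat_one]

theorem hat_inverts (hc : c ∈ L) (hd : d ∈ L) (e : c * d * c⁻¹ = d⁻¹) :
    h.hat c * h.hat d * (h.hat c)⁻¹ = (h.hat d)⁻¹ := by rw [← h.hat_conj hc hd, e, h.hat_inv hd]

theorem hat_smul (hc : c ∈ L) (hu : u ∈ V) : h.hat c • h.bar u = h.bar (c * u * c⁻¹) := by
  rw [h.hat_eq hc, h.bar_eq hu, h.bar_eq (h.conj_V hc hu)]; rfl

theorem cm_hat (hc : c ∈ L) (hu : u ∈ V) : cm h.Mo (h.hat c) (h.bar u) = h.bar ⁅c, u⁆ := by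
  rw [cm_apply, commutatorElement_def, h.bar_mul (h.conj_V hc hu) (inv_mem hu), h.bar_inv hu,
    h.hat_smul hc hu]

theorem hat_smul_eq_iff (hc : c ∈ L) (hu : u ∈ V) :
    h.hat c • h.bar u = h.bar u ↔ ⁅c, u⁆ ∈ E := by
  rw [h.hat_smul hc hu, h.bar_eq_bar (h.conj_V hc hu) hu, commutatorElement_def]

theorem bar_mem_fx (hc : c ∈ L) (hu : u ∈ V) : h.bar u ∈ fx h.Mo (h.hat c) ↔ ⁅c, u⁆ ∈ E := by
  rw [mem_fx, h.hat_smul_eq_iff hc hu]

theorem Kq_ext {k k' : h.Kq} (e : ∀ x : h.Mo, k • x = k' • x) : k = k' :=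
  Subtype.ext (MulEquiv.ext e)

theorem Kq_eq_one {k : h.Kq} (e : ∀ x : h.Mo, k • x = x) : k = 1 :=
  h.Kq_ext fun x => by rw [e, one_smul]

theorem hat_eq_one (hc : c ∈ L) : h.hat c = 1 ↔ c ∈ h.X := by
  constructor
  · intro e
    exact ⟨hc, fun u hu => (h.hat_smul_eq_iff hc hu).1 (by rw [e, one_smul])⟩
  · intro e
    refine h.Kq_eq_one fun x => ?_
    obtain ⟨u, hu, rfl⟩ := h.exists_bar x
    exact (h.hat_smul_eq_iff hc hu).2 (e.2 u hu)

theorem hat_of_mem (hc : c ∈ h.X) : h.hat c = 1 := (h.hat_eq_one hc.1).2 hc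

theorem hat_eq_hat (hc : c ∈ L) (hd : d ∈ L) : h.hat c = h.hat d ↔ c * d⁻¹ ∈ h.X := by
  rw [← h.hat_eq_one (mul_mem hc (inv_mem hd)), h.hat_mul hc (inv_mem hd), h.hat_inv hd,
    mul_inv_eq_one]

theorem ker_mkK : h.mkK.ker = h.X.subgroupOf L := by
  ext x; rw [MonoidHom.mem_ker, ← h.hat_coe, h.hat_eq_one x.2, mem_subgroupOf]

theorem le_normalizer_X : L ≤ normalizer (h.X : Set G) := fun c hc =>
  mem_normalizer_iff.2 fun x => ⟨fun hx => (h.hat_eq_one (mul_mem (mul_mem hc hx.1) (inv_mem hc))).1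
    (by rw [h.hat_conj hc hx.1, h.hat_of_mem hx]; simp), fun hx => by
      have h1 : x ∈ L := by simpa [mul_assoc] using mul_mem (mul_mem (inv_mem hc) hx.1) hc
      have h2 := h.hat_of_mem hx
      rw [h.hat_conj hc h1, conj_eq_one_iff] at h2
      exact (h.hat_eq_one h1).1 h2⟩

/-- The preimage in `G` of a subgroup of the module. -/
def pre (W : Subgroup h.Mo) : Subgroup G := (W.comap h.mkV).map V.subtype

/-- The image in the module of a subgroup of `G`. -/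
def img (A : Subgroup G) : Subgroup h.Mo := (A.subgroupOf V).map h.mkV

/-- The preimage in `G` of a subgroup of `L / X`. -/
def preK (B : Subgroup h.Kq) : Subgroup G := (B.comap h.mkK).map L.subtype

/-- The image in `L / X` of a subgroup of `G`. -/
def imgK (A : Subgroup G) : Subgroup h.Kq := (A.subgroupOf L).map h.mkK

variable {W W' : Subgroup h.Mo} {B B' : Subgroup h.Kq} {A A' : Subgroup G}

theorem mem_pre : u ∈ h.pre W ↔ u ∈ V ∧ h.bar u ∈ W := by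
  constructor
  · rintro ⟨x, hx, rfl⟩; exact ⟨x.2, by rw [coe_subtype, h.bar_coe]; exact hx⟩
  · rintro ⟨h1, h2⟩; exact ⟨⟨u, h1⟩, by rw [h.bar_eq h1] at h2; exact h2, rfl⟩

theorem mem_img {x : h.Mo} : x ∈ h.img A ↔ ∃ u ∈ A, u ∈ V ∧ h.bar u = x := by
  constructor
  · rintro ⟨y, hy, rfl⟩; exact ⟨y, hy, y.2, h.bar_coe y⟩
  · rintro ⟨u, h1, h2, rfl⟩; exact ⟨⟨u, h2⟩, h1, (h.bar_eq h2).symm⟩

theorem mem_preK : c ∈ h.preK B ↔ c ∈ L ∧ h.hat c ∈ B := by
  constructor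
  · rintro ⟨x, hx, rfl⟩; exact ⟨x.2, by rw [coe_subtype, h.hat_coe]; exact hx⟩
  · rintro ⟨h1, h2⟩; exact ⟨⟨c, h1⟩, by rw [h.hat_eq h1] at h2; exact h2, rfl⟩

theorem mem_imgK {k : h.Kq} : k ∈ h.imgK A ↔ ∃ c ∈ A, c ∈ L ∧ h.hat c = k := by
  constructor
  · rintro ⟨y, hy, rfl⟩; exact ⟨y, hy, y.2, h.hat_coe y⟩
  · rintro ⟨u, h1, h2, rfl⟩; exact ⟨⟨u, h2⟩, h1, (h.hat_eq h2).symm⟩

theorem bar_mem_img (h1 : u ∈ A) (h2 : u ∈ V) : h.bar u ∈ h.img A := h.mem_img.2 ⟨u, h1, h2, rfl⟩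
theorem hat_mem_imgK (h1 : c ∈ A) (h2 : c ∈ L) : h.hat c ∈ h.imgK A :=
  h.mem_imgK.2 ⟨c, h1, h2, rfl⟩
theorem pre_le : h.pre W ≤ V := fun _ hx => (h.mem_pre.1 hx).1
theorem preK_le : h.preK B ≤ L := fun _ hx => (h.mem_preK.1 hx).1
theorem X_le_preK : h.X ≤ h.preK B := fun _ hx =>
  h.mem_preK.2 ⟨hx.1, by rw [h.hat_of_mem hx]; exact one_mem _⟩
theorem le_pre : E ≤ h.pre W := fun _ hx =>
  h.mem_pre.2 ⟨h.le hx, by rw [h.bar_eq_one_of_mem hx]; exact one_mem _⟩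
theorem pre_mono (e : W ≤ W') : h.pre W ≤ h.pre W' := fun _ hx =>
  h.mem_pre.2 ⟨(h.mem_pre.1 hx).1, e (h.mem_pre.1 hx).2⟩
theorem preK_mono (e : B ≤ B') : h.preK B ≤ h.preK B' := fun _ hx =>
  h.mem_preK.2 ⟨(h.mem_preK.1 hx).1, e (h.mem_preK.1 hx).2⟩
theorem img_mono (e : A ≤ A') : h.img A ≤ h.img A' := map_mono (comap_mono e)
theorem imgK_mono (e : A ≤ A') : h.imgK A ≤ h.imgK A' := map_mono (comap_mono e)
theorem pre_top : h.pre ⊤ = V := le_antisymm h.pre_le fun _ hx => h.mem_pre.2 ⟨hx, trivial⟩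
theorem preK_top : h.preK ⊤ = L := le_antisymm h.preK_le fun _ hx => h.mem_preK.2 ⟨hx, trivial⟩
theorem preK_bot : h.preK ⊥ = h.X := le_antisymm
  (fun _ hx => (h.hat_eq_one (h.mem_preK.1 hx).1).1 (mem_bot.1 (h.mem_preK.1 hx).2)) h.X_le_preK
theorem pre_bot : h.pre ⊥ = E := le_antisymm
  (fun _ hx => (h.bar_eq_one (h.mem_pre.1 hx).1).1 (mem_bot.1 (h.mem_pre.1 hx).2)) h.le_pre

theorem img_pre : h.img (h.pre W) = W := by
  ext x
  rw [h.mem_img]
  constructor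
  · rintro ⟨u, h1, -, rfl⟩; exact (h.mem_pre.1 h1).2
  · intro hx
    obtain ⟨u, hu, rfl⟩ := h.exists_bar x
    exact ⟨u, h.mem_pre.2 ⟨hu, hx⟩, hu, rfl⟩

theorem imgK_preK : h.imgK (h.preK B) = B := by
  ext x
  rw [h.mem_imgK]
  constructor
  · rintro ⟨u, h1, -, rfl⟩; exact (h.mem_preK.1 h1).2
  · intro hx
    obtain ⟨u, hu, rfl⟩ := h.exists_hat x
    exact ⟨u, h.mem_preK.2 ⟨hu, hx⟩, hu, rfl⟩

theorem img_top : h.img V = ⊤ := by rw [← h.img_pre (W := ⊤), h.pre_top]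
theorem imgK_top : h.imgK L = ⊤ := by rw [← h.imgK_preK (B := ⊤), h.preK_top]

theorem bar_mem_img_iff (hE : E ≤ A) (hu : u ∈ V) : h.bar u ∈ h.img A ↔ u ∈ A := by
  refine ⟨fun hx => ?_, fun hx => h.bar_mem_img hx hu⟩
  obtain ⟨v, h1, h2, h3⟩ := h.mem_img.1 hx
  simpa using mul_mem (hE ((h.bar_eq_bar hu h2).1 h3.symm)) h1

theorem pre_img (hE : E ≤ A) (hA : A ≤ V) : h.pre (h.img A) = A := by
  ext u
  rw [h.mem_pre]
  exact ⟨fun ⟨h1, h2⟩ => (h.bar_mem_img_iff hE h1).1 h2,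
    fun h1 => ⟨hA h1, h.bar_mem_img h1 (hA h1)⟩⟩

theorem hat_mem_imgK_iff (hX : h.X ≤ A) (hc : c ∈ L) : h.hat c ∈ h.imgK A ↔ c ∈ A := by
  refine ⟨fun hx => ?_, fun hx => h.hat_mem_imgK hx hc⟩
  obtain ⟨v, h1, h2, h3⟩ := h.mem_imgK.1 hx
  simpa using mul_mem (hX ((h.hat_eq_hat hc h2).1 h3.symm)) h1

theorem preK_imgK (hX : h.X ≤ A) (hA : A ≤ L) : h.preK (h.imgK A) = A := by
  ext u
  rw [h.mem_preK]
  exact ⟨fun ⟨h1, h2⟩ => (h.hat_mem_imgK_iff hX h1).1 h2,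
    fun h1 => ⟨hA h1, h.hat_mem_imgK h1 (hA h1)⟩⟩

theorem imgK_le_iff (hA : A ≤ L) : h.imgK A ≤ B ↔ A ≤ h.preK B :=
  ⟨fun e c hc => h.mem_preK.2 ⟨hA hc, e (h.hat_mem_imgK hc (hA hc))⟩, fun e k hk => by
    obtain ⟨c, h1, -, rfl⟩ := h.mem_imgK.1 hk
    exact (h.mem_preK.1 (e h1)).2⟩

theorem img_le_iff (hA : A ≤ V) : h.img A ≤ W ↔ A ≤ h.pre W :=
  ⟨fun e c hc => h.mem_pre.2 ⟨hA hc, e (h.bar_mem_img hc (hA hc))⟩, fun e k hk => by
    obtain ⟨c, h1, -, rfl⟩ := h.mem_img.1 hk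
    exact (h.mem_pre.1 (e h1)).2⟩

theorem imgK_sq (hA : ∀ a ∈ A, a * a ∈ h.X) : ∀ b ∈ h.imgK A, b * b = 1 := fun b hb => by
  obtain ⟨a, h1, h2, rfl⟩ := h.mem_imgK.1 hb
  rw [← h.hat_mul h2 h2, h.hat_of_mem (hA a h1)]

theorem imgK_sq_of_ea (hA : IsElementaryAbelian 2 A) : ∀ b ∈ h.imgK A, b * b = 1 :=
  h.imgK_sq fun a ha => by rw [ea_sq hA ha]; exact one_mem _

theorem card_pre (W : Subgroup h.Mo) : Nat.card (h.pre W) = Nat.card E * Nat.card W := by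
  have := h.normal
  unfold pre
  rw [card_map_of_injective (subtype_injective _), Geo.card_comap_surj _ h.mkV_surjective]
  congr 1
  have : h.mkV.ker = E.subgroupOf V := QuotientGroup.ker_mk' _
  rw [this, Nat.card_congr (subgroupOfEquivOfLe h.le).toEquiv]

theorem card_V : Nat.card V = Nat.card E * Nat.card h.Mo := by
  rw [← card_top (G := h.Mo), ← h.card_pre, h.pre_top]

theorem card_img (hE : E ≤ A) (hA : A ≤ V) : Nat.card A = Nat.card E * Nat.card (h.img A) := by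
  rw [← h.card_pre, h.pre_img hE hA]

theorem card_preK (B : Subgroup h.Kq) : Nat.card (h.preK B) = Nat.card h.X * Nat.card B := by
  unfold preK
  rw [card_map_of_injective (subtype_injective _), Geo.card_comap_surj _ h.mkK_surjective,
    h.ker_mkK, Nat.card_congr (subgroupOfEquivOfLe h.X_le).toEquiv]

theorem card_imgK (hA : A ≤ L) :
    Nat.card A = Nat.card (A ⊓ h.X : Subgroup G) * Nat.card (h.imgK A) := by
  unfold imgK
  rw [← relIndex_ker, h.ker_mkK, relIndex_subgroupOf hA, ← inf_relIndex_left,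
    card_mul_relIndex inf_le_left]

theorem invt_img (hc : c ∈ L) (hn : c ∈ normalizer (A : Set G)) : Invt (h.hat c) (h.img A) := by
  intro x hx
  obtain ⟨u, h1, h2, rfl⟩ := h.mem_img.1 hx
  rw [h.hat_smul hc h2]
  exact h.bar_mem_img (mem_normalizer_conj hn h1) (h.conj_V hc h2)

theorem mem_pre_cV (hc : c ∈ L) :
    u ∈ h.pre (cV h.Mo (h.hat c)) ↔ ∃ v ∈ V, u * ⁅c, v⁆⁻¹ ∈ E := by
  rw [h.mem_pre]
  constructor
  · rintro ⟨h1, x, h2⟩
    obtain ⟨v, hv, rfl⟩ := h.exists_bar x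
    rw [h.cm_hat hc hv] at h2
    exact ⟨v, hv, (h.bar_eq_bar h1 (h.comm_V hc hv)).1 h2.symm⟩
  · rintro ⟨v, hv, e⟩
    have h1 : u ∈ V := by
      have := mul_mem (h.le e) (h.comm_V hc hv)
      rwa [inv_mul_cancel_right] at this
    refine ⟨h1, ?_⟩
    rw [(h.bar_eq_bar h1 (h.comm_V hc hv)).2 e, ← h.cm_hat hc hv]
    exact cm_mem_cV _ _

theorem comm_mem_pre_cV (hc : c ∈ L) (hv : v ∈ V) : ⁅c, v⁆ ∈ h.pre (cV h.Mo (h.hat c)) :=
  (h.mem_pre_cV hc).2 ⟨v, hv, by rw [mul_inv_cancel]; exact one_mem _⟩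

theorem mem_pre_fx (hc : c ∈ L) : u ∈ h.pre (fx h.Mo (h.hat c)) ↔ u ∈ V ∧ ⁅c, u⁆ ∈ E := by
  rw [h.mem_pre]
  exact and_congr_right fun hu => h.bar_mem_fx hc hu

variable [Finite G]

theorem mem_normalizer_pre (hc : c ∈ L) (e : Invt (h.hat c) W) :
    c ∈ normalizer (h.pre W : Set G) :=
  mem_normalizer_of_cj_le (cj_le_iff.2 fun t ht => h.mem_pre.2
    ⟨h.conj_V hc (h.mem_pre.1 ht).1, by
      rw [← h.hat_smul hc (h.mem_pre.1 ht).1]; exact e _ (h.mem_pre.1 ht).2⟩)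

theorem mem_normalizer_preK (hc : c ∈ L) (e : h.hat c ∈ normalizer (B : Set h.Kq)) :
    c ∈ normalizer (h.preK B : Set G) :=
  mem_normalizer_of_cj_le (cj_le_iff.2 fun t ht => h.mem_preK.2
    ⟨mul_mem (mul_mem hc (h.mem_preK.1 ht).1) (inv_mem hc), by
      rw [h.hat_conj hc (h.mem_preK.1 ht).1]; exact mem_normalizer_conj e (h.mem_preK.1 ht).2⟩)

theorem le_normalizer_preK (hB : B.Normal) : L ≤ normalizer (h.preK B : Set G) :=
  fun _ hc => h.mem_normalizer_preK hc (by rw [normalizer_eq_top]; trivial)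

theorem hat_mem_normalizer_imgK (hc : c ∈ L) (e : c ∈ normalizer (A : Set G)) :
    h.hat c ∈ normalizer (h.imgK A : Set h.Kq) :=
  mem_normalizer_of_cj_le (cj_le_iff.2 fun t ht => by
    obtain ⟨a, h1, h2, rfl⟩ := h.mem_imgK.1 ht
    rw [← h.hat_conj hc h2]
    exact h.hat_mem_imgK (mem_normalizer_conj e h1) (mul_mem (mul_mem hc h2) (inv_mem hc)))

theorem normal_imgK (e : L ≤ normalizer (A : Set G)) : (h.imgK A).Normal := by
  rw [← normalizer_eq_top_iff, eq_top_iff]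
  intro k _
  obtain ⟨c, hc, rfl⟩ := h.exists_hat k
  exact h.hat_mem_normalizer_imgK hc (e hc)

omit [Finite G] in
theorem isPGroup_imgK (e : IsPGroup 2 A) : IsPGroup 2 (h.imgK A) := e.comap_subtype.map _

theorem imgK_resOf (hA : A ≤ L) : h.imgK (resOf 2 A) = resOf 2 (h.imgK A) := by
  unfold imgK
  rw [← MSS.map_resOf, resOf_subgroupOf_of_le hA]

theorem isSylowIn_imgK {T : Subgroup G} (hT : IsSylowIn 2 T L) : IsSylowIn 2 (h.imgK T) ⊤ := by
  have := hT.subgroupOf_top.map h.mkK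
  rwa [← MonoidHom.range_eq_map, MonoidHom.range_eq_top.2 h.mkK_surjective] at this

omit [Finite G] in
theorem odd_hat (hc : c ∈ L) (ho : Odd (orderOf c)) : Odd (orderOf (h.hat c)) :=
  Odd.of_dvd_nat ho (orderOf_dvd_of_pow_eq_one
    (by rw [← h.hat_pow hc, pow_orderOf_eq_one, h.hat_one]))

/-- A power of `c` of odd order with the same image. -/
theorem exists_odd_zpowers (hc : c ∈ L) (ho : Odd (orderOf (h.hat c))) :
    ∃ d ∈ zpowers c, Odd (orderOf d) ∧ h.hat d = h.hat c := by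
  obtain ⟨a, m, hm, e⟩ := Nat.exists_eq_two_pow_mul_odd (orderOf_pos c).ne'
  obtain ⟨n, hn⟩ : ∃ n, (h.hat c ^ 2 ^ a) ^ n = h.hat c :=
    exists_pow_eq_self_of_coprime (Nat.Coprime.pow_left a ((Nat.coprime_two_left).2 ho))
  refine ⟨(c ^ 2 ^ a) ^ n, pow_mem (pow_mem (mem_zpowers c) _) _, ?_, ?_⟩
  · refine Odd.of_dvd_nat hm (orderOf_dvd_of_pow_eq_one ?_)
    rw [← pow_mul, mul_comm n, pow_mul, ← pow_mul c, ← e, pow_orderOf_eq_one, one_pow]
  · rw [h.hat_pow (pow_mem hc _), h.hat_pow hc, hn]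

theorem exists_hat_odd {k : h.Kq} (ho : Odd (orderOf k)) :
    ∃ c ∈ L, Odd (orderOf c) ∧ h.hat c = k := by
  obtain ⟨c, hc, rfl⟩ := h.exists_hat k
  obtain ⟨d, hd, h1, h2⟩ := h.exists_odd_zpowers hc ho
  exact ⟨d, zpowers_le.2 hc hd, h1, h2⟩

/-- (LIFT) inside any subgroup `L₁ ≤ L` containing `a` and a preimage `c`. -/
theorem hat_lift {L₁ : Subgroup G} (hL : L₁ ≤ L) {a : G} (ha : a ∈ L₁) (ha2 : a * a = 1)
    (hc : c ∈ L₁) (ho : Odd (orderOf (h.hat c)))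
    (hinv : h.hat a * h.hat c * (h.hat a)⁻¹ = (h.hat c)⁻¹) :
    ∃ d ∈ L₁, Odd (orderOf d) ∧ a * d * a⁻¹ = d⁻¹ ∧ h.hat d = h.hat c ∧
      d ∈ zpowers (a * (d * a * d⁻¹)) := by
  obtain ⟨d, h1, h2, h3, h5, h4⟩ := lift_hom h.mkK (a := ⟨a, hL ha⟩) (d := ⟨c, hL hc⟩)
    (Subtype.ext ha2) (by rw [← h.hat_eq (hL ha), ← h.hat_eq (hL hc)]; exact hinv) ho
    (by rw [← h.hat_eq (hL hc)]; exact pow_orderOf_eq_one _)
  refine ⟨d, ?_, by rwa [Subgroup.orderOf_coe], congrArg Subtype.val h2,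
    (h.hat_coe d).trans (h3.trans (h.hat_eq (hL hc)).symm), ?_⟩
  · obtain ⟨n, hn⟩ := h5
    have : (a * (c * a * c⁻¹)) ^ n = d := by simpa using congrArg Subtype.val hn
    exact this ▸ zpow_mem (mul_mem ha (mul_mem (mul_mem hc ha) (inv_mem hc))) n
  · obtain ⟨n, hn⟩ := h4
    exact ⟨n, by simpa using congrArg Subtype.val hn⟩

/-- BRIDGE for sections. -/
theorem red (hs : Group.IsSolvable L) (hr : ∀ D : Subgroup G, D ≤ L → L ≤ normalizer (D : Set G) →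
    resOf 2 D ≤ h.X → D ≤ h.X) : Red h.Kq h.Mo := by
  refine ⟨h.Mo_sq, fun _ e => h.Kq_eq_one e, Group.isSolvable_of_surjective h.mkK_surjective,
    eq_bot_iff.2 ?_⟩
  have h1 := hr (h.preK (pCore 2 h.Kq)) h.preK_le (h.le_normalizer_preK inferInstance) (by
    rw [← h.preK_bot, ← h.imgK_le_iff ((MSS.resOf_le _).trans h.preK_le), h.imgK_resOf h.preK_le,
      h.imgK_preK]
    exact resOf_le_of_isPGroup (Solv.pCore_isPGroup 2 _) _)
  rw [← h.imgK_preK (B := pCore 2 h.Kq), h.imgK_le_iff h.preK_le, h.preK_bot]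
  exact h1

/-- In a reduced section, a normal subgroup which is a 2-group modulo `X` lies in `X`. -/
theorem le_X_of_red (hr : Red h.Kq h.Mo) {D : Subgroup G} (h1 : D ≤ L)
    (h2 : L ≤ normalizer (D : Set G)) (h3 : resOf 2 D ≤ h.X) : D ≤ h.X := by
  have h4 : IsPGroup 2 (h.imgK D) := by
    rw [← MSS.resOf_eq_bot_iff, ← h.imgK_resOf h1, eq_bot_iff,
      h.imgK_le_iff ((MSS.resOf_le _).trans h1), h.preK_bot]
    exact h3
  have h5 : h.imgK D ≤ pCore 2 h.Kq := le_sSup ⟨h.normal_imgK h2, h4⟩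
  rwa [hr.core, h.imgK_le_iff h1, h.preK_bot] at h5

end Sec

/-! ### The case `E = 1` -/

namespace Sec

variable {L V : Subgroup G} (h : Sec L V ⊥) {u v c d : G} {A : Subgroup G}
include h

theorem ea : IsElementaryAbelian 2 V := ea_of_sq fun u hu => h.sq u hu

theorem X_eq : h.X = L ⊓ centralizer (V : Set G) :=
  le_antisymm (fun _ hc => ⟨hc.1, fun u hu =>
    (commutatorElement_eq_one_iff_mul_comm.1 (hc.2 u hu)).symm⟩) h.inf_centralizer_le_X

theorem bar_inj (hu : u ∈ V) (hv : v ∈ V) : h.bar u = h.bar v ↔ u = v := by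
  rw [h.bar_eq_bar hu hv, mem_bot, mul_inv_eq_one]

theorem bar_eq_one' (hu : u ∈ V) : h.bar u = 1 ↔ u = 1 := h.bar_eq_one hu

theorem hat_eq_one' (hc : c ∈ L) : h.hat c = 1 ↔ c ∈ centralizer (V : Set G) := by
  rw [h.hat_eq_one hc, h.X_eq]
  exact and_iff_right hc

theorem hat_eq_hat' (hc : c ∈ L) (hd : d ∈ L) :
    h.hat c = h.hat d ↔ c * d⁻¹ ∈ centralizer (V : Set G) := by
  rw [h.hat_eq_hat hc hd, h.X_eq]
  exact and_iff_right (mul_mem hc (inv_mem hd) : c * d⁻¹ ∈ L)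

theorem hat_smul_eq_iff' (hc : c ∈ L) (hu : u ∈ V) :
    h.hat c • h.bar u = h.bar u ↔ c * u = u * c := by
  rw [h.hat_smul_eq_iff hc hu, mem_bot, commutatorElement_eq_one_iff_mul_comm]

theorem bar_mem_fx' (hc : c ∈ L) (hu : u ∈ V) :
    h.bar u ∈ fx h.Mo (h.hat c) ↔ c * u = u * c := by rw [mem_fx, h.hat_smul_eq_iff' hc hu]

theorem bar_mem_img' (hu : u ∈ V) : h.bar u ∈ h.img A ↔ u ∈ A := h.bar_mem_img_iff bot_le hu

theorem pre_img' (hA : A ≤ V) : h.pre (h.img A) = A := h.pre_img bot_le hA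

theorem card_pre' (W : Subgroup h.Mo) : Nat.card (h.pre W) = Nat.card W := by
  rw [h.card_pre, card_bot, one_mul]

theorem card_Mo : Nat.card h.Mo = Nat.card V := by rw [h.card_V, card_bot, one_mul]

theorem card_img' (hA : A ≤ V) : Nat.card (h.img A) = Nat.card A := by
  rw [h.card_img bot_le hA, card_bot, one_mul]

theorem card_imgK' (hA : A ≤ L) : Nat.card A =
    Nat.card (A ⊓ centralizer (V : Set G) : Subgroup G) * Nat.card (h.imgK A) := by
  rw [h.card_imgK hA, h.X_eq, ← inf_assoc, inf_eq_left.2 hA]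

theorem mem_pre_cV' (hc : c ∈ L) : u ∈ h.pre (cV h.Mo (h.hat c)) ↔ ∃ v ∈ V, u = ⁅c, v⁆ := by
  simp only [h.mem_pre_cV hc, mem_bot, mul_inv_eq_one]

theorem pre_fx (hc : c ∈ L) : h.pre (fx h.Mo (h.hat c)) = V ⊓ centralizer {c} := by
  ext u
  rw [h.mem_pre_fx hc, mem_bot, commutatorElement_eq_one_iff_mul_comm, mem_inf,
    mem_centralizer_singleton_iff, eq_comm]

theorem oddOn_iff [Finite G] (hc : c ∈ L) : OddOn V c ↔ Odd (orderOf (h.hat c)) :=
  ⟨fun ⟨m, h1, h2⟩ => Geo.odd_orderOf_of_pow h1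
    (by rw [← h.hat_pow hc, h.hat_eq_one' (pow_mem hc m)]; exact h2),
  fun h1 => ⟨_, h1, (h.hat_eq_one' (pow_mem hc _)).1
    (by rw [h.hat_pow hc, pow_orderOf_eq_one])⟩⟩

theorem pre_cV [Finite G] (hc : c ∈ L) : h.pre (cV h.Mo (h.hat c)) = ⁅V, zpowers c⁆ := by
  refine le_antisymm (fun u hu => ?_) (commutator_le.2 fun v hv x hx => ?_)
  · obtain ⟨v, hv, rfl⟩ := (h.mem_pre_cV' hc).1 hu
    rw [commutator_comm]
    exact commutator_mem_commutator (mem_zpowers c) hv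
  · have hx' := zpowers_le.2 hc hx
    rw [← commutatorElement_inv]
    refine inv_mem (h.pre_mono (cV_le_of_mem_zpowers ?_) (h.comm_mem_pre_cV hx' hv))
    obtain ⟨n, rfl⟩ := (mem_powers_iff_mem_zpowers.2 hx)
    rw [h.hat_pow hc]
    exact pow_mem (mem_zpowers _) n

/-- BRIDGE. -/
theorem red' [Finite G] (hs : Group.IsSolvable L) (hr : PRed 2 V L) : Red h.Kq h.Mo :=
  h.red hs fun D h1 h2 h3 => by
    rw [h.X_eq] at h3 ⊢
    exact le_inf h1 (hr.le_centralizer h1 h2 (h3.trans inf_le_right))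

end Sec

end Cfsg.Lib.Ngrp
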