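import Cfsg.Agent.Ngrp.NatFF
import Cfsg.Agent.Local.PMinimal

/-!
# Case (C): the subgroup `Y`, property (U') and PJ
-/

set_option autoImplicit false
set_option linter.unusedSectionVars false

namespace Cfsg.Lib.Ngrp
open Subgroup Cfsg.Lib.Trans Cfsg.Lib.Local Cfsg.Lib.Local.MSS Cfsg.Lib.Local.JC Cfsg.Lib.Trans.TJ
open Cfsg.Lib.Local.Tv Cfsg.Lib.Ngrp.Geo
open scoped commutatorElement Pointwise

variable {G : Type*} [Group G] [Finite G]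

local notation "𝐍 " X:max => normalizer (X : Set G)
local notation "𝐂 " X:max => centralizer (X : Set G)

theorem over_of_normal {S L D : Subgroup G} (hS : S ≤ L) (hD : IsPGroup 2 D) (h1 : D ≠ ⊥)
    (h2 : D ≤ L) (h3 : L ≤ 𝐍 D) : Over S L :=
  ⟨hS, fun e => h1 (eq_bot_iff.2 (e ▸ MSS.le_pCoreOf h2 h3 hD))⟩

theorem over_normalizer {S D : Subgroup G} (hD : IsPGroup 2 D) (h1 : D ≠ ⊥) (hS : S ≤ 𝐍 D) :
    Over S (𝐍 D) := over_of_normal hS hD h1 le_normalizer le_rfl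

theorem over_Cz {S : Subgroup G} {c : G} (hc : c * c = 1) (h1 : c ≠ 1) (hS : S ≤ Cz c) :
    Over S (Cz c) := by
  rw [← normalizer_zpowers_eq hc] at hS ⊢
  exact over_normalizer (isPGroup_zpowers_two hc) (by simpa using h1) hS

theorem Over.solv {S L : Subgroup G} (h : Over S L) (ah : AH G) : Group.IsSolvable L :=
  ah_solvable_of_le ah (MSS.isPGroup_pCoreOf L) h.2 (MSS.self_le_normalizer_pCoreOf L)

theorem Over.charP {S : Sylow 2 G} {L : Subgroup G} (h : Over S L) (ah : AH G) :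
    Local.CharP 2 L := by
  have h1 := ah_charP_normalizer ah (MSS.isPGroup_pCoreOf (p := 2) L) h.2
  have h2 := MSS.self_le_normalizer_pCoreOf (p := 2) L
  have h3 : pCoreOf 2 (𝐍 (pCoreOf 2 L)) = pCoreOf 2 L := le_antisymm
    (MSS.pCoreOf_le_pCoreOf_of_le ((MSS.pCoreOf_le_sylow S (h.1.trans h2)).trans h.1) h2)
    (MSS.le_pCoreOf le_normalizer le_rfl (MSS.isPGroup_pCoreOf L))
  unfold Local.CharP at h1 ⊢
  rw [h3] at h1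
  exact (inf_le_inf_right _ h2).trans h1

theorem Over.syl {S : Sylow 2 G} {L : Subgroup G} (h : Over S L) : IsSylowIn 2 (S : Subgroup G) L :=
  isSylowIn_of_le S h.1

theorem Over.ffh {S : Sylow 2 G} {L : Subgroup G} (h : Over S L) (ah : AH G) :
    FFH (largestPReducedOf 2 L) S L := ffh_yOf_sylow (h.solv ah) h.syl

omit [Finite G] in
theorem mem_of_inverted {a d : G} {N : Subgroup G} (ho : Odd (orderOf d))
    (hinv : a * d * a⁻¹ = d⁻¹) (h : ⁅d, a⁆ ∈ N) : d ∈ N := by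
  have e : ⁅d, a⁆ = d * d := by
    rw [commutatorElement_def]
    calc d * a * d⁻¹ * a⁻¹ = d * (a * d * a⁻¹)⁻¹ := by group
      _ = d * d := by rw [hinv, inv_inv]
  obtain ⟨k, hk⟩ := Tv.exists_eq_sq_pow_of_odd ho
  rw [hk, ← e]
  exact pow_mem h k

/-- The normal closure of an element of odd order inverted by an element of `X`. -/
theorem ncl_zpowers_le_resOf {X L : Subgroup G} {a d : G} (ha : a ∈ X) (hd : d ∈ L)
    (ho : Odd (orderOf d)) (hinv : a * d * a⁻¹ = d⁻¹) :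
    ncl (zpowers d) L ≤ resOf 2 (ncl X L) := by
  refine MSS.ncl_le (zpowers_le.2 (MSS.mem_resOf (mem_of_inverted ho hinv ?_)
    (Nat.coprime_two_right.2 ho))) (MSS.le_normalizer_resOf (le_normalizer_ncl _ _))
  exact mul_mem (cj_le_ncl X hd (conj_mem_cj.2 ha)) (inv_mem (le_ncl _ _ ha))

namespace MaxY

variable {S : Sylow 2 G} {Y : Subgroup G} (h : MaxY S Y)
include h

theorem ea : IsElementaryAbelian 2 Y := h.eq ▸ yOf_ea _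
theorem pg : IsPGroup 2 Y := isPGroup_of_ea h.ea
theorem pred : PRed 2 Y (𝐍 Y) := by
  have := yOf_pRed (p := 2) (𝐍 Y)
  rwa [h.eq] at this
theorem syl : IsSylowIn 2 (S : Subgroup G) (𝐍 Y) := isSylowIn_of_le S h.le
theorem charP : Local.CharP 2 (𝐍 Y) := ah_charP_normalizer h.ah h.pg h.ne
theorem solv : Group.IsSolvable (𝐍 Y) := ah_solvable_normalizer h.ah h.pg h.ne
theorem overM : Over S (𝐍 Y) := over_normalizer h.pg h.ne h.le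
theorem oc : Y = omegaCenterOf ((S : Subgroup G) ⊓ 𝐂 Y) := by
  have := yOf_eq_omega h.charP h.syl
  rwa [h.eq] at this
theorem YR : Y ≤ (S : Subgroup G) ⊓ 𝐂 Y := h.oc.le.trans (oc_le _)
theorem YS : Y ≤ S := h.YR.trans inf_le_left
theorem YC : Y ≤ 𝐂 Y := ea_le_centralizer h.ea
theorem pR : IsPGroup 2 ((S : Subgroup G) ⊓ 𝐂 Y : Subgroup G) := S.isPGroup'.to_inf_left
theorem R_ne : (S : Subgroup G) ⊓ 𝐂 Y ≠ ⊥ := fun e => h.ne (eq_bot_iff.2 (e ▸ h.YR))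
theorem Z_le : omegaCenterOf (S : Subgroup G) ≤ Y := by
  have := omega_center_le_yOf h.charP h.syl
  rwa [h.eq] at this
theorem Z_ne : omegaCenterOf (S : Subgroup G) ≠ ⊥ :=
  oc_ne_bot S.isPGroup' fun e => h.ne (eq_bot_iff.2 (e ▸ h.YS))

/-- The FFJ data of `Y`; `h.ffh.sec` is the module and `h.ffh.red` says that it is reduced. -/
theorem ffh : FFH Y S (𝐍 Y) := ⟨h.ea, h.YS, h.le, h.solv, h.pred⟩

theorem S_le_M1 : (S : Subgroup G) ≤ 𝐍 Y ⊓ 𝐍 ((S : Subgroup G) ⊓ 𝐂 Y : Subgroup G) :=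
  le_inf_normalizer_inf_centralizer h.le le_rfl

theorem M_le : 𝐍 Y ≤ 𝐂 Y ⊔ 𝐍 Y ⊓ 𝐍 ((S : Subgroup G) ⊓ 𝐂 Y : Subgroup G) :=
  le_centralizer_sup_normalizer h.syl le_rfl

theorem pred_M1 : PRed 2 Y (𝐍 Y ⊓ 𝐍 ((S : Subgroup G) ⊓ 𝐂 Y : Subgroup G)) :=
  h.pred.inf_normalizer h.syl

theorem core_M1 : pCoreOf 2 (𝐍 Y ⊓ 𝐍 ((S : Subgroup G) ⊓ 𝐂 Y : Subgroup G)) =
    (S : Subgroup G) ⊓ 𝐂 Y := h.pred.pCoreOf_inf_normalizer h.syl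

theorem nR_le : 𝐍 ((S : Subgroup G) ⊓ 𝐂 Y : Subgroup G) ≤ 𝐍 Y := by
  have := normalizer_le_normalizer_oc ((S : Subgroup G) ⊓ 𝐂 Y)
  rwa [← h.oc] at this

theorem yOf_eq {L X : Subgroup G} (hL : Over S L) (h1 : (S : Subgroup G) ≤ X) (h2 : X ≤ L)
    (h3 : PRed 2 Y X) : largestPReducedOf 2 L = Y :=
  (Subgroup.eq_of_le_of_card_ge (le_yOf_of_sylow_le (hL.charP h.ah) h3 h.ea (h.YS.trans h1) hL.syl
    h1 h2) (h.max L hL)).symm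

/-- (U'), basic form. -/
theorem up0 {L X : Subgroup G} (hL : Over S L) (h1 : (S : Subgroup G) ≤ X) (h2 : X ≤ L)
    (h3 : PRed 2 Y X) : L ≤ 𝐍 Y := by
  rw [← h.yOf_eq hL h1 h2 h3]; exact self_le_normalizer_yOf L

/-- (U'). -/
theorem up {D : Subgroup G} (hD : IsPGroup 2 D) (h1 : D ≠ ⊥)
    (h2 : 𝐍 Y ⊓ 𝐍 ((S : Subgroup G) ⊓ 𝐂 Y : Subgroup G) ≤ 𝐍 D) : 𝐍 D ≤ 𝐍 Y :=
  h.up0 (over_normalizer hD h1 (h.S_le_M1.trans h2)) h.S_le_M1 h2 h.pred_M1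

/-- (U') for an overgroup `L` with `M = C(Y) (L ∩ M)`. -/
theorem up_sup {L : Subgroup G} (hL : Over S L) (h1 : 𝐍 Y ≤ 𝐂 Y ⊔ 𝐍 Y ⊓ L) : L ≤ 𝐍 Y :=
  h.up0 hL (le_inf h.le hL.1) inf_le_right
    (h.pred.of_le_sup_centralizer (inf_le_left.trans le_sup_right) h1)

theorem nJR_le : 𝐍 (J ((S : Subgroup G) ⊓ 𝐂 Y)) ≤ 𝐍 Y :=
  h.up (h.pR.to_le (TJ.J_le _)) (J_ne_bot h.pR h.R_ne)
    (inf_le_right.trans (normalizer_le_normalizer_J _))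

theorem exists_hat (k : h.ffh.sec.Kq) :
    ∃ m ∈ 𝐍 Y ⊓ 𝐍 ((S : Subgroup G) ⊓ 𝐂 Y : Subgroup G), h.ffh.sec.hat m = k := by
  obtain ⟨g, hg, rfl⟩ := h.ffh.sec.exists_hat k
  obtain ⟨c, hc, m, hm, e⟩ := (Solv.mem_sup_of_le_normalizer (inf_le_left.trans
    (normalizer_le_normalizer_centralizer Y))).1 (h.M_le hg)
  exact ⟨m, hm, ((h.ffh.sec.hat_eq_hat' hg hm.1).2 (by simpa [← e] using hc)).symm⟩

theorem exists_hat_odd {k : h.ffh.sec.Kq} (ho : Odd (orderOf k)) :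
    ∃ m ∈ 𝐍 Y ⊓ 𝐍 ((S : Subgroup G) ⊓ 𝐂 Y : Subgroup G), Odd (orderOf m) ∧ h.ffh.sec.hat m = k := by
  obtain ⟨m, hm, rfl⟩ := h.exists_hat k
  obtain ⟨d, hd, h1, h2⟩ := h.ffh.sec.exists_odd_zpowers hm.1 ho
  exact ⟨d, zpowers_le.2 hm hd, h1, h2⟩

/-- LIFT inside `M₁ = N_M(R)`. -/
theorem lift {a : G} (ha : a ∈ 𝐍 Y ⊓ 𝐍 ((S : Subgroup G) ⊓ 𝐂 Y : Subgroup G)) (h2 : a * a = 1)
    {k : h.ffh.sec.Kq} (ho : Odd (orderOf k))
    (hinv : h.ffh.sec.hat a * k * (h.ffh.sec.hat a)⁻¹ = k⁻¹) :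
    ∃ d ∈ 𝐍 Y ⊓ 𝐍 ((S : Subgroup G) ⊓ 𝐂 Y : Subgroup G), Odd (orderOf d) ∧ a * d * a⁻¹ = d⁻¹ ∧
      h.ffh.sec.hat d = k := by
  obtain ⟨m, hm, rfl⟩ := h.exists_hat k
  obtain ⟨d, h3, h4, h5, h6, -⟩ := h.ffh.sec.hat_lift inf_le_left ha h2 hm ho hinv
  exact ⟨d, h3, h4, h5, h6⟩

/-- PJ0. -/
theorem pj0 (nj : 𝐍 (J (S : Subgroup G)) ≤ 𝐍 Y) {t e : G} (ht : t ∈ Y) (h1 : t ≠ 1)
    (hJ : J (S : Subgroup G) ≤ Cz t) (he : e ∈ 𝐍 Y) (ho : Odd (orderOf e)) (het : e ∈ Cz t)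
    (hF : h.ffh.sec.hat e ∈ fittingSubgroup h.ffh.sec.Kq)
    (hc : e ∈ 𝐂 (Y ⊓ largestPReducedOf 2 (Cz t) : Subgroup G)) : e ∈ 𝐂 Y := by
  by_contra hn
  have t2 := ea_sq h.ea ht
  obtain ⟨T, hT, hJT⟩ := exists_isSylowIn_ge (S.isPGroup'.to_le (TJ.J_le _)) hJ
  have e1 : J T = J (S : Subgroup G) := J_eq_of_sylowIn (isSylowIn_top S) hT.isPGroup le_top hJT
  have hTM : T ≤ 𝐍 Y := (TJ.le_normalizer_J T).trans (by rw [← J, e1]; exact nj)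
  set L₀ := Cz t ⊓ 𝐍 Y with hL₀
  have hYL : Y ≤ L₀ := le_inf (h.YC.trans (le_Cz_of_mem ht)) le_normalizer
  obtain ⟨X, ⟨x1, x2, x3⟩, hmin⟩ := (wellFounded_lt (α := Subgroup G)).has_min
    {X | X ≤ Y ∧ L₀ ≤ 𝐍 X ∧ e ∉ 𝐂 X} ⟨Y, le_rfl, inf_le_right, hn⟩
  have heL : e ∈ L₀ := ⟨het, he⟩
  set E := ncl (zpowers e) L₀
  have hEL : E ≤ L₀ := ncl_le_of_le (zpowers_le.2 heL)
  have hEo : ∀ x ∈ E, OddOn X x := fun x hx => by
    have : E ≤ h.ffh.sec.preK (fittingSubgroup _) := MSS.ncl_le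
      (zpowers_le.2 (h.ffh.sec.mem_preK.2 ⟨he, hF⟩))
      (inf_le_right.trans (h.ffh.sec.le_normalizer_preK inferInstance))
    have h2 := h.ffh.sec.mem_preK.1 (this hx)
    exact ((h.ffh.sec.oddOn_iff h2.1).2 (h.ffh.red.odd_of_mem h2.2)).mono x1
  have hr : PRed 2 X L₀ := ⟨x2, fun D d1 d2 d3 => by
    by_contra hD
    have hlt : X ⊓ 𝐂 D < X := lt_of_le_of_ne inf_le_left fun e =>
      hD (le_centralizer_iff.1 (inf_eq_left.1 e))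
    have hn' : L₀ ≤ 𝐍 (X ⊓ 𝐂 D : Subgroup G) := fun g hg => by
      rw [← cj_eq_self_iff, cj_inf, cj_centralizer, cj_eq_of_mem_normalizer (x2 hg),
        cj_eq_of_mem_normalizer (d2 hg)]
    have h2 : e ∈ 𝐂 (X ⊓ 𝐂 D : Subgroup G) := by
      by_contra h3
      exact hmin _ ⟨inf_le_left.trans x1, hn', h3⟩ hlt
    have h3 : E ≤ 𝐂 (X ⊓ 𝐂 D : Subgroup G) := MSS.ncl_le (zpowers_le.2 h2)
      (hn'.trans (normalizer_le_normalizer_centralizer _))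
    have h4 := p_times_q (R := D) (E := E) (h.pg.to_le x1) (d1.trans x2)
      ((MSS.resOf_le _).trans (hEL.trans x2)) d3 ?_ ((MSS.resOf_le _).trans h3)
    · exact x3 (h4 (MSS.mem_resOf (le_ncl _ _ (mem_zpowers e)) (Nat.coprime_two_right.2 ho)))
    · refine commutator_le.2 fun r hr x hx => ?_
      have hx' := MSS.resOf_le _ hx
      have a1 : ⁅r, x⁆ ∈ E := mul_mem (mem_normalizer_conj (le_normalizer_ncl _ _ (d1 hr)) hx')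
        (inv_mem hx')
      have a2 : ⁅r, x⁆ ∈ D := by
        have := mul_mem hr (mem_normalizer_conj (d2 (hEL hx')) (inv_mem hr))
        rwa [← mul_assoc, ← mul_assoc] at this
      obtain ⟨k, hk⟩ := MSS.exists_pow_mem_resOf (p := 2) a2
      exact (hEo _ a1).mem_of_pow (d3 hk)⟩
  have h5 := le_yOf_of_sylow_le (ah_charP_Cz h.ah t2 h1) hr (ea_mono h.ea x1) (x1.trans hYL) hT
    (le_inf hT.le hTM) inf_le_left
  exact x3 (centralizer_le (le_inf x1 h5) hc)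

/-- PJ in its basic form. -/
theorem pj (nj : 𝐍 (J (S : Subgroup G)) ≤ 𝐍 Y) {t β : G} (ht : t ∈ Y) (h1 : t ≠ 1)
    (hJ : J (S : Subgroup G) ≤ Cz t) {δ : h.ffh.sec.Kq} (hF : δ ∈ fittingSubgroup h.ffh.sec.Kq)
    (hδ : δ ≠ 1) (hf : δ • h.ffh.sec.bar t = h.ffh.sec.bar t) (hβ : β ∈ 𝐍 Y)
    (hβ' : β ∈ resOf 2 (ncl (J (S : Subgroup G)) (Cz t))) {k : ℕ}
    (h2 : h.ffh.sec.hat β ^ 2 ^ k = 1) :
    h.ffh.sec.hat β * δ * (h.ffh.sec.hat β)⁻¹ ≠ δ⁻¹ := by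
  intro hinv
  have t2 := ea_sq h.ea ht
  obtain ⟨e, he, ho, rfl⟩ := h.ffh.sec.exists_hat_odd (h.ffh.red.odd_of_mem hF)
  have het : e ∈ Cz t := mem_Cz.2 ((h.ffh.sec.hat_smul_eq_iff' he ht).1 hf)
  refine hδ ((h.ffh.sec.hat_eq_one' he).2 (h.pj0 nj ht h1 hJ he ho het hF ?_))
  obtain ⟨T, hT, hJT⟩ := exists_isSylowIn_ge (S.isPGroup'.to_le (TJ.J_le _)) hJ
  have e1 : J T = J (S : Subgroup G) := J_eq_of_sylowIn (isSylowIn_top S) hT.isPGroup le_top hJT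
  have a1 := (ffh_yOf_sylow (ah_solvable_Cz h.ah t2 h1) hT).ffd (e1 ▸ hβ')
  set X := Y ⊓ largestPReducedOf 2 (Cz t)
  have a2 : β ∈ 𝐂 X := (a1.mono inf_le_right).mem_of_pow (k := k) (centralizer_le inf_le_left
    ((h.ffh.sec.hat_eq_one' (pow_mem hβ _)).1 (by rw [h.ffh.sec.hat_pow hβ, h2])))
  have a3 : e ∈ 𝐍 X := by
    rw [← cj_eq_self_iff, cj_inf, cj_eq_of_mem_normalizer he,
      cj_eq_of_mem_normalizer (self_le_normalizer_yOf _ het)]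
  have a4 : β * e * β⁻¹ * e ∈ 𝐂 X := centralizer_le inf_le_left
    ((h.ffh.sec.hat_eq_one' (mul_mem (mul_mem (mul_mem hβ he) (inv_mem hβ)) he)).1 (by
      rw [h.ffh.sec.hat_mul (mul_mem (mul_mem hβ he) (inv_mem hβ)) he, h.ffh.sec.hat_conj hβ he,
        hinv, inv_mul_cancel]))
  have a5 := mul_mem (inv_mem (mul_mem a2 (mem_normalizer_conj
    (normalizer_le_normalizer_centralizer _ a3) (inv_mem a2)))) a4
  obtain ⟨n, hn⟩ := Tv.exists_eq_sq_pow_of_odd ho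
  rw [hn]
  refine pow_mem ?_ n
  convert a5 using 1
  group

/-- PJ. -/
theorem pj_d (nj : 𝐍 (J (S : Subgroup G)) ≤ 𝐍 Y) {t β a d : G} (ht : t ∈ Y) (h1 : t ≠ 1)
    (hJ : J (S : Subgroup G) ≤ Cz t) (ha : a ∈ J (S : Subgroup G)) (hd : d ∈ Cz t)
    (ho : Odd (orderOf d)) (hinv : a * d * a⁻¹ = d⁻¹) {δ : h.ffh.sec.Kq}
    (hF : δ ∈ fittingSubgroup h.ffh.sec.Kq) (hδ : δ ≠ 1)
    (hf : δ • h.ffh.sec.bar t = h.ffh.sec.bar t) (hβ : β ∈ 𝐍 Y)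
    (hβ' : β ∈ ncl (zpowers d) (Cz t)) {k : ℕ} (h2 : h.ffh.sec.hat β ^ 2 ^ k = 1) :
    h.ffh.sec.hat β * δ * (h.ffh.sec.hat β)⁻¹ ≠ δ⁻¹ :=
  h.pj nj ht h1 hJ hF hδ hf hβ (ncl_zpowers_le_resOf ha hd ho hinv hβ') h2

end MaxY

end Cfsg.Lib.Ngrp
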