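import Cfsg.Agent.Ngrp.NatC1
import Cfsg.Agent.Ngrp.NatJ2
import Cfsg.Agent.Solv.CoprimeGen

/-!
# Case (C): the structure of `H`, (K1), (K2) and admissible pairs
-/

set_option autoImplicit false
set_option linter.unusedSectionVars false

namespace Cfsg.Lib.Ngrp
open Subgroup Cfsg.Lib.Trans Cfsg.Lib.Local Cfsg.Lib.Local.MSS Cfsg.Lib.Local.JC Cfsg.Lib.Trans.TJ
open Cfsg.Lib.Local.Tv Cfsg.Lib.Ngrp.Geo
open scoped commutatorElement Pointwise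

variable {G : Type*} [Group G] [Finite G]

local notation "𝐍 " X:max => normalizer (X : Set G)
local notation "𝐂 " X:max => centralizer (X : Set G)

theorem le_normalizer_inf₂ {A B C : Subgroup G} (h1 : A ≤ 𝐍 B) (h2 : A ≤ 𝐍 C) :
    A ≤ 𝐍 (B ⊓ C : Subgroup G) := fun g hg => by
  rw [← cj_eq_self_iff, cj_inf, cj_eq_of_mem_normalizer (h1 hg), cj_eq_of_mem_normalizer (h2 hg)]

theorem le_normalizer_sup₂ {A B C : Subgroup G} (h1 : A ≤ 𝐍 B) (h2 : A ≤ 𝐍 C) :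
    A ≤ 𝐍 (B ⊔ C : Subgroup G) := fun g hg => by
  rw [← cj_eq_self_iff, cj_sup, cj_eq_of_mem_normalizer (h1 hg), cj_eq_of_mem_normalizer (h2 hg)]

theorem le_normalizer_comm₂ {A B C : Subgroup G} (h1 : A ≤ 𝐍 B) (h2 : A ≤ 𝐍 C) :
    A ≤ 𝐍 (⁅B, C⁆ : Subgroup G) := (le_inf h1 h2).trans (normalizer_le_normalizer_commutator B C)

theorem comm_mem_left {A : Subgroup G} {a g : G} (ha : a ∈ A) (hg : g ∈ 𝐍 A) : ⁅a, g⁆ ∈ A := by
  have := mul_mem ha (mem_normalizer_conj hg (inv_mem ha))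
  rwa [← mul_assoc, ← mul_assoc] at this

theorem comm_mem_right {A : Subgroup G} {a g : G} (hg : g ∈ 𝐍 A) (ha : a ∈ A) : ⁅g, a⁆ ∈ A :=
  mul_mem (mem_normalizer_conj hg ha) (inv_mem ha)

theorem mem_normalizer_of_comm_mem {A : Subgroup G} {g : G} (h : ∀ a ∈ A, ⁅g, a⁆ ∈ A) : g ∈ 𝐍 A :=
  mem_normalizer_of_cj_le (cj_le_iff.2 fun a ha => by
    simpa [commutatorElement_def] using mul_mem (h a ha) ha)

/-- The odd part of an element having odd order modulo `Q`. -/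
theorem exists_odd_part {Q : Subgroup G} {x : G} {m : ℕ} (hm : Odd m) (h : x ^ m ∈ Q) :
    ∃ d ∈ zpowers x, Odd (orderOf d) ∧ d * x⁻¹ ∈ Q := by
  obtain ⟨a, l, hl, e⟩ := Nat.exists_eq_two_pow_mul_odd (orderOf_pos x).ne'
  have hc : Nat.Coprime (2 ^ a) (m * l) :=
    Nat.Coprime.pow_left a (Nat.coprime_two_left.2 (hm.mul hl))
  have e1 := Nat.gcd_eq_gcd_ab (2 ^ a) (m * l)
  rw [hc.gcd_eq_one] at e1
  refine ⟨(x ^ 2 ^ a) ^ Nat.gcdA (2 ^ a) (m * l), zpow_mem (pow_mem (mem_zpowers x) _) _, ?_, ?_⟩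
  · refine Odd.of_dvd_nat hl (orderOf_dvd_of_pow_eq_one ?_)
    rw [← zpow_natCast, ← zpow_mul, mul_comm, zpow_mul, zpow_natCast, ← pow_mul, ← e,
      pow_orderOf_eq_one, one_zpow]
  · have : (x ^ 2 ^ a) ^ Nat.gcdA (2 ^ a) (m * l) * x⁻¹ =
        (x ^ m) ^ (-(l * Nat.gcdB (2 ^ a) (m * l))) := by
      rw [← zpow_natCast, ← zpow_natCast x m, ← zpow_mul, ← zpow_mul, ← zpow_sub_one]
      congr 1
      push_cast at e1 ⊢
      linear_combination -e1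
    rw [this]
    exact zpow_mem h _

/-- Coprime action of an elementary abelian 2-group on a section of odd order. -/
theorem exists_hyperplane_mod {H Q K A X : Subgroup G} (hQ : H ≤ 𝐍 Q) (hK : K ≤ H) (hA : A ≤ H)
    (h2 : IsElementaryAbelian 2 A) (hn : A ≤ 𝐍 K) (ho : ∀ k ∈ K, ∃ m, Odd m ∧ k ^ m ∈ Q)
    (hX : K ⊓ Q ≤ X) (hX' : X ≤ K) (hKX : ¬ K ≤ X) :
    ∃ B ≤ A, A ⊓ Q ≤ B ∧ (∃ a ∈ A, ∀ x ∈ A, x ∈ B ∨ a * x ∈ B) ∧
      ∃ k ∈ K, k ∉ X ∧ ∀ b ∈ B, ⁅k, b⁆ ∈ Q := by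
  have hN : (Q.subgroupOf H).Normal := normal_subgroupOf_of_le_normalizer hQ
  set π := QuotientGroup.mk' (Q.subgroupOf H)
  have hπ : ∀ x : H, π x = 1 ↔ (x : G) ∈ Q := fun x =>
    (QuotientGroup.eq_one_iff x).trans mem_subgroupOf
  have hA2 : IsElementaryAbelian 2 ((A.subgroupOf H).map π) := ea_map (ea_subgroupOf h2 H) π
  have : IsMulCommutative ((A.subgroupOf H).map π) :=
    ⟨⟨fun x y => Subtype.ext (ea_comm hA2 x.2 y.2)⟩⟩
  have hcop : (Nat.card ((A.subgroupOf H).map π)).Coprime (Nat.card ((K.subgroupOf H).map π)) := by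
    obtain ⟨n, hn⟩ := (IsPGroup.iff_card).1 (ea_isPGroup hA2)
    rw [hn]
    refine Nat.Coprime.pow_left n ((Nat.Prime.coprime_iff_not_dvd Nat.prime_two).2 fun hd => ?_)
    obtain ⟨⟨_, k, hk, rfl⟩, h1⟩ := exists_prime_orderOf_dvd_card' 2 hd
    obtain ⟨m, h3, h4⟩ := ho k hk
    rw [← Subgroup.orderOf_coe] at h1
    have h5 : orderOf (π k) ∣ m := orderOf_dvd_of_pow_eq_one (by
      rw [← map_pow]; exact (hπ _).2 h4)
    rw [show orderOf (π k) = 2 from h1] at h5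
    exact (Nat.not_even_iff_odd.2 h3) (even_iff_two_dvd.2 h5)
  by_contra hcon
  refine hKX fun k hk => ?_
  have key := Solv.Coprime.le_of_forall_cocyclic (H := (X.subgroupOf H).map π)
    (((le_normalizer_subgroupOf_iff hA hK).2 hn |> map_mono).trans (le_normalizer_map π)) hcop ?_
  · obtain ⟨x, h3, h4⟩ := key (mem_map_of_mem π (show (⟨k, hK hk⟩ : H) ∈ K.subgroupOf H from hk))
    have h5 : k * (x : G)⁻¹ ∈ Q := (hπ (⟨k, hK hk⟩ * x⁻¹)).1 (by rw [map_mul, map_inv, h4]; simp)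
    simpa using mul_mem (hX ⟨K.mul_mem hk (K.inv_mem (hX' h3)), h5⟩) h3
  · rintro B hB ⟨a, ha, e⟩ _ ⟨⟨k, hk, rfl⟩, hc⟩
    by_contra hk'
    refine hcon ⟨A ⊓ (B.comap π).map H.subtype, inf_le_left, fun x hx => ⟨hx.1, ⟨x, hA hx.1⟩, ?_, rfl⟩,
      ?_, k, hk, fun e => hk' (mem_map_of_mem π e), ?_⟩
    · rw [SetLike.mem_coe, mem_comap, (hπ ⟨x, hA hx.1⟩).2 hx.2]; exact one_mem _
    · obtain ⟨a, ha', rfl⟩ := ha
      refine ⟨a, ha', fun x hx => ?_⟩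
      have h3 : π ⟨x, hA hx⟩ ∈ B ⊔ zpowers (π a) := e ▸ mem_map_of_mem π hx
      have haA := mem_map_of_mem π ha'
      rcases (mem_sup_zpowers_two (mem_normalizer_of_comm fun b hb => ea_comm hA2 haA (hB hb))
        (by rw [ea_sq hA2 haA]; exact one_mem _)).1 h3 with h4 | h4
      · exact Or.inl ⟨hx, ⟨x, hA hx⟩, h4, rfl⟩
      · exact Or.inr ⟨mul_mem ha' hx, a * ⟨x, hA hx⟩, h4, rfl⟩
    · rintro _ ⟨-, b, hb, rfl⟩
      refine (hπ ⁅k, b⁆).1 ?_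
      rw [map_commutatorElement, commutatorElement_eq_one_iff_mul_comm]
      exact (hc _ hb).symm

/-- An admissible pair for the elementary abelian subgroup `A`. -/
structure Adm (S : Sylow 2 G) (Y H A A₁ : Subgroup G) (a d : G) : Prop where
  ea : IsElementaryAbelian 2 A
  AS : A ≤ S
  le : A₁ ≤ A
  ha : a ∈ A
  half : ∀ x ∈ A, x ∈ A₁ ∨ a * x ∈ A₁
  AQ : A ⊓ pCoreOf 2 H ≤ A₁
  dK : d ∈ resOf 2 H
  dM : d ∉ normalizer (Y : Set G)
  odd : Odd (orderOf d)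
  inv : a * d * a⁻¹ = d⁻¹
  comm : ∀ x ∈ A₁, ⁅d, x⁆ ∈ pCoreOf 2 H

namespace CaseC

variable {S : Sylow 2 G} {Y H : Subgroup G} (h : CaseC S Y H)
include h

theorem SH : (S : Subgroup G) ≤ H := h.ov.1
theorem solvH : Group.IsSolvable H := h.ov.solv h.ah
theorem charPH : Local.CharP 2 H := h.ov.charP h.ah
theorem sylH : IsSylowIn 2 (S : Subgroup G) H := h.ov.syl
theorem QS : pCoreOf 2 H ≤ S := MSS.pCoreOf_le_of_isSylowIn h.sylH
theorem QM : pCoreOf 2 H ≤ 𝐍 Y := h.QS.trans h.le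
theorem nQ : H ≤ 𝐍 (pCoreOf 2 H) := MSS.self_le_normalizer_pCoreOf H
theorem nK : H ≤ 𝐍 (resOf 2 H) := MSS.self_le_normalizer_resOf H
theorem KH : resOf 2 H ≤ H := MSS.resOf_le H
theorem QH : pCoreOf 2 H ≤ H := MSS.pCoreOf_le H
theorem pQ : IsPGroup 2 (pCoreOf 2 H) := MSS.isPGroup_pCoreOf H
theorem K_sup : resOf 2 H ⊔ S = H := resOf_sup_isSylowIn h.sylH

theorem um : UniqMax (S : Subgroup G) (H ⊓ 𝐍 Y) H :=
  ⟨le_inf h.SH h.le, lt_of_le_of_ne inf_le_left fun e => h.out (inf_eq_left.1 e),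
    fun L h1 h2 => le_inf h2.le (h.min L h1 h2)⟩

/-- A subgroup containing `S` and an element of `H \ M` contains `H`. -/
theorem le_of_mem {X : Subgroup G} (h1 : (S : Subgroup G) ≤ X) {d : G} (hd : d ∈ H)
    (hM : d ∉ 𝐍 Y) (hX : d ∈ X) : H ≤ X :=
  (h.um.le_or_le h1).resolve_right fun e => hM (e ⟨hd, hX⟩).2

theorem K_not_le : ¬ resOf 2 H ≤ 𝐍 Y := fun e => h.out (h.K_sup ▸ sup_le e h.le)

theorem normal_or {N : Subgroup G} (h1 : N ≤ H) (h2 : H ≤ 𝐍 N) :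
    resOf 2 H ≤ N ∨ (N ≤ 𝐍 Y ∧ (S : Subgroup G) ⊓ N ≤ pCoreOf 2 H) :=
  (h.um.resOf_le_or h.sylH h1 h2).imp_right fun e => ⟨e.1.trans inf_le_right,
    MSS.le_pCoreOf (inf_le_right.trans h1) e.2 S.isPGroup'.to_inf_left⟩

theorem J_not_le : ¬ J (S : Subgroup G) ≤ pCoreOf 2 H := fun e => h.out (le_trans
  (h.nQ.trans (normalizer_le_normalizer_J _)) (by rw [J_eq_of_le e h.QS]; exact h.nj))

theorem irr : IsPIrreducible 2 H :=
  h.um.isPIrreducible h.sylH (h.um.le_ncl_of_not_le_normalizer h.sylH fun e =>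
    h.J_not_le ((TJ.J_le _).trans (MSS.le_pCoreOf h.SH e S.isPGroup')))

theorem comm_eq {A : Subgroup G} (h1 : A ≤ S) (h2 : (S : Subgroup G) ≤ 𝐍 A)
    (h3 : ¬ A ≤ pCoreOf 2 H) : ⁅resOf 2 H, A⁆ = resOf 2 H :=
  commutator_resOf_eq_of_isPIrreducible h.irr h.sylH h1 h2 h3

theorem K_le_ncl {A : Subgroup G} (h1 : A ≤ S) (h3 : ¬ A ≤ pCoreOf 2 H) : resOf 2 H ≤ ncl A H :=
  resOf_le_ncl_of_isPIrreducible h.irr (h1.trans h.SH) (S.isPGroup'.to_le h1) h3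

theorem comm_J : ⁅resOf 2 H, J (S : Subgroup G)⁆ = resOf 2 H :=
  h.comm_eq (TJ.J_le _) (TJ.le_normalizer_J _) h.J_not_le

theorem K_le_ncl_J {L : Subgroup G} (hK : resOf 2 H ≤ L) :
    resOf 2 H ≤ ncl (J (S : Subgroup G)) L := by
  rw [ncl_eq, ← h.comm_J]
  exact (commutator_mono hK le_rfl).trans le_sup_left

theorem K_le_resOf {L : Subgroup G} (hK : resOf 2 H ≤ L) :
    resOf 2 H ≤ resOf 2 (ncl (J (S : Subgroup G)) L) := resOf_le_resOf_of_le (h.K_le_ncl_J hK)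

/-- (K1). -/
theorem k1 {L : Subgroup G} (hL : Over S L) (hK : resOf 2 H ≤ L) :
    resOf 2 H ≤ 𝐂 (largestPReducedOf 2 L) := by
  by_contra hn
  have r := hL.ffh h.ah
  set V := largestPReducedOf 2 L
  have hH : H ≤ L := h.K_sup ▸ sup_le hK hL.1
  have hV : H ≤ 𝐍 V := hH.trans r.pred.le_normalizer
  obtain ⟨h1, h2⟩ := (h.um.resOf_le_or h.sylH (N := H ⊓ 𝐂 V) inf_le_left (le_normalizer_inf₂
    le_normalizer (hV.trans (normalizer_le_normalizer_centralizer V)))).resolve_left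
    fun e => hn (e.trans inf_le_right)
  rw [← inf_assoc, inf_eq_left.2 h.SH] at h2
  have h3 : J (S : Subgroup G) ≤ ⨅ k ∈ resOf 2 H, cj k⁻¹ (𝐍 Y) := by
    refine r.ffa fun A hA hh a ha => mem_iInf.2 fun k => mem_iInf.2 fun hk => mem_cj_inv.2 ?_
    have haH := h.SH (hA.le ha)
    have hc : ⁅k, a⁆ ∈ H := h.KH (comm_mem_left hk (h.nK haH))
    obtain ⟨d, h4, h5, h6⟩ := (r.oddOn_comm hA hh ha (h.K_le_ncl_J hK hk)).exists_odd
    have hd := zpowers_le.2 hc h4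
    have h7 : d ∈ 𝐍 Y := by
      by_cases hC : d ∈ 𝐂 V
      · exact (h1 ⟨hd, hC⟩).2
      · exact h.jc _ d (r.je hA hh ha (hH hd) (h2 hd) h5
          (inverts_of_mem_zpowers (inverts_comm (ea_sq hA.ea ha)) h4) hC)
    have := mul_mem (mul_mem ((𝐍 Y).inv_mem (h1 ⟨H.mul_mem hd (H.inv_mem hc), h6⟩).2) h7) (h.le (hA.le ha))
    convert this using 1
    rw [commutatorElement_def]
    group
  refine h.K_not_le (h.comm_J ▸ commutator_le.2 fun k hk a ha => ?_)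
  exact mul_mem (mem_cj_inv.1 (mem_iInf.1 (mem_iInf.1 (h3 ha) k) hk))
    (inv_mem (h.le (TJ.J_le _ ha)))

theorem K_le_cent_Z : resOf 2 H ≤ 𝐂 (omegaCenterOf (S : Subgroup G)) :=
  (h.k1 h.ov h.KH).trans (centralizer_le (omega_center_le_yOf h.charPH h.sylH))

theorem K_le_cent_ocQ : resOf 2 H ≤ 𝐂 (omegaCenterOf (pCoreOf 2 H)) := by
  by_contra hn
  refine hn ((h.k1 h.ov h.KH).trans (centralizer_le (le_yOf ((oc_le _).trans h.QH) (ea_oc _) ?_)))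
  exact pRed_of_isPIrreducible h.irr (h.nQ.trans (normalizer_le_normalizer_oc _))
    (le_centralizer_oc _) hn

theorem P_le_Q : ⁅pCoreOf 2 H, resOf 2 H⁆ ≤ pCoreOf 2 H :=
  commutator_le.2 fun _ hq _ hk => comm_mem_left hq (h.nQ (h.KH hk))

theorem P_le_K : ⁅pCoreOf 2 H, resOf 2 H⁆ ≤ resOf 2 H :=
  commutator_le.2 fun _ hq _ hk => comm_mem_right (h.nK (h.QH hq)) hk

theorem nP : H ≤ 𝐍 (⁅pCoreOf 2 H, resOf 2 H⁆ : Subgroup G) := le_normalizer_comm₂ h.nQ h.nK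

theorem K_le_cent_ocP : resOf 2 H ≤ 𝐂 (omegaCenterOf ⁅pCoreOf 2 H, resOf 2 H⁆) := by
  have h1 := h.nP.trans (normalizer_le_normalizer_oc _)
  refine p_times_q (R := pCoreOf 2 H) (isPGroup_of_ea (ea_oc _)) (h.QH.trans h1) (h.KH.trans h1)
    (MSS.resOf_le_of_isPGroup h.pQ _) (le_centralizer_oc _)
    (h.K_le_cent_ocQ.trans (centralizer_le fun x hx => ?_))
  exact mem_oc.2 ⟨h.P_le_Q (oc_le _ hx.1), hx.2, oc_sq hx.1⟩

theorem comm_KK : ⁅resOf 2 H, resOf 2 H⁆ ≤ 𝐍 Y := by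
  have := h.solvH
  obtain ⟨n, hn⟩ := (Group.isSolvable_def H).1 this
  have key : ∀ i, ¬ ⁅resOf 2 H, resOf 2 H⁆ ≤ 𝐍 Y →
      resOf 2 H ≤ (derivedSeries H i).map H.subtype := fun i hc => by
    induction i with
    | zero => rw [derivedSeries_zero, ← MonoidHom.range_eq_map, range_subtype]; exact h.KH
    | succ i ih =>
      refine (h.normal_or (map_subtype_le _) (derived_map_normal H _)).resolve_right fun e => hc ?_
      refine le_trans ?_ e.1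
      rw [derivedSeries_succ, map_commutator]
      exact commutator_mono ih ih
  by_contra hc
  have := key n hc
  rw [hn, Subgroup.map_bot] at this
  exact h.K_not_le (this.trans bot_le)

theorem norm_KM : H ≤ 𝐍 (resOf 2 H ⊓ 𝐍 Y : Subgroup G) := by
  refine h.K_sup.ge.trans (sup_le (fun k hk => mem_normalizer_of_comm_mem fun x hx =>
    ⟨comm_mem_right (le_normalizer hk) hx.1, h.comm_KK (commutator_mem_commutator hk hx.1)⟩) ?_)
  exact le_normalizer_inf₂ (h.SH.trans h.nK) (h.le.trans le_normalizer)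

theorem inf_K_le : (S : Subgroup G) ⊓ resOf 2 H ≤ pCoreOf 2 H :=
  le_trans (le_inf inf_le_left (le_inf inf_le_right (inf_le_left.trans h.le)))
    ((h.normal_or (inf_le_left.trans h.KH) h.norm_KM).resolve_left
      fun e => h.K_not_le (e.trans inf_le_right)).2

/-- A 2-subgroup of `K` lies in `Q`. -/
theorem le_Q_of_le_K {D : Subgroup G} (hD : IsPGroup 2 D) (h1 : D ≤ resOf 2 H) :
    D ≤ pCoreOf 2 H := by
  obtain ⟨x, hx, e⟩ := (h.sylH.inf_normal_of_le h.nK h.KH).exists_cj_le hD h1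
  have := cj_mono x⁻¹ (e.trans h.inf_K_le)
  rwa [cj_inv_cj, cj_eq_of_mem_normalizer (h.nQ (h.KH (inv_mem hx)))] at this

theorem exists_odd_pow {k : G} (hk : k ∈ resOf 2 H) : ∃ m, Odd m ∧ k ^ m ∈ pCoreOf 2 H := by
  obtain ⟨a, m, hm, e⟩ := Nat.exists_eq_two_pow_mul_odd (orderOf_pos k).ne'
  refine ⟨m, hm, h.le_Q_of_le_K (D := zpowers (k ^ m)) ?_ (zpowers_le.2 (pow_mem hk m))
    (mem_zpowers _)⟩
  refine IsPGroup.of_card_dvd_pow (n := a) ?_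
  rw [Nat.card_zpowers]
  exact orderOf_dvd_of_pow_eq_one (by rw [← pow_mul, mul_comm, ← e, pow_orderOf_eq_one])

theorem exists_odd {k : G} (hk : k ∈ resOf 2 H) :
    ∃ d ∈ zpowers k, Odd (orderOf d) ∧ d * k⁻¹ ∈ pCoreOf 2 H :=
  let ⟨_, h1, h2⟩ := h.exists_odd_pow hk; exists_odd_part h1 h2

/-- `S / Q` acts faithfully on `K / (K ∩ M)`. -/
theorem le_Q_of_comm_le {A : Subgroup G} (h1 : A ≤ S) (h2 : ⁅resOf 2 H, A⁆ ≤ 𝐍 Y) :
    A ≤ pCoreOf 2 H := by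
  by_contra hn
  have h3 := MSS.commutator_ncl_le (h.SH.trans h.nK) (h.SH.trans h.norm_KM) h1
    (le_inf (commutator_le.2 fun _ hk _ ha => comm_mem_left hk (h.nK (h.SH (h1 ha)))) h2)
  rw [h.comm_eq (ncl_le_of_le h1) (le_normalizer_ncl _ _) fun e => hn ((le_ncl _ _).trans e)] at h3
  exact h.K_not_le (h3.trans inf_le_right)

theorem K_le_ncl_zpowers {d : G} (hd : d ∈ H) (hM : d ∉ 𝐍 Y) : resOf 2 H ≤ ncl (zpowers d) H :=
  (h.normal_or (ncl_le_of_le (zpowers_le.2 hd)) (le_normalizer_ncl _ _)).resolve_right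
    fun e => hM (e.1 (le_ncl _ _ (mem_zpowers d)))

/-- (K2'). -/
theorem k2' {d : G} (hd : d ∈ H) (hM : d ∉ 𝐍 Y) {U : Subgroup G} (hU : H ≤ 𝐍 U)
    (h1 : ⁅pCoreOf 2 H, zpowers d⁆ ≤ U) : ⁅pCoreOf 2 H, resOf 2 H⁆ ≤ U :=
  (commutator_mono le_rfl (h.K_le_ncl_zpowers hd hM)).trans
    (MSS.commutator_ncl_le h.nQ hU (zpowers_le.2 hd) h1)

/-- (K2'), for an `S`-invariant subgroup. -/
theorem k2'' {d : G} (hd : d ∈ H) (hM : d ∉ 𝐍 Y) {U : Subgroup G} (hU : (S : Subgroup G) ≤ 𝐍 U)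
    (h1 : ⁅pCoreOf 2 H, zpowers d⁆ ≤ U) : ⁅pCoreOf 2 H, resOf 2 H⁆ ≤ U :=
  (h.k2' hd hM (U := pCoreOf 2 H ⊓ U) (h.le_of_mem (le_normalizer_inf₂ (h.SH.trans h.nQ) hU) hd hM
    (mem_normalizer_of_comm_mem fun x hx => ⟨comm_mem_right (h.nQ hd) hx.1, by
      rw [← commutatorElement_inv]
      exact U.inv_mem (h1 (commutator_mem_commutator hx.1 (mem_zpowers d)))⟩))
    (le_inf (commutator_le.2 fun _ hq _ hx => comm_mem_left hq (h.nQ (zpowers_le.2 hd hx))) h1)).trans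
    inf_le_right

/-- (K2). -/
theorem k2 (hY : Y ≤ pCoreOf 2 H) : ¬ ⁅pCoreOf 2 H, resOf 2 H⁆ ≤ 𝐂 Y := fun e => by
  refine h.K_not_le (le_trans (resOf_le_centralizer_of_commutator_le (isPGroup_of_ea (ea_oc _)) ?_
    h.K_le_cent_ocP) (centralizer_le_normalizer _))
  refine commutator_le.2 fun y hy k hk => ?_
  have h1 := commutator_mem_commutator (hY hy) hk
  have h2 : y ∈ 𝐂 (⁅pCoreOf 2 H, resOf 2 H⁆ : Subgroup G) := le_centralizer_iff.1 e hy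
  refine mem_oc.2 ⟨h1, comm_mem_left h2 (normalizer_le_normalizer_centralizer _ (h.nP (h.KH hk))), ?_⟩
  have h3 := e h1 y hy
  have h4 := ea_sq h.toMaxY.ea hy
  have h5 : y⁻¹ = y := inv_eq_of_sq h4
  rw [commutatorElement_def, h5] at h3 ⊢
  calc y * k * y * k⁻¹ * (y * k * y * k⁻¹) = (y * k * y * k⁻¹ * y) * (k * y * k⁻¹) := by group
    _ = (y * y) * k * (y * y) * k⁻¹ := by rw [← h3]; group
    _ = 1 := by rw [h4]; group

theorem k2d (hY : Y ≤ pCoreOf 2 H) {d : G} (hd : d ∈ H) (hM : d ∉ 𝐍 Y) :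
    ¬ ⁅pCoreOf 2 H, zpowers d⁆ ≤ 𝐂 Y := fun e =>
  h.k2 hY (h.k2'' hd hM (h.le.trans (normalizer_le_normalizer_centralizer _)) e)

omit h in
theorem exists_sq_mem {D C : Subgroup G} (hD : IsPGroup 2 D) (h : ¬ D ≤ C) :
    ∃ β ∈ D, β ∉ C ∧ β * β ∈ C := by
  obtain ⟨x, hx, hC⟩ := SetLike.not_le_iff_exists.1 h
  obtain ⟨n, hn⟩ := hD ⟨x, hx⟩
  have h1 : x ^ 2 ^ n ∈ C := by rw [show x ^ 2 ^ n = 1 from congrArg Subtype.val hn]; exact one_mem _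
  clear hn
  induction n with
  | zero => exact absurd (by simpa using h1) hC
  | succ n ih =>
    by_cases h2 : x ^ 2 ^ n ∈ C
    · exact ih h2
    · exact ⟨_, pow_mem hx _, h2, by rwa [← pow_add, ← two_mul, ← pow_succ']⟩

theorem exists_beta (hY : Y ≤ pCoreOf 2 H) :
    ∃ β ∈ pCoreOf 2 H ⊓ resOf 2 H, β ∉ 𝐂 Y ∧ β * β ∈ 𝐂 Y :=
  exists_sq_mem h.pQ.to_inf_left fun e => h.k2 hY ((le_inf h.P_le_Q h.P_le_K).trans e)

/-- PJ'. -/
theorem pj_K {t β : G} (ht : t ∈ Y) (h1 : t ≠ 1) (hJ : J (S : Subgroup G) ≤ Cz t)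
    (hK : resOf 2 H ≤ Cz t) {δ : h.toMaxY.ffh.sec.Kq}
    (hF : δ ∈ fittingSubgroup h.toMaxY.ffh.sec.Kq) (hδ : δ ≠ 1)
    (hf : δ • h.toMaxY.ffh.sec.bar t = h.toMaxY.ffh.sec.bar t) (hβ : β ∈ 𝐍 Y)
    (hβ' : β ∈ resOf 2 H) {k : ℕ} (h2 : h.toMaxY.ffh.sec.hat β ^ 2 ^ k = 1) :
    h.toMaxY.ffh.sec.hat β * δ * (h.toMaxY.ffh.sec.hat β)⁻¹ ≠ δ⁻¹ :=
  h.toMaxY.pj h.nj ht h1 hJ hF hδ hf hβ (h.K_le_resOf hK hβ') h2

/-- An element of odd order of `H` centralizing `Q` is trivial. -/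
theorem eq_one_of_cent {x : G} (hx : x ∈ H) (ho : Odd (orderOf x)) (hc : x ∈ 𝐂 (pCoreOf 2 H)) :
    x = 1 := Red.eq_one_of_odd_of_isPGroup h.pQ (h.charPH ⟨hx, hc⟩) ho

/-- ADM. -/
theorem exists_adm {A : Subgroup G} (h1 : IsElementaryAbelian 2 A) (h2 : A ≤ S)
    (h3 : ¬ A ≤ pCoreOf 2 H) : ∃ A₁ a d, Adm S Y H A A₁ a d := by
  have hAH := h2.trans h.SH
  let X : Subgroup G :=
    { carrier := {k | k ∈ resOf 2 H ∧ ∀ x ∈ A, ⁅k, x⁆ ∈ resOf 2 H ⊓ 𝐍 Y}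
      one_mem' := ⟨one_mem _, fun x _ => by simp⟩
      mul_mem' := fun {c d} hc hd => ⟨mul_mem hc.1 hd.1, fun u hu => by
        have := mul_mem (mem_normalizer_conj (h.norm_KM (h.KH hc.1)) (hd.2 u hu)) (hc.2 u hu)
        convert this using 1
        simp only [commutatorElement_def]
        group⟩
      inv_mem' := fun {c} hc => ⟨inv_mem hc.1, fun u hu => by
        have := inv_mem (mem_normalizer_conj (h.norm_KM (h.KH (inv_mem hc.1))) (hc.2 u hu))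
        convert this using 1
        simp only [commutatorElement_def]
        group⟩ }
  obtain ⟨B, b1, b2, ⟨a₀, b3, b4⟩, k, hk, b5, b6⟩ := exists_hyperplane_mod (X := X) h.nQ h.KH hAH h1
    (hAH.trans h.nK) (fun _ hk => h.exists_odd_pow hk)
    (fun q hq => ⟨hq.1, fun x hx => ⟨comm_mem_left hq.1 (h.nK (hAH hx)),
      h.QM (comm_mem_left hq.2 (h.nQ (hAH hx)))⟩⟩) (fun _ hx => hx.1)
    fun e => h3 (h.le_Q_of_comm_le h2 (commutator_le.2 fun k hk x hx => ((e hk).2 x hx).2))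
  obtain ⟨a, ha, hc⟩ : ∃ a ∈ A, ⁅k, a⁆ ∉ 𝐍 Y := by
    by_contra hn
    push Not at hn
    exact b5 ⟨hk, fun x hx => ⟨comm_mem_left hk (h.nK (hAH hx)), hn x hx⟩⟩
  have hcK := comm_mem_left hk (h.nK (hAH ha))
  obtain ⟨d, d1, d2, d3⟩ := h.exists_odd hcK
  have haB : a₀ * a ∈ B := (b4 a ha).resolve_left fun e => hc (h.QM (b6 a e))
  refine ⟨B, a, d, h1, h2, b1, ha, fun x hx => (b4 x hx).imp_right fun e => ?_, b2,
    zpowers_le.2 hcK d1, fun e => hc ?_, d2, inverts_of_mem_zpowers (inverts_comm (ea_sq h1 ha)) d1,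
    fun x hx => ?_⟩
  · have := mul_mem haB e
    rwa [ea_comm h1 b3 ha, mul_assoc, ← mul_assoc a₀, ea_sq h1 b3, one_mul] at this
  · simpa using mul_mem (inv_mem (h.QM d3)) e
  · have hxH := hAH (b1 hx)
    have e1 : ⁅⁅k, a⁆, x⁆ ∈ pCoreOf 2 H := by
      have hkH := h.KH hk
      have haH := hAH ha
      have a1 := mul_mem (mem_normalizer_conj (h.nQ (mul_mem hkH haH))
        (inv_mem (mem_normalizer_conj' (h.nQ hkH) (b6 x hx)))) (b6 x hx)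
      convert a1 using 1
      have a2 : a⁻¹ * x * a = x := by rw [mul_assoc, ← ea_comm h1 ha (b1 hx)]; group
      have a3 : x⁻¹ * a⁻¹ * x = a⁻¹ := by rw [mul_assoc, ea_comm h1 (inv_mem ha) (b1 hx)]; group
      simp only [commutatorElement_def]
      calc k * a * k⁻¹ * a⁻¹ * x * (k * a * k⁻¹ * a⁻¹)⁻¹ * x⁻¹
          = k * a * k⁻¹ * (a⁻¹ * x * a) * k * (a⁻¹ * k⁻¹ * x⁻¹) := by group
        _ = k * a * k⁻¹ * x * k * (a⁻¹ * k⁻¹ * x⁻¹) := by rw [a2]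
        _ = k * a * k⁻¹ * x * k * ((x⁻¹ * a⁻¹ * x) * k⁻¹ * x⁻¹) := by rw [a3]
        _ = _ := by group
    have := mul_mem (mul_mem d3 e1) (mem_normalizer_conj (h.nQ hxH) (inv_mem d3))
    convert this using 1
    simp only [commutatorElement_def]
    group

/-- Every element of odd order inverted by an element of `Y \ Q` is admissible when
`|Y : Y ∩ Q| = 2`. -/
theorem adm_of {a x : G} (ha : a ∈ Y) (hh : ∀ y ∈ Y, y ∈ pCoreOf 2 H ∨ a * y ∈ pCoreOf 2 H)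
    (hx : x ∈ resOf 2 H) (h1 : x ≠ 1) (ho : Odd (orderOf x)) (hinv : a * x * a⁻¹ = x⁻¹) :
    Adm S Y H Y (Y ⊓ pCoreOf 2 H) a x :=
  ⟨h.toMaxY.ea, h.toMaxY.YS, inf_le_left, ha,
    fun y hy => (hh y hy).imp (fun e => ⟨hy, e⟩) fun e => ⟨mul_mem ha hy, e⟩, le_rfl, hx,
    fun e => h1 (Red.eq_one_of_odd_of_isPGroup h.toMaxY.pg
      (mem_of_inverted ho hinv (comm_mem_right e ha)) ho), ho, hinv,
    fun _ hy => comm_mem_right (h.nQ (h.KH hx)) hy.2⟩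

end CaseC

namespace Adm

variable {S : Sylow 2 G} {Y H A A₁ : Subgroup G} {a d : G} (m : Adm S Y H A A₁ a d)
  (h : CaseC S Y H)
include m

theorem a_sq : a * a = 1 := ea_sq m.ea m.ha
theorem ne_one : d ≠ 1 := fun e => m.dM (e ▸ one_mem _)
theorem ea₁ : IsElementaryAbelian 2 A₁ := ea_mono m.ea m.le

include h

theorem dH : d ∈ H := h.KH m.dK
theorem RH_le : A₁ ⊔ pCoreOf 2 H ≤ S := sup_le (m.le.trans m.AS) h.QS

theorem mem_RH {r : G} : r ∈ A₁ ⊔ pCoreOf 2 H ↔ ∃ x ∈ A₁, ∃ q ∈ pCoreOf 2 H, x * q = r :=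
  Solv.mem_sup_of_le_normalizer' (m.le.trans (m.AS.trans (h.SH.trans h.nQ)))

theorem comm_RH {r : G} (hr : r ∈ A₁ ⊔ pCoreOf 2 H) : ⁅d, r⁆ ∈ pCoreOf 2 H := by
  obtain ⟨x, hx, q, hq, rfl⟩ := (m.mem_RH h).1 hr
  have := mul_mem (m.comm x hx) (mem_normalizer_conj (h.nQ (h.SH (m.AS (m.le hx))))
    (comm_mem_right (h.nQ (m.dH h)) hq))
  convert this using 1
  simp only [commutatorElement_def]
  group

theorem norm_RH : d ∈ 𝐍 (A₁ ⊔ pCoreOf 2 H : Subgroup G) :=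
  mem_normalizer_of_comm_mem fun _ hr => mem_sup_right (m.comm_RH h hr)

theorem not_mem_RH : a ∉ A₁ ⊔ pCoreOf 2 H := fun e =>
  m.dM (h.QM (mem_of_inverted m.odd m.inv (m.comm_RH h e)))

theorem not_mem : a ∉ A₁ := fun e => m.not_mem_RH h (mem_sup_left e)

theorem not_mem_Q : a ∉ pCoreOf 2 H := fun e => m.not_mem_RH h (mem_sup_right e)

theorem inf_RH : A ⊓ (A₁ ⊔ pCoreOf 2 H) = A₁ :=
  le_antisymm (fun x hx => (m.half x hx.1).resolve_right fun e => m.not_mem_RH h (by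
    simpa using mul_mem (mem_sup_left (T := pCoreOf 2 H) e) (inv_mem hx.2)))
    (le_inf m.le le_sup_left)

theorem A_norm_RH : A ≤ 𝐍 (A₁ ⊔ pCoreOf 2 H : Subgroup G) :=
  le_normalizer_sup₂ (ea_le_normalizer_of_le m.ea le_rfl m.le) (m.AS.trans (h.SH.trans h.nQ))

theorem a_norm_RH : a ∈ 𝐍 (A₁ ⊔ pCoreOf 2 H : Subgroup G) := m.A_norm_RH h m.ha

theorem half' : Half A₁ A := half_of_elt m.ea m.le m.ha m.half

theorem card_eq : Nat.card A = 2 * Nat.card A₁ :=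
  le_antisymm ((m.half' h).card_le m.ea)
    (two_mul_card_le_of_lt8 (lt_of_le_of_ne m.le fun e => m.not_mem h (e ▸ m.ha)))

/-- The pair with `d⁻¹` in place of `d`. -/
theorem inv' : Adm S Y H A A₁ a d⁻¹ :=
  ⟨m.ea, m.AS, m.le, m.ha, m.half, m.AQ, inv_mem m.dK, fun e => m.dM (inv_mem_iff.1 e),
    by rw [orderOf_inv]; exact m.odd, by rw [← conj_inv, m.inv], fun x hx => by
      have := inv_mem (mem_normalizer_conj' (h.nQ (m.dH h)) (m.comm x hx))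
      convert this using 1
      simp only [commutatorElement_def]
      group⟩

end Adm

end Cfsg.Lib.Ngrp
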