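import Cfsg.Agent.Ngrp.NatN4
import Cfsg.Agent.Local.InvCent

/-!
# Two involution centralisers `S₄ × 2` with a common Sylow subgroup (lemma D82 of plan 184)
-/

set_option autoImplicit false

namespace Cfsg.Lib.Ngrp
open Subgroup Cfsg.Lib.Trans Cfsg.Lib.Trans.TJ Cfsg.Lib.Local Cfsg.Lib.Local.JC Cfsg.Lib.Solv
open scoped commutatorElement

variable {G : Type*} [Group G]

/-- The configuration `T = C(j, u) = ⟨w, s⟩ × ⟨j⟩ ≅ D₈ × 2` with its fusion. -/
structure DD (j u w s : G) : Prop where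
  jj : j * j = 1
  uu : u * u = 1
  ww : w * w = 1
  ss : s * s = 1
  u1 : u ≠ 1
  j1 : j ≠ 1
  ju : j * u = u * j
  jw : j * w = w * j
  js : j * s = s * j
  uw : u * w = w * u
  us : u * s = s * u
  sw : s * w * s = u * w
  gen : ∀ t ∈ centralizer {j} ⊓ centralizer {u},
    t ∈ four u w ⊔ zpowers s ∨ j * t ∈ four u w ⊔ zpowers s
  syl : IsSylowIn 2 (centralizer {j} ⊓ centralizer {u}) (centralizer {j})
  dw : ∃ d, d * j * d⁻¹ = j ∧ d * u * d⁻¹ = w
  ds : ∃ d, d * (j * u) * d⁻¹ = j * u ∧ d * u * d⁻¹ = s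
  nj : ¬ IsConj u j
  nju : ¬ IsConj u (j * u)
  cs : ∀ g, g * (j * u) * g⁻¹ = j * u → g * u * g⁻¹ * s = s * (g * u * g⁻¹)

namespace DD

variable {j u w s : G}

theorem mem_T {t : G} : t ∈ centralizer {j} ⊓ centralizer {u} ↔ t * j = j * t ∧ t * u = u * t := by
  rw [mem_inf, mem_centralizer_singleton_iff, mem_centralizer_singleton_iff]

theorem sw' (h : DD j u w s) : s * w * s⁻¹ = u * w := by rw [inv_eq_of_sq h.ss, h.sw]

theorem ws' (h : DD j u w s) : w * s * w⁻¹ = u * s := by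
  calc w * s * w⁻¹ = w * (s * w * s) * s := by
        rw [inv_eq_of_sq h.ww, mul_assoc, mul_assoc, mul_assoc (s * w), h.ss, mul_one]
    _ = u * s := by rw [h.sw, h.uw, ← mul_assoc w, h.ww, one_mul]

theorem nws (h : DD j u w s) : w * s ≠ s * w := fun e => by
  have := h.sw'
  rw [← e, mul_inv_cancel_right, right_eq_mul] at this
  exact h.u1 this

theorem s_norm (h : DD j u w s) [Finite G] : s ∈ normalizer (four u w : Set G) :=
  mem_normalizer_of_cj_le (by
    rw [four, cj_sup, cj_zpowers, cj_zpowers, h.sw', ← h.us, mul_inv_cancel_right]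
    exact sup_le le_sup_left (zpowers_le.2 (mul_mem (left_mem_four u w) (right_mem_four u w))))

theorem uD : u ∈ four u w ⊔ zpowers s := mem_sup_left (left_mem_four u w)

theorem wD : w ∈ four u w ⊔ zpowers s := mem_sup_left (right_mem_four u w)

theorem sD : s ∈ four u w ⊔ zpowers s := mem_sup_right (mem_zpowers s)

theorem uT (h : DD j u w s) : u ∈ centralizer {j} ⊓ centralizer {u} := mem_T.2 ⟨h.ju.symm, rfl⟩

theorem wT (h : DD j u w s) : w ∈ centralizer {j} ⊓ centralizer {u} :=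
  mem_T.2 ⟨h.jw.symm, h.uw.symm⟩

theorem sT (h : DD j u w s) : s ∈ centralizer {j} ⊓ centralizer {u} :=
  mem_T.2 ⟨h.js.symm, h.us.symm⟩

theorem jT (h : DD j u w s) : j ∈ centralizer {j} ⊓ centralizer {u} := mem_T.2 ⟨rfl, h.ju⟩

theorem D_le (h : DD j u w s) : four u w ⊔ zpowers s ≤ centralizer {j} ⊓ centralizer {u} :=
  sup_le (four_le h.uT h.wT) (zpowers_le.2 h.sT)

variable [Finite G]

theorem inv_D (h : DD j u w s) {t : G} (ht : t ∈ four u w ⊔ zpowers s) (h2 : t * t = 1) :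
    t = 1 ∨ t = u ∨ t = w ∨ t = u * w ∨ t = s ∨ t = u * s := by
  rw [mem_sup_zpowers_two h.s_norm (by rw [h.ss]; exact one_mem _), mem_four h.uu h.ww h.uw,
    mem_four h.uu h.ww h.uw] at ht
  simp only [← eq_inv_mul_iff_mul_eq, inv_eq_of_sq h.ss, mul_one] at ht
  rcases ht with (e | e | e | e) | e | e | e | e
  · exact Or.inl e
  · exact Or.inr (Or.inl e)
  · exact Or.inr (Or.inr (Or.inl e))
  · exact Or.inr (Or.inr (Or.inr (Or.inl e)))
  · exact Or.inr (Or.inr (Or.inr (Or.inr (Or.inl e))))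
  · exact Or.inr (Or.inr (Or.inr (Or.inr (Or.inr (e.trans h.us.symm)))))
  · rw [e, ← mul_assoc, h.sw, mul_assoc, h.ww, mul_one] at h2
    exact absurd h2 h.u1
  · rw [e, ← mul_assoc s u, ← h.us, show u * s * w * (u * s * w) = u * s * (w * u) * s * w by group,
      ← h.uw, show u * s * (u * w) * s * w = u * (s * u) * w * s * w by group, ← h.us,
      show u * (u * s) * w * s * w = u * u * (s * w * s) * w by group, h.uu, h.sw, one_mul,
      mul_assoc, h.ww, mul_one] at h2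
    exact absurd h2 h.u1

theorem conj_w (h : DD j u w s) : IsConj u w := by
  obtain ⟨d, -, hd⟩ := h.dw
  exact isConj_iff.2 ⟨d, hd⟩

theorem conj_s (h : DD j u w s) : IsConj u s := by
  obtain ⟨d, -, hd⟩ := h.ds
  exact isConj_iff.2 ⟨d, hd⟩

theorem conj_of_D (h : DD j u w s) {t : G} (ht : t ∈ four u w ⊔ zpowers s) (h2 : t * t = 1)
    (h1 : t ≠ 1) : IsConj u t := by
  rcases h.inv_D ht h2 with e | e | e | e | e | e <;> rw [e]
  · exact absurd e h1
  · exact h.conj_w
  · exact h.conj_w.trans (isConj_iff.2 ⟨s, h.sw'⟩)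
  · exact h.conj_s
  · exact h.conj_s.trans (isConj_iff.2 ⟨w, h.ws'⟩)

theorem inv_T (h : DD j u w s) {t : G} (ht : t ∈ centralizer {j} ⊓ centralizer {u})
    (h2 : t * t = 1) (hD : t ∉ four u w ⊔ zpowers s) :
    t = j ∨ t = j * u ∨ t = j * w ∨ t = j * (u * w) ∨ t = j * s ∨ t = j * (u * s) := by
  have := h.inv_D ((h.gen t ht).resolve_left hD) (by
    rw [show j * t * (j * t) = j * (t * j) * t by group, (mem_T.1 ht).1,
      show j * (j * t) * t = j * j * (t * t) by group, h.jj, h2, one_mul])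
  simpa only [← eq_inv_mul_iff_mul_eq, inv_eq_of_sq h.jj, mul_one] using this

theorem D_of_conj (h : DD j u w s) {t : G} (ht : t ∈ centralizer {j} ⊓ centralizer {u})
    (hc : IsConj u t) : t ∈ four u w ⊔ zpowers s := by
  by_contra hD
  obtain ⟨d, hd, hd'⟩ := h.dw
  obtain ⟨e, he, he'⟩ := h.ds
  have c1 : IsConj (j * u) (j * w) := isConj_iff.2 ⟨d, by rw [← conj_mul, hd, hd']⟩
  have c2 : IsConj (j * w) (j * (u * w)) :=
    isConj_iff.2 ⟨s, by rw [← conj_mul, h.sw', ← h.js, mul_inv_cancel_right]⟩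
  have c3 : IsConj j (j * (u * s)) := isConj_iff.2 ⟨e, by
    rw [← mul_assoc j, ← he', ← he, conj_mul, mul_assoc j, h.uu, mul_one]⟩
  have c4 : IsConj (j * s) (j * (u * s)) :=
    isConj_iff.2 ⟨w, by rw [← conj_mul, h.ws', ← h.jw, mul_inv_cancel_right]⟩
  obtain ⟨g, rfl⟩ := isConj_iff.1 hc
  rcases h.inv_T ht (by rw [conj_mul, h.uu, mul_one, mul_inv_cancel]) hD with
    e | e | e | e | e | e <;> rw [e] at hc
  · exact h.nj hc
  · exact h.nju hc
  · exact h.nju (hc.trans c1.symm)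
  · exact h.nju (hc.trans (c1.trans c2).symm)
  · exact h.nj (hc.trans (c4.trans c3.symm))
  · exact h.nj (hc.trans c3.symm)

theorem jD (h : DD j u w s) : j ∉ four u w ⊔ zpowers s := fun e => h.nj (h.conj_of_D e h.jj h.j1)

theorem norm_D (h : DD j u w s) {g : G}
    (hg : g ∈ normalizer ((centralizer {j} ⊓ centralizer {u} : Subgroup G) : Set G)) :
    g ∈ normalizer ((four u w ⊔ zpowers s : Subgroup G) : Set G) := by
  have k : ∀ x ∈ centralizer {j} ⊓ centralizer {u}, IsConj u x →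
      zpowers (g * x * g⁻¹) ≤ four u w ⊔ zpowers s := fun x hx hc =>
    zpowers_le.2 (h.D_of_conj (mem_normalizer_conj hg hx) (hc.trans (isConj_iff.2 ⟨g, rfl⟩)))
  refine mem_normalizer_of_cj_le ?_
  conv_lhs => rw [four, cj_sup, cj_sup, cj_zpowers, cj_zpowers, cj_zpowers]
  exact sup_le (sup_le (k u h.uT (IsConj.refl u)) (k w h.wT h.conj_w)) (k s h.sT h.conj_s)

theorem cent_D (h : DD j u w s) {t : G} (ht : t ∈ four u w ⊔ zpowers s) (h2 : t * t = 1)
    (hw : t * w = w * t) (hs : t * s = s * t) : t = 1 ∨ t = u := by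
  rcases h.inv_D ht h2 with e | e | e | e | e | e
  · exact Or.inl e
  · exact Or.inr e
  · exact absurd (e ▸ hs) h.nws
  · rw [e, ← mul_assoc, ← h.us, mul_assoc, mul_assoc, mul_right_inj] at hs
    exact absurd hs h.nws
  · exact absurd (e ▸ hw).symm h.nws
  · rw [e, ← mul_assoc, ← h.uw, mul_assoc, mul_assoc, mul_right_inj] at hw
    exact absurd hw.symm h.nws

theorem cent_T (h : DD j u w s) {t : G} (ht : t ∈ centralizer {j} ⊓ centralizer {u})
    (h2 : t * t = 1) (hw : t * w = w * t) (hs : t * s = s * t) :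
    t = 1 ∨ t = u ∨ t = j ∨ t = j * u := by
  rcases h.gen t ht with e | e
  · exact (h.cent_D e h2 hw hs).imp_right Or.inl
  · have := h.cent_D e (by
      rw [show j * t * (j * t) = j * (t * j) * t by group, (mem_T.1 ht).1,
        show j * (j * t) * t = j * j * (t * t) by group, h.jj, h2, one_mul])
      (by rw [mul_assoc, hw, ← mul_assoc, h.jw, mul_assoc])
      (by rw [mul_assoc, hs, ← mul_assoc, h.js, mul_assoc])
    simp only [← eq_inv_mul_iff_mul_eq, inv_eq_of_sq h.jj, mul_one] at this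
    exact Or.inr (Or.inr this)

theorem conj_cent (h : DD j u w s) {g z : G}
    (hg : g ∈ normalizer ((centralizer {j} ⊓ centralizer {u} : Subgroup G) : Set G))
    (hz : z ∈ centralizer {j} ⊓ centralizer {u}) (h2 : z * z = 1)
    (hc : ∀ t ∈ centralizer {j} ⊓ centralizer {u}, t * z = z * t) :
    g * z * g⁻¹ = 1 ∨ g * z * g⁻¹ = u ∨ g * z * g⁻¹ = j ∨ g * z * g⁻¹ = j * u := by
  have k : ∀ t ∈ centralizer {j} ⊓ centralizer {u}, g * z * g⁻¹ * t = t * (g * z * g⁻¹) :=
    fun t ht => by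
      rw [show g * z * g⁻¹ * t = g * (z * (g⁻¹ * t * g)) * g⁻¹ by group,
        ← hc _ (mem_normalizer_conj' hg ht)]
      group
  exact h.cent_T (mem_normalizer_conj hg hz) (by rw [conj_mul, h2, mul_one, mul_inv_cancel])
    (k w h.wT) (k s h.sT)

theorem conj_u (h : DD j u w s) {g : G}
    (hg : g ∈ normalizer ((centralizer {j} ⊓ centralizer {u} : Subgroup G) : Set G)) :
    g * u * g⁻¹ = u := by
  have c : IsConj u (g * u * g⁻¹) := isConj_iff.2 ⟨g, rfl⟩
  rcases h.conj_cent hg h.uT h.uu (fun t ht => (mem_T.1 ht).2) with e | e | e | e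
  · exact absurd (by simpa using e) h.u1
  · exact e
  · exact absurd (e ▸ c) h.nj
  · exact absurd (e ▸ c) h.nju

theorem conj_j (h : DD j u w s) {g : G}
    (hg : g ∈ normalizer ((centralizer {j} ⊓ centralizer {u} : Subgroup G) : Set G)) :
    g * j * g⁻¹ = j ∨ g * j * g⁻¹ = j * u := by
  have c : IsConj j (g * j * g⁻¹) := isConj_iff.2 ⟨g, rfl⟩
  rcases h.conj_cent hg h.jT h.jj (fun t ht => (mem_T.1 ht).1) with e | e | e | e
  · exact absurd (by simpa using e) h.j1
  · exact absurd (e ▸ c).symm h.nj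
  · exact Or.inl e
  · exact Or.inr e

theorem fixed (h : DD j u w s) {g t : G}
    (hg : g ∈ normalizer ((centralizer {j} ⊓ centralizer {u} : Subgroup G) : Set G))
    (hj : g * j * g⁻¹ = j * u) (ht : t ∈ centralizer {j} ⊓ centralizer {u}) (h2 : t * t = 1)
    (hf : g * t * g⁻¹ = t) : t = 1 ∨ t = u := by
  have hu := h.conj_u hg
  have hw : g * w * g⁻¹ = s ∨ g * w * g⁻¹ = u * s := by
    obtain ⟨d, hd, hd'⟩ := h.dw
    have c := h.cs (g * d * g⁻¹) (by
      rw [← hj, show g * d * g⁻¹ * (g * j * g⁻¹) * (g * d * g⁻¹)⁻¹ = g * (d * j * d⁻¹) * g⁻¹ by group,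
        hd])
    have e : g * d * g⁻¹ * u * (g * d * g⁻¹)⁻¹ = g * w * g⁻¹ := by
      rw [← hd']
      conv_lhs => rw [← hu]
      group
    rw [e] at c
    rcases h.inv_D (mem_normalizer_conj (h.norm_D hg) wD)
      (by rw [conj_mul, h.ww, mul_one, mul_inv_cancel]) with e | e | e | e | e | e
    · exact absurd (by rw [show w = 1 by simpa using e, one_mul, mul_one]) h.nws
    · rw [← hu] at e
      exact absurd (by rw [show w = u by simpa using e, h.us]) h.nws
    · exact absurd (e ▸ c) h.nws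
    · rw [e, ← mul_assoc, ← h.us, mul_assoc, mul_assoc, mul_right_inj] at c
      exact absurd c h.nws
    · exact Or.inl e
    · exact Or.inr e
  have tu := (mem_T.1 ht).2
  have hws : t * w = w * t ↔ t * s = s * t := by
    have e : t * w = w * t ↔ t * (g * w * g⁻¹) = g * w * g⁻¹ * t := by
      conv_rhs => rw [← hf, conj_mul, conj_mul, mul_left_inj, mul_right_inj]
    rcases hw with e1 | e1 <;> rw [e, e1]
    rw [← mul_assoc, tu, mul_assoc, mul_assoc, mul_right_inj]
  have c : t * w = w * t ∨ t * s = s * t := by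
    have cw : ∀ x ∈ four u w ⊔ zpowers j, x * w = w * x := fun x hx =>
      (sup_zpowers_le_centralizer (fun b hb => sup_zpowers_le_centralizer (fun b hb =>
        (mem_zpowers_two h.uu).1 hb |>.elim (fun e => by rw [e, mul_one, one_mul])
          fun e => e ▸ h.uw.symm) rfl b hb) h.jw.symm x hx).symm
    have cs : ∀ x ∈ four u s ⊔ zpowers j, x * s = s * x := fun x hx =>
      (sup_zpowers_le_centralizer (fun b hb => sup_zpowers_le_centralizer (fun b hb =>
        (mem_zpowers_two h.uu).1 hb |>.elim (fun e => by rw [e, mul_one, one_mul])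
          fun e => e ▸ h.us.symm) rfl b hb) h.js.symm x hx).symm
    have m1 : ∀ x : G, u ∈ four u x ⊔ zpowers j := fun x => mem_sup_left (left_mem_four _ _)
    have m2 : ∀ x : G, x ∈ four u x ⊔ zpowers j := fun x => mem_sup_left (right_mem_four _ _)
    have m3 : ∀ x : G, j ∈ four u x ⊔ zpowers j := fun x => mem_sup_right (mem_zpowers _)
    by_cases hD : t ∈ four u w ⊔ zpowers s
    · rcases h.inv_D hD h2 with e | e | e | e | e | e <;> rw [e]
      · exact Or.inl (cw _ (one_mem _))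
      · exact Or.inl (cw _ (m1 w))
      · exact Or.inl rfl
      · exact Or.inl (cw _ (mul_mem (m1 w) (m2 w)))
      · exact Or.inr rfl
      · exact Or.inr (cs _ (mul_mem (m1 s) (m2 s)))
    · rcases h.inv_T ht h2 hD with e | e | e | e | e | e <;> rw [e]
      · exact Or.inl (cw _ (m3 w))
      · exact Or.inl (cw _ (mul_mem (m3 w) (m1 w)))
      · exact Or.inl (cw _ (mul_mem (m3 w) (m2 w)))
      · exact Or.inl (cw _ (mul_mem (m3 w) (mul_mem (m1 w) (m2 w))))
      · exact Or.inr (cs _ (mul_mem (m3 s) (m2 s)))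
      · exact Or.inr (cs _ (mul_mem (m3 s) (mul_mem (m1 s) (m2 s))))
  rcases h.cent_T ht h2 (c.elim id hws.2) (c.elim hws.1 id) with e | e | e | e
  · exact Or.inl e
  · exact Or.inr e
  · rw [e, hj, mul_eq_left] at hf
    exact absurd hf h.u1
  · rw [e, ← conj_mul, hj, hu, mul_eq_left] at hf
    exact absurd hf h.u1

theorem swap (h : DD j u w s) {S : Subgroup G} (hS : IsPGroup 2 S)
    (hT : centralizer {j} ⊓ centralizer {u} ≤ S) {x : G} (hx : x ∈ S)
    (hg : x ∈ normalizer ((centralizer {j} ⊓ centralizer {u} : Subgroup G) : Set G))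
    (hxT : x ∉ centralizer {j} ⊓ centralizer {u}) : x * j * x⁻¹ = j * u :=
  (h.conj_j hg).resolve_left fun e => hxT (h.syl.eq_inf hS hT ▸
    (⟨hx, mem_centralizer_singleton_iff.2 (mul_inv_eq_iff_eq_mul.1 e)⟩ : x ∈ S ⊓ centralizer {j}))

theorem idx (h : DD j u w s) {S : Subgroup G} (hS : IsPGroup 2 S)
    (hT : centralizer {j} ⊓ centralizer {u} ≤ S) :
    IdxLeTwo (centralizer {j} ⊓ centralizer {u})
      (S ⊓ normalizer ((centralizer {j} ⊓ centralizer {u} : Subgroup G) : Set G)) :=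
  fun x hx y hy hx' hy' => mem_T.2 ⟨mul_inv_eq_iff_eq_mul.1 (by
    rw [show x * y * j * (x * y)⁻¹ = x * (y * j * y⁻¹) * x⁻¹ by group, h.swap hS hT hy.1 hy.2 hy',
      ← conj_mul, h.swap hS hT hx.1 hx.2 hx', h.conj_u hx.2, mul_assoc, h.uu, mul_one]),
    mul_inv_eq_iff_eq_mul.1 (h.conj_u (mul_mem hx.2 hy.2))⟩

theorem key (h : DD j u w s) {S A : Subgroup G} (hS : IsPGroup 2 S)
    (hT : centralizer {j} ⊓ centralizer {u} ≤ S)
    (hA : A ≤ S ⊓ normalizer ((centralizer {j} ⊓ centralizer {u} : Subgroup G) : Set G))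
    (hea : IsElementaryAbelian 2 A) (h8 : Nat.card A = 8) :
    A ≤ centralizer {j} ⊓ centralizer {u} := fun a ha => by
  by_contra haT
  have hu : u * a = a * u := (mul_inv_eq_iff_eq_mul.1 (h.conj_u (hA ha).2)).symm
  have haa := ea_sq hea ha
  have k : ∀ b ∈ A, b ∈ centralizer {j} ⊓ centralizer {u} → b ∈ four u a := fun b hb hbT => by
    rcases h.fixed (hA ha).2 (h.swap hS hT (hA ha).1 (hA ha).2 haT) hbT (ea_sq hea hb)
      (by rw [ea_comm hea ha hb, mul_inv_cancel_right]) with e | e <;> rw [e]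
    · exact one_mem _
    · exact left_mem_four _ _
  have hle : A ≤ four u a := fun b hb => by
    by_cases hbT : b ∈ centralizer {j} ⊓ centralizer {u}
    · exact k b hb hbT
    · exact (mul_mem_cancel_left (right_mem_four u a)).1
        (k _ (A.mul_mem ha hb) (h.idx hS hT a (hA ha) b (hA hb) haT hbT))
  have := Trans.card_le_of_le hle
  rw [h8, card_four h.uu haa hu h.u1 (fun e => haT (e ▸ one_mem _)) fun e => haT (e ▸ h.uT)] at this
  omega

theorem eight (h : DD j u w s) {x : G} (hx : x ∈ four u w ⊔ zpowers s) (h2 : x * x = 1)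
    (h1 : x ≠ 1) (hxu : u ≠ x) :
    IsElementaryAbelian 2 (four u x ⊔ zpowers j : Subgroup G) ∧
      Nat.card (four u x ⊔ zpowers j : Subgroup G) = 8 := by
  have hT := mem_T.1 (h.D_le hx)
  have c : ∀ b ∈ four u x, j * b = b * j := fun b hb =>
    (mem_T.1 (four_le h.uT (h.D_le hx) hb)).1.symm
  refine ⟨ea_sup_elt (ea_sup_elt (ea_zpowers (by rw [pow_two, h.uu])) h2 fun b hb => ?_) h.jj c, ?_⟩
  · rcases (mem_zpowers_two h.uu).1 hb with e | e <;> rw [e]
    · rw [mul_one, one_mul]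
    · exact hT.2
  · rw [card_sup_elt h.jj c fun e => h.jD (four_le uD hx e), card_four h.uu h2 hT.2.symm h.u1 h1 hxu]

theorem eight_w (h : DD j u w s) : IsElementaryAbelian 2 (four u w ⊔ zpowers j : Subgroup G) ∧
    Nat.card (four u w ⊔ zpowers j : Subgroup G) = 8 :=
  h.eight wD h.ww (fun e => h.nws (by rw [e, one_mul, mul_one])) fun e => h.nws (e ▸ h.us)

theorem eight_s (h : DD j u w s) : IsElementaryAbelian 2 (four u s ⊔ zpowers j : Subgroup G) ∧
    Nat.card (four u s ⊔ zpowers j : Subgroup G) = 8 :=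
  h.eight sD h.ss (fun e => h.nws (by rw [e, one_mul, mul_one])) fun e => h.nws (e ▸ h.uw.symm)

theorem le_normalizer_T (h : DD j u w s) {S : Subgroup G} (hS : IsPGroup 2 S)
    (hT : centralizer {j} ⊓ centralizer {u} ≤ S) :
    S ≤ normalizer ((centralizer {j} ⊓ centralizer {u} : Subgroup G) : Set G) := by
  by_contra hne
  obtain ⟨y, hy, hy'⟩ := SetLike.exists_of_lt
    (lt_inf_normalizer hS (inf_lt_left.2 hne))
  refine hy' ⟨hy.1, mem_normalizer_of_cj_le ?_⟩
  have k : ∀ E : Subgroup G, E ≤ centralizer {j} ⊓ centralizer {u} →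
      IsElementaryAbelian 2 E ∧ Nat.card E = 8 → cj y E ≤ centralizer {j} ⊓ centralizer {u} :=
    fun E hE h8 => h.key hS hT ((cj_mono y (hE.trans (le_inf hT le_normalizer))).trans
      (cj_eq_of_mem_normalizer hy.2).le) (ea_map h8.1 _) (by rw [card_cj, h8.2])
  have k1 := cj_le_iff.1 (k _ (sup_le (four_le h.uT h.wT) (zpowers_le.2 h.jT)) h.eight_w)
  have k2 := cj_le_iff.1 (k _ (sup_le (four_le h.uT h.sT) (zpowers_le.2 h.jT)) h.eight_s)
  have k3 : four u w ⊔ zpowers s ≤ cj y⁻¹ (centralizer {j} ⊓ centralizer {u}) :=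
    sup_le (fun x hx => mem_cj_inv.2 (k1 x (mem_sup_left hx)))
      (zpowers_le.2 (mem_cj_inv.2 (k2 s (mem_sup_left (right_mem_four _ _)))))
  refine cj_le_iff_le_cj_inv.2 fun t ht => (h.gen t ht).elim (fun e => k3 e) fun e => ?_
  exact (mul_mem_cancel_left (mem_cj_inv.2 (k1 j (mem_sup_right (mem_zpowers j))))).1 (k3 e)

theorem false (h : DD j u w s) (hG : ∀ H : Subgroup G, H.index ≠ 2) : False := by
  obtain ⟨S, hT⟩ := h.syl.isPGroup.exists_le_sylow
  have hS := S.isPGroup'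
  have hN := h.le_normalizer_T hS hT
  have hI : IdxLeTwo (centralizer {j} ⊓ centralizer {u}) S := fun x hx y hy =>
    h.idx hS hT x ⟨hx, hN hx⟩ y ⟨hy, hN hy⟩
  have hD : ∀ x ∈ (S : Subgroup G), ∀ t ∈ four u w ⊔ zpowers s,
      x * t * x⁻¹ ∈ four u w ⊔ zpowers s := fun x hx t ht =>
    mem_normalizer_conj (h.norm_D (hN hx)) ht
  have hj : orderOf j = 2 := orderOf_eq_prime (by rw [pow_two, h.jj]) h.j1
  have fin : ∀ g : G, g * j * g⁻¹ ∉ four u w ⊔ zpowers s := fun g e =>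
    h.nj ((h.conj_of_D e (by rw [conj_mul, h.jj, mul_one, mul_inv_cancel])
      (by simpa using h.j1)).trans (isConj_iff.2 ⟨g, rfl⟩ : IsConj j _).symm)
  have jinv := inv_eq_of_sq h.jj
  have jS := hT h.jT
  by_cases hx : ∃ x ∈ (S : Subgroup G), x * x = 1 ∧ x ∉ centralizer {j} ⊓ centralizer {u}
  · obtain ⟨x, hx, hxx, hxT⟩ := hx
    have hm : ∀ {y : G}, y ∈ four u w ⊔ zpowers s ⊔ zpowers x ↔
        y ∈ four u w ⊔ zpowers s ∨ x * y ∈ four u w ⊔ zpowers s :=
      mem_sup_zpowers_two (h.norm_D (hN hx)) (by rw [hxx]; exact one_mem _)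
    have hsw := h.swap hS hT hx (hN hx) hxT
    have hjx : j * x * j⁻¹ = u * x := by
      rw [jinv, mul_assoc, mul_inv_eq_iff_eq_mul.1 hsw, ← mul_assoc, ← mul_assoc, h.jj, one_mul]
    have uM : u ∈ four u w ⊔ zpowers s ⊔ zpowers x := mem_sup_left uD
    have xM : x ∈ four u w ⊔ zpowers s ⊔ zpowers x := mem_sup_right (mem_zpowers x)
    have jM : j ∈ normalizer ((four u w ⊔ zpowers s ⊔ zpowers x : Subgroup G) : Set G) :=
      mem_normalizer_of_cj_le (by
        rw [cj_sup, cj_zpowers, hjx, cj_eq_of_mem_normalizer (h.norm_D (hN jS))]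
        exact sup_le le_sup_left (zpowers_le.2 (mul_mem uM xM)))
    have k : ∀ y ∈ (S : Subgroup G), y ∉ four u w ⊔ zpowers s ⊔ zpowers x →
        j * y ∈ four u w ⊔ zpowers s ⊔ zpowers x := fun y hy hy' => by
      by_cases hyT : y ∈ centralizer {j} ⊓ centralizer {u}
      · exact mem_sup_left ((h.gen y hyT).resolve_left fun e => hy' (mem_sup_left e))
      · have := mem_sup_left (T := zpowers x)
          ((h.gen _ (hI x hx y hy hxT hyT)).resolve_left fun e => hy' (hm.2 (Or.inr e)))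
        rw [show j * (x * y) = j * x * j⁻¹ * (j * y) by group, hjx] at this
        exact (mul_mem_cancel_left (mul_mem uM xM)).1 this
    obtain ⟨g, -, h2, h3⟩ := thompson_idx hG S (M := four u w ⊔ zpowers s ⊔ zpowers x)
      (fun a ha b hb ha' hb' => by
        have := mul_mem (mem_normalizer_conj' jM (k a ha ha')) (k b hb hb')
        rwa [show j⁻¹ * (j * a) * j * (j * b) = a * (j * j) * b by group, h.jj, mul_one] at this)
      hj (four u w ⊔ zpowers j) (h.syl.isPGroup.to_le (sup_le (four_le h.uT h.wT)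
        (zpowers_le.2 h.jT))) fun r hr => ea_comm h.eight_w.1 hr (mem_sup_right (mem_zpowers j))
    have h4 := cj_le_iff.1 (h.key hS hT (A := cj g (four u w ⊔ zpowers j))
      (cj_le_iff.2 fun r hr => ⟨h3 r hr, hN (h3 r hr)⟩) (ea_map h.eight_w.1 _)
      (by rw [card_cj, h.eight_w.2])) j (mem_sup_right (mem_zpowers j))
    exact (hm.1 h2).elim (fin g) fun e => hxT ((mul_mem_cancel_right h4).1 (h.D_le e))
  · push Not at hx
    have k : ∀ x ∈ centralizer {j} ⊓ centralizer {u}, ∀ y ∈ (S : Subgroup G),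
        ⁅x, y⁆ ∈ four u w ⊔ zpowers s := fun x hx y hy => by
      have k1 : ∀ t ∈ four u w ⊔ zpowers s, ⁅t, y⁆ ∈ four u w ⊔ zpowers s := fun t ht => by
        rw [commutatorElement_def, show t * y * t⁻¹ * y⁻¹ = t * (y * t⁻¹ * y⁻¹) by group]
        exact mul_mem ht (hD y hy _ (inv_mem ht))
      rcases h.gen x hx with e | e
      · exact k1 x e
      · rw [show ⁅x, y⁆ = j⁻¹ * ⁅j * x, y⁆ * j⁻¹⁻¹ * (j⁻¹ * (y * j * y⁻¹)) by
          simp only [commutatorElement_def]; group]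
        refine mul_mem (hD _ (inv_mem jS) _ (k1 _ e)) ?_
        rcases h.conj_j (hN hy) with e | e <;> rw [e]
        · rw [inv_mul_cancel]; exact one_mem _
        · rw [inv_mul_cancel_left]; exact uD
    obtain ⟨a, -, h2, -⟩ := thompson_transfer_involution (H := (S : Subgroup G))
      (T := four u w ⊔ zpowers s) S.not_dvd_index (fun x hx y hy => by
        by_cases hxT : x ∈ centralizer {j} ⊓ centralizer {u}
        · exact k x hxT y hy
        by_cases hyT : y ∈ centralizer {j} ⊓ centralizer {u}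
        · rw [← commutatorElement_inv]
          exact inv_mem (k y hyT x hx)
        · rw [show ⁅x, y⁆ = ⁅x * y⁻¹, y⁆ by simp only [commutatorElement_def]; group]
          exact k _ (hI x hx _ (inv_mem hy) hxT (by rwa [inv_mem_iff])) y hy)
      (fun x hx => by
        obtain ⟨k, hk⟩ := hS ⟨x, hx⟩
        exact ⟨k, by rw [show x ^ 2 ^ k = 1 from congrArg Subtype.val hk]; exact one_mem _⟩)
      j hj (fun a ha b hb ha2 hb2 ha' hb' => by
        have haT := hx a ha (by rw [← pow_two, ← ha2, pow_orderOf_eq_one])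
        have hbT := hx b hb (by rw [← pow_two, ← hb2, pow_orderOf_eq_one])
        have := mul_mem ((h.gen a haT).resolve_left ha') ((h.gen b hbT).resolve_left hb')
        rwa [← (mem_T.1 haT).1, show a * j * (j * b) = a * (j * j) * b by group, h.jj,
          mul_one] at this)
      (by rw [pResidual_two_eq_top_iff.2 hG, sup_top_eq]; trivial) ⊥ IsPGroup.of_bot (by simp)
    exact fin a⁻¹ (by rwa [inv_inv])

end DD

/-! ### The group `S₄ × 2` -/

abbrev KK := Equiv.Perm (Fin 4) × Multiplicative (ZMod 2)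

def cK : KK := (1, Multiplicative.ofAdd 1)

/-- The involutions of the normal four-group of `S₄`. -/
def PK (u : KK) : Prop := u.2 = 1 ∧ u ≠ 1 ∧ u * u = 1 ∧ Equiv.Perm.sign u.1 = 1

instance decPK : DecidablePred PK := fun u =>
  inferInstanceAs (Decidable (u.2 = 1 ∧ u ≠ 1 ∧ u * u = 1 ∧ Equiv.Perm.sign u.1 = 1))

theorem kk1 : ∀ y : KK, (∀ z, z * y = y * z) → y = 1 ∨ y = cK := by decide +kernel

theorem kk2 : ∀ y : KK, y * y ≠ cK := by decide +kernel

set_option synthInstance.maxSize 4096 in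
theorem kk3 : ∀ y : KK, y * y = 1 → y ≠ 1 → y ≠ cK →
    16 ∣ (Finset.univ.filter fun z => z * y = y * z).card →
    (∀ z, z * (cK * y) = cK * y * z → z * z ≠ cK * y) → PK y := by decide +kernel

set_option synthInstance.maxSize 4096 in
theorem kk4 : ∀ u : KK, PK u → (∃ d, d * u * d⁻¹ ≠ u) ∧ (∀ g, PK (g * u * g⁻¹)) ∧
    ∀ b, PK b → u * b = b * u := by decide +kernel

set_option synthInstance.maxSize 4096 in
theorem kk7 : ∀ u : KK, PK u → ∀ w, PK w → w ≠ u → ∀ s, s * s = 1 → s * u = u * s → w * s ≠ s * w →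
    s * w * s = u * w ∧ ∀ t, t * u = u * t → ∃ a, (a = t ∨ a = cK * t) ∧
      (a = 1 ∨ a = u ∨ a = w ∨ a = u * w ∨ a = s ∨ a = u * s ∨ a = w * s ∨ a = u * w * s) := by
  decide +kernel

set_option synthInstance.maxSize 4096 in
theorem kk8 : ∀ u : KK, PK u → ∀ w, PK w → w ≠ u → ∀ t, t * u = u * t → t * w = w * t →
    t * t = 1 ∧ ∀ a, PK a → t * a = a * t := by decide +kernel

theorem cent_KK {j : G} (hj : j ≠ 1) (h : Nonempty (centralizer ({j} : Set G) ≃* KK)) :
    ∃ f : KK →* G, Function.Injective f ∧ (∀ x, x * j = j * x ↔ ∃ y, f y = x) ∧ f cK = j := by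
  obtain ⟨φ⟩ := h
  set f : KK →* G := (centralizer {j}).subtype.comp φ.symm.toMonoidHom
  have hf : Function.Injective f := Subtype.val_injective.comp φ.symm.injective
  have hr : ∀ x, x * j = j * x ↔ ∃ y, f y = x := fun x =>
    ⟨fun e => ⟨φ ⟨x, mem_centralizer_singleton_iff.2 e⟩, by simp [f]⟩,
      fun ⟨y, e⟩ => e ▸ mem_centralizer_singleton_iff.1 (φ.symm y).2⟩
  obtain ⟨y, hy⟩ := (hr j).1 rfl
  refine ⟨f, hf, hr, ?_⟩
  rcases kk1 y (fun z => hf (by rw [map_mul, map_mul, hy]; exact (hr _).2 ⟨z, rfl⟩)) with e | e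
  · exact absurd (by rw [← hy, e, map_one]) hj
  · rw [← e, hy]

theorem cent_KK_sq {j : G} (hj : j ≠ 1) (h : Nonempty (centralizer ({j} : Set G) ≃* KK)) :
    j * j = 1 ∧ ∀ y, y * y ≠ j := by
  obtain ⟨f, hf, hr, hc⟩ := cent_KK hj h
  refine ⟨by rw [← hc, ← map_mul, show cK * cK = 1 by decide, map_one], fun y e => ?_⟩
  obtain ⟨z, rfl⟩ := (hr y).1 (by rw [← e, mul_assoc])
  exact kk2 z (hf (by rw [map_mul, e, hc]))

variable [Finite G]

theorem loc_KK {j u : G} (hj : j ≠ 1) (h : Nonempty (centralizer ({j} : Set G) ≃* KK))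
    (u1 : u ≠ 1) (hne : u ≠ j) (uu : u * u = 1) (ju : u * j = j * u) (hsq : ∀ y, y * y ≠ j * u)
    (hsyl : IsSylowIn 2 (centralizer {j} ⊓ centralizer {u}) (centralizer {j})) :
    ∃ w, w * w = 1 ∧ w ∈ centralizer {j} ⊓ centralizer {u} ∧
      (∃ d, d * j * d⁻¹ = j ∧ d * u * d⁻¹ = w) ∧
      (∀ g, g * j * g⁻¹ = j → g * u * g⁻¹ * w = w * (g * u * g⁻¹)) ∧
      (∀ s ∈ centralizer {j} ⊓ centralizer {u}, s * s = 1 → w * s ≠ s * w → s * w * s = u * w ∧
        ∀ t ∈ centralizer {j} ⊓ centralizer {u},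
          t ∈ four u w ⊔ zpowers s ∨ j * t ∈ four u w ⊔ zpowers s) ∧
      pCoreOf 2 (centralizer {j}) = centralizer {j} ⊓ centralizer {u} ⊓ centralizer {w} ∧
      IsElementaryAbelian 2 (centralizer {j} ⊓ centralizer {u} ⊓ centralizer {w} : Subgroup G) := by
  obtain ⟨f, hf, hr, hc⟩ := cent_KK hj h
  obtain ⟨u, rfl⟩ := (hr u).1 ju
  have cm : ∀ a b : KK, f a * f b = f b * f a ↔ a * b = b * a := fun a b => by
    rw [← map_mul, ← map_mul, hf.eq_iff]
  have hP : PK u := by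
    refine kk3 u (hf (by rw [map_mul, uu, map_one])) (fun e => u1 (by rw [e, map_one]))
      (fun e => hne (by rw [e, hc])) ?_ fun z _ e => hsq (f z) (by rw [← map_mul, e, map_mul, hc])
    have e1 : centralizer {j} ⊓ centralizer {f u} = (centralizer {u}).map f := by
      ext x
      rw [DD.mem_T, mem_map]
      refine ⟨fun ⟨h1, h2⟩ => ?_, ?_⟩
      · obtain ⟨y, rfl⟩ := (hr x).1 h1
        exact ⟨y, mem_centralizer_singleton_iff.2 ((cm _ _).1 h2), rfl⟩
      · rintro ⟨y, hy, rfl⟩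
        exact ⟨(hr _).2 ⟨y, rfl⟩, (cm _ _).2 (mem_centralizer_singleton_iff.1 hy)⟩
    have e2 := card_mul_relIndex hsyl.le
    obtain ⟨φ⟩ := h
    rw [Nat.card_congr φ.toEquiv, show Nat.card KK = 48 by
      simp [Nat.card_prod, Fintype.card_perm, Nat.factorial]] at e2
    have e3 : Nat.card (centralizer {j} ⊓ centralizer {f u} : Subgroup G) =
        (Finset.univ.filter fun z => z * u = u * z).card := by
      rw [e1, card_map_of_injective hf, ← Fintype.card_subtype, ← Nat.card_eq_fintype_card]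
      exact Nat.card_congr (Equiv.subtypeEquivRight fun _ => mem_centralizer_singleton_iff)
    rw [← e3]
    exact Nat.Coprime.dvd_of_dvd_mul_right (Nat.Coprime.pow_left 4
      ((Nat.Prime.coprime_iff_not_dvd Nat.prime_two).2 hsyl.not_dvd)) (by rw [e2]; decide)
  obtain ⟨⟨d, hd⟩, hcj, hcm⟩ := kk4 u hP
  have hw := hcj d
  have fj : ∀ y, f y * j * (f y)⁻¹ = j := fun y => mul_inv_eq_iff_eq_mul.2 ((hr _).2 ⟨y, rfl⟩)
  have mE : ∀ x, x ∈ centralizer {j} ⊓ centralizer {f u} ⊓ centralizer {f (d * u * d⁻¹)} ↔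
      ∃ t, f t = x ∧ t * u = u * t ∧ t * (d * u * d⁻¹) = d * u * d⁻¹ * t := fun x => by
    rw [mem_inf, DD.mem_T, mem_centralizer_singleton_iff]
    refine ⟨fun ⟨⟨h1, h2⟩, h3⟩ => ?_, ?_⟩
    · obtain ⟨y, rfl⟩ := (hr x).1 h1
      exact ⟨y, rfl, (cm _ _).1 h2, (cm _ _).1 h3⟩
    · rintro ⟨y, rfl, h2, h3⟩
      exact ⟨⟨(hr _).2 ⟨y, rfl⟩, (cm _ _).2 h2⟩, (cm _ _).2 h3⟩
  refine ⟨f (d * u * d⁻¹), by rw [← map_mul, hw.2.2.1, map_one],
    DD.mem_T.2 ⟨(hr _).2 ⟨_, rfl⟩, (cm _ _).2 (hcm _ hw).symm⟩,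
    ⟨f d, fj d, by rw [map_mul, map_mul, map_inv]⟩, fun g hg => ?_, fun s hs ss hws => ?_,
    le_antisymm (le_inf (pCoreOf_le_sylowIn hsyl) fun x hx => ?_)
      (le_pCoreOf (inf_le_left.trans inf_le_left) (fun g hg => ?_)
        (hsyl.isPGroup.to_le inf_le_left)), ea_of_sq fun x hx => ?_⟩
  · obtain ⟨g, rfl⟩ := (hr g).1 (mul_inv_eq_iff_eq_mul.1 hg)
    rw [← map_inv, ← map_mul, ← map_mul, cm]
    exact (kk4 _ (hcj g)).2.2 _ hw
  · obtain ⟨s, rfl⟩ := (hr s).1 (DD.mem_T.1 hs).1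
    obtain ⟨k1, k2⟩ := kk7 u hP _ hw hd s (hf (by rw [map_mul, ss, map_one]))
      ((cm _ _).1 (DD.mem_T.1 hs).2) fun e => hws ((cm _ _).2 e)
    refine ⟨by rw [← map_mul, ← map_mul, k1, map_mul], fun t ht => ?_⟩
    obtain ⟨t, rfl⟩ := (hr t).1 (DD.mem_T.1 ht).1
    obtain ⟨a, ha, ha'⟩ := k2 t ((cm _ _).1 (DD.mem_T.1 ht).2)
    generalize d * u * d⁻¹ = w at ha' ⊢
    have : f a ∈ four (f u) (f w) ⊔ zpowers (f s) := by
      rcases ha' with e | e | e | e | e | e | e | e <;> rw [e]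
      · rw [map_one]; exact one_mem _
      · exact DD.uD
      · exact DD.wD
      · rw [map_mul]; exact mul_mem DD.uD DD.wD
      · exact DD.sD
      · rw [map_mul]; exact mul_mem DD.uD DD.sD
      · rw [map_mul]; exact mul_mem DD.wD DD.sD
      · rw [map_mul, map_mul]; exact mul_mem (mul_mem DD.uD DD.wD) DD.sD
    exact ha.imp (fun e => by rwa [e] at this) fun e => by rwa [e, map_mul, hc] at this
  · have h1 := (DD.mem_T.1 (pCoreOf_le_sylowIn hsyl (mem_normalizer_conj'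
      (le_normalizer_pCoreOf _ (mem_centralizer_singleton_iff.2 ((hr _).2 ⟨d, rfl⟩))) hx))).2
    rw [mem_centralizer_singleton_iff, map_mul, map_mul, map_inv,
      show x * (f d * f u * (f d)⁻¹) = f d * ((f d)⁻¹ * x * f d * f u) * (f d)⁻¹ by group, h1]
    group
  · obtain ⟨g, rfl⟩ := (hr g).1 (mem_centralizer_singleton_iff.1 hg)
    refine mem_normalizer_of_cj_le (cj_le_iff.2 fun x hx => ?_)
    obtain ⟨t, rfl, h1, h2⟩ := (mE x).1 hx
    have k : ∀ a, PK a → g * t * g⁻¹ * a = a * (g * t * g⁻¹) := fun a ha => by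
      rw [show g * t * g⁻¹ * a = g * (t * (g⁻¹ * a * g⁻¹⁻¹)) * g⁻¹ by group,
        (kk8 u hP _ hw hd t h1 h2).2 _ ((kk4 a ha).2.1 g⁻¹)]
      group
    exact (mE _).2 ⟨g * t * g⁻¹, by rw [map_mul, map_mul, map_inv], k u hP, k _ hw⟩
  · obtain ⟨t, rfl, h1, h2⟩ := (mE x).1 hx
    rw [← map_mul, (kk8 u hP _ hw hd t h1 h2).1, map_one]

/-- Lemma D82. -/
theorem D82 (hG : ∀ H : Subgroup G, H.index ≠ 2) {j j' : G} (hj : j ≠ 1) (hj' : j' ≠ 1)
    (hne : j ≠ j')
    (h : Nonempty (centralizer ({j} : Set G) ≃* Equiv.Perm (Fin 4) × Multiplicative (ZMod 2)))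
    (h' : Nonempty (centralizer ({j'} : Set G) ≃* Equiv.Perm (Fin 4) × Multiplicative (ZMod 2)))
    (hs : IsSylowIn 2 (centralizer {j} ⊓ centralizer {j'}) (centralizer {j}))
    (hs' : IsSylowIn 2 (centralizer {j} ⊓ centralizer {j'}) (centralizer {j'}))
    (hO : pCoreOf 2 (centralizer ({j} : Set G)) ≠ pCoreOf 2 (centralizer {j'})) : False := by
  obtain ⟨jj, hsq⟩ := cent_KK_sq hj h
  obtain ⟨jj', hsq'⟩ := cent_KK_sq hj' h'
  have hc : j' * j = j * j' := (DD.mem_T.1 (hs'.le_of_normal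
    (isPGroup_zpowers_of_orderOf_two (orderOf_eq_prime (by rw [pow_two, jj']) hj'))
    (zpowers_le.2 (mem_centralizer_singleton_iff.2 rfl)) (fun g hg =>
      normalizer_zpowers_of_comm (mem_centralizer_singleton_iff.1 hg).symm) (mem_zpowers j'))).1
  obtain ⟨u, rfl⟩ : ∃ u, j' = j * u := ⟨j⁻¹ * j', by group⟩
  have ju : u * j = j * u := by rwa [mul_assoc, mul_right_inj] at hc
  have uu : u * u = 1 := by
    rwa [show j * u * (j * u) = j * (u * j) * u by group, ju,
      show j * (j * u) * u = j * j * (u * u) by group, jj, one_mul] at jj'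
  have u1 : u ≠ 1 := fun e => hne (by rw [e, mul_one])
  have e1 : centralizer {j} ⊓ centralizer {j * u} = centralizer {j} ⊓ centralizer {u} := by
    ext x
    rw [DD.mem_T, DD.mem_T]
    refine and_congr_right fun e => ?_
    rw [← mul_assoc, e, mul_assoc, mul_assoc, mul_right_inj]
  have e2 : centralizer {j * u} ⊓ centralizer {u} = centralizer {j} ⊓ centralizer {u} := by
    ext x
    rw [DD.mem_T, DD.mem_T]
    refine and_congr_left fun e => ?_
    rw [mul_assoc, ← e, ← mul_assoc, ← mul_assoc, mul_left_inj]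
  have e3 : j * u * u = j := by rw [mul_assoc, uu, mul_one]
  rw [e1] at hs hs'
  obtain ⟨w, ww, wT, dw, -, k1, k2, k3⟩ := loc_KK hj h u1 (fun e => hj' (by rw [e, jj])) uu ju hsq' hs
  obtain ⟨s, ss, sT, ds, cs, -, l2, l3⟩ := loc_KK hj' h' u1 (fun e => hj (by simpa using e.symm)) uu
    (by rw [← mul_assoc, ju]) (by rwa [e3]) (by rwa [e2])
  rw [e2] at sT l2 l3
  have nws : w * s ≠ s * w := fun e => hO (by
    rw [k2, l2]
    exact le_antisymm (le_inf inf_le_left fun x hx => mem_centralizer_singleton_iff.2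
      (ea_comm k3 hx ⟨sT, mem_centralizer_singleton_iff.2 e.symm⟩))
      (le_inf inf_le_left fun x hx => mem_centralizer_singleton_iff.2
        (ea_comm l3 hx ⟨wT, mem_centralizer_singleton_iff.2 e⟩)))
  obtain ⟨sw, gen⟩ := k1 s sT ss nws
  have wu := (DD.mem_T.1 wT).2
  have nc : ∀ x, (∀ y, y * y ≠ x) → ¬ IsConj u x := fun x hx hc => by
    obtain ⟨g, rfl⟩ := isConj_iff.1 hc
    refine hx (g * (w * s) * g⁻¹) ?_
    rw [conj_mul, show w * s * (w * s) = w * (s * w * s) by group, sw, ← mul_assoc w u w, wu,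
      mul_assoc u, ww, mul_one]
  exact DD.false ⟨jj, uu, ww, ss, u1, hj, ju.symm, (DD.mem_T.1 wT).1.symm, (DD.mem_T.1 sT).1.symm,
    wu.symm, (DD.mem_T.1 sT).2.symm, sw, gen, hs, dw, ds, nc j hsq, nc _ hsq', cs⟩ hG

end Cfsg.Lib.Ngrp
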