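import Cfsg.Agent.Ngrp.AmDefs

set_option autoImplicit false

namespace Cfsg.Lib.Ngrp
open Subgroup Cfsg.Lib.Trans Cfsg.Lib.Trans.TJ Cfsg.Lib.Local Cfsg.Lib.Local.MSS Cfsg.Lib.Local.JC
open scoped commutatorElement

variable {G : Type*} [Group G]

/-- `L` contains `S` and has a nontrivial 2-core. -/
def Over (S L : Subgroup G) : Prop := S ≤ L ∧ pCoreOf 2 L ≠ ⊥

/-- A component for the Thompson subgroup of `T`: a four-group `W` with an element `d` of odd
order acting on it. -/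
structure JCd (T W : Subgroup G) (d : G) : Prop where
  ea : IsElementaryAbelian 2 W
  card : Nat.card W = 4
  odd : Odd (orderOf d)
  nJ : J T ≤ normalizer (W : Set G)
  nd : d ∈ normalizer (W : Set G)
  act : d ∉ centralizer (W : Set G)
  zj : ∀ z ∈ omegaCenterOf (J T), ∃ w ∈ W, z * w * d = d * (z * w)
  ex : ∃ (A J₀ : Subgroup G) (a : G), MaxEA 2 T A ∧ a ∈ A ∧ a * d * a⁻¹ = d⁻¹ ∧ J₀ ≤ J T ∧
    d ∈ normalizer (J₀ : Set G) ∧ a ∈ normalizer (J₀ : Set G) ∧
    (A ⊓ centralizer (W : Set G)) ⊔ W ≤ J₀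

/-- `Y` is the largest 2-reduced subgroup of its normalizer, of maximal order. -/
structure MaxY (S : Sylow 2 G) (Y : Subgroup G) : Prop where
  ah : AH G
  ne : Y ≠ ⊥
  le : (S : Subgroup G) ≤ normalizer (Y : Set G)
  eq : largestPReducedOf 2 (normalizer (Y : Set G)) = Y
  max : ∀ L : Subgroup G, Over S L → Nat.card (largestPReducedOf 2 L) ≤ Nat.card Y

/-- Case (C): the normalizer of `J(S)` and all components lie in `N(Y)`, and `H` is minimal among
the overgroups not contained in `N(Y)`. -/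
structure CaseC (S : Sylow 2 G) (Y H : Subgroup G) : Prop extends MaxY S Y where
  nj : normalizer (J (S : Subgroup G) : Set G) ≤ normalizer (Y : Set G)
  jc : ∀ (W : Subgroup G) (d : G), JCd S W d → d ∈ normalizer (Y : Set G)
  ov : Over S H
  out : ¬ H ≤ normalizer (Y : Set G)
  min : ∀ L : Subgroup G, (S : Subgroup G) ≤ L → L < H → L ≤ normalizer (Y : Set G)

/-- The last configuration of case (C). -/
structure CaseK (S : Sylow 2 G) (Y E A : Subgroup G) (a b d : G) : Prop extends MaxY S Y where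
  cardY : Nat.card Y = 16
  cardE : Nat.card E = 4
  EY : E ≤ Y
  maxA : MaxEA 2 ((S : Subgroup G) ⊓ centralizer (Y : Set G)) A
  ha : a ∈ A
  hb : b ∈ A
  odd : Odd (orderOf d)
  inv : a * d * a⁻¹ = d⁻¹
  dE : d ∈ centralizer (E : Set G)
  mem : d * b * d⁻¹ ∈ (S : Subgroup G)
  comm : ∀ y ∈ Y, ⁅y, d * b * d⁻¹⁆ ∈ E
  fix : ∀ y ∈ Y, ⁅y, d * b * d⁻¹⁆ = 1 ↔ y ∈ E
  cent : ∀ x ∈ normalizer (Y : Set G), x ∈ centralizer (E : Set G) →
    x ∈ centralizer (Y : Set G) ∨ x * (d * b * d⁻¹) ∈ centralizer (Y : Set G)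

end Cfsg.Lib.Ngrp
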