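import Cfsg.Agent.Ngrp.NatDefs
import Cfsg.Agent.Ngrp.AmPL
import Cfsg.Agent.Local.JPair

/-!
First properties of the components `JCd`.
-/

set_option autoImplicit false

namespace Cfsg.Lib.Ngrp
open Subgroup Cfsg.Lib.Trans Cfsg.Lib.Trans.TJ Cfsg.Lib.Local Cfsg.Lib.Local.JC
open Cfsg.Lib.Local.MSS (ncl PRed)
open scoped commutatorElement

variable {G : Type*} [Group G] {T T' W A J₀ L D P Z B : Subgroup G} {d a u w x g : G}

theorem mem_of_sq_mem_of_odd (hd : Odd (orderOf d)) (h : d * d ∈ P) : d ∈ P :=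
  MSS.mem_of_pow_mem_of_coprime (n := 2) (Nat.coprime_two_right.2 hd) (by rwa [pow_two])

/-- An element of odd order inverted by `a ∈ P` and normalising `P` lies in `P`. -/
theorem mem_of_inverts (hd : Odd (orderOf d)) (hinv : a * d * a⁻¹ = d⁻¹)
    (hn : d ∈ normalizer (P : Set G)) (ha : a ∈ P) : d ∈ P := by
  refine mem_of_sq_mem_of_odd hd ?_
  have h1 := P.mul_mem (mem_normalizer_conj hn ha) (P.inv_mem ha)
  rwa [show d * a * d⁻¹ * a⁻¹ = d * (a * d * a⁻¹)⁻¹ by group, hinv, inv_inv] at h1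

/-- A four-group with an element of odd order acting nontrivially. -/
structure FD (W : Subgroup G) (d : G) : Prop where
  ea : IsElementaryAbelian 2 W
  card : Nat.card W = 4
  odd : Odd (orderOf d)
  nd : d ∈ normalizer (W : Set G)
  act : d ∉ centralizer (W : Set G)

theorem JCd.fd (h : JCd T W d) : FD W d := ⟨h.ea, h.card, h.odd, h.nd, h.act⟩

variable [Finite G]

namespace FD

variable (h : FD W d)
include h

omit [Finite G] in
theorem ne_bot : W ≠ ⊥ := fun h1 => by simpa [h1] using h.card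

theorem conj_ne (hw : w ∈ W) (h1 : w ≠ 1) : d * w * d⁻¹ ≠ w := fun e =>
  h.act (mem_of_sq_mem_of_odd h.odd (mul_mem_cent_four h.ea h.card hw h1 h.nd h.nd e e h.act h.act))

theorem eq_one (hw : w ∈ W) (h1 : w * d = d * w) : w = 1 :=
  by_contra fun h2 => h.conj_ne hw h2 (by rw [← h1, mul_inv_cancel_right])

theorem mem_iff (hw : w ∈ W) (h1 : w ≠ 1) :
    x ∈ W ↔ x = 1 ∨ x = w ∨ x = d * w * d⁻¹ ∨ x = w * (d * w * d⁻¹) :=
  mem_iff_of_card h.ea h.card hw (mem_normalizer_conj h.nd hw) h1 (by simpa using h1)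
    (h.conj_ne hw h1).symm

theorem le_of_mem (hw : w ∈ W) (h1 : w ≠ 1) (hn : d ∈ normalizer (P : Set G)) (hP : w ∈ P) :
    W ≤ P := fun x hx => by
  rcases (h.mem_iff hw h1).1 hx with rfl | rfl | rfl | rfl
  exacts [one_mem _, hP, mem_normalizer_conj hn hP, mul_mem hP (mem_normalizer_conj hn hP)]

theorem le_cent_of_fix (hw : w ∈ W) (h1 : w ≠ 1) (hn : d ∈ normalizer (P : Set G))
    (hP : w ∈ centralizer (P : Set G)) : P ≤ centralizer (W : Set G) :=
  le_centralizer_iff.1 (h.le_of_mem hw h1 (normalizer_le_normalizer_centralizer P hn) hP)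

omit h in
theorem exists_fix (hW : IsElementaryAbelian 2 W) (h0 : W ≠ ⊥) (hP : P ≤ normalizer (W : Set G))
    (hr : resOf 2 P ≤ centralizer (W : Set G)) : ∃ u ∈ W, u ≠ 1 ∧ u ∈ centralizer (P : Set G) := by
  obtain ⟨u, hu, h1⟩ := (Subgroup.bot_or_exists_ne_one _).resolve_left
    (MSS.inf_centralizer_ne_bot_of_resOf_le (ea_isPGroup hW) hP hr h0)
  exact ⟨u, hu.1, h1, hu.2⟩

theorem le_cent (hP : P ≤ normalizer (W : Set G)) (hr : resOf 2 P ≤ centralizer (W : Set G))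
    (hn : d ∈ normalizer (P : Set G)) : P ≤ centralizer (W : Set G) := by
  obtain ⟨u, hu, h1, h2⟩ := exists_fix h.ea h.ne_bot hP hr
  exact h.le_cent_of_fix hu h1 hn h2

omit [Finite G] in
theorem not_mem_cent (hinv : a * d * a⁻¹ = d⁻¹) : a ∉ centralizer (W : Set G) := fun h1 =>
  h.act (mem_of_inverts h.odd hinv (normalizer_le_normalizer_centralizer W h.nd) h1)

omit [Finite G] in
theorem inv : FD W d⁻¹ :=
  ⟨h.ea, h.card, by rw [orderOf_inv]; exact h.odd, inv_mem h.nd, fun h1 => h.act (inv_mem_iff.1 h1)⟩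

omit [Finite G] in
theorem of_congr {d' : G} (ho : Odd (orderOf d')) (hc : d' * d⁻¹ ∈ centralizer (W : Set G)) :
    FD W d' :=
  ⟨h.ea, h.card, ho, by simpa using mul_mem (centralizer_le_normalizer _ hc) h.nd,
    fun h1 => h.act (by simpa using mul_mem (inv_mem hc) h1)⟩

omit [Finite G] in
theorem cj (g : G) : FD (cj g W) (g * d * g⁻¹) :=
  ⟨ea_map h.ea _, by rw [card_cj, h.card], by rw [orderOf_conj]; exact h.odd,
    by rw [← cj_normalizer]; exact conj_mem_cj.2 h.nd,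
    by rw [← cj_centralizer]; exact fun h1 => h.act (conj_mem_cj.1 h1)⟩

/-- An element fixing `u` and not centralising `W` inverts `d` modulo `C(W)`. -/
theorem inverts (hu : u ∈ W) (h1 : u ≠ 1) (ha : a ∈ normalizer (W : Set G))
    (hau : a * u * a⁻¹ = u) (hc : a ∉ centralizer (W : Set G)) :
    a * d * a⁻¹ * d ∈ centralizer (W : Set G) := by
  have h2 := mem_normalizer_conj h.nd hu
  have h3 := h.conj_ne hu h1
  have hau' : a⁻¹ * u * a⁻¹⁻¹ = u := by
    conv_lhs => rw [← hau]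
    group
  have h4 := ((conj_four h.ea h.card hu h2 h1 (by simpa using h1) h3.symm ha hau).resolve_left hc).1
  have h5 := ((conj_four h.ea h.card hu h2 h1 (by simpa using h1) h3.symm (inv_mem ha)
    hau').resolve_left (mt inv_mem_iff.1 hc)).1
  have h6 : d * (d * u * d⁻¹) * d⁻¹ = u * (d * u * d⁻¹) := by
    rcases (h.mem_iff hu h1).1 (mem_normalizer_conj h.nd h2) with e | e | e | e
    · simp [h1] at e
    · refine absurd (mem_of_sq_mem_of_odd h.odd (P := centralizer {u}) ?_) fun e => h3 ?_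
      · rw [mem_centralizer_singleton_iff, ← mul_inv_eq_iff_eq_mul]
        exact (by group : _ = d * (d * u * d⁻¹) * d⁻¹).trans e
      · rw [mem_centralizer_singleton_iff.1 e, mul_inv_cancel_right]
    · exact absurd (by simpa using e) h3
    · exact e
  have h7 := ea_sq h.ea hu
  have h8 := ea_sq h.ea h2
  have h9 := ea_comm h.ea hu h2
  set v := d * u * d⁻¹ with hv
  have h10 : d * (u * v) * d⁻¹ = u := by
    rw [← conj_mul, ← hv, h6, h9, ← mul_assoc, h8, one_mul]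
  have h11 : ∀ t, a * d * a⁻¹ * d * t * (a * d * a⁻¹ * d)⁻¹ =
      a * (d * (a⁻¹ * (d * t * d⁻¹) * a⁻¹⁻¹) * d⁻¹) * a⁻¹ := fun t => by group
  refine mem_centralizer_of_conj_eq fun t ht => ?_
  have h12 : a * d * a⁻¹ * d * u * (a * d * a⁻¹ * d)⁻¹ = u := by rw [h11, ← hv, h5, h10, hau]
  have h13 : a * d * a⁻¹ * d * v * (a * d * a⁻¹ * d)⁻¹ = v := by
    rw [h11, h6, ← conj_mul (b := a⁻¹), h5, hau', ← mul_assoc u, h7, one_mul, h6, ← conj_mul, hau,
      h4, ← mul_assoc, h7, one_mul]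
  rcases (h.mem_iff hu h1).1 ht with rfl | rfl | rfl | rfl
  exacts [by simp, h12, h13, by rw [← conj_mul, h12, h13]]

/-- An element acting nontrivially on `W` has only one nontrivial fixed point. -/
theorem fix_cases (hu : u ∈ W) (h1 : u ≠ 1) (ha : a ∈ normalizer (W : Set G))
    (hau : a * u * a⁻¹ = u) (hc : a ∉ centralizer (W : Set G)) (hw : w ∈ W)
    (haw : a * w * a⁻¹ = w) : w = 1 ∨ w = u := by
  by_contra hn
  rw [not_or] at hn
  have := ((conj_four h.ea h.card hu hw h1 hn.1 (Ne.symm hn.2) ha hau).resolve_left hc).1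
  exact h1 (by simpa [haw] using this.symm)

/-- Version of `le_cent` for an element acting on `W` as `d`. -/
theorem le_cent' {n : G} (hP : P ≤ normalizer (W : Set G))
    (hr : resOf 2 P ≤ centralizer (W : Set G)) (hn : n ∈ normalizer (P : Set G))
    (hc : n * d⁻¹ ∈ centralizer (W : Set G)) : P ≤ centralizer (W : Set G) := by
  obtain ⟨u, hu, h1, h2⟩ := exists_fix h.ea h.ne_bot hP hr
  have h3 : d * u * d⁻¹ ∈ centralizer (P : Set G) := by
    have := mem_normalizer_conj (normalizer_le_normalizer_centralizer P hn) h2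
    rwa [show n * u * n⁻¹ = n * d⁻¹ * (d * u * d⁻¹) * (n * d⁻¹)⁻¹ by group,
      conj_eq_of_mem_centralizer hc (mem_normalizer_conj h.nd hu)] at this
  refine le_centralizer_iff.1 fun x hx => ?_
  rcases (h.mem_iff hu h1).1 hx with rfl | rfl | rfl | rfl
  exacts [one_mem _, h2, h3, mul_mem h2 h3]

/-- `W = [W, d]`. -/
theorem le_commutator (hV : W ≤ P) : W ≤ ⁅P, zpowers d⁆ := by
  obtain ⟨u, hu, h1⟩ := (Subgroup.bot_or_exists_ne_one W).resolve_left h.ne_bot
  have h2 : ⁅u, d⁆ ∈ W := by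
    rw [commutatorElement_def, mul_assoc, mul_assoc, ← mul_assoc d]
    exact mul_mem hu (mem_normalizer_conj h.nd (inv_mem hu))
  refine h.le_of_mem h2 (fun e => h1 (h.eq_one hu (commutatorElement_eq_one_iff_mul_comm.1 e))) ?_
    (commutator_mem_commutator (hV hu) (mem_zpowers d))
  exact Solv.right_le_normalizer_commutator _ _ (mem_zpowers d)

end FD

namespace JCd

theorem congr (h : JCd T W d) (e : J T = J T') : JCd T' W d :=
  ⟨h.ea, h.card, h.odd, e ▸ h.nJ, h.nd, h.act, e ▸ h.zj, by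
    obtain ⟨A, J₀, a, h1, h2, h3, h4, h5⟩ := h.ex
    exact ⟨A, J₀, a, (maxEA_congr e).1 h1, h2, h3, e ▸ h4, h5⟩⟩

omit [Finite G] in
theorem cj (h : JCd T W d) (g : G) : JCd (cj g T) (cj g W) (g * d * g⁻¹) := by
  have f := h.fd.cj g
  refine ⟨f.ea, f.card, f.odd, ?_, f.nd, f.act, fun z hz => ?_, ?_⟩
  · rw [← cj_J, ← cj_normalizer]
    exact cj_mono g h.nJ
  · rw [← cj_J, ← cj_oc] at hz
    obtain ⟨z, hz, rfl⟩ := hz
    obtain ⟨w, hw, e⟩ := h.zj z hz
    refine ⟨g * w * g⁻¹, conj_mem_cj.2 hw, ?_⟩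
    change g * z * g⁻¹ * (g * w * g⁻¹) * _ = _ * (g * z * g⁻¹ * (g * w * g⁻¹))
    simp only [conj_mul, e]
  · obtain ⟨A, J₀, a, h1, h2, h3, h4, h5, h6, h7⟩ := h.ex
    refine ⟨Trans.cj g A, Trans.cj g J₀, g * a * g⁻¹, h1.conj_smul g, conj_mem_cj.2 h2, ?_, ?_, ?_,
      ?_, ?_⟩
    · rw [conj_inv, conj_mul, conj_mul, h3, conj_inv]
    · rw [← cj_J]
      exact cj_mono g h4
    · rw [← cj_normalizer]
      exact conj_mem_cj.2 h5
    · rw [← cj_normalizer]
      exact conj_mem_cj.2 h6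
    · rw [← cj_centralizer, ← cj_inf, ← cj_sup]
      exact cj_mono g h7

theorem cj_of_mem (h : JCd T W d) (hg : g ∈ normalizer (J T : Set G)) :
    JCd T (Trans.cj g W) (g * d * g⁻¹) :=
  (h.cj g).congr (by rw [← cj_J, cj_eq_of_mem_normalizer hg])

end JCd

/-- A component together with its data. -/
structure JD (T W A J₀ : Subgroup G) (d a u : G) : Prop extends JCd T W d where
  two : IsPGroup 2 T
  mA : MaxEA 2 T A
  ha : a ∈ A
  inv : a * d * a⁻¹ = d⁻¹
  leJ : J₀ ≤ J T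
  dJ : d ∈ normalizer (J₀ : Set G)
  aJ : a ∈ normalizer (J₀ : Set G)
  le : (A ⊓ centralizer (W : Set G)) ⊔ W ≤ J₀
  hu : u ∈ W
  ne : u ≠ 1
  uJ : u ∈ omegaCenterOf (J T)

omit [Finite G] in
theorem JCd.le_J (h : JCd T W d) : W ≤ J T :=
  let ⟨_, _, _, _, _, _, h4, _, _, h7⟩ := h.ex
  le_sup_right.trans (h7.trans h4)

theorem JCd.exists_jd (h : JCd T W d) (hT : IsPGroup 2 T) : ∃ A J₀ a u, JD T W A J₀ d a u := by
  obtain ⟨A, J₀, a, h1, h2, h3, h4, h5, h6, h7⟩ := h.ex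
  obtain ⟨u, hu, h8, h9⟩ := FD.exists_fix h.ea h.fd.ne_bot h.nJ
    (MSS.resOf_le_of_isPGroup (hT.to_le (J_le T)) _)
  exact ⟨A, J₀, a, u, h, hT, h1, h2, h3, h4, h5, h6, h7, hu, h8,
    mem_oc.2 ⟨h.le_J hu, h9, ea_sq h.ea hu⟩⟩

namespace JD

variable (h : JD T W A J₀ d a u)
include h

omit [Finite G] in
theorem fd : FD W d := h.toJCd.fd

omit [Finite G] in
theorem aJT : a ∈ J T := h.mA.le_J h.ha

omit [Finite G] in
theorem a_sq : a * a = 1 := ea_sq h.mA.ea h.ha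

omit [Finite G] in
theorem u_sq : u * u = 1 := ea_sq h.ea h.hu

omit [Finite G] in
theorem not_cent : a ∉ centralizer (W : Set G) := h.fd.not_mem_cent h.inv

omit [Finite G] in
theorem fix (hx : x ∈ J T) : x * u * x⁻¹ = u := by
  rw [(mem_oc.1 h.uJ).2.1 x hx, mul_inv_cancel_right]

theorem half' : Half (J T ⊓ centralizer (W : Set G)) (J T) :=
  ⟨inf_le_left, fun _ hx _ hy h1 h2 => ⟨mul_mem hx hy, mul_mem_cent_four h.ea h.card h.hu h.ne
    (h.nJ hx) (h.nJ hy) (h.fix hx) (h.fix hy) (fun e => h1 ⟨hx, e⟩) fun e => h2 ⟨hy, e⟩⟩⟩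

theorem half : Half (A ⊓ centralizer (W : Set G)) A :=
  ⟨inf_le_left, fun _ hx _ hy h1 h2 => ⟨mul_mem hx hy,
    (h.half'.2 _ (h.mA.le_J hx) _ (h.mA.le_J hy) (fun e => h1 ⟨hx, e.2⟩) fun e => h2 ⟨hy, e.2⟩).2⟩⟩

theorem fix_cases (hw : w ∈ W) (haw : a * w * a⁻¹ = w) : w = 1 ∨ w = u :=
  h.fd.fix_cases h.hu h.ne (h.nJ h.aJT) (h.fix h.aJT) h.not_cent hw haw

/-- An element of `W` centralised by `J(T)` is `1` or `u`. -/
theorem eq_of_mem_oc (hw : w ∈ W) (hz : w ∈ omegaCenterOf (J T)) : w = 1 ∨ w = u :=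
  h.fix_cases hw (by rw [(mem_oc.1 hz).2.1 a h.aJT, mul_inv_cancel_right])

theorem conj_a (hw : w ∈ W) (h1 : w ≠ 1) (h2 : w ≠ u) : a * w * a⁻¹ = u * w :=
  ((conj_four h.ea h.card h.hu hw h.ne h1 (Ne.symm h2) (h.nJ h.aJT) (h.fix h.aJT)).resolve_left
    h.not_cent).1

theorem not_mem_A (hw : w ∈ W) (h1 : w ≠ 1) (h2 : w ≠ u) : w ∉ A := fun e =>
  (h.fix_cases hw (by rw [ea_comm h.mA.ea h.ha e, mul_inv_cancel_right])).elim h1 h2

omit [Finite G] in
theorem v_mem : d * u * d⁻¹ ∈ W := mem_normalizer_conj h.nd h.hu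

omit [Finite G] in
theorem v_ne_one : d * u * d⁻¹ ≠ 1 := by simpa using h.ne

theorem v_ne : d * u * d⁻¹ ≠ u := h.fd.conj_ne h.hu h.ne

omit [Finite G] in
theorem ea0 : IsElementaryAbelian 2 (A ⊓ centralizer (W : Set G) ⊔ W : Subgroup G) :=
  ea_sup (ea_mono h.mA.ea inf_le_left) h.ea inf_le_right

theorem mA0 : MaxEA 2 T (A ⊓ centralizer (W : Set G) ⊔ W) := by
  have h1 := repl h.mA h.half (J_le T (h.toJCd.le_J h.v_mem)) (ea_sq h.ea h.v_mem)
    (fun b hb => hb.2 _ h.v_mem) fun e => h.not_mem_A h.v_mem h.v_ne_one h.v_ne e.1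
  exact h1.of_card_le (h.le.trans (h.leJ.trans (J_le T))) h.ea0
    (Trans.card_le_of_le (sup_le_sup_left (zpowers_le.2 h.v_mem) _))

theorem J0_le : J₀ ≤ centralizer (W : Set G) :=
  h.fd.le_cent (h.leJ.trans h.nJ)
    (MSS.resOf_le_of_isPGroup (h.two.to_le (h.leJ.trans (J_le T))) _) h.dJ

theorem zj' {z : G} (hz : z ∈ omegaCenterOf (J T)) : z * d = d * z ∨ z * u * d = d * (z * u) := by
  obtain ⟨w, hw, e⟩ := h.zj z hz
  have h1 : a * z * a⁻¹ = z := by rw [(mem_oc.1 hz).2.1 a h.aJT, mul_inv_cancel_right]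
  have h2 : a ∈ normalizer ((centralizer {d} : Subgroup G) : Set G) := by
    refine mem_normalizer_of_cj_le (cj_le_iff.2 fun t ht => ?_)
    rw [mem_centralizer_singleton_iff] at ht ⊢
    have h3 : d = a * d⁻¹ * a⁻¹ := by rw [← conj_inv, h.inv, inv_inv]
    rw [h3, conj_mul, conj_mul, (Commute.inv_right ht).eq]
  have h3 : z * w ∈ centralizer {d} := mem_centralizer_singleton_iff.2 e
  have h4 := mul_mem (inv_mem h3) (mem_normalizer_conj h2 h3)
  rw [← conj_mul, h1, mul_inv_rev, mul_assoc, inv_mul_cancel_left] at h4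
  have h5 := h.fd.eq_one (mul_mem (inv_mem hw) (mem_normalizer_conj (h.nJ h.aJT) hw))
    (mem_centralizer_singleton_iff.1 h4)
  rcases h.fix_cases hw (inv_mul_eq_one.1 h5).symm with rfl | rfl
  · exact Or.inl (by simpa using e)
  · exact Or.inr e

/-- `a` is a transvection with centre `u` on every abelian group of involutions of `T` containing
`W` and centralising `C_A(W)`. -/
theorem tv {v : G} (hv : v ∈ T) (h2 : v * v = 1)
    (hc : v ∈ centralizer ((A ⊓ centralizer (W : Set G) ⊔ W : Subgroup G) : Set G)) :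
    a * v * a⁻¹ = v ∨ a * v * a⁻¹ = u * v := by
  have h0 : ∀ b ∈ A, a * b * a⁻¹ = b := fun b hb => by
    rw [ea_comm h.mA.ea h.ha hb, mul_inv_cancel_right]
  rcases repl_two h.mA h.half hv h2 (fun b hb => (hc b (mem_sup_left hb)).symm)
    (J_le T (h.toJCd.le_J h.v_mem)) (ea_sq h.ea h.v_mem) (fun b hb => hb.2 _ h.v_mem)
    (hc _ (mem_sup_right h.v_mem)).symm with e | e | e
  · exact Or.inl (h0 _ e.1)
  · exact absurd e.1 (h.not_mem_A h.v_mem h.v_ne_one h.v_ne)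
  · have h3 := h0 _ e.1
    rw [← conj_mul, h.conj_a h.v_mem h.v_ne_one h.v_ne, ← mul_assoc, mul_left_inj,
      ← eq_mul_inv_iff_mul_eq, inv_eq_of_sq h.u_sq] at h3
    exact Or.inr (h3.trans (hc u (mem_sup_right h.hu)).symm)

/-- A normal subgroup of `L` which is a 2-group modulo `C(W)` centralises `W`. -/
theorem le_cent (hT : IsSylowIn 2 T L) (hd : d ∈ L) (hD : D ≤ L)
    (hn : L ≤ normalizer (D : Set G)) (hr : resOf 2 D ≤ centralizer (W : Set G)) :
    D ≤ centralizer (W : Set G) := by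
  have hJT : J₀ ≤ T := h.leJ.trans (J_le T)
  have hJn : J₀ ≤ normalizer (D : Set G) := hJT.trans (hT.le.trans hn)
  have hS : IsSylowIn 2 (T ⊓ D) D := hT.inf_normal_of_le hn hD
  have hB : IsSylowIn 2 (T ⊓ (D ⊔ J₀)) (D ⊔ J₀) := by
    refine isSylowIn_of_maximal inf_le_right (hT.isPGroup.to_le inf_le_left)
      fun Q hQ h1 h2 q hq => ⟨?_, h2 hq⟩
    obtain ⟨x, hx, j, hj, rfl⟩ := (Solv.mem_sup_of_le_normalizer hJn).1 (h2 hq)
    have h3 : x ∈ Q ⊓ D :=
      ⟨by simpa using mul_mem hq (inv_mem (h1 ⟨hJT hj, mem_sup_right hj⟩)), hx⟩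
    rw [hS.eq_inf hQ ((inf_le_inf_left T le_sup_left).trans h1)] at h3
    exact mul_mem h3.1 (hJT hj)
  have hsup : ∀ {y : G}, y ∈ L → y ∈ normalizer (J₀ : Set G) →
      y ∈ normalizer ((D ⊔ J₀ : Subgroup G) : Set G) := fun hy hy' =>
    normalizer_inf_normalizer_le_normalizer_sup _ _ ⟨hn hy, hy'⟩
  set B := T ⊓ (D ⊔ J₀) with hBdef
  have hA0 : MaxEA 2 T (A ⊓ centralizer (W : Set G) ⊔ W) := h.mA0
  have hle : A ⊓ centralizer (W : Set G) ⊔ W ≤ B := le_inf hA0.le (h.le.trans le_sup_right)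
  have hJB : A ⊓ centralizer (W : Set G) ⊔ W ≤ J B := (hA0.of_le hle inf_le_left).le_J
  have hJJ : J B ≤ J T := J_le_J_of_maxEA_le hA0 hle inf_le_left
  have hJC : J B ≤ centralizer (W : Set G) := by
    obtain ⟨k, hk, n, hn1, e⟩ := hB.frattini (hsup hd h.dJ)
    obtain ⟨r, hr1, t, ht, rfl⟩ := MSS.exists_resOf_mul_sylow hB hk
    rw [MSS.resOf_sup_eq_of_isPGroup hJn (h.two.to_le hJT)] at hr1
    refine h.fd.le_cent' (n := t * n) (hJJ.trans h.nJ)
      (MSS.resOf_le_of_isPGroup (h.two.to_le (hJJ.trans (J_le T))) _)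
      (normalizer_le_normalizer_J B (mul_mem (le_normalizer ht) hn1)) ?_
    rw [show t * n * d⁻¹ = r⁻¹ by rw [e]; group]
    exact inv_mem (hr hr1)
  have hW : W ≤ omegaCenterOf (J B) := fun w hw =>
    mem_oc.2 ⟨hJB (mem_sup_right hw), le_centralizer_iff.1 hJC hw, ea_sq h.ea hw⟩
  have hDN : D ⊓ normalizer (W : Set G) ≤ centralizer (W : Set G) :=
    h.fd.le_cent inf_le_right ((MSS.resOf_mono inf_le_left).trans hr)
      (inf_normalizer_le_normalizer_inf ⟨hn hd, le_normalizer h.nd⟩)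
  have hu : D ≤ centralizer {u} := by
    refine MSS.le_of_resOf_le_of_isSylowIn hS
      (hr.trans (centralizer_le (Set.singleton_subset_iff.2 h.hu))) fun x hx => ?_
    have h1 : ⁅x, a⁆ ∈ centralizer (W : Set G) :=
      hDN ⟨commutator_mem_left (hn (hT.le (h.mA.le h.ha))) hx.2,
        h.nJ (commutator_mem_right (le_normalizer_J T hx.1) h.aJT)⟩
    have h2 := conj_eq_of_mem_centralizer h1 (mul_mem h.hu h.v_mem)
    have h3 : x⁻¹ * (d * u * d⁻¹) * x ∈ omegaCenterOf (J B) :=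
      mem_normalizer_conj' (normalizer_le_normalizer_oc _ (le_normalizer_J B
        ⟨hx.1, mem_sup_left hx.2⟩)) (hW h.v_mem)
    have h4 := h.tv (J_le T (hJJ (oc_le _ h3))) (oc_sq h3) (centralizer_le hJB (mem_oc.1 h3).2.1)
    have h5 := h.conj_a h.v_mem h.v_ne_one h.v_ne
    generalize d * u * d⁻¹ = v at h2 h4 h5
    have h6 : x * (a * (x⁻¹ * v * x) * a⁻¹) * x⁻¹ = u * v := by
      rw [← h2, ← h5, commutatorElement_def]
      group
    rcases h4 with e | e <;> rw [e] at h6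
    · exact absurd (by simpa [mul_assoc] using h6.symm) h.ne
    · rw [mem_centralizer_singleton_iff, ← mul_inv_eq_iff_eq_mul, ← mul_left_inj v, ← h6]
      group
  exact h.fd.le_cent_of_fix h.hu h.ne (hn hd) fun x hx => mem_centralizer_singleton_iff.1 (hu hx)

end JD

namespace JCd

theorem le_cent (h : JCd T W d) (hT : IsSylowIn 2 T L) (hd : d ∈ L) (hD : D ≤ L)
    (hn : L ≤ normalizer (D : Set G)) (hr : resOf 2 D ≤ centralizer (W : Set G)) :
    D ≤ centralizer (W : Set G) :=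
  let ⟨_, _, _, _, h1⟩ := h.exists_jd hT.isPGroup
  h1.le_cent hT hd hD hn hr

theorem ncl_le_yOf (h : JCd T W d) (hc : CharP 2 L) (hT : IsSylowIn 2 T L) (hd : d ∈ L) :
    ncl W L ≤ largestPReducedOf 2 L := by
  have hW : W ≤ L := h.le_J.trans ((J_le T).trans hT.le)
  refine MSS.le_yOf (MSS.ncl_le_of_le hW) (ea_mono (ea_omegaOne_center _)
    (MSS.ncl_le_omega hc hW h.ea (h.le_cent hT hd (MSS.pCoreOf_le L)
      (MSS.self_le_normalizer_pCoreOf L)
      (MSS.resOf_le_of_isPGroup (MSS.isPGroup_pCoreOf L) _))))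
    ⟨MSS.le_normalizer_ncl W L, fun D h1 h2 h3 => MSS.le_centralizer_ncl h2
      (h.le_cent hT hd h1 h2 (h3.trans (centralizer_le (MSS.le_ncl W L))))⟩

theorem le_yOf (h : JCd T W d) (hc : CharP 2 L) (hT : IsSylowIn 2 T L) (hd : d ∈ L) :
    W ≤ largestPReducedOf 2 L := (MSS.le_ncl W L).trans (h.ncl_le_yOf hc hT hd)

end JCd

end Cfsg.Lib.Ngrp
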