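import Cfsg.Agent.Ngrp.NatDefs
import Cfsg.Agent.Ngrp.AmPL
import Cfsg.Agent.Local.JPair

/-!
# Two normal four-groups with a common involution (lemmas N4, N4', D8 of plan 184)
-/

set_option autoImplicit false

namespace Cfsg.Lib.Ngrp
open Subgroup Cfsg.Lib.Trans Cfsg.Lib.Trans.TJ Cfsg.Lib.Local Cfsg.Lib.Local.JC Cfsg.Lib.Solv

variable {G : Type*} [Group G]

theorem mem_of_mul_self_mem {H : Subgroup G} {d : G} (hd : Odd (orderOf d)) (h : d * d ∈ H) :
    d ∈ H := by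
  obtain ⟨k, hk⟩ := hd
  have : d = (d * d) ^ (k + 1) := by
    rw [← pow_two, ← pow_mul, show 2 * (k + 1) = orderOf d + 1 by omega, pow_succ,
      pow_orderOf_eq_one, one_mul]
  exact this ▸ H.pow_mem h _

theorem mem_normalizer_inf' {A B : Subgroup G} {g : G} (hA : g ∈ normalizer (A : Set G))
    (hB : g ∈ normalizer (B : Set G)) : g ∈ normalizer ((A ⊓ B : Subgroup G) : Set G) := by
  rw [← cj_eq_self_iff, cj_inf, cj_eq_of_mem_normalizer hA, cj_eq_of_mem_normalizer hB]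

theorem sup_zpowers_le_centralizer {B : Subgroup G} {v x : G} (hB : ∀ b ∈ B, x * b = b * x)
    (hv : x * v = v * x) : ∀ b ∈ B ⊔ zpowers v, x * b = b * x := fun b hb =>
  mem_centralizer_singleton_iff.1 ((sup_le (fun b hb => mem_centralizer_singleton_iff.2
    (hB b hb).symm) (zpowers_le.2 (mem_centralizer_singleton_iff.2 hv.symm)) :
      B ⊔ zpowers v ≤ centralizer {x}) hb) |>.symm

theorem ea_sup_elt {B : Subgroup G} {v : G} (hB : IsElementaryAbelian 2 B) (hv : v * v = 1)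
    (hc : ∀ b ∈ B, v * b = b * v) : IsElementaryAbelian 2 (B ⊔ zpowers v : Subgroup G) :=
  ea_sup hB (ea_zpowers (by rwa [pow_two]))
    (le_centralizer_iff.mp (zpowers_le.mpr fun b hb => (hc b hb).symm))

theorem card_sup_elt [Finite G] {B : Subgroup G} {v : G} (hv : v * v = 1)
    (hc : ∀ b ∈ B, v * b = b * v) (hvB : v ∉ B) :
    Nat.card (B ⊔ zpowers v : Subgroup G) = 2 * Nat.card B :=
  PG.card_sup_zpowers Nat.prime_two (mem_normalizer_of_comm hc) hvB
    (by rw [pow_two, hv]; exact B.one_mem)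

variable [Finite G]

/-- An element of odd order acting on a four-group permutes its involutions cyclically. -/
theorem four_odd_cycle {W : Subgroup G} (hW : IsElementaryAbelian 2 W) (h4 : Nat.card W = 4)
    {u d : G} (hu : u ∈ W) (hu1 : u ≠ 1) (hd : Odd (orderOf d)) (hn : d ∈ normalizer (W : Set G))
    (hc : d ∉ centralizer (W : Set G)) :
    d * u * d⁻¹ ≠ u ∧ d⁻¹ * u * d = u * (d * u * d⁻¹) := by
  have h1 : d * u * d⁻¹ ≠ u := fun h =>
    hc (mem_of_mul_self_mem hd (mul_mem_cent_four hW h4 hu hu1 hn hn h h hc hc))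
  refine ⟨h1, ?_⟩
  rcases (mem_iff_of_card hW h4 hu (mem_normalizer_conj hn hu) hu1 (by simpa using hu1)
    h1.symm).1 (mem_normalizer_conj' hn hu) with h | h | h | h
  · refine absurd ?_ hu1
    calc u = d * (d⁻¹ * u * d) * d⁻¹ := by group
      _ = 1 := by rw [h]; group
  · refine absurd ?_ h1
    calc d * u * d⁻¹ = d * (d⁻¹ * u * d) * d⁻¹ := by rw [h]
      _ = u := by group
  · refine absurd (conj_eq_of_mem_centralizer (A := {u}) (mem_of_mul_self_mem hd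
      (mem_centralizer_singleton_iff.2 ?_)) rfl) h1
    calc d * d * u = d * (d * u * d⁻¹) * d := by group
      _ = u * (d * d) := by rw [← h]; group
  · exact h

/-- The subgroup generated by the squares. -/
def sqOf (X : Subgroup G) : Subgroup G := closure {y | ∃ x ∈ X, y = x * x}

omit [Finite G] in
theorem sq_mem_sqOf {X : Subgroup G} {x : G} (hx : x ∈ X) : x * x ∈ sqOf X :=
  subset_closure ⟨x, hx, rfl⟩

omit [Finite G] in
theorem sqOf_le_iff {X Y : Subgroup G} : sqOf X ≤ Y ↔ ∀ x ∈ X, x * x ∈ Y :=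
  ⟨fun h _ hx => h (sq_mem_sqOf hx), fun h => (closure_le _).2 fun _ ⟨x, hx, e⟩ => e ▸ h x hx⟩

omit [Finite G] in
theorem sqOf_le (X : Subgroup G) : sqOf X ≤ X := sqOf_le_iff.2 fun _ hx => X.mul_mem hx hx

theorem normalizer_le_normalizer_sqOf (X : Subgroup G) :
    normalizer (X : Set G) ≤ normalizer (sqOf X : Set G) := fun g hg =>
  mem_normalizer_of_cj_le (cj_le_iff_le_cj_inv.2 (sqOf_le_iff.2 fun x hx => mem_cj_inv.2 (by
    rw [← conj_mul]; exact sq_mem_sqOf (mem_normalizer_conj hg hx))))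

/-- Two four-groups normal in `T` through the same central involution. -/
structure Pair4 (T W V : Subgroup G) (u : G) : Prop where
  pg : IsPGroup 2 T
  eaW : IsElementaryAbelian 2 W
  cardW : Nat.card W = 4
  leW : W ≤ T
  nW : T ≤ normalizer (W : Set G)
  actW : ¬ T ≤ centralizer (W : Set G)
  eaV : IsElementaryAbelian 2 V
  cardV : Nat.card V = 4
  leV : V ≤ T
  nV : T ≤ normalizer (V : Set G)
  actV : ¬ T ≤ centralizer (V : Set G)
  ne : W ≠ V
  uW : u ∈ W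
  uV : u ∈ V
  u1 : u ≠ 1
  cu : ∀ t ∈ T, t * u * t⁻¹ = u

namespace Pair4

variable {T W V : Subgroup G} {u : G}

omit [Finite G] in
theorem symm (h : Pair4 T W V u) : Pair4 T V W u :=
  ⟨h.pg, h.eaV, h.cardV, h.leV, h.nV, h.actV, h.eaW, h.cardW, h.leW, h.nW, h.actW, h.ne.symm,
    h.uV, h.uW, h.u1, h.cu⟩

theorem exists_v (h : Pair4 T W V u) : ∃ v ∈ V, v ∉ W :=
  SetLike.not_le_iff_exists.1 fun h1 =>
    h.ne (eq_of_le_of_card_ge h1 (by rw [h.cardV, h.cardW])).symm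

theorem conj_v (h : Pair4 T W V u) {v t : G} (hv : v ∈ V) (hvW : v ∉ W) (ht : t ∈ T) :
    t ∈ centralizer (V : Set G) ∨ (t * v * t⁻¹ = u * v ∧ t ∉ centralizer (V : Set G)) :=
  conj_four h.eaV h.cardV h.uV hv h.u1 (fun e => hvW (e ▸ W.one_mem))
    (fun e => hvW (e ▸ h.uW)) (h.nV ht) (h.cu t ht)

theorem mul_cent (h : Pair4 T W V u) {x y : G} (hx : x ∈ T) (hy : y ∈ T)
    (hx' : x ∉ centralizer (W : Set G)) (hy' : y ∉ centralizer (W : Set G)) :
    x * y ∈ centralizer (W : Set G) :=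
  mul_mem_cent_four h.eaW h.cardW h.uW h.u1 (h.nW hx) (h.nW hy) (h.cu x hx) (h.cu y hy) hx' hy'

/-- Lemma N4. -/
theorem n4 (h : Pair4 T W V u) (hVW : V ≤ centralizer (W : Set G)) {d a : G} {A : Subgroup G}
    (hd : Odd (orderOf d)) (hdW : d ∈ normalizer (W : Set G))
    (hdR : d ∈ normalizer ((T ⊓ centralizer (W : Set G) : Subgroup G) : Set G))
    (hdc : d ∉ centralizer (W : Set G)) (hA : MaxEA 2 T A) (ha : a ∈ A)
    (hinv : a * d * a⁻¹ = d⁻¹) (hAV : A ≤ centralizer (V : Set G)) : False := by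
  obtain ⟨v, hv, hvW⟩ := h.exists_v
  obtain ⟨h1, h2⟩ := four_odd_cycle h.eaW h.cardW h.uW h.u1 hd hdW hdc
  have haT := hA.le ha
  have hinv' : a * d⁻¹ * a⁻¹ = d := by rw [← conj_inv, hinv, inv_inv]
  have hvR : v ∈ T ⊓ centralizer (W : Set G) := ⟨h.leV hv, hVW hv⟩
  have hav : a * v * a⁻¹ = v := conj_eq_of_mem_centralizer (hAV ha) hv
  have act0 : ∀ t ∈ T, t * v * t⁻¹ = v ∨ t * v * t⁻¹ = u * v := fun t ht =>
    (h.conj_v hv hvW ht).imp (fun h => conj_eq_of_mem_centralizer h hv) And.left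
  have hu1W := mem_normalizer_conj hdW h.uW
  have hv1R := mem_normalizer_conj hdR hvR
  have hv2R := mem_normalizer_conj' hdR hvR
  have act1 : ∀ r ∈ T ⊓ centralizer (W : Set G), r * (d * v * d⁻¹) * r⁻¹ = d * v * d⁻¹ ∨
      r * (d * v * d⁻¹) * r⁻¹ = d * u * d⁻¹ * (d * v * d⁻¹) := fun r hr => by
    have e : r * (d * v * d⁻¹) * r⁻¹ = d * (d⁻¹ * r * d * v * (d⁻¹ * r * d)⁻¹) * d⁻¹ := by group
    rcases act0 _ (mem_normalizer_conj' hdR hr).1 with h3 | h3 <;> rw [e, h3]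
    · exact Or.inl rfl
    · right; group
  have act2 : ∀ r ∈ T ⊓ centralizer (W : Set G), r * (d⁻¹ * v * d) * r⁻¹ = d⁻¹ * v * d ∨
      r * (d⁻¹ * v * d) * r⁻¹ = d⁻¹ * u * d * (d⁻¹ * v * d) := fun r hr => by
    have e : r * (d⁻¹ * v * d) * r⁻¹ = d⁻¹ * (d * r * d⁻¹ * v * (d * r * d⁻¹)⁻¹) * d := by group
    rcases act0 _ (mem_normalizer_conj hdR hr).1 with h3 | h3 <;> rw [e, h3]
    · exact Or.inl rfl
    · right; group
  have hau : a * (d * u * d⁻¹) * a⁻¹ = d⁻¹ * u * d := by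
    calc a * (d * u * d⁻¹) * a⁻¹ = (a * d * a⁻¹) * (a * u * a⁻¹) * (a * d⁻¹ * a⁻¹) := by group
      _ = d⁻¹ * u * d := by rw [hinv, hinv', h.cu a haT]
  have hav1 : a * (d * v * d⁻¹) * a⁻¹ = d⁻¹ * v * d := by
    calc a * (d * v * d⁻¹) * a⁻¹ = (a * d * a⁻¹) * (a * v * a⁻¹) * (a * d⁻¹ * a⁻¹) := by group
      _ = d⁻¹ * v * d := by rw [hinv, hinv', hav]
  have hv1sq : d * v * d⁻¹ * (d * v * d⁻¹) = 1 := by
    rw [show d * v * d⁻¹ * (d * v * d⁻¹) = d * (v * v) * d⁻¹ by group, ea_sq h.eaV hv]; group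
  have hv2sq : d⁻¹ * v * d * (d⁻¹ * v * d) = 1 := by
    rw [show d⁻¹ * v * d * (d⁻¹ * v * d) = d⁻¹ * (v * v) * d by group, ea_sq h.eaV hv]; group
  have hu11 : d * u * d⁻¹ ≠ 1 := by simpa using h.u1
  have haC : a ∉ centralizer (W : Set G) := fun hc => by
    rw [conj_eq_of_mem_centralizer hc hu1W, h2, right_eq_mul] at hau
    exact h.u1 hau
  obtain ⟨r, hr, hrv⟩ : ∃ r ∈ T ⊓ centralizer (W : Set G),
      r * (d * v * d⁻¹) * r⁻¹ = d * u * d⁻¹ * (d * v * d⁻¹) := by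
    obtain ⟨r, hr, hrv⟩ : ∃ r ∈ T ⊓ centralizer (W : Set G), r * v * r⁻¹ = u * v := by
      obtain ⟨t, ht, htV⟩ := SetLike.not_le_iff_exists.1 h.actV
      have h3 := ((h.conj_v hv hvW ht).resolve_left htV).1
      by_cases htW : t ∈ centralizer (W : Set G)
      · exact ⟨t, ⟨ht, htW⟩, h3⟩
      · refine ⟨t * a, ⟨T.mul_mem ht haT, h.mul_cent ht haT htW haC⟩, ?_⟩
        rw [← h3, show t * a * v * (t * a)⁻¹ = t * (a * v * a⁻¹) * t⁻¹ by group, hav]
    refine ⟨_, mem_normalizer_conj hdR hr, ?_⟩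
    rw [show d * r * d⁻¹ * (d * v * d⁻¹) * (d * r * d⁻¹)⁻¹ = d * (r * v * r⁻¹) * d⁻¹ by group, hrv]
    group
  rw [h2] at act2 hau
  generalize d * u * d⁻¹ = u₁ at *
  generalize d * v * d⁻¹ = v₁ at *
  generalize d⁻¹ * v * d = v₂ at *
  have huu := ea_sq h.eaW h.uW
  have hu1sq := ea_sq h.eaW hu1W
  have cW : ∀ {x w : G}, x ∈ T ⊓ centralizer (W : Set G) → w ∈ W → w * x = x * w :=
    fun hx hw => hx.2 _ hw
  have h12 : v₂ * v₁ = v₁ * v₂ := by
    rcases act1 _ hv2R with h3 | h3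
    · exact mul_inv_eq_iff_eq_mul.1 h3
    rcases act2 _ hv1R with h4 | h4
    · exact (mul_inv_eq_iff_eq_mul.1 h4).symm
    exfalso
    rw [mul_inv_eq_iff_eq_mul] at h3 h4
    rw [mul_assoc (u * u₁), h3, show u * u₁ * (u₁ * v₁ * v₂) = u * (u₁ * u₁) * (v₁ * v₂) by group,
      hu1sq, mul_one, right_eq_mul] at h4
    exact h.u1 h4
  have hnW : ∀ w ∈ W, v₂ ≠ w * v₁ := fun w hw e => by
    have h3 : r * v₂ * r⁻¹ = u₁ * v₂ := by
      rw [e, show r * (w * v₁) * r⁻¹ = r * w * r⁻¹ * (r * v₁ * r⁻¹) by group, hrv,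
        conj_eq_of_mem_centralizer hr.2 hw, ← mul_assoc, ea_comm h.eaW hw hu1W, mul_assoc]
    rcases act2 r hr with h4 | h4 <;> rw [h3] at h4
    · exact hu11 (by simpa using h4)
    · exact h.u1 (by simpa using h4)
  have hH : Half (A ⊓ centralizer (W : Set G)) A :=
    ⟨inf_le_left, fun x hx y hy hx' hy' => ⟨A.mul_mem hx hy, h.mul_cent (hA.le hx) (hA.le hy)
      (fun e => hx' ⟨hx, e⟩) fun e => hy' ⟨hy, e⟩⟩⟩
  have cA : ∀ {x y : G}, x ∈ A → y ∈ A → x * y * x⁻¹ = y := fun hx hy => by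
    rw [ea_comm hA.ea hx hy, mul_inv_cancel_right]
  by_cases hb : ∀ b ∈ A ⊓ centralizer (W : Set G), v₁ * b = b * v₁
  · rcases repl_two hA hH (h.leW hu1W) hu1sq (fun b hb => hb.2 _ hu1W) hv1R.1 hv1sq hb
      (cW hv1R hu1W) with h3 | h3 | h3
    · rw [cA ha h3.1, right_eq_mul] at hau
      exact h.u1 hau
    · rw [cA ha h3.1] at hav1
      exact hnW 1 W.one_mem (by rw [one_mul, hav1])
    · have h4 := cA ha h3.1
      rw [show a * (u₁ * v₁) * a⁻¹ = a * u₁ * a⁻¹ * (a * v₁ * a⁻¹) by group, hau, hav1] at h4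
      refine hnW ((u * u₁)⁻¹ * u₁) (W.mul_mem (W.inv_mem (W.mul_mem h.uW hu1W)) hu1W) ?_
      rw [mul_assoc, ← h4]; group
  · push Not at hb
    obtain ⟨b, hb, hbv⟩ := hb
    have hb1 : b * v₁ * b⁻¹ = u₁ * v₁ :=
      (act1 b ⟨hA.le hb.1, hb.2⟩).resolve_left fun e => hbv (mul_inv_eq_iff_eq_mul.1 e).symm
    have hb2 : b * v₂ * b⁻¹ = u * u₁ * v₂ := by
      calc b * v₂ * b⁻¹ = (a * b * a⁻¹) * (a * v₁ * a⁻¹) * (a * b * a⁻¹)⁻¹ := by
            rw [cA ha hb.1, hav1]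
        _ = a * u₁ * a⁻¹ * (a * v₁ * a⁻¹) := by
            rw [show (a * b * a⁻¹) * (a * v₁ * a⁻¹) * (a * b * a⁻¹)⁻¹ =
              a * (b * v₁ * b⁻¹) * a⁻¹ by group, hb1]; group
        _ = u * u₁ * v₂ := by rw [hau, hav1]
    set B := A ⊓ centralizer (W : Set G) ⊓ centralizer {v₁} with hB
    have hH2 : Half B (A ⊓ centralizer (W : Set G)) := by
      refine ⟨inf_le_left, fun x hx y hy hx' hy' => ⟨Subgroup.mul_mem _ hx hy, ?_⟩⟩
      have k : ∀ z ∈ A ⊓ centralizer (W : Set G), z ∉ B → z * v₁ * z⁻¹ = u₁ * v₁ := fun z hz hz' =>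
        (act1 z ⟨hA.le hz.1, hz.2⟩).resolve_left fun e =>
          hz' ⟨hz, mem_centralizer_singleton_iff.2 (mul_inv_eq_iff_eq_mul.1 e)⟩
      refine mem_centralizer_singleton_iff.2 (mul_inv_eq_iff_eq_mul.1 ?_)
      rw [show x * y * v₁ * (x * y)⁻¹ = x * (y * v₁ * y⁻¹) * x⁻¹ by group, k y hy hy',
        show x * (u₁ * v₁) * x⁻¹ = x * u₁ * x⁻¹ * (x * v₁ * x⁻¹) by group, k x hx hx',
        conj_eq_of_mem_centralizer hx.2 hu1W, ← mul_assoc, hu1sq, one_mul]
    have c1 : ∀ z ∈ B, u₁ * z = z * u₁ := fun z hz => hz.1.2 _ hu1W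
    have c2 : ∀ z ∈ B, v₁ * z = z * v₁ := fun z hz => (mem_centralizer_singleton_iff.1 hz.2).symm
    have c3 : ∀ z ∈ B, v₂ * z = z * v₂ := fun z hz => by
      rw [← hav1, ← cA ha hz.1.1, conj_mul, conj_mul, c2 z hz]
    have c2' := sup_zpowers_le_centralizer c2 (cW hv1R hu1W).symm
    have c3' := sup_zpowers_le_centralizer (sup_zpowers_le_centralizer c3 (cW hv2R hu1W).symm) h12
    have cb := sup_zpowers_le_centralizer (B := B) (x := b)
      (fun z hz => ea_comm hA.ea hb.1 hz.1.1) (hb.2 _ hu1W).symm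
    have n1 : u₁ ∉ B := fun e => by
      rw [cA ha e.1.1, right_eq_mul] at hau
      exact h.u1 hau
    have n2 : v₁ ∉ B ⊔ zpowers u₁ := fun e => hbv (cb _ e).symm
    have n3 : v₂ ∉ B ⊔ zpowers u₁ ⊔ zpowers v₁ := fun e => by
      rcases (mem_sup_zpowers_two (mem_normalizer_of_comm c2')
        (by rw [hv1sq]; exact one_mem _)).1 e with e | e
      · rw [cb _ e, mul_inv_cancel_right, right_eq_mul, mul_eq_one_iff_eq_inv,
          inv_eq_of_sq hu1sq] at hb2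
        exact h1 hb2.symm
      · have h3 := mul_inv_eq_iff_eq_mul.2 (cb _ e)
        rw [show b * (v₁ * v₂) * b⁻¹ = b * v₁ * b⁻¹ * (b * v₂ * b⁻¹) by group, hb1, hb2,
          show u₁ * v₁ * (u * u₁ * v₂) = u₁ * (v₁ * (u * u₁)) * v₂ by group,
          ← cW hv1R (W.mul_mem h.uW hu1W), ea_comm h.eaW h.uW hu1W,
          show u₁ * (u₁ * u * v₁) * v₂ = u₁ * u₁ * u * (v₁ * v₂) by group, hu1sq, one_mul,
          mul_eq_right] at h3
        exact h.u1 h3
    have e1 := card_sup_elt hu1sq c1 n1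
    have e2 := card_sup_elt hv1sq c2' n2
    have e3 := card_sup_elt hv2sq c3' n3
    have e4 := hA.card_le (B := B ⊔ zpowers u₁ ⊔ zpowers v₁ ⊔ zpowers v₂)
      (sup_le (sup_le (sup_le (inf_le_left.trans (inf_le_left.trans hA.le))
        (zpowers_le.2 (h.leW hu1W))) (zpowers_le.2 hv1R.1)) (zpowers_le.2 hv2R.1))
      (ea_sup_elt (ea_sup_elt (ea_sup_elt (ea_mono hA.ea (inf_le_left.trans inf_le_left)) hu1sq c1)
        hv1sq c2') hv2sq c3')
    have e5 := hH.card_le hA.ea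
    have e6 := hH2.card_le (ea_mono hA.ea inf_le_left)
    have e7 : 0 < Nat.card B := Nat.card_pos
    omega

/-- Half of lemma N4'. -/
theorem J_le (h : Pair4 T W V u) (hVW : V ≤ centralizer (W : Set G)) {d : G}
    (hd : Odd (orderOf d)) (hdW : d ∈ normalizer (W : Set G))
    (hdR : d ∈ normalizer ((T ⊓ centralizer (W : Set G) : Subgroup G) : Set G))
    (hdc : d ∉ centralizer (W : Set G))
    (hA : ∀ A, MaxEA 2 (T ⊓ centralizer (V : Set G)) A → MaxEA 2 T A) :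
    J (T ⊓ centralizer (V : Set G)) ≤ J (T ⊓ centralizer (W : Set G)) := by
  refine J_le_iff.2 fun A hA' => ?_
  have hA1 := hA A hA'
  by_cases hle : A ≤ centralizer (W : Set G)
  · exact (hA1.of_le (le_inf hA1.le hle) inf_le_left).le_J
  exfalso
  obtain ⟨a, ha, haC⟩ := SetLike.not_le_iff_exists.1 hle
  have haT := hA1.le ha
  have haR : a ∈ normalizer ((T ⊓ centralizer (W : Set G) : Subgroup G) : Set G) :=
    mem_normalizer_inf' (le_normalizer haT) (Trans.normalizer_le_normalizer_centralizer W (h.nW haT))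
  obtain ⟨h1, h2⟩ := four_odd_cycle h.eaW h.cardW h.uW h.u1 hd hdW hdc
  have hu1W := mem_normalizer_conj hdW h.uW
  obtain ⟨d', k1, k2, k3, -⟩ := lift
    (X := centralizer (W : Set G) ⊓ normalizer ((T ⊓ centralizer (W : Set G) : Subgroup G) : Set G))
    (a := a) (d := d)
    (mem_normalizer_inf' (Trans.normalizer_le_normalizer_centralizer W (h.nW haT)) (le_normalizer haR))
    (mem_normalizer_inf' (Trans.normalizer_le_normalizer_centralizer W hdW) (le_normalizer hdR))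
    (ea_sq hA1.ea ha) ⟨by
      have hu11 : d * u * d⁻¹ ≠ 1 := by simpa using h.u1
      have h3 := ((conj_four h.eaW h.cardW h.uW hu1W h.u1 hu11 h1.symm (h.nW haT)
        (h.cu a haT)).resolve_left haC).1
      have h4 : a * d * (d * u * d⁻¹) * (a * d)⁻¹ = d * u * d⁻¹ := by
        have h5 : d * (d * u * d⁻¹) * d⁻¹ = u * (d * u * d⁻¹) := by
          have h6 : d * (d⁻¹ * u * d) * d⁻¹ = u := by group
          rw [h2, ← conj_mul] at h6
          rw [ea_comm h.eaW h.uW hu1W, eq_inv_mul_iff_mul_eq.2 h6,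
            inv_eq_of_sq (ea_sq h.eaW hu1W)]
        rw [show a * d * (d * u * d⁻¹) * (a * d)⁻¹ = a * (d * (d * u * d⁻¹) * d⁻¹) * a⁻¹ by group,
          h5, ← conj_mul, h3, h.cu a haT, ← mul_assoc, ea_sq h.eaW h.uW, one_mul]
      have hn := (normalizer (W : Set G)).mul_mem (h.nW haT) hdW
      have hc : a * d ∉ centralizer (W : Set G) := fun e => by
        have := conj_eq_of_mem_centralizer e h.uW
        rw [show a * d * u * (a * d)⁻¹ = a * (d * u * d⁻¹) * a⁻¹ by group, h3, mul_eq_left] at this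
        exact hu11 this
      have := mul_mem_cent_four h.eaW h.cardW hu1W hu11 hn hn h4 h4 hc hc
      rwa [inv_eq_of_sq (ea_sq hA1.ea ha), mul_assoc (a * d)],
      Subgroup.mul_mem _ (Subgroup.mul_mem _ (Subgroup.mul_mem _ haR hdR)
        (Subgroup.inv_mem _ haR)) hdR⟩ hd
      (by rw [pow_orderOf_eq_one]; exact one_mem _)
  have e : d' = d' * d⁻¹ * d := by group
  refine h.n4 hVW k1 ?_ ?_ (fun hc => hdc ?_) hA1 ha k2 (hA'.le.trans inf_le_right)
  · exact e ▸ mul_mem (centralizer_le_normalizer _ k3.1) hdW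
  · exact e ▸ mul_mem k3.2 hdR
  · simpa using Subgroup.mul_mem _ (Subgroup.inv_mem _ k3.1) hc

theorem le_normalizer_R (h : Pair4 T W V u) :
    T ≤ normalizer ((T ⊓ centralizer (W : Set G) : Subgroup G) : Set G) := fun _ ht =>
  mem_normalizer_inf' (le_normalizer ht) (Trans.normalizer_le_normalizer_centralizer W (h.nW ht))

theorem W_le_cent (h : Pair4 T W V u) : W ≤ centralizer (W : Set G) := fun _ hx _ hy =>
  ea_comm h.eaW hy hx

/-- In the noncommuting case every element of `C_T(W)` is in `C_T(WV)` modulo `W`. -/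
theorem split (h : Pair4 T W V u) (hWV : ¬ W ≤ centralizer (V : Set G)) {x : G}
    (hx : x ∈ T ⊓ centralizer (W : Set G)) :
    ∃ c ∈ T ⊓ centralizer (W : Set G) ⊓ centralizer (V : Set G), ∃ w ∈ W, x = c * w := by
  by_cases hV : x ∈ centralizer (V : Set G)
  · exact ⟨x, ⟨hx, hV⟩, 1, W.one_mem, (mul_one x).symm⟩
  obtain ⟨w, hw, hwV⟩ := SetLike.not_le_iff_exists.1 hWV
  exact ⟨x * w, ⟨Subgroup.mul_mem _ hx ⟨h.leW hw, h.W_le_cent hw⟩,
    h.symm.mul_cent hx.1 (h.leW hw) hV hwV⟩, w, hw, by rw [mul_assoc, ea_sq h.eaW hw, mul_one]⟩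

theorem sqOf_le_sqOf (h : Pair4 T W V u) (hWV : ¬ W ≤ centralizer (V : Set G)) :
    sqOf (T ⊓ centralizer (W : Set G)) ≤ sqOf (T ⊓ centralizer (V : Set G)) := by
  refine sqOf_le_iff.2 fun x hx => ?_
  obtain ⟨c, hc, w, hw, rfl⟩ := h.split hWV hx
  rw [show c * w * (c * w) = c * (w * c) * w by group, hc.1.2 w hw,
    show c * (c * w) * w = c * c * (w * w) by group, ea_sq h.eaW hw, mul_one]
  exact sq_mem_sqOf ⟨hc.1.1, hc.2⟩

/-- Lemmas N4' and D8. -/
theorem dich (h : Pair4 T W V u) {d d' : G}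
    (hd : Odd (orderOf d)) (hdW : d ∈ normalizer (W : Set G))
    (hdR : d ∈ normalizer ((T ⊓ centralizer (W : Set G) : Subgroup G) : Set G))
    (hdc : d ∉ centralizer (W : Set G))
    (hd' : Odd (orderOf d')) (hdV : d' ∈ normalizer (V : Set G))
    (hdR' : d' ∈ normalizer ((T ⊓ centralizer (V : Set G) : Subgroup G) : Set G))
    (hdc' : d' ∉ centralizer (V : Set G))
    (hA : ∀ A, MaxEA 2 (T ⊓ centralizer (W : Set G)) A → MaxEA 2 T A)
    (hA' : ∀ A, MaxEA 2 (T ⊓ centralizer (V : Set G)) A → MaxEA 2 T A) :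
    (∃ D : Subgroup G, IsPGroup 2 D ∧ D ≠ ⊥ ∧ T ≤ normalizer (D : Set G) ∧
      d ∈ normalizer (D : Set G) ∧ d' ∈ normalizer (D : Set G)) ∨
    (¬ W ≤ centralizer (V : Set G) ∧ T = W ⊔ V ⊔ omegaCenterOf T) := by
  have hR : IsPGroup 2 (T ⊓ centralizer (W : Set G) : Subgroup G) := h.pg.to_le inf_le_left
  by_cases hWV : W ≤ centralizer (V : Set G)
  · have hVW := le_centralizer_iff.1 hWV
    have e : J (T ⊓ centralizer (V : Set G)) = J (T ⊓ centralizer (W : Set G)) :=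
      le_antisymm (h.J_le hVW hd hdW hdR hdc hA') (h.symm.J_le hWV hd' hdV hdR' hdc' hA)
    refine Or.inl ⟨J (T ⊓ centralizer (W : Set G)), hR.to_le (TJ.J_le _),
      J_ne_bot hR fun e0 => h.u1 ?_, h.le_normalizer_R.trans (normalizer_le_normalizer_J _),
      normalizer_le_normalizer_J _ hdR, e ▸ normalizer_le_normalizer_J _ hdR'⟩
    exact mem_bot.1 (e0 ▸ (⟨h.leW h.uW, h.W_le_cent h.uW⟩ : u ∈ T ⊓ centralizer (W : Set G)))
  have hVW : ¬ V ≤ centralizer (W : Set G) := fun e => hWV (le_centralizer_iff.1 e)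
  have e : sqOf (T ⊓ centralizer (V : Set G)) = sqOf (T ⊓ centralizer (W : Set G)) :=
    le_antisymm (h.symm.sqOf_le_sqOf hVW) (h.sqOf_le_sqOf hWV)
  by_cases h0 : sqOf (T ⊓ centralizer (W : Set G)) = ⊥
  swap
  · exact Or.inl ⟨_, hR.to_le (sqOf_le _), h0,
      h.le_normalizer_R.trans (normalizer_le_normalizer_sqOf _),
      normalizer_le_normalizer_sqOf _ hdR, e ▸ normalizer_le_normalizer_sqOf _ hdR'⟩
  have sq : ∀ x ∈ T ⊓ centralizer (W : Set G), x * x = 1 := fun x hx =>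
    mem_bot.1 (h0 ▸ sq_mem_sqOf hx)
  have hea := ea_of_sq sq
  obtain ⟨v, hv, hvW⟩ := SetLike.not_le_iff_exists.1 hVW
  have hT : ∀ t ∈ T, t ∈ T ⊓ centralizer (W : Set G) ∨ t * v ∈ T ⊓ centralizer (W : Set G) :=
    fun t ht => (em (t ∈ centralizer (W : Set G))).imp (fun e => ⟨ht, e⟩)
      fun e => ⟨T.mul_mem ht (h.leV hv), h.mul_cent ht (h.leV hv) e hvW⟩
  have hvv := ea_sq h.eaV hv
  have hC : T ⊓ centralizer (W : Set G) ⊓ centralizer (V : Set G) ≤ omegaCenterOf T := fun c hc => by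
    refine mem_oc.2 ⟨hc.1.1, fun t ht => ?_, sq c hc.1⟩
    rcases hT t ht with h1 | h1
    · exact ea_comm hea h1 hc.1
    · have h2 := ea_comm hea h1 hc.1
      rw [mul_assoc, hc.2 v hv, ← mul_assoc, ← mul_assoc, mul_left_inj] at h2
      exact h2
  have hR2 : T ⊓ centralizer (W : Set G) ≤ W ⊔ V ⊔ omegaCenterOf T := fun x hx => by
    obtain ⟨c, hc, w, hw, rfl⟩ := h.split hWV hx
    exact Subgroup.mul_mem _ (mem_sup_right (hC hc)) (mem_sup_left (mem_sup_left hw))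
  refine Or.inr ⟨hWV, le_antisymm (fun t ht => ?_) (sup_le (sup_le h.leW h.leV) (oc_le T))⟩
  rcases hT t ht with h1 | h1
  · exact hR2 h1
  · have := Subgroup.mul_mem _ (hR2 h1) (mem_sup_left (mem_sup_right hv))
    rwa [mul_assoc, hvv, mul_one] at this

end Pair4

end Cfsg.Lib.Ngrp
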