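import Cfsg.Agent.Ngrp.NatJ2
import Cfsg.Agent.Ngrp.NatN4

/-!
The case `|Ω₁ Z(J(T))| = 2`, and tools for the other cases.
-/

set_option autoImplicit false

namespace Cfsg.Lib.Ngrp
open Subgroup Cfsg.Lib.Trans Cfsg.Lib.Trans.TJ Cfsg.Lib.Local Cfsg.Lib.Local.JC
open Cfsg.Lib.Local.MSS (ncl PRed)
open scoped commutatorElement Pointwise

variable {G : Type*} [Group G] [Finite G] {T T' W W' A J₀ L V Z : Subgroup G}
  {d d' a u w x y g : G}

omit [Finite G] in
theorem AH.charP (ah : AH G) (hL : IsTwoLocal L) : CharP 2 L := by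
  obtain ⟨R, hR, h1, rfl⟩ := hL
  exact Geo.ah_charP_normalizer ah hR h1

omit [Finite G] in
theorem AH.cent_le (ah : AH G) (hL : IsTwoLocal L) :
    centralizer (pCoreOf 2 L : Set G) ≤ pCoreOf 2 L := by
  have h1 := ah.charP hL
  obtain ⟨R, hR, -, rfl⟩ := hL
  exact fun c hc => h1 ⟨centralizer_le_normalizer _
    (centralizer_le (MSS.le_pCoreOf le_normalizer le_rfl hR) hc), hc⟩

omit [Finite G] in
theorem twoLocal_cent (h2 : x * x = 1) (h1 : x ≠ 1) : IsTwoLocal (centralizer {x}) :=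
  ⟨zpowers x, Geo.isPGroup_zpowers_two h2, by simpa using h1, (Geo.normalizer_zpowers_eq h2).symm⟩

theorem mem_oc_J (hy : y ∈ T) (hc : y ∈ centralizer (J T : Set G)) (h2 : y * y = 1) :
    y ∈ omegaCenterOf (J T) := by
  obtain ⟨A, hA⟩ := exists_maxEA 2 T
  exact mem_oc.2 ⟨hA.le_J (hA.mem_of_mem_centralizer hy (centralizer_le hA.le_J hc)
    (by rwa [pow_two])), hc, h2⟩

theorem exists_mem_oc_J (hT : IsPGroup 2 T) (hV : IsElementaryAbelian 2 V) (hVT : V ≤ T)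
    (h0 : V ≠ ⊥) (hn : J T ≤ normalizer (V : Set G)) :
    ∃ y ∈ V, y ≠ 1 ∧ y ∈ omegaCenterOf (J T) :=
  let ⟨y, h1, h2, h3⟩ := FD.exists_fix hV h0 hn (MSS.resOf_le_of_isPGroup (hT.to_le (J_le T)) _)
  ⟨y, h1, h2, mem_oc_J (hVT h1) h3 (ea_sq hV h1)⟩

namespace FFH

variable (r : FFH V T L)
include r

theorem eq_of_card_two (hT : IsPGroup 2 T) (h2 : Nat.card (omegaCenterOf (J T)) = 2)
    (h : JCd T W d) (hd : d ∈ L) (hW : W ≤ V) : V = W := by
  have h1 : V ⊓ centralizer {d} = ⊥ := by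
    by_contra h0
    obtain ⟨y, h3, h4, h5⟩ := exists_mem_oc_J hT (ea_mono r.ea inf_le_left)
      (inf_le_left.trans r.VT) h0 fun x hx => by
        rw [← r.sec.pre_fx hd]
        exact r.sec.mem_normalizer_pre (r.J_le hx)
          (inv_fx_of_or ((r.hat_J hx).1 _ (r.cmp hT h hd hW)))
    obtain ⟨A, J₀, a, u, h⟩ := h.exists_jd hT
    obtain rfl := (eq_zpowers_of_card_two h2 h.uJ h.ne h5).resolve_left h4
    exact h4 (h.fd.eq_one h.hu (mem_centralizer_singleton_iff.1 h3.2))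
  refine le_antisymm (fun y hy => ?_) hW
  obtain ⟨w, hw, e⟩ := exists_mul_comm_of_odd r.ea (r.sec.nV hd) h.odd hy
  rw [r.comm_eq hT h hd hW] at hw
  have h3 : y * w ∈ V ⊓ centralizer {d} :=
    ⟨mul_mem hy (hW hw), mem_centralizer_singleton_iff.2 e⟩
  rw [h1, mem_bot, mul_eq_one_iff_eq_inv] at h3
  exact h3 ▸ inv_mem hw

/-- A conjugate of `W` in `L` other than `W` contains an involution of `Z(J)` centralising `d`. -/
theorem conj_cases (hT : IsPGroup 2 T) (h : JCd T W d) (hd : d ∈ L) (hW : W ≤ V) (hg : g ∈ L) :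
    g ∈ normalizer (W : Set G) ∨
      ∃ w ∈ W, w ≠ 1 ∧ g * w * g⁻¹ ∈ omegaCenterOf (J T) ∧ g * w * g⁻¹ ∈ centralizer {d} := by
  have h1 := r.cmp hT h hd hW
  have h2 := h1.conj (r.sec.hat g)
  rcases h1.dich r.red h2 with e | e
  · left
    rw [← r.pre_eq hT h hd hW]
    exact r.sec.mem_normalizer_pre hg (inv_cV_of_or e)
  · right
    obtain ⟨y, h3, h4, h5⟩ := exists_mem_oc_J hT (ea_mono r.ea r.sec.pre_le)
      (r.sec.pre_le.trans r.VT) (fun h0 => h2.ne_bot (by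
        rw [← r.sec.img_pre (W := cV _ _), h0]; exact eq_bot_iff.2 (by simp [Sec.img])))
      fun x hx => r.sec.mem_normalizer_pre (r.J_le hx) (Red.invt_of_mem_NrmD (r.hat_J hx) h2)
    obtain ⟨h6, h7⟩ := r.sec.mem_pre.1 h3
    have h8 := mem_normalizer_conj' (r.sec.nV hg) h6
    refine ⟨g⁻¹ * y * g, ?_, by simpa using Geo.conj_ne_one (g := g⁻¹) h4, by simpa [mul_assoc] using h5, ?_⟩
    · rw [← r.pre_eq hT h hd hW, r.sec.mem_pre]
      refine ⟨h8, ?_⟩
      rw [cV_conj, mem_smul_iff, ← r.sec.hat_inv hg, r.sec.hat_smul (inv_mem hg) h6, inv_inv] at h7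
      exact h7
    · simpa [mul_assoc, mem_centralizer_singleton_iff] using
        ((r.sec.bar_mem_fx' hd h6).1 (e.right h7)).symm

end FFH

theorem z2 (hs : Group.IsSolvable L) (hc : CharP 2 L) (hT : IsSylowIn 2 T L)
    (h2 : Nat.card (omegaCenterOf (J T)) = 2) (h : JCd T W d) (hd : d ∈ L) :
    largestPReducedOf 2 L = W :=
  (ffh_yOf_sylow hs hT).eq_of_card_two hT.isPGroup h2 h hd (h.le_yOf hc hT hd)

theorem JD.maxEA_up (h : JD T W A J₀ d a u) {B : Subgroup G}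
    (hB : MaxEA 2 (T ⊓ centralizer (W : Set G)) B) : MaxEA 2 T B :=
  h.mA0.up (le_inf h.mA0.le (sup_le inf_le_right (ea_le_centralizer h.ea))) inf_le_left hB

theorem z2_pair (ah : AH G) (hT : IsPGroup 2 T) (h2 : Nat.card (omegaCenterOf (J T)) = 2)
    (h : JCd T W d) (h' : JCd T V d') (hW : T ≤ normalizer (W : Set G))
    (hV : T ≤ normalizer (V : Set G))
    (hd : d ∈ normalizer ((T ⊓ centralizer (W : Set G) : Subgroup G) : Set G))
    (hd' : d' ∈ normalizer ((T ⊓ centralizer (V : Set G) : Subgroup G) : Set G)) (hne : W ≠ V)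
    (hs : ∀ L, IsTwoLocal L → T ≤ L → d ∈ L → IsSylowIn 2 T L) :
    T = W ⊔ V ∧ Nat.card T = 8 ∧ ¬ W ≤ centralizer (V : Set G) := by
  obtain ⟨A, J₀, a, u, h⟩ := h.exists_jd hT
  obtain ⟨A', J₀', a', u', h'⟩ := h'.exists_jd hT
  obtain rfl := (eq_zpowers_of_card_two h2 h.uJ h.ne h'.uJ).resolve_left h'.ne
  have p : Pair4 T W V u' := ⟨hT, h.ea, h.card, h.toJCd.le_J.trans (J_le T), hW,
    fun e => h.not_cent (e (h.mA.le h.ha)), h'.ea, h'.card, h'.toJCd.le_J.trans (J_le T), hV,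
    fun e => h'.not_cent (e (h'.mA.le h'.ha)), hne, h.hu, h'.hu, h.ne, fun t ht =>
      (eq_zpowers_of_card_two h2 h.uJ h.ne (mem_normalizer_conj (normalizer_le_normalizer_oc _
        (le_normalizer_J T ht)) h.uJ)).resolve_left (by simpa using h.ne)⟩
  rcases p.dich h.odd h.nd hd h.act h'.odd h'.nd hd' h'.act (fun _ => h.maxEA_up)
    fun _ => h'.maxEA_up with ⟨D, h3, h4, h5, h6, h7⟩ | ⟨h3, h4⟩
  · have hL := isTwoLocal_normalizer h3 h4
    rcases jw (ah.solv _ hL) (ah.charP hL) (hs _ hL h5 h6) h.toJCd h'.toJCd h6 h7 with e | e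
    · exact absurd e hne
    · exact absurd (mem_bot.1 (e.1 ▸ mem_inf.2 ⟨h.hu, h'.hu⟩)) h.ne
  · have h5 : omegaCenterOf T ≤ W ⊔ V := fun z hz => by
      rcases eq_zpowers_of_card_two h2 h.uJ h.ne (oc_le_oc_J T hz) with rfl | rfl
      exacts [one_mem _, mem_sup_left h.hu]
    rw [sup_eq_left.2 h5] at h4
    refine ⟨h4, ?_, h3⟩
    have h6 := CD.card_sup_mul_card_inf_of_le_normalizer (p.leW.trans hV)
    have h7 : W ⊓ V = zpowers u' := by
      refine le_antisymm (fun x hx => by_contra fun hn => hne ?_) (zpowers_le.2 ⟨h.hu, h'.hu⟩)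
      rw [mem_zpowers_two h.u_sq, not_or] at hn
      rw [← four_eq_of_card h.ea h.card h.hu hx.1 h.ne hn.1 (Ne.symm hn.2),
        four_eq_of_card h'.ea h'.card h'.hu hx.2 h.ne hn.1 (Ne.symm hn.2)]
    rw [h7, card_zpowers_two h.u_sq h.ne, h.card, h'.card, ← h4] at h6
    omega

/-- A group inducing on `W` an element of order three and an involution induces `S₃`. -/
theorem FD.card_eq_six (h : FD W d) (hL : L ≤ normalizer (W : Set G)) (hd : d ∈ L) (ha : a ∈ L)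
    (h2 : a * a = 1) (hc : a ∉ centralizer (W : Set G)) :
    Nat.card L = 6 * Nat.card (L ⊓ centralizer (W : Set G) : Subgroup G) := by
  have s := sec_bot h.ea hL
  have h1 : Nat.card s.Kq ∣ 6 := Geo.card_dvd_six (fun _ => s.Kq_eq_one) (s.card_Mo.trans h.card)
  have h3 : 2 ∣ Nat.card s.Kq := by
    rw [← orderOf_eq_prime (p := 2) (by rw [pow_two, s.hat_sq ha h2]) (mt (s.hat_eq_one' ha).1 hc)]
    exact orderOf_dvd_natCard _
  have h4 : Nat.card s.Kq ≠ 2 := fun e => h.act ((s.hat_eq_one' hd).1 (orderOf_eq_one_iff.1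
    (Nat.Coprime.eq_one_of_dvd (Nat.coprime_two_right.2 (s.odd_hat hd h.odd))
      (e ▸ orderOf_dvd_natCard _))))
  have h5 := Nat.le_of_dvd (by norm_num) h1
  rw [s.card_imgK' le_rfl, s.imgK_top, card_top, mul_comm]
  congr 1
  generalize Nat.card s.Kq = n at *
  interval_cases n <;> simp_all

end Cfsg.Lib.Ngrp
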