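import Cfsg.Agent.Ngrp.NatJ3
import Cfsg.Agent.Ngrp.NatD82

/-!
The case `|Ω₁ Z(J(T))| ≥ 4`.
-/

set_option autoImplicit false

namespace Cfsg.Lib.Ngrp
open Subgroup Cfsg.Lib.Trans Cfsg.Lib.Trans.TJ Cfsg.Lib.Local Cfsg.Lib.Local.JC
open Cfsg.Lib.Local.MSS (ncl PRed)

variable {G : Type*} [Group G] [Finite G] {T W W' A A' J₀ J₀' L : Subgroup G}
  {d d' a a' u u' j j' z g : G}

namespace JD

variable (h : JD T W A J₀ d a u)
include h

theorem half_oc : Half (omegaCenterOf (J T) ⊓ centralizer {d}) (omegaCenterOf (J T)) := by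
  refine ⟨inf_le_left, fun x hx y hy h1 h2 => ⟨mul_mem hx hy, ?_⟩⟩
  have h3 := (h.zj' hx).resolve_left fun e => h1 ⟨hx, mem_centralizer_singleton_iff.2 e⟩
  have h4 := (h.zj' hy).resolve_left fun e => h2 ⟨hy, mem_centralizer_singleton_iff.2 e⟩
  have h5 := mul_mem (mem_centralizer_singleton_iff.2 h3) (mem_centralizer_singleton_iff.2 h4)
  rwa [mul_assoc, ← mul_assoc u, ea_comm (ea_oc _) h.uJ hy, mul_assoc, h.u_sq, mul_one] at h5

theorem u_not_mem : u ∉ centralizer {d} := fun e =>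
  h.ne (h.fd.eq_one h.hu (mem_centralizer_singleton_iff.1 e))

theorem exists_j (h4 : 4 ≤ Nat.card (omegaCenterOf (J T))) :
    ∃ j ∈ omegaCenterOf (J T), j ≠ 1 ∧ j ∈ centralizer {d} := by
  have h1 := h.half_oc.card_le (ea_oc _)
  obtain ⟨j, h2, h3⟩ := (Subgroup.bot_or_exists_ne_one
    (omegaCenterOf (J T) ⊓ centralizer {d})).resolve_left fun e => by
      rw [e, card_bot] at h1
      omega
  exact ⟨j, h2.1, h3, h2.2⟩

end JD

omit [Finite G] in
theorem cent_four (s t : G) :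
    centralizer (four s t : Set G) = centralizer {s} ⊓ centralizer {t} := by
  rw [four, MSS.centralizer_sup', Geo.cent_zpowers, Geo.cent_zpowers]

/-- The hypotheses on `T` and `d` under which the local analysis applies. -/
structure Loc48 (T : Subgroup G) (d : G) : Prop where
  ah : AH G
  syl : ∀ L, IsTwoLocal L → J T ≤ L → d ∈ L → ∃ U, IsSylowIn 2 U L ∧ J U = J T

theorem Loc48.mem_normalizer (f : Loc48 T d) (hL : IsTwoLocal L) (hJ : J T ≤ L) (h : JCd T W d)
    (h' : JCd T W' d') (hd : d ∈ L) (hd' : d' ∈ L) : d ∈ normalizer (W' : Set G) := by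
  obtain ⟨U, h1, h2⟩ := f.syl L hL hJ hd
  rcases jw (f.ah.solv _ hL) (f.ah.charP hL) h1 (h.congr h2.symm) (h'.congr h2.symm) hd hd'
    with e | e
  exacts [e ▸ h.nd, centralizer_le_normalizer _ e.2.1]

/-- The configuration with `Ω₁ Z(J(T)) = ⟨u, j⟩`. -/
structure Z4 (T W A J₀ : Subgroup G) (d a u j : G) : Prop extends JD T W A J₀ d a u where
  loc : Loc48 T d
  c4 : Nat.card (omegaCenterOf (J T)) = 4
  hj : j ∈ omegaCenterOf (J T)
  j1 : j ≠ 1
  jd : j ∈ centralizer {d}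

namespace Z4

variable (h : Z4 T W A J₀ d a u j)
include h

omit [Finite G] in
theorem twoLocal : IsTwoLocal (centralizer {j}) := twoLocal_cent (oc_sq h.hj) h.j1

omit [Finite G] in
theorem J_le : J T ≤ centralizer {j} := fun x hx =>
  mem_centralizer_singleton_iff.2 ((mem_oc.1 h.hj).2.1 x hx)

omit [Finite G] in
theorem d_mem : d ∈ centralizer {j} := Geo.Cz_symm h.jd

theorem ju : u ≠ j := fun e => h.toJD.u_not_mem (e ▸ h.jd)

theorem eq_four : four u j = omegaCenterOf (J T) :=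
  four_eq_of_card (ea_oc _) h.c4 h.uJ h.hj h.ne h.j1 h.ju

theorem cent_eq :
    centralizer (omegaCenterOf (J T) : Set G) = centralizer {u} ⊓ centralizer {j} := by
  rw [← h.eq_four, cent_four]

theorem eq_j (hz : z ∈ omegaCenterOf (J T)) (h1 : z ≠ 1) (hd : z ∈ centralizer {d}) : z = j := by
  rcases (mem_iff_of_card (ea_oc _) h.c4 h.uJ h.hj h.ne h.j1 h.ju).1 hz with e | e | e | e
  · exact absurd e h1
  · exact absurd (e ▸ hd) h.toJD.u_not_mem
  · exact e
  · exact absurd (by simpa [e] using mul_mem hd (inv_mem h.jd)) h.toJD.u_not_mem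

theorem le_normalizer : centralizer {j} ≤ normalizer (W : Set G) := fun g hg => by
  obtain ⟨U, h1, h2⟩ := h.loc.syl _ h.twoLocal h.J_le h.d_mem
  have h3 := h.toJCd.congr h2.symm
  rcases (ffh_yOf_sylow (h.loc.ah.solv _ h.twoLocal) h1).conj_cases h1.isPGroup h3 h.d_mem
    (h3.le_yOf (h.loc.ah.charP h.twoLocal) h1 h.d_mem) hg with e | ⟨w, h4, h5, h6, h7⟩
  · exact e
  · have h8 := h.eq_j (h2 ▸ h6) (Geo.conj_ne_one h5) h7
    rw [← Geo.Cz_conj hg] at h8
    rw [Geo.conj_inj h8] at h4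
    exact absurd (h.toJD.fd.eq_one h4 (mem_centralizer_singleton_iff.1 h.jd)) h.j1

theorem inf_le : centralizer {j} ⊓ centralizer (W : Set G) ≤
    centralizer (omegaCenterOf (J T) : Set G) := by
  rw [h.cent_eq, inf_comm]
  exact inf_le_inf_right _ (Geo.le_Cz_of_mem h.hu)

theorem resOf_eq : resOf 2 (centralizer {j} ⊓ centralizer (W : Set G) : Subgroup G) =
    resOf 2 (centralizer (omegaCenterOf (J T) : Set G)) := by
  refine MSS.resOf_eq_of_le (MSS.resOf_le_iff.2 fun g hg ho => ?_) h.inf_le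
  rw [h.cent_eq] at hg
  refine ⟨hg.2, by_contra fun hn => hn (mem_of_sq_mem_of_odd (Nat.coprime_two_right.1 ho) ?_)⟩
  exact mul_mem_cent_four h.ea h.card h.hu h.ne (h.le_normalizer hg.2) (h.le_normalizer hg.2)
    (Geo.Cz_conj hg.1) (Geo.Cz_conj hg.1) hn hn

theorem mem_normalizer_resOf :
    d ∈ normalizer (resOf 2 (centralizer (omegaCenterOf (J T) : Set G)) : Set G) := by
  rw [← h.resOf_eq]
  exact MSS.normalizer_le_normalizer_resOf _ (inf_normalizer_le_normalizer_inf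
    ⟨Subgroup.le_normalizer h.d_mem, normalizer_le_normalizer_centralizer W h.nd⟩)

variable (hX : IsPGroup 2 (centralizer (omegaCenterOf (J T) : Set G)))
include hX

theorem syl : IsSylowIn 2 (centralizer (omegaCenterOf (J T) : Set G)) (centralizer {j}) := by
  refine isSylowIn_of_maximal (Geo.le_Cz_of_mem h.hj) hX fun Q hQ h1 h2 => ?_
  obtain ⟨w, h3, h4, h5⟩ := FD.exists_fix h.ea h.toJD.fd.ne_bot (h2.trans h.le_normalizer)
    (MSS.resOf_le_of_isPGroup hQ _)
  obtain rfl := (h.toJD.fix_cases h3 (by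
    rw [h5 a (h1 (le_centralizer_oc _ h.toJD.aJT)), mul_inv_cancel_right])).resolve_left h4
  rw [h.cent_eq]
  exact le_inf (fun x hx => mem_centralizer_singleton_iff.2 (h5 x hx)) h2

theorem core_eq : pCoreOf 2 (centralizer {j}) = centralizer {j} ⊓ centralizer (W : Set G) :=
  le_antisymm (le_inf (MSS.pCoreOf_le _) (h.toJD.fd.le_cent
      ((MSS.pCoreOf_le _).trans h.le_normalizer)
      (MSS.resOf_le_of_isPGroup (MSS.isPGroup_pCoreOf _) _)
      (MSS.self_le_normalizer_pCoreOf _ h.d_mem)))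
    (MSS.le_pCoreOf inf_le_left (Solv.le_normalizer_inf Subgroup.le_normalizer
      (h.le_normalizer.trans (normalizer_le_normalizer_centralizer W))) (hX.to_le h.inf_le))

theorem par : Par (centralizer (omegaCenterOf (J T) : Set G)) (centralizer {j}) where
  cent := h.loc.ah.cent_le h.twoLocal
  syl := h.syl hX
  card := by
    rw [h.core_eq hX]
    exact h.toJD.fd.card_eq_six h.le_normalizer h.d_mem (h.J_le h.toJD.aJT) h.toJD.a_sq
      h.toJD.not_cent
  ncent := fun e => h.toJD.u_not_mem (mem_centralizer_singleton_iff.2 (e h.d_mem u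
    (mem_oc.2 ⟨ea_le_centralizer (ea_oc _) h.uJ, fun x hx => (hx u h.uJ).symm, h.toJD.u_sq⟩)))

theorem W_le_core : W ≤ pCoreOf 2 (centralizer {j}) := by
  rw [h.core_eq hX]
  exact le_inf (h.toJCd.le_J.trans h.J_le) (ea_le_centralizer h.ea)

theorem card_ne : Nat.card (centralizer ({j} : Set G)) ≠ 24 := fun e => by
  have h1 := (h.par hX).card
  have h2 := Subgroup.eq_of_le_of_card_ge (h.W_le_core hX) (by rw [h.card]; omega)
  have h3 : j ∈ W := by
    rw [h2, h.core_eq hX]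
    exact ⟨Geo.self_mem_Cz j, fun w hw => (mem_oc.1 h.hj).2.1 w (h.toJCd.le_J hw)⟩
  exact h.j1 (h.toJD.fd.eq_one h3 (mem_centralizer_singleton_iff.1 h.jd))

theorem pair (hG : ∀ H : Subgroup G, H.index ≠ 2) (h' : Z4 T W' A' J₀' d' a' u' j') :
    d ∈ normalizer (W' : Set G) := by
  by_contra hn
  have hne : j ≠ j' := fun e => hn (h'.le_normalizer (e ▸ h.d_mem))
  have h1 : centralizer {j} ⊓ centralizer {j'} = centralizer (omegaCenterOf (J T) : Set G) := by
    rw [← four_eq_of_card (ea_oc _) h.c4 h.hj h'.hj h.j1 h'.j1 hne, cent_four]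
  have h2 : pCoreOf 2 (centralizer {j} ⊔ centralizer {j'} : Subgroup G) = ⊥ := by
    by_contra h0
    have h3 := MSS.self_le_normalizer_pCoreOf (p := 2)
      (centralizer {j} ⊔ centralizer {j'} : Subgroup G)
    exact hn (h.loc.mem_normalizer (isTwoLocal_normalizer (MSS.isPGroup_pCoreOf _) h0)
      (h.J_le.trans (le_sup_left.trans h3)) h.toJCd h'.toJCd (h3 (mem_sup_left h.d_mem))
      (h3 (mem_sup_right h'.d_mem)))
  rcases (amalgam_ambient (h.par hX) (h'.par hX) h1 h2).1 with ⟨⟨e⟩, -⟩ | ⟨e, e'⟩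
  · exact h.card_ne hX (by rw [Nat.card_congr e.toEquiv, Nat.card_perm]; simp [Nat.factorial])
  · refine D82 hG h.j1 h'.j1 hne e e' (h1 ▸ h.syl hX) (h1 ▸ h'.syl hX) fun e => ?_
    refine h.toJD.fd.ne_bot (eq_bot_iff.2 ((h.W_le_core hX).trans (h2 ▸ MSS.le_pCoreOf
      ((MSS.pCoreOf_le _).trans le_sup_left) (sup_le (MSS.self_le_normalizer_pCoreOf _) ?_)
      (MSS.isPGroup_pCoreOf _))))
    rw [e]
    exact MSS.self_le_normalizer_pCoreOf _

end Z4

theorem z8_pair (f : Loc48 T d) (h : JD T W A J₀ d a u) (h' : JD T W' A' J₀' d' a' u')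
    (h4 : 4 < Nat.card (omegaCenterOf (J T))) : d ∈ normalizer (W' : Set G) := by
  have h1 := h.half_oc.card_le (ea_oc _)
  have h2 : Half (omegaCenterOf (J T) ⊓ centralizer {d} ⊓ centralizer {d'})
      (omegaCenterOf (J T) ⊓ centralizer {d}) :=
    ⟨inf_le_left, fun x hx y hy e e' => ⟨mul_mem hx hy, (h'.half_oc.2 x hx.1 y hy.1
      (fun e1 => e ⟨hx, e1.2⟩) fun e1 => e' ⟨hy, e1.2⟩).2⟩⟩
  have h3 := h2.card_le (ea_mono (ea_oc _) inf_le_left)
  obtain ⟨c, h5, h6⟩ := (Subgroup.bot_or_exists_ne_one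
    (omegaCenterOf (J T) ⊓ centralizer {d} ⊓ centralizer {d'})).resolve_left fun e => by
      rw [e, card_bot] at h3
      omega
  exact f.mem_normalizer (twoLocal_cent (oc_sq h5.1.1) h6)
    (fun x hx => mem_centralizer_singleton_iff.2 ((mem_oc.1 h5.1.1).2.1 x hx)) h.toJCd h'.toJCd
    (Geo.Cz_symm h5.1.2) (Geo.Cz_symm h5.2)

theorem z48 (ah : AH G) (hG : ∀ H : Subgroup G, H.index ≠ 2) (hT : IsPGroup 2 T) {P : G → Prop}
    (hP : ∀ g ∈ normalizer (J T : Set G), ∀ d, P d → P (g * d * g⁻¹))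
    (hs : ∀ d, P d → ∀ L, IsTwoLocal L → J T ≤ L → d ∈ L → ∃ U, IsSylowIn 2 U L ∧ J U = J T)
    (h4 : 4 ≤ Nat.card (omegaCenterOf (J T))) :
    ∃ D : Subgroup G, IsPGroup 2 D ∧ D ≠ ⊥ ∧ normalizer (J T : Set G) ≤ normalizer (D : Set G) ∧
      ∀ W d, JCd T W d → P d → d ∈ normalizer (D : Set G) := by
  have hZ : omegaCenterOf (J T) ≠ ⊥ := fun e => by simp [e] at h4
  have hz : ∀ W d, JCd T W d → P d → Nat.card (omegaCenterOf (J T)) = 4 →
      ∃ A J₀ a u j, Z4 T W A J₀ d a u j := fun W d h hd h5 => by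
    obtain ⟨A, J₀, a, u, h⟩ := h.exists_jd hT
    obtain ⟨j, h6, h7, h8⟩ := h.exists_j h4
    exact ⟨A, J₀, a, u, j, h, ⟨ah, hs d hd⟩, h5, h6, h7, h8⟩
  by_cases hc : ∀ W d W' d', JCd T W d → P d → JCd T W' d' → P d' → d ∈ normalizer (W' : Set G)
  · refine ⟨omegaCenterOf (J T) ⊔ ⨆ W : {W : Subgroup G // ∃ d, JCd T W d ∧ P d}, W.1,
      hT.to_le (sup_le ((oc_le _).trans (J_le T)) (iSup_le fun ⟨_, _, h, _⟩ =>
        h.le_J.trans (J_le T))), fun e => hZ (eq_bot_iff.2 (e ▸ le_sup_left)), fun g hg => ?_,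
      fun W d h hd => ?_⟩
    · refine mem_normalizer_of_cj_le ?_
      rw [cj_sup, cj_iSup, cj_eq_of_mem_normalizer (normalizer_le_normalizer_oc _ hg)]
      exact sup_le_sup_left (iSup_le fun ⟨W, d, h, hd⟩ =>
        le_iSup_of_le ⟨_, _, h.cj_of_mem hg, hP g hg d hd⟩ le_rfl) _
    · refine mem_normalizer_of_cj_le ?_
      rw [cj_sup, cj_iSup]
      refine sup_le (cj_le_iff.2 fun z hz => ?_) (le_sup_of_le_right (iSup_mono
        fun ⟨W', d', h', hd'⟩ => (cj_eq_of_mem_normalizer (hc W d W' d' h hd h' hd')).le))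
      obtain ⟨w, hw, e⟩ := h.zj z hz
      rw [show d * z * d⁻¹ = z * (w * (d * w⁻¹ * d⁻¹)) by
        rw [← mul_assoc, ← mul_assoc, ← mul_assoc, e]; group]
      exact mul_mem (mem_sup_left hz) (mem_sup_right (le_iSup_of_le
        (f := fun W : {W : Subgroup G // ∃ d, JCd T W d ∧ P d} => W.1) ⟨W, d, h, hd⟩ le_rfl
        (mul_mem hw (mem_normalizer_conj h.nd (inv_mem hw)))))
  · push Not at hc
    obtain ⟨W, d, W', d', h, hd, h', hd', hn⟩ := hc
    have h5 : Nat.card (omegaCenterOf (J T)) = 4 := by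
      obtain ⟨A, J₀, a, u, h⟩ := h.exists_jd hT
      obtain ⟨A', J₀', a', u', h'⟩ := h'.exists_jd hT
      by_contra h6
      exact hn (z8_pair ⟨ah, hs d hd⟩ h h' (by omega))
    have hN : normalizer (omegaCenterOf (J T) : Set G) ≤
        normalizer (resOf 2 (centralizer (omegaCenterOf (J T) : Set G)) : Set G) :=
      MSS.le_normalizer_resOf (normalizer_le_normalizer_centralizer _)
    refine ⟨pCoreOf 2 (resOf 2 (centralizer (omegaCenterOf (J T) : Set G))),
      MSS.isPGroup_pCoreOf _, CharP.pCoreOf_ne_bot ((Geo.ah_charP_normalizer ah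
        (ea_isPGroup (ea_oc _)) hZ).of_normal ((MSS.resOf_le _).trans (centralizer_le_normalizer _))
        hN) fun e => ?_,
      MSS.le_normalizer_pCoreOf ((normalizer_le_normalizer_oc _).trans hN), fun W d h hd => ?_⟩
    · obtain ⟨A, J₀, a, u, j, h⟩ := hz W d h hd h5
      obtain ⟨A', J₀', a', u', j', h'⟩ := hz W' d' h' hd' h5
      exact hn (h.pair (MSS.resOf_eq_bot_iff.1 e) hG h')
    · obtain ⟨A, J₀, a, u, j, h⟩ := hz W d h hd h5
      exact MSS.normalizer_le_normalizer_pCoreOf _ h.mem_normalizer_resOf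

end Cfsg.Lib.Ngrp
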