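import Cfsg.Agent.Ngrp.NatJ4
import Cfsg.Agent.Ngrp.NatC1

/-!
Case (A): reduction of the existence of the natural geometry to case (C).
-/

set_option autoImplicit false

namespace Cfsg.Lib.Ngrp
open Subgroup Cfsg.Lib.Trans Cfsg.Lib.Trans.TJ Cfsg.Lib.Local Cfsg.Lib.Local.JC
open Cfsg.Lib.Local.MSS (ncl PRed)

variable {G : Type*} [Group G] [Finite G] {S : Sylow 2 G} {Y L V W : Subgroup G} {z d : G}

theorem AH.sylow_ne_bot (ah : AH G) (S : Sylow 2 G) : (S : Subgroup G) ≠ ⊥ :=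
  S.ne_bot_of_dvd_card ah.char.1.two_dvd

theorem Over.oc_le (h : Over S L) (ah : AH G) :
    omegaCenterOf (S : Subgroup G) ≤ largestPReducedOf 2 L :=
  MSS.omega_center_le_yOf (h.charP ah) h.syl

theorem exists_maxY (ah : AH G) (S : Sylow 2 G) : ∃ Y, MaxY S Y := by
  obtain ⟨L, hL, hm⟩ := Set.exists_max_image {L : Subgroup G | Over S L}
    (fun L => Nat.card (largestPReducedOf 2 L)) (Set.toFinite _)
    ⟨_, over_normalizer S.isPGroup' (ah.sylow_ne_bot S) le_normalizer⟩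
  have h1 : largestPReducedOf 2 L ≠ ⊥ := fun e =>
    oc_ne_bot S.isPGroup' (ah.sylow_ne_bot S) (eq_bot_iff.2 (e ▸ Over.oc_le hL ah))
  have h2 := over_normalizer (MSS.yOf_isPGroup L) h1 (hL.1.trans (MSS.self_le_normalizer_yOf L))
  exact ⟨_, ah, h1, h2.1, (Subgroup.eq_of_le_of_card_ge (MSS.yOf_mono (h2.charP ah) h2.syl hL.1
    (MSS.self_le_normalizer_yOf L)) (hm _ h2)).symm, hm⟩

theorem MaxY.caseC (h : MaxY S Y) (hG : ∀ H : Subgroup G, H.index ≠ 2)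
    (h4 : 4 ≤ Nat.card (omegaCenterOf (J (S : Subgroup G))))
    (t0 : ¬ ∀ L, Over S L → L ≤ normalizer (Y : Set G)) : ∃ H, CaseC S Y H := by
  obtain ⟨D, h1, h2, h3, h5⟩ := z48 h.ah hG S.isPGroup' (P := fun _ => True) (fun _ _ _ _ => trivial)
    (fun _ _ L _ hJ _ => by
      obtain ⟨U, h1, h2⟩ := exists_isSylowIn_ge (S.isPGroup'.to_le (J_le _)) hJ
      exact ⟨U, h1, J_eq_of_sylowIn (isSylowIn_top S) h1.isPGroup le_top h2⟩) h4
  have h6 := h.up_sup (over_normalizer h1 h2 ((le_normalizer_J _).trans h3))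
    (h.ffh.je_le h.syl (inf_le_right.trans h3) fun W d e _ _ _ => h5 W d e trivial)
  push Not at t0
  obtain ⟨H, hH⟩ := exists_minimal_of_wellFoundedLT
    (fun L : Subgroup G => Over S L ∧ ¬ L ≤ normalizer (Y : Set G)) t0
  refine ⟨H, h, h3.trans h6, fun W d e => h6 (h5 W d e trivial), hH.1.1, hH.1.2,
    fun L h7 h8 => by_contra fun h9 => h8.not_ge (hH.2 ⟨⟨h7, fun e => hH.1.1.2 ?_⟩, h9⟩ h8.le)⟩
  exact eq_bot_iff.2 (e ▸ MSS.pCoreOf_le_pCoreOf_of_le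
    ((MSS.pCoreOf_le_of_isSylowIn hH.1.1.syl).trans h7) h8.le)

/-- The case `Ω₁ Z(J(S)) = ⟨z⟩`. -/
structure ZTwo (S : Sylow 2 G) (z : G) : Prop where
  ah : AH G
  card : Nat.card (omegaCenterOf (J (S : Subgroup G))) = 2
  mem : z ∈ omegaCenterOf (S : Subgroup G)
  ne : z ≠ 1

namespace ZTwo

variable (h : ZTwo S z)
include h

theorem eq_z {x : G} (hx : x ∈ omegaCenterOf (J (S : Subgroup G))) : x = 1 ∨ x = z :=
  eq_zpowers_of_card_two h.card (oc_le_oc_J _ h.mem) h.ne hx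

theorem oc_eq : omegaCenterOf (S : Subgroup G) = zpowers z :=
  le_antisymm (fun _ hx => (mem_zpowers_two (oc_sq h.mem)).2 (h.eq_z (oc_le_oc_J _ hx)))
    (zpowers_le.2 h.mem)

theorem ovr : Over S (centralizer {z}) :=
  over_Cz (oc_sq h.mem) h.ne fun x hx => mem_centralizer_singleton_iff.2 ((mem_oc.1 h.mem).2.1 x hx)

theorem dich' (hL : Over S L) : largestPReducedOf 2 L = zpowers z ∨
    ∃ d ∈ L, JCd S (largestPReducedOf 2 L) d ∧
    d ∈ normalizer (((S : Subgroup G) ⊓ centralizer (largestPReducedOf 2 L : Set G) :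
      Subgroup G) : Set G) ∧ d ∉ centralizer {z} := by
  by_cases hc : J (S : Subgroup G) ≤ centralizer (largestPReducedOf 2 L : Set G)
  · exact Or.inl (le_antisymm (fun y hy =>
      (mem_zpowers_two (oc_sq h.mem)).2 (h.eq_z (mem_oc_J ((hL.ffh h.ah).VT hy)
        (le_centralizer_iff.1 hc hy) (ea_sq (MSS.yOf_ea L) hy))))
      (zpowers_le.2 (hL.oc_le h.ah h.mem)))
  · obtain ⟨W, d, h1, h2, h3, h4⟩ := (hL.ffh h.ah).exists_jcd hL.syl hc
    obtain rfl := (hL.ffh h.ah).eq_of_card_two S.isPGroup' h.card h1 h2 h4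
    exact Or.inr ⟨d, h2, h1, h3, fun e => h.ne (h1.fd.eq_one (hL.oc_le h.ah h.mem)
      (mem_centralizer_singleton_iff.1 e).symm)⟩

theorem dich (hL : Over S L) : L ≤ centralizer {z} ∨ ∃ d ∈ L, JCd S (largestPReducedOf 2 L) d ∧
    d ∈ normalizer (((S : Subgroup G) ⊓ centralizer (largestPReducedOf 2 L : Set G) :
      Subgroup G) : Set G) ∧ d ∉ centralizer {z} :=
  (h.dich' hL).imp_left fun e => (MSS.self_le_normalizer_yOf (p := 2) L).trans
    (by rw [e, Geo.normalizer_zpowers_eq (oc_sq h.mem)])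

theorem four (h1 : IsElementaryAbelian 2 V) (h2 : Nat.card V = 4) (h3 : V ≤ S)
    (h4 : (S : Subgroup G) ≤ normalizer (V : Set G))
    (h5 : ¬ normalizer (V : Set G) ≤ centralizer {z}) : ∃ d, JCd S V d ∧ d ∈ normalizer
      (((S : Subgroup G) ⊓ centralizer (V : Set G) : Subgroup G) : Set G) := by
  have h0 : V ≠ ⊥ := fun e => by simp [e] at h2
  obtain ⟨d, h6, h7, h8, h9⟩ := (h.dich (over_normalizer (ea_isPGroup h1) h0 h4)).resolve_left h5
  obtain ⟨y, hy, e1, e2⟩ := exists_mem_oc_J S.isPGroup' h1 h3 h0 ((J_le _).trans h4)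
  obtain rfl := (h.eq_z e2).resolve_left e1
  have f : FD V d := ⟨h1, h2, h7.odd, h6, fun e => h9 (Geo.le_Cz_of_mem hy e)⟩
  have e := Subgroup.eq_of_le_of_card_ge (MSS.le_yOf le_normalizer h1
    ⟨le_rfl, fun D e1 e2 e3 => f.le_cent e1 e3 (e2 h6)⟩) (by rw [h7.card, h2])
  rw [← e] at h7 h8
  exact ⟨d, h7, h8⟩

theorem uniq (hr : ¬ PRankLE 2 2 G) {d' : G} (h1 : JCd S W d) (h2 : JCd S V d')
    (h3 : (S : Subgroup G) ≤ normalizer (W : Set G)) (h4 : (S : Subgroup G) ≤ normalizer (V : Set G))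
    (h5 : d ∈ normalizer (((S : Subgroup G) ⊓ centralizer (W : Set G) : Subgroup G) : Set G))
    (h6 : d' ∈ normalizer (((S : Subgroup G) ⊓ centralizer (V : Set G) : Subgroup G) : Set G)) :
    W = V := by
  by_contra hne
  obtain ⟨-, h7, h8⟩ := z2_pair h.ah S.isPGroup' h.card h1 h2 h3 h4 h5 h6 hne
    fun L _ e _ => isSylowIn_of_le S e
  refine hr fun A e1 e2 => by_contra fun e3 => h8 ?_
  obtain ⟨x, -, e4⟩ := (isSylowIn_top S).exists_cj_le (ea_isPGroup ⟨e1, e2⟩) le_top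
  have e5 := card_dvd_of_le e4
  have e6 := Nat.le_of_dvd (by omega) e5
  have e7 : cj x A = S := Subgroup.eq_of_le_of_card_ge e4 (by
    rw [card_cj, h7] at *
    generalize Nat.card A = n at *
    interval_cases n <;> simp_all)
  have e8 : IsElementaryAbelian 2 (S : Subgroup G) := e7 ▸ ea_map ⟨e1, e2⟩ _
  exact fun w hw v hv => ea_comm e8 (J_le _ (h2.le_J hv)) (J_le _ (h1.le_J hw))

theorem nat (hr : ¬ PRankLE 2 2 G) (hY : MaxY S Y)
    (t0 : ∀ M : Subgroup G, Over S M → ¬ ∀ L, Over S L → L ≤ M) : NatG S z Y := by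
  have h1 : ¬ normalizer (Y : Set G) ≤ centralizer {z} := fun e => t0 _ h.ovr fun L hL =>
    (h.dich hL).resolve_right fun ⟨d, _, h2, _⟩ => by
      have h3 := hY.max L hL
      have h4 := (h.dich' hY.overM).resolve_right fun ⟨_, e1, _, _, e2⟩ => e2 (e e1)
      rw [hY.eq] at h4
      rw [h2.card, h4, card_zpowers_two (oc_sq h.mem) h.ne] at h3
      omega
  obtain ⟨d, h2, h3, h4, h5⟩ := (h.dich hY.overM).resolve_left h1
  rw [hY.eq] at h3 h4
  have hu : ∀ V : Subgroup G, IsElementaryAbelian 2 V → Nat.card V = 4 → V ≤ S →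
      (S : Subgroup G) ≤ normalizer (V : Set G) → ¬ normalizer (V : Set G) ≤ centralizer {z} →
      V = Y := fun V e1 e2 e3 e4 e5 =>
    let ⟨_, e6, e7⟩ := h.four e1 e2 e3 e4 e5
    h.uniq hr e6 h3 e4 hY.le e7 h4
  refine ⟨h.ah, h.ne, h.oc_eq, hY.ea, h3.card, hY.Z_le h.mem, hY.YS, hY.le, h1,
    fun e => t0 _ hY.overM fun L hL => ?_, fun D e1 e2 e3 => hY.up e1 e2 (inf_le_left.trans e3), hu⟩
  rcases h.dich hL with e1 | ⟨d', -, e1, -, e2⟩
  · exact e1.trans e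
  · rw [← hu _ e1.ea e1.card (hL.ffh h.ah).VT (hL.1.trans (MSS.self_le_normalizer_yOf L))
      fun e3 => e2 (e3 e1.nd)]
    exact MSS.self_le_normalizer_yOf L

end ZTwo

theorem caseA (ah : AH G) (hG : ∀ H : Subgroup G, H.index ≠ 2) (hr : ¬ PRankLE 2 2 G)
    (S : Sylow 2 G) (t0 : ∀ M : Subgroup G, Over S M → ¬ ∀ L, Over S L → L ≤ M)
    (nc : ∀ Y H, CaseC S Y H → ∃ z, NatG S z Y) : ∃ z Y, NatG S z Y := by
  obtain ⟨Y, hY⟩ := exists_maxY ah S
  by_cases h4 : 4 ≤ Nat.card (omegaCenterOf (J (S : Subgroup G)))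
  · obtain ⟨H, hH⟩ := hY.caseC hG h4 (t0 _ hY.overM)
    obtain ⟨z, hz⟩ := nc Y H hH
    exact ⟨z, Y, hz⟩
  · obtain ⟨z, h1, h2⟩ := (Subgroup.bot_or_exists_ne_one _).resolve_left hY.Z_ne
    refine ⟨z, Y, ZTwo.nat ⟨ah, ?_, h1, h2⟩ hr hY t0⟩
    obtain ⟨n, hn⟩ := (ea_isPGroup (ea_oc (J (S : Subgroup G)))).exists_card_eq
    have h3 := (Subgroup.one_lt_card_iff_ne_bot _).2 fun e : omegaCenterOf (J (S : Subgroup G)) = ⊥ =>
      h2 (mem_bot.1 (e ▸ oc_le_oc_J _ h1))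
    rw [hn] at h3 h4 ⊢
    rcases n with _ | _ | n
    · simp at h3
    · rfl
    · exact absurd (Nat.pow_le_pow_right two_pos (Nat.le_add_left 2 n)) h4

end Cfsg.Lib.Ngrp
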