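import Cfsg.Agent.Ngrp.AmRb2
import Cfsg.Agent.Ngrp.NatDefs

/-! Modules `U / E` for a group `L` centralizing `E` and normalizing `U`. -/

set_option autoImplicit false

namespace Cfsg.Lib.Ngrp.Kc
open Subgroup Cfsg.Lib.Trans Cfsg.Lib.Local Cfsg.Lib.Local.JC Cfsg.Lib.Trans.TJ Cfsg.Lib.Ngrp.Geo
open scoped commutatorElement IsMulCommutative

/-- An elementary abelian section `U / E` with a group `L` acting on it. -/
structure Sec (G : Type*) [Group G] where
  E : Subgroup G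
  U : Subgroup G
  L : Subgroup G
  ea : IsElementaryAbelian 2 U
  le : E ≤ U
  cent : L ≤ centralizer (E : Set G)
  norm : L ≤ normalizer (U : Set G)
  UL : U ≤ L

namespace Sec

variable {G : Type*} [Group G] (s : Sec G)

theorem comm {u v : G} (hu : u ∈ s.U) (hv : v ∈ s.U) : u * v = v * u := ea_comm' s.ea hu hv
theorem sq {u : G} (hu : u ∈ s.U) : u * u = 1 := ea_sq s.ea hu
theorem normE : s.L ≤ normalizer (s.E : Set G) := s.cent.trans (centralizer_le_normalizer _)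
theorem conj_mem {c u : G} (hc : c ∈ s.L) (hu : u ∈ s.U) : c * u * c⁻¹ ∈ s.U :=
  mem_normalizer_conj (s.norm hc) hu
theorem comm_mem {c u : G} (hc : c ∈ s.L) (hu : u ∈ s.U) : ⁅c, u⁆ ∈ s.U :=
  mul_mem (s.conj_mem hc hu) (inv_mem hu)
theorem conj_E {c e : G} (hc : c ∈ s.L) (he : e ∈ s.E) : c * e * c⁻¹ = e :=
  conj_eq_of_mem_centralizer (s.cent hc) he

instance instNormalSecE : (s.E.subgroupOf s.U).Normal :=
  ⟨fun n hn g => by
    rw [mem_subgroupOf] at hn ⊢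
    exact mem_normalizer_conj (s.normE (s.UL g.2)) hn⟩

/-- The module `U / E`. -/
def V : Type _ := s.U ⧸ s.E.subgroupOf s.U

instance instCommGroupSecV : CommGroup s.V :=
  { (inferInstance : Group (s.U ⧸ s.E.subgroupOf s.U)) with
    mul_comm := fun a b => by
      induction a using QuotientGroup.induction_on with | H a => ?_
      induction b using QuotientGroup.induction_on with | H b => ?_
      change (QuotientGroup.mk (a * b) : s.U ⧸ s.E.subgroupOf s.U) = QuotientGroup.mk (b * a)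
      congr 1
      exact Subtype.ext (s.comm a.2 b.2) }

instance instFiniteSecV [Finite G] : Finite s.V :=
  inferInstanceAs (Finite (s.U ⧸ s.E.subgroupOf s.U))

/-- The projection onto the module. -/
def mkV : s.U →* s.V := QuotientGroup.mk' (s.E.subgroupOf s.U)

/-- The action on the module. -/
def actV : s.L →* MulAut s.V := Solv.Coprime.sectionAut s.norm s.normE

/-- The group induced on the module. -/
abbrev K : Subgroup (MulAut s.V) := s.actV.range

/-- The projection onto the induced group. -/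
def mkK : s.L →* s.K := s.actV.rangeRestrict

open Classical in
/-- The image of `u ∈ U` in the module. -/
noncomputable def bar (u : G) : s.V := if h : u ∈ s.U then s.mkV ⟨u, h⟩ else 1

open Classical in
/-- The image of `c ∈ L` in the induced group. -/
noncomputable def star (c : G) : s.K := if h : c ∈ s.L then s.mkK ⟨c, h⟩ else 1

/-- The kernel of the action. -/
def X : Subgroup G where
  carrier := {c | c ∈ s.L ∧ ∀ u ∈ s.U, ⁅c, u⁆ ∈ s.E}
  one_mem' := ⟨one_mem _, fun u _ => by simp⟩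
  mul_mem' := by
    rintro a b ⟨ha, ha'⟩ ⟨hb, hb'⟩
    refine ⟨mul_mem ha hb, fun u hu => ?_⟩
    have e : ⁅a * b, u⁆ = a * ⁅b, u⁆ * a⁻¹ * ⁅a, u⁆ := by
      simp only [commutatorElement_def]; group
    rw [e]
    exact mul_mem (mem_normalizer_conj (s.normE ha) (hb' u hu)) (ha' u hu)
  inv_mem' := by
    rintro a ⟨ha, ha'⟩
    refine ⟨inv_mem ha, fun u hu => ?_⟩
    have e : ⁅a⁻¹, u⁆ = a⁻¹ * ⁅a, u⁆⁻¹ * a := by simp only [commutatorElement_def]; group
    rw [e]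
    exact mem_normalizer_conj' (s.normE ha) (inv_mem (ha' u hu))

variable {s} {u v c d t : G}

theorem mem_X : c ∈ s.X ↔ c ∈ s.L ∧ ∀ u ∈ s.U, ⁅c, u⁆ ∈ s.E := Iff.rfl
theorem X_le : s.X ≤ s.L := fun _ h => h.1
theorem mem_X_of_cent (hc : c ∈ s.L) (h : c ∈ centralizer (s.U : Set G)) : c ∈ s.X :=
  ⟨hc, fun u hu => by rw [commutatorElement_eq_one_iff_mul_comm.2 (h u hu).symm]; exact one_mem _⟩
theorem U_le_X : s.U ≤ s.X := fun _ h => mem_X_of_cent (s.UL h) fun _ hu => s.comm hu h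

theorem conj_mem_X (hc : c ∈ s.L) (ht : t ∈ s.X) : c * t * c⁻¹ ∈ s.X :=
  ⟨mul_mem (mul_mem hc ht.1) (inv_mem hc), fun u hu => by
    have e : ⁅c * t * c⁻¹, u⁆ = c * ⁅t, c⁻¹ * u * c⁆ * c⁻¹ := by
      simp only [commutatorElement_def]; group
    rw [e]
    exact mem_normalizer_conj (s.normE hc) (ht.2 _ (mem_normalizer_conj' (s.norm hc) hu))⟩

theorem normX : s.L ≤ normalizer (s.X : Set G) := fun c hc => mem_normalizer_iff.2 fun t =>
  ⟨conj_mem_X hc, fun h => by simpa [mul_assoc] using conj_mem_X (inv_mem hc) h⟩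

theorem bar_eq (h : u ∈ s.U) : s.bar u = s.mkV ⟨u, h⟩ := dif_pos h
theorem bar_coe (x : s.U) : s.bar x = s.mkV x := dif_pos x.2
theorem star_eq (h : c ∈ s.L) : s.star c = s.mkK ⟨c, h⟩ := dif_pos h
theorem star_coe (x : s.L) : s.star x = s.mkK x := dif_pos x.2
theorem mkV_surjective : Function.Surjective s.mkV := QuotientGroup.mk'_surjective _
theorem mkK_surjective : Function.Surjective s.mkK := MonoidHom.rangeRestrict_surjective _

theorem exists_bar (x : s.V) : ∃ u ∈ s.U, s.bar u = x :=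
  let ⟨u, hu⟩ := mkV_surjective x; ⟨u, u.2, (bar_coe u).trans hu⟩

theorem exists_star (k : s.K) : ∃ c ∈ s.L, s.star c = k :=
  let ⟨c, hc⟩ := mkK_surjective k; ⟨c, c.2, (star_coe c).trans hc⟩

theorem bar_one : s.bar 1 = 1 := by rw [bar_eq (one_mem _)]; exact map_one _

theorem bar_mul (hu : u ∈ s.U) (hv : v ∈ s.U) : s.bar (u * v) = s.bar u * s.bar v := by
  rw [bar_eq hu, bar_eq hv, bar_eq (mul_mem hu hv), ← map_mul]; rfl

theorem bar_inv (hu : u ∈ s.U) : s.bar u⁻¹ = (s.bar u)⁻¹ := by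
  rw [bar_eq hu, bar_eq (inv_mem hu), ← map_inv]; rfl

theorem bar_eq_one (hu : u ∈ s.U) : s.bar u = 1 ↔ u ∈ s.E := by
  rw [bar_eq hu]
  exact (QuotientGroup.eq_one_iff _).trans mem_subgroupOf

theorem bar_of_mem (hu : u ∈ s.E) : s.bar u = 1 := (bar_eq_one (s.le hu)).2 hu

theorem bar_eq_bar (hu : u ∈ s.U) (hv : v ∈ s.U) : s.bar u = s.bar v ↔ u * v⁻¹ ∈ s.E := by
  rw [← bar_eq_one (mul_mem hu (inv_mem hv)), bar_mul hu (inv_mem hv), bar_inv hv, mul_inv_eq_one]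

theorem V_sq (x : s.V) : x * x = 1 := by
  obtain ⟨u, hu, rfl⟩ := exists_bar x
  rw [← bar_mul hu hu, s.sq hu, bar_one]

theorem star_one : s.star 1 = 1 := by rw [star_eq (one_mem _)]; exact map_one _

theorem star_mul (hc : c ∈ s.L) (hd : d ∈ s.L) : s.star (c * d) = s.star c * s.star d := by
  rw [star_eq hc, star_eq hd, star_eq (mul_mem hc hd), ← map_mul]; rfl

theorem star_inv (hc : c ∈ s.L) : s.star c⁻¹ = (s.star c)⁻¹ := by
  rw [star_eq hc, star_eq (inv_mem hc), ← map_inv]; rfl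

theorem star_pow (hc : c ∈ s.L) (n : ℕ) : s.star (c ^ n) = s.star c ^ n := by
  rw [star_eq hc, star_eq (pow_mem hc n), ← map_pow]; rfl

theorem star_conj (hc : c ∈ s.L) (hd : d ∈ s.L) :
    s.star (c * d * c⁻¹) = s.star c * s.star d * (s.star c)⁻¹ := by
  rw [star_mul (mul_mem hc hd) (inv_mem hc), star_mul hc hd, star_inv hc]

theorem star_smul (hc : c ∈ s.L) (hu : u ∈ s.U) : s.star c • s.bar u = s.bar (c * u * c⁻¹) := by
  rw [star_eq hc, bar_eq hu, bar_eq (s.conj_mem hc hu)]; rfl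

theorem cm_star (hc : c ∈ s.L) (hu : u ∈ s.U) : cm s.V (s.star c) (s.bar u) = s.bar ⁅c, u⁆ := by
  rw [cm_apply, commutatorElement_def, bar_mul (s.conj_mem hc hu) (inv_mem hu), bar_inv hu,
    star_smul hc hu]

theorem bar_mem_fx (hc : c ∈ s.L) (hu : u ∈ s.U) : s.bar u ∈ fx s.V (s.star c) ↔ ⁅c, u⁆ ∈ s.E := by
  rw [mem_fx, ← cm_eq_one_iff, cm_star hc hu, bar_eq_one (s.comm_mem hc hu)]

theorem K_eq_one {k : s.K} (h : ∀ x : s.V, k • x = x) : k = 1 :=
  Subtype.ext (MulEquiv.ext h)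

theorem star_eq_one (hc : c ∈ s.L) : s.star c = 1 ↔ c ∈ s.X := by
  constructor
  · intro h
    exact ⟨hc, fun u hu => (bar_mem_fx hc hu).1 (by rw [h, mem_fx, one_smul])⟩
  · intro h
    refine K_eq_one fun x => ?_
    obtain ⟨u, hu, rfl⟩ := exists_bar x
    exact mem_fx.1 ((bar_mem_fx hc hu).2 (h.2 u hu))

theorem star_of_mem (hc : c ∈ s.X) : s.star c = 1 := (star_eq_one hc.1).2 hc

theorem star_eq_star (hc : c ∈ s.L) (hd : d ∈ s.L) : s.star c = s.star d ↔ c * d⁻¹ ∈ s.X := by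
  rw [← star_eq_one (mul_mem hc (inv_mem hd)), star_mul hc (inv_mem hd), star_inv hd,
    mul_inv_eq_one]

theorem ker_mkK : s.mkK.ker = s.X.subgroupOf s.L := by
  ext x; rw [MonoidHom.mem_ker, ← star_coe, star_eq_one x.2, mem_subgroupOf]

variable (s) in
/-- The image in the module of a subgroup of `G`. -/
def img (A : Subgroup G) : Subgroup s.V := (A.subgroupOf s.U).map s.mkV

variable (s) in
/-- The image in the induced group of a subgroup of `G`. -/
def imgK (A : Subgroup G) : Subgroup s.K := (A.subgroupOf s.L).map s.mkK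

variable (s) in
/-- The preimage in `G` of a subgroup of the induced group. -/
def preK (B : Subgroup s.K) : Subgroup G := (B.comap s.mkK).map s.L.subtype

variable {A : Subgroup G}

theorem mem_img {x : s.V} : x ∈ s.img A ↔ ∃ u ∈ A, u ∈ s.U ∧ s.bar u = x := by
  constructor
  · rintro ⟨y, hy, rfl⟩; exact ⟨y, hy, y.2, bar_coe y⟩
  · rintro ⟨u, h1, h2, rfl⟩; exact ⟨⟨u, h2⟩, h1, (bar_eq h2).symm⟩

theorem mem_imgK {k : s.K} : k ∈ s.imgK A ↔ ∃ c ∈ A, c ∈ s.L ∧ s.star c = k := by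
  constructor
  · rintro ⟨y, hy, rfl⟩; exact ⟨y, hy, y.2, star_coe y⟩
  · rintro ⟨u, h1, h2, rfl⟩; exact ⟨⟨u, h2⟩, h1, (star_eq h2).symm⟩

theorem mem_preK {B : Subgroup s.K} : c ∈ s.preK B ↔ c ∈ s.L ∧ s.star c ∈ B := by
  constructor
  · rintro ⟨x, hx, rfl⟩; exact ⟨x.2, by rw [coe_subtype, star_coe]; exact hx⟩
  · rintro ⟨h1, h2⟩; exact ⟨⟨c, h1⟩, by rw [star_eq h1] at h2; exact h2, rfl⟩

theorem bar_mem_img (h1 : u ∈ A) (h2 : u ∈ s.U) : s.bar u ∈ s.img A := mem_img.2 ⟨u, h1, h2, rfl⟩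
theorem star_mem_imgK (h1 : c ∈ A) (h2 : c ∈ s.L) : s.star c ∈ s.imgK A :=
  mem_imgK.2 ⟨c, h1, h2, rfl⟩

theorem comm_mul_right (ht : t ∈ s.X) (hu : u ∈ s.U) (hv : v ∈ s.U) :
    ⁅t, u * v⁆ = ⁅t, u⁆ * ⁅t, v⁆ := by
  have e : ⁅t, u * v⁆ = ⁅t, u⁆ * (u * ⁅t, v⁆ * u⁻¹) := by simp only [commutatorElement_def]; group
  rw [e, s.conj_E (s.UL hu) (ht.2 v hv)]

theorem comm_mul_left (ht : t ∈ s.X) (hc : c ∈ s.X) (hu : u ∈ s.U) :
    ⁅t * c, u⁆ = ⁅c, u⁆ * ⁅t, u⁆ := by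
  have e : ⁅t * c, u⁆ = t * ⁅c, u⁆ * t⁻¹ * ⁅t, u⁆ := by simp only [commutatorElement_def]; group
  rw [e, s.conj_E ht.1 (hc.2 u hu)]

theorem comm_conj_left (ht : t ∈ s.X) (hc : c ∈ s.L) (hu : u ∈ s.U) :
    ⁅c * t * c⁻¹, u⁆ = ⁅t, c⁻¹ * u * c⁆ := by
  rw [← s.conj_E hc (ht.2 _ (mem_normalizer_conj' (s.norm hc) hu))]
  simp only [commutatorElement_def]; group

theorem comm_congr (ht : t ∈ s.X) (hu : u ∈ s.U) (hv : v ∈ s.U) (e : s.bar u = s.bar v) :
    ⁅t, u⁆ = ⁅t, v⁆ := by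
  have h1 := (bar_eq_bar hu hv).1 e
  have e1 : u = (u * v⁻¹) * v := by group
  rw [e1, comm_mul_right ht (s.le h1) hv,
    commutatorElement_eq_one_iff_mul_comm.2 (s.cent ht.1 _ h1).symm, one_mul]

theorem comm_congr_left (hd : d ∈ s.L) (hn : c * d⁻¹ ∈ s.X) (hu : u ∈ s.U) :
    ⁅c, u⁆ * ⁅d, u⁆⁻¹ ∈ s.E := by
  have h1 := hn.2 _ (s.conj_mem hd hu)
  convert h1 using 1
  simp only [commutatorElement_def]
  group

variable (s) in
open Classical in
/-- The homomorphism `U / E → U` induced by an element of the kernel. -/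
noncomputable def chi (t : s.X) : s.V →* s.U :=
  QuotientGroup.lift (s.E.subgroupOf s.U)
    (MonoidHom.mk' (fun u : s.U => (⟨⁅(t : G), (u : G)⁆, s.comm_mem t.2.1 u.2⟩ : s.U))
      fun u v => Subtype.ext (comm_mul_right t.2 u.2 v.2)) fun x hx =>
    Subtype.ext (commutatorElement_eq_one_iff_mul_comm.2 (s.cent t.2.1 _ hx).symm)

theorem chi_bar (t : s.X) (hu : u ∈ s.U) : (s.chi t (s.bar u) : G) = ⁅(t : G), u⁆ := by
  rw [bar_eq hu]; rfl

variable [Finite G]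

theorem card_img (hE : s.E ≤ A) (hA : A ≤ s.U) :
    Nat.card A = Nat.card s.E * Nat.card (s.img A) := by
  unfold img
  have : s.mkV.ker = s.E.subgroupOf s.U := QuotientGroup.ker_mk' _
  rw [← relIndex_ker, this, relIndex_subgroupOf hA, card_mul_relIndex hE]

theorem card_imgK (hA : A ≤ s.L) :
    Nat.card A = Nat.card (A ⊓ s.X : Subgroup G) * Nat.card (s.imgK A) := by
  unfold imgK
  rw [← relIndex_ker, ker_mkK, relIndex_subgroupOf hA, ← inf_relIndex_left,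
    card_mul_relIndex inf_le_left]

theorem card_img' (hA : A ≤ s.U) :
    Nat.card A = Nat.card (A ⊓ s.E : Subgroup G) * Nat.card (s.img A) := by
  unfold img
  have : s.mkV.ker = s.E.subgroupOf s.U := QuotientGroup.ker_mk' _
  rw [← relIndex_ker, this, relIndex_subgroupOf hA, ← inf_relIndex_left,
    card_mul_relIndex inf_le_left]

theorem img_U : s.img s.U = ⊤ := eq_top_iff.2 fun x _ => by
  obtain ⟨u, hu, rfl⟩ := exists_bar x
  exact bar_mem_img hu hu

theorem odd_orderOf_star (hc : c ∈ s.L) (h : Odd (orderOf c)) : Odd (orderOf (s.star c)) :=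
  Odd.of_dvd_nat h (orderOf_dvd_of_pow_eq_one (by rw [← star_pow hc, pow_orderOf_eq_one, star_one]))

theorem mem_Cz_of_fix (hd : d ∈ s.L) (ho : Odd (orderOf d)) (hu : u ∈ s.U)
    (hf : s.bar u ∈ fx s.V (s.star d)) : d ∈ Cz u := by
  have h1 := (bar_mem_fx hd hu).1 hf
  have h2 : d * d ∈ Cz u := by
    rw [mem_Cz', conj_conj, conj_eq_comm_mul d u, conj_mul_eq, s.conj_E hd h1, conj_eq_comm_mul d u,
      ← mul_assoc, s.sq (s.le h1), one_mul]
  obtain ⟨k, hk⟩ := Tv.exists_eq_sq_pow_of_odd ho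
  rw [hk]; exact pow_mem h2 k

theorem star_lift {a : G} (ha : a ∈ s.L) (ha2 : a * a = 1) {k : s.K} (hk : Odd (orderOf k))
    (hinv : s.star a * k * (s.star a)⁻¹ = k⁻¹) :
    ∃ d ∈ s.L, Odd (orderOf d) ∧ a * d * a⁻¹ = d⁻¹ ∧ s.star d = k := by
  obtain ⟨c, rfl⟩ := mkK_surjective k
  obtain ⟨d, h1, h2, h3, -⟩ := lift_hom s.mkK (a := ⟨a, ha⟩) (d := c) (Subtype.ext ha2)
    (by rw [← star_eq ha]; exact hinv) hk (pow_orderOf_eq_one _)
  exact ⟨d, d.2, by rwa [Subgroup.orderOf_coe], congrArg Subtype.val h2, (star_coe d).trans h3⟩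

theorem exists_star_odd {k : s.K} (h : Odd (orderOf k)) :
    ∃ c ∈ s.L, Odd (orderOf c) ∧ s.star c = k := by
  obtain ⟨c, hc, rfl⟩ := exists_star k
  obtain ⟨a, m, hm, e⟩ := Nat.exists_eq_two_pow_mul_odd (orderOf_pos c).ne'
  obtain ⟨n, hn⟩ : ∃ n, (s.star c ^ 2 ^ a) ^ n = s.star c :=
    exists_pow_eq_self_of_coprime (Nat.Coprime.pow_left a ((Nat.coprime_two_left).2 h))
  refine ⟨(c ^ 2 ^ a) ^ n, pow_mem (pow_mem hc _) _, ?_, ?_⟩
  · refine Odd.of_dvd_nat hm (orderOf_dvd_of_pow_eq_one ?_)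
    rw [← pow_mul, mul_comm n, pow_mul, ← pow_mul c, ← e, pow_orderOf_eq_one, one_pow]
  · rw [star_pow (pow_mem hc _), star_pow hc, hn]

theorem normalizer_preK {B : Subgroup s.K} (hB : B.Normal) :
    s.L ≤ normalizer (s.preK B : Set G) := fun _ hc =>
  mem_normalizer_of_cj_le (cj_le_iff.2 fun t ht => mem_preK.2
    ⟨mul_mem (mul_mem hc (mem_preK.1 ht).1) (inv_mem hc), by
      rw [star_conj hc (mem_preK.1 ht).1]; exact hB.conj_mem _ (mem_preK.1 ht).2 _⟩)

end Sec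

variable {G : Type*} [Group G] [Finite G]

/-- A subgroup `D` normal in `L` inducing a group of odd order on the elementary abelian normal
subgroup `V` centralizes `V` if every nontrivial normal 2-subgroup meets the centre of `L`. -/
theorem le_centralizer_of_odd {L V D : Subgroup G} (hV : IsElementaryAbelian 2 V)
    (hL : ∀ P : Subgroup G, P ≤ V → P ≠ ⊥ → L ≤ normalizer (P : Set G) →
      ∃ p ∈ P, p ≠ 1 ∧ L ≤ Cz p)
    (hn : L ≤ normalizer (V : Set G)) (hD : D ≤ L) (hDn : L ≤ normalizer (D : Set G))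
    (hodd : ∀ d ∈ D, ∃ m, Odd m ∧ d ^ m ∈ centralizer (V : Set G)) :
    D ≤ centralizer (V : Set G) := by
  have := hV.1
  have hDV := hD.trans hn
  have hle : ⁅V, D⁆ ≤ V := Solv.le_normalizer_iff_commutator_le.1 hDV
  rw [← le_centralizer_iff, ← commutator_eq_bot_iff_le_centralizer]
  by_contra h1
  obtain ⟨p, hp, hp1, hpL⟩ := hL _ hle h1
    ((le_inf hn hDn).trans (normalizer_le_normalizer_commutator V D))
  set φ := Solv.conjAutOf V D hDV with hφ
  have ho : Odd (Nat.card φ.range) := odd_card_of_forall fun x => by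
    obtain ⟨_, d, rfl⟩ := x
    obtain ⟨m, hm, h2⟩ := hodd d d.2
    refine odd_orderOf_of_pow hm (Subtype.ext ?_)
    change φ d ^ m = 1
    rw [← map_pow, ← MonoidHom.mem_ker, Solv.mem_ker_conjAutOf]
    exact h2
  obtain ⟨N, hN1, -, hN3, -⟩ := Solv.Coprime.exists_norm_hom φ.range.subtype
  have h2 : ⁅V, D⁆ ≤ N.ker.map V.subtype := commutator_le.2 fun v hv d hd => by
    refine ⟨⟨v, hv⟩ * (φ ⟨d, hd⟩ ⟨v, hv⟩)⁻¹, ?_, ?_⟩
    · have := hN1 ⟨φ ⟨d, hd⟩, _, rfl⟩ ⟨v, hv⟩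
      change N (φ ⟨d, hd⟩ ⟨v, hv⟩) = _ at this
      rw [SetLike.mem_coe, MonoidHom.mem_ker, map_mul, map_inv, this, mul_inv_cancel]
    · simp [hφ, commutatorElement_def, mul_assoc]
  obtain ⟨x, hx, e⟩ := h2 hp
  have h3 := hN3 x (by
    rintro ⟨_, d, rfl⟩
    apply Subtype.ext
    change ((φ d x : V) : G) = x
    rw [hφ, Solv.coe_conjAutOf_apply]
    change (d : G) * V.subtype x * _ = V.subtype x
    rw [e]; exact Cz_conj (hpL (hD d.2)))
  rw [MonoidHom.mem_ker.1 hx, pow_odd_of_sq (Subtype.ext (ea_sq hV x.2)) ho] at h3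
  exact hp1 (by rw [← e, ← h3]; rfl)

end Cfsg.Lib.Ngrp.Kc
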