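import Cfsg.Agent.Ngrp.NatK1

/-! Critical pairs in the geometry whose points are four-groups do not exist. -/

set_option autoImplicit false

namespace Cfsg.Lib.Ngrp.Kc
open Subgroup Cfsg.Lib.Trans Cfsg.Lib.Local Cfsg.Lib.Local.JC Cfsg.Lib.Trans.TJ Cfsg.Lib.Ngrp.Geo
open scoped commutatorElement

variable {G : Type*} [Group G]

/-- A point with its lines. -/
structure Good (s : Sec G) (Λ : Set (Subgroup G)) : Prop where
  red : Red s.K s.V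
  cardE : Nat.card s.E = 4
  gen : ∀ H : Subgroup G, (∀ l ∈ Λ, l ≤ H) → s.U ≤ H
  le : ∀ l ∈ Λ, l ≤ s.U
  El : ∀ l ∈ Λ, s.E ≤ l
  card : ∀ l ∈ Λ, Nat.card l = 16
  act : ∀ l ∈ Λ, ∀ x ∈ s.X, x ∉ centralizer (l : Set G) → ∀ y ∈ l, ⁅x, y⁆ = 1 → y ∈ s.E
  idx : ∀ l ∈ Λ, ∀ x ∈ s.X, ∀ x' ∈ s.X, x ∉ centralizer (l : Set G) →
    x' ∉ centralizer (l : Set G) → x * x' ∈ centralizer (l : Set G)
  sep : ∀ f ∈ fittingSubgroup s.K, ∀ u ∈ s.U, s.bar u ∉ fx s.V f → ∃ t ∈ s.X, ⁅t, u⁆ ≠ 1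

variable [Finite G]

namespace Good

variable {s : Sec G} {Λ : Set (Subgroup G)} (h : Good s Λ)
include h

omit [Finite G] in
theorem exists_line {H : Subgroup G} (hH : ¬ s.U ≤ H) : ∃ l ∈ Λ, ∃ a ∈ l, a ∉ H := by
  by_contra hn
  push Not at hn
  exact hH (h.gen H hn)

omit [Finite G] in
theorem exists_line' {x : G} (hx : x ∉ centralizer (s.U : Set G)) :
    ∃ l ∈ Λ, x ∉ centralizer (l : Set G) := by
  obtain ⟨l, h1, a, h2, h3⟩ := h.exists_line (H := Cz x) fun e => hx fun u hu => mem_Cz.1 (e hu)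
  exact ⟨l, h1, fun e => h3 (mem_Cz.2 (e a h2))⟩

theorem map_chi {l : Subgroup G} (hl : l ∈ Λ) (x : s.X) (hx : (x : G) ∉ centralizer (l : Set G)) :
    (s.img l).map (s.chi x) = s.E.subgroupOf s.U := by
  have h1 : s.img l ⊓ (s.chi x).ker = ⊥ := eq_bot_iff.2 fun v hv => by
    obtain ⟨y, h2, h3, rfl⟩ := Sec.mem_img.1 hv.1
    exact Sec.bar_of_mem (h.act l hl x x.2 hx y h2 (by
      rw [← Sec.chi_bar x h3, MonoidHom.mem_ker.1 hv.2]; rfl))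
  have h2 := card_map_mul_inf_ker (s.chi x) (s.img l)
  have h3 := Sec.card_img (h.El l hl) (h.le l hl)
  rw [h1, card_bot, mul_one] at h2
  rw [h.card l hl, h.cardE] at h3
  refine Subgroup.eq_of_le_of_card_ge ?_ ?_
  · rintro _ ⟨v, hv, rfl⟩
    obtain ⟨y, -, h3, rfl⟩ := Sec.mem_img.1 hv
    rw [mem_subgroupOf, Sec.chi_bar x h3]
    exact x.2.2 y h3
  · rw [Nat.card_congr (subgroupOfEquivOfLe s.le).toEquiv, h.cardE, h2]; omega

theorem onto {l : Subgroup G} (hl : l ∈ Λ) {x : G} (hX : x ∈ s.X)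
    (hx : x ∉ centralizer (l : Set G)) {e : G} (he : e ∈ s.E) : ∃ y ∈ l, ⁅x, y⁆ = e := by
  have : (⟨e, s.le he⟩ : s.U) ∈ (s.img l).map (s.chi ⟨x, hX⟩) := by
    rw [h.map_chi hl ⟨x, hX⟩ hx]; exact he
  obtain ⟨v, hv, e1⟩ := this
  obtain ⟨y, h1, h3, rfl⟩ := Sec.mem_img.1 hv
  exact ⟨y, h1, (Sec.chi_bar ⟨x, hX⟩ h3).symm.trans (congrArg Subtype.val e1)⟩

theorem ne_four {f : s.K} (hf : f ∈ fittingSubgroup s.K) : Nat.card (cV s.V f) ≠ 4 := by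
  intro h4
  have ho := h.red.odd_of_mem hf
  obtain ⟨c, hc, rfl⟩ := Sec.exists_star f
  have k1 : ∀ t : s.X, ∀ v, s.chi ⟨c * t * c⁻¹, Sec.conj_mem_X hc t.2⟩ v =
      s.chi t ((s.star c)⁻¹ • v) := fun t v => by
    obtain ⟨u, hu, rfl⟩ := Sec.exists_bar v
    apply Subtype.ext
    rw [← Sec.star_inv hc, Sec.star_smul (inv_mem hc) hu, Sec.chi_bar _ hu,
      Sec.chi_bar _ (s.conj_mem (inv_mem hc) hu), inv_inv]
    exact Sec.comm_conj_left t.2 hc hu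
  have k2 : ∀ t : s.X, ∀ v, s.chi (t * ⟨c * t * c⁻¹, Sec.conj_mem_X hc t.2⟩) v =
      s.chi t (cm s.V (s.star c)⁻¹ v) := fun t v => by
    rw [cm_apply, inv_eq_self Sec.V_sq v, map_mul, ← k1]
    obtain ⟨u, hu, rfl⟩ := Sec.exists_bar v
    apply Subtype.ext
    rw [Subgroup.coe_mul, Sec.chi_bar _ hu, Sec.chi_bar _ hu, Sec.chi_bar _ hu]
    exact Sec.comm_mul_left t.2 (Sec.conj_mem_X hc t.2) hu
  obtain ⟨⟨v, hv⟩, hv1⟩ := ne_bot_iff_exists_ne_one.1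
    (show cV s.V (s.star c) ≠ ⊥ from fun e => by rw [e, card_bot] at h4; omega)
  obtain ⟨w, hw, rfl⟩ := Sec.exists_bar v
  obtain ⟨t, ht, h1⟩ := h.sep _ hf w hw fun e =>
    hv1 (Subtype.ext (eq_one_of_mem_cV_fx Sec.V_sq ho hv e))
  set x : s.X := ⟨t, ht⟩ * ⟨c * t * c⁻¹, Sec.conj_mem_X hc ht⟩ with hx
  have x1 : ∀ v ∈ fx s.V (s.star c), s.chi x v = 1 := fun v hv => by
    rw [hx, k2 ⟨t, ht⟩, cm_eq_one_iff.2 (inv_smul_eq_iff.2 (mem_fx.1 hv).symm), map_one]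
  have x2 : (x : G) ∉ centralizer (s.U : Set G) := fun e => by
    rw [← cV_inv] at hv
    obtain ⟨v', e1⟩ := hv
    obtain ⟨w', hw', rfl⟩ := Sec.exists_bar v'
    have := congrArg Subtype.val (k2 ⟨t, ht⟩ (s.bar w'))
    rw [e1, Sec.chi_bar _ hw, Sec.chi_bar _ hw'] at this
    exact h1 (this.symm.trans (commutatorElement_eq_one_iff_mul_comm.2 (e w' hw').symm))
  clear_value x
  obtain ⟨l, hl, x3⟩ := h.exists_line' x2
  have x4 : cV s.V (s.star c) ⊓ (s.chi x).ker = ⊥ := by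
    have a1 := card_map_mul_inf_ker (s.chi x) (cV s.V (s.star c))
    have a2 : s.E.subgroupOf s.U ≤ (cV s.V (s.star c)).map (s.chi x) := by
      rw [← h.map_chi hl x x3]
      rintro _ ⟨v, -, rfl⟩
      obtain ⟨p, hp, q, hq, rfl⟩ := exists_dec Sec.V_sq ho v
      exact ⟨p, hp, by rw [map_mul, x1 q hq, mul_one]⟩
    have a3 := Trans.card_le_of_le a2
    rw [Nat.card_congr (subgroupOfEquivOfLe s.le).toEquiv, h.cardE] at a3
    refine eq_bot_of_card_le_one ?_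
    rw [h4] at a1
    nlinarith
  have x5 : ∀ v, s.chi x v = 1 → v ∈ fx s.V (s.star c) := fun v hv => by
    obtain ⟨p, hp, q, hq, rfl⟩ := exists_dec Sec.V_sq ho v
    rw [map_mul, x1 q hq, mul_one] at hv
    have : p ∈ cV s.V (s.star c) ⊓ (s.chi x).ker := ⟨hp, hv⟩
    rw [x4, mem_bot] at this
    rwa [this, one_mul]
  have x6 : ∀ t : s.X, (t : G) ∈ centralizer (l : Set G) → ∀ y ∈ l, s.chi t (s.bar y) = 1 :=
    fun t ht y hy => Subtype.ext ((Sec.chi_bar t (h.le l hl hy)).trans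
      (commutatorElement_eq_one_iff_mul_comm.2 (ht y hy).symm))
  refine x3 fun y hy => (commutatorElement_eq_one_iff_mul_comm.1 ?_).symm
  rw [← Sec.chi_bar x (h.le l hl hy), x1 _ ?_]; rfl
  by_cases e : c * x * c⁻¹ ∈ centralizer (l : Set G)
  · have := x5 _ ((k1 x _).symm.trans (x6 _ e y hy))
    rw [mem_fx, smul_inv_smul] at this
    exact mem_fx.2 (eq_inv_smul_iff.1 this)
  · have := x5 _ ((k2 x _).symm.trans (x6 _ (h.idx l hl _ x.2 _ (Sec.conj_mem_X hc x.2) x3 e) y hy))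
    rw [← fx_inv] at this ⊢
    exact mem_fx_of_cm_mem_fx Sec.V_sq (by rwa [orderOf_inv]) this

theorem four_le {B : Subgroup s.K} {k : ℕ} {a d : Fin k → s.K} (hf : Frame B a d) (i : Fin k) :
    4 ≤ Nat.card ((cV s.V (d i)).map (cm s.V (a i))) := by
  have h1 := hf.two_le h.red i
  have h2 := h.ne_four (hf.dF i)
  rw [hf.card_cV h.red i] at h2
  obtain ⟨n, hn⟩ := exists_card_eq_two_pow Sec.V_sq ((cV s.V (d i)).map (cm s.V (a i)))
  rw [hn] at h1 h2 ⊢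
  match n with
  | 0 => omega
  | 1 => omega
  | n + 2 => rw [pow_add]; exact Nat.le_mul_of_pos_left _ (Nat.pow_pos two_pos)

end Good

/-- Two points at critical distance. -/
structure Pair (s t : Sec G) (Λ Μ : Set (Subgroup G)) : Prop where
  ah : AH G
  gs : Good s Λ
  gt : Good t Μ
  le1 : t.U ≤ s.L
  le2 : s.U ≤ t.L
  nc : ¬ t.U ≤ centralizer (s.U : Set G)
  ne : s.E ≠ t.E

namespace Pair

variable {s t : Sec G} {Λ Μ : Set (Subgroup G)} (h : Pair s t Λ Μ)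
include h

omit [Finite G] in
theorem symm : Pair t s Μ Λ :=
  ⟨h.ah, h.gt, h.gs, h.le2, h.le1, fun e => h.nc (le_centralizer_iff.1 e), h.ne.symm⟩

omit [Finite G] in
theorem mem_s {a u : G} (ha : a ∈ t.U) (hu : u ∈ s.U) : ⁅a, u⁆ ∈ s.U := s.comm_mem (h.le1 ha) hu

omit [Finite G] in
theorem mem_t {a u : G} (ha : a ∈ t.U) (hu : u ∈ s.U) : ⁅a, u⁆ ∈ t.U := by
  rw [← commutatorElement_inv]; exact inv_mem (h.symm.mem_s hu ha)

omit [Finite G] in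
theorem mem_tE {a u : G} (ha : a ∈ t.U) (hu : u ∈ t.X) : ⁅a, u⁆ ∈ t.E := by
  rw [← commutatorElement_inv]; exact inv_mem (hu.2 a ha)

omit [Finite G] in
theorem E_le_X : s.E ≤ t.X := fun e he =>
  Sec.mem_X_of_cent (h.le2 (s.le he)) fun a ha => (s.cent (h.le1 ha) e he).symm

omit [Finite G] in
theorem sqB : ∀ b ∈ s.imgK t.U, b * b = 1 := fun b hb => by
  obtain ⟨a, h1, h2, rfl⟩ := Sec.mem_imgK.1 hb
  rw [← Sec.star_mul h2 h2, t.sq h1, Sec.star_one]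

omit [Finite G] in
theorem quad {k : ℕ} (d : Fin k → s.K) : QuadOn s.V (s.imgK t.U) d :=
  quadOn_of_quad (fun b hb b' hb' => by
    obtain ⟨a, h1, h2, rfl⟩ := Sec.mem_imgK.1 hb
    obtain ⟨a', h1', h2', rfl⟩ := Sec.mem_imgK.1 hb'
    rintro _ ⟨v, rfl⟩
    obtain ⟨u, hu, rfl⟩ := Sec.exists_bar v
    rw [Sec.cm_star h2 hu, Sec.bar_mem_fx h2' (h.mem_s h1 hu),
      commutatorElement_eq_one_iff_mul_comm.2 (t.comm h1' (h.mem_t h1 hu))]
    exact one_mem _) d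

theorem plk {d e w a c : G} (hd : d ∈ s.L) (he : e ∈ t.L) (od : Odd (orderOf d))
    (oe : Odd (orderOf e)) (hd1 : s.star d ≠ 1) (hw : w ∈ s.U) (hw' : s.bar w ∈ cV s.V (s.star d))
    (iw : t.star w * t.star e * (t.star w)⁻¹ = (t.star e)⁻¹) (ha : a ∈ t.U)
    (ha' : t.bar a ∈ cV t.V (t.star e)) (ia : s.star a * s.star d * (s.star a)⁻¹ = (s.star d)⁻¹)
    (hc : c * c = 1) (hA : t.U ≤ Cz c) (hU : s.U ≤ Cz c) (hdc : d ∈ Cz c) (hec : e ∈ Cz c) :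
    c = 1 := by
  by_contra h1
  have key : ∀ {s t : Sec G}, s.E ≤ t.X → s.U ≤ t.L → s.U ≤ Cz c → ∀ {d w : G}, d ∈ s.L → w ∈ s.U →
      s.bar w ∈ cV s.V (s.star d) → ∀ N : Subgroup G, N ≤ Cz c → Cz c ≤ normalizer (N : Set G) →
      (∃ n ∈ N, n ∈ s.L ⊓ Cz c ∧ n * d⁻¹ ∈ s.X) → ∃ n ∈ N, n ∈ t.L ⊓ Cz c ∧ n * w⁻¹ ∈ t.X := by
    rintro s t e1 e2 e3 d w hd hw ⟨v, hv⟩ N hNH hN ⟨n, hn, h2, h3⟩
    obtain ⟨u, hu, rfl⟩ := Sec.exists_bar v
    have h4 := s.comm_mem h2.1 hu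
    refine ⟨⁅n, u⁆, comm_mem_of_normal hN hn (e3 hu), ⟨e2 h4, e3 h4⟩, e1 ?_⟩
    rw [← Sec.bar_eq_bar h4 hw, ← hv, ← Sec.cm_star h2.1 hu, (Sec.star_eq_star h2.1 hd).2 h3]
  have inv : ∀ {s : Sec G} {a d : G}, a ∈ s.L → d ∈ s.L →
      s.star a * s.star d * (s.star a)⁻¹ = (s.star d)⁻¹ → a * d * a⁻¹ * d ∈ s.X := by
    intro s a d ha hd e
    have h2 := mul_mem (mul_mem ha hd) (inv_mem ha)
    rw [← Sec.star_eq_one (mul_mem h2 hd), Sec.star_mul h2 hd, Sec.star_conj ha hd, e,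
      inv_mul_cancel]
  exact PL' (Cz c) (ah_solvable_Cz h.ah hc h1) (H₁ := s.L ⊓ Cz c) (H₂ := t.L ⊓ Cz c)
    inf_le_right inf_le_right (inf_le_left.trans Sec.normX) (inf_le_left.trans Sec.normX)
    ⟨hd, hdc⟩ ⟨he, hec⟩ (fun e => hd1 (Sec.star_of_mem e)) od oe
    (by rw [pow_orderOf_eq_one]; exact one_mem _) (by rw [pow_orderOf_eq_one]; exact one_mem _)
    (inv (h.le1 ha) hd ia) (inv (h.le2 hw) he iw) (key h.E_le_X h.le2 hU hd hw hw')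
    (key h.symm.E_le_X h.le1 hA he ha ha')

theorem card_cV_le (b : s.K) : Nat.card (cV s.V b) ≤
    Nat.card (t.imgK s.U) * Nat.card ((s.img (s.U ⊓ t.X)).map (cm s.V b)) := by
  have h1 := card_cV_mul_fx (V := s.V) b
  have h2 := card_map_cm_mul b (s.img (s.U ⊓ t.X))
  have h3 := Sec.card_img (s := s) s.le le_rfl
  have h4 := Sec.card_img (s := s) (le_inf s.le h.E_le_X) inf_le_left
  have h5 := Sec.card_imgK (s := t) h.le2
  have h6 := Trans.card_le_of_le (inf_le_right : s.img (s.U ⊓ t.X) ⊓ fx s.V b ≤ _)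
  rw [Sec.img_U, card_top, h5, h4, h.gs.cardE, ← h2, ← h1] at h3
  have h7 : 0 < Nat.card (fx s.V b) := Nat.card_pos
  refine Nat.le_of_mul_le_mul_right ?_ h7
  nlinarith [Nat.mul_le_mul_left (Nat.card (t.imgK s.U) *
    Nat.card ((s.img (s.U ⊓ t.X)).map (cm s.V b))) h6]

omit h in
theorem card_img_le (s : Sec G) (A : Subgroup G) : Nat.card (s.img A) ≤ Nat.card A := by
  have h1 : s.img A = s.img (A ⊓ s.U) := by unfold Sec.img; rw [inf_subgroupOf_right]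
  rw [h1]
  refine le_trans ?_ (Trans.card_le_of_le (inf_le_left : A ⊓ s.U ≤ A))
  rw [Sec.card_img' (s := s) inf_le_right]
  exact Nat.le_mul_of_pos_left _ Nat.card_pos

theorem card_map_le_four {a : G} (ha : a ∈ t.U) :
    Nat.card ((s.img (s.U ⊓ t.X)).map (cm s.V (s.star a))) ≤ 4 := by
  refine (Trans.card_le_of_le ?_).trans ((card_img_le s t.E).trans h.gt.cardE.le)
  rintro _ ⟨v, hv, rfl⟩
  obtain ⟨u, h1, h2, rfl⟩ := Sec.mem_img.1 hv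
  rw [Sec.cm_star (h.le1 ha) h2]
  exact Sec.bar_mem_img (h.mem_tE ha h1.2) (h.mem_s ha h2)

theorem card_map_le_two {l : Subgroup G} (hl : l ∈ Μ) {a : G} (ha : a ∈ l) :
    Nat.card ((s.img (s.U ⊓ t.X)).map (cm s.V (s.star a))) ≤ 2 := by
  have haU := h.gt.le l hl ha
  have key : ∀ u ∈ s.U, u ∈ centralizer (l : Set G) → cm s.V (s.star a) (s.bar u) = 1 :=
    fun u hu e => by
      rw [Sec.cm_star (h.le1 haU) hu, commutatorElement_eq_one_iff_mul_comm.2 (e a ha),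
        Sec.bar_one]
  by_cases h0 : ∃ u ∈ s.U ⊓ t.X, u ∉ centralizer (l : Set G)
  · obtain ⟨u, h1, h2⟩ := h0
    refine (Trans.card_le_of_le ?_).trans
      (card_zpowers_le_of_expo Sec.V_sq (cm s.V (s.star a) (s.bar u)))
    rintro _ ⟨v, hv, rfl⟩
    obtain ⟨u', h3, h4, rfl⟩ := Sec.mem_img.1 hv
    by_cases h5 : u' ∈ centralizer (l : Set G)
    · rw [key u' h4 h5]; exact one_mem _
    · have := key _ (mul_mem h4 h1.1) (h.gt.idx l hl _ h3.2 _ h1.2 h5 h2)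
      rw [Sec.bar_mul h4 h1.1, map_mul] at this
      rw [eq_inv_of_mul_eq_one_left this]; exact inv_mem (mem_zpowers _)
  · push Not at h0
    refine (Trans.card_le_of_le (show _ ≤ ⊥ from ?_)).trans (by rw [card_bot]; omega)
    rintro _ ⟨v, hv, rfl⟩
    obtain ⟨u', h3, h4, rfl⟩ := Sec.mem_img.1 hv
    exact key u' h4 (h0 u' h3)

variable {k : ℕ} {a d : Fin k → s.K} (hf : Frame (s.imgK t.U) a d)
include hf

theorem exists_line (i : Fin k) : ∃ l ∈ Μ, ∃ x ∈ l,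
    s.star x * d i * (s.star x)⁻¹ = (d i)⁻¹ ∧
      4 ≤ Nat.card ((cV s.V (d i)).map (cm s.V (s.star x))) := by
  obtain ⟨l, h1, x, h2, h3⟩ := h.gt.exists_line (H := s.preK (centralizer {d i})) fun e => by
    obtain ⟨y, y1, y2, y3⟩ := Sec.mem_imgK.1 (hf.mem i)
    exact hf.not_comm i (y3 ▸ mem_centralizer_singleton_iff.1 (Sec.mem_preK.1 (e y1)).2)
  have h4 := h.gt.le l h1 h2
  have h5 := Sec.star_mem_imgK h4 (h.le1 h4)
  have h6 := (hf.comm_or_inverts h5 i).resolve_left fun e =>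
    h3 (Sec.mem_preK.2 ⟨h.le1 h4, mem_centralizer_singleton_iff.2 e⟩)
  exact ⟨l, h1, x, h2, h6, by rw [hf.rm3_map_eq h.gs.red (h.quad d) h5 h6]; exact h.gs.four_le hf i⟩

theorem exists_notX (i : Fin k) : ∃ w ∈ s.U, s.bar w ∈ cV s.V (d i) ∧ w ∉ t.X := by
  by_contra hn
  push Not at hn
  obtain ⟨l, h1, x, h2, -, h3⟩ := h.exists_line hf i
  have := (h3.trans (Trans.card_le_of_le (map_mono fun v hv => by
    obtain ⟨w, hw, rfl⟩ := Sec.exists_bar v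
    exact Sec.bar_mem_img ⟨hw, hn w hw hv⟩ hw))).trans (h.card_map_le_two h1 h2)
  omega

theorem exists_big : ∃ x ∈ t.U, 4 ^ k ≤ ∏ i, Nat.card ((cV s.V (d i)).map (cm s.V (a i))) ∧
    ∏ i, Nat.card ((cV s.V (d i)).map (cm s.V (a i))) ≤ Nat.card (cV s.V (s.star x)) := by
  obtain ⟨b, hb, -, h1, -⟩ := hf.rm3_exists h.gs.red (h.quad d)
  obtain ⟨x, h2, -, rfl⟩ := Sec.mem_imgK.1 hb
  refine ⟨x, h2, ?_, h1⟩
  have := Finset.pow_card_le_prod Finset.univ _ 4 fun i _ => h.gs.four_le hf i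
  simpa using this

theorem prod_le : 4 ^ k ≤ ∏ i, Nat.card ((cV s.V (d i)).map (cm s.V (a i))) ∧
    ∏ i, Nat.card ((cV s.V (d i)).map (cm s.V (a i))) ≤ Nat.card (t.imgK s.U) * 4 :=
  let ⟨_, h1, h2, h3⟩ := h.exists_big hf
  ⟨h2, h3.trans ((h.card_cV_le _).trans (Nat.mul_le_mul_left _ (h.card_map_le_four h1)))⟩

theorem two_le (i : Fin k) : 2 ≤ Nat.card (t.imgK s.U) := by
  obtain ⟨l, h1, x, h2, -, h3⟩ := h.exists_line hf i
  have := (h3.trans (Trans.card_le_of_le (map_cm_le_cV _ _))).trans ((h.card_cV_le _).trans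
    (Nat.mul_le_mul_left _ (h.card_map_le_two h1 h2)))
  omega

theorem lift (i : Fin k) : ∃ x ∈ s.L, Odd (orderOf x) ∧ s.star x = d i :=
  Sec.exists_star_odd (hf.odd i)

end Pair

namespace Pair

variable {s t : Sec G} {Λ Μ : Set (Subgroup G)} (h : Pair s t Λ Μ)
include h

theorem zero_false (h1 : Nat.card (s.imgK t.U) = 1) (h2 : Nat.card (t.imgK s.U) = 1) : False := by
  have key : ∀ {s t : Sec G}, t.U ≤ s.L → Nat.card (s.imgK t.U) = 1 → t.U ≤ s.X :=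
    fun e1 e2 a ha => (Sec.star_eq_one (e1 ha)).1
      (mem_bot.1 (card_eq_one.1 e2 ▸ Sec.star_mem_imgK ha (e1 ha)))
  obtain ⟨a, ha, h3⟩ := SetLike.not_le_iff_exists.1 h.nc
  obtain ⟨l, hl, h4⟩ := h.gs.exists_line' h3
  refine h.ne (Subgroup.eq_of_le_of_card_ge (fun e he => ?_) (by rw [h.gs.cardE, h.gt.cardE]))
  obtain ⟨y, hy, rfl⟩ := h.gs.onto hl (key h.le1 h1 ha) h4 he
  exact h.mem_tE ha (key h.le2 h2 (h.gs.le l hl hy))

theorem one_false {a d : Fin 1 → s.K} (hf : Frame (s.imgK t.U) a d) {b e : Fin 1 → t.K}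
    (hf' : Frame (t.imgK s.U) b e) : False := by
  obtain ⟨l, l1, x, l2, -, l3⟩ := h.exists_line hf 0
  obtain ⟨u, u1, u2⟩ : ∃ u ∈ s.U ⊓ t.X, u ∉ centralizer (l : Set G) := by
    by_contra hn
    push Not at hn
    have h1 : (s.img (s.U ⊓ t.X)).map (cm s.V (s.star x)) = ⊥ := eq_bot_iff.2 (by
      rintro _ ⟨v, hv, rfl⟩
      obtain ⟨u, h3, h4, rfl⟩ := Sec.mem_img.1 hv
      rw [mem_bot, Sec.cm_star (h.le1 (h.gt.le l l1 l2)) h4,
        commutatorElement_eq_one_iff_mul_comm.2 (hn u h3 x l2), Sec.bar_one])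
    have := (l3.trans (Trans.card_le_of_le (map_cm_le_cV _ _))).trans (h.card_cV_le _)
    rw [h1, card_bot, hf'.card] at this
    omega
  obtain ⟨y, y1, y2⟩ : ∃ y ∈ l ⊓ s.X, y ∉ t.E := SetLike.not_le_iff_exists.1 fun e1 => by
    have a1 := Trans.card_le_of_le e1
    have a2 := Sec.card_imgK (s := s) ((h.gt.le l l1).trans h.le1)
    have a3 : Nat.card (s.imgK l) ≤ Nat.card (s.imgK t.U) :=
      Trans.card_le_of_le (map_mono (comap_mono (h.gt.le l l1)))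
    rw [h.gt.cardE] at a1
    rw [h.gt.card l l1] at a2
    rw [hf.card] at a3
    nlinarith
  have yU := h.gt.le l l1 y1.1
  have c1 : ⁅u, y⁆ ∈ t.E := u1.2.2 y yU
  have c2 : ⁅u, y⁆ ∈ s.E := h.symm.mem_tE u1.1 y1.2
  obtain ⟨w, w1, w2, w3⟩ := h.exists_notX hf 0
  obtain ⟨w', w1', w2', w3'⟩ := h.symm.exists_notX hf' 0
  obtain ⟨d', d1, d2, d3⟩ := h.lift hf 0
  obtain ⟨e', e1, e2, e3⟩ := h.symm.lift hf' 0
  have i1 := (hf'.elems_one (Sec.star_mem_imgK w1 (h.le2 w1))).resolve_left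
    fun e => w3 ((Sec.star_eq_one (h.le2 w1)).1 e)
  have i2 := (hf.elems_one (Sec.star_mem_imgK w1' (h.le1 w1'))).resolve_left
    fun e => w3' ((Sec.star_eq_one (h.le1 w1')).1 e)
  exact y2 (h.gt.act l l1 u u1.2 u2 y y1.1 (h.plk d1 e1 d2 e2 (d3 ▸ hf.d_ne 0) w1 (d3 ▸ w2)
    (by rw [i1, e3]; exact hf'.inv 0) w1' (e3 ▸ w2') (by rw [i2, d3]; exact hf.inv 0)
    (s.sq (s.le c2)) (h.le1.trans (s.cent.trans (le_Cz_of_mem c2)))
    (h.le2.trans (t.cent.trans (le_Cz_of_mem c1))) (le_Cz_of_mem c2 (s.cent d1))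
    (le_Cz_of_mem c1 (t.cent e1))))

theorem E_le {a d : Fin 2 → s.K} (hf : Frame (s.imgK t.U) a d) {b e : Fin 2 → t.K}
    (hf' : Frame (t.imgK s.U) b e) : s.E ≤ t.U := by
  obtain ⟨x, x1, x2, x3⟩ := h.symm.exists_big hf'
  obtain ⟨y, y1, y2⟩ : ∃ y ∈ t.U ⊓ s.X, y ∉ centralizer (s.U : Set G) := by
    by_contra hn
    push Not at hn
    have h1 : (t.img (t.U ⊓ s.X)).map (cm t.V (t.star x)) = ⊥ := eq_bot_iff.2 (by
      rintro _ ⟨v, hv, rfl⟩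
      obtain ⟨u, h3, h4, rfl⟩ := Sec.mem_img.1 hv
      rw [mem_bot, Sec.cm_star (h.le2 x1) h4,
        commutatorElement_eq_one_iff_mul_comm.2 (hn u h3 x x1), Sec.bar_one])
    have := (x2.trans x3).trans (h.symm.card_cV_le _)
    rw [h1, card_bot, hf.card] at this
    omega
  obtain ⟨l, hl, h4⟩ := h.gs.exists_line' y2
  intro c hc
  obtain ⟨u, hu, rfl⟩ := h.gs.onto hl y1.2 h4 hc
  exact h.mem_t y1.1 (h.gs.le l hl hu)

theorem card_D {a d : Fin 2 → s.K} (hf : Frame (s.imgK t.U) a d) {b e : Fin 2 → t.K}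
    (hf' : Frame (t.imgK s.U) b e) (i : Fin 2) {x : G} (hx : x ∈ s.L) (ho : Odd (orderOf x))
    (e1 : s.star x = d i) : 64 ≤ Nat.card (t.U ⊓ s.U : Subgroup G) ∧
      Nat.card (t.U ⊓ s.U : Subgroup G) ≤ 4 * Nat.card (t.U ⊓ s.U ⊓ Cz x : Subgroup G) := by
  have hE := h.E_le hf hf'
  obtain ⟨p1, p2⟩ := h.prod_le hf
  have c1 := Sec.card_img (s := s) (le_inf hE s.le) inf_le_right
  have c2 := Sec.card_img (s := s) (A := t.U ⊓ s.U ⊓ Cz x) (le_inf (le_inf hE s.le)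
    fun c hc => Cz_symm (le_Cz_of_mem hc (s.cent hx))) (inf_le_left.trans inf_le_right)
  rw [h.gs.cardE] at c1 c2
  have c3 := hf.rm3_prod_le h.gs.red (h.quad d) Finset.univ (D := s.img (t.U ⊓ s.U)) fun j _ => by
    rintro _ ⟨v, -, rfl⟩
    obtain ⟨u, hu, rfl⟩ := Sec.exists_bar v
    obtain ⟨y, y1, y2, y3⟩ := Sec.mem_imgK.1 (hf.mem j)
    rw [← y3, Sec.cm_star y2 hu]
    exact Sec.bar_mem_img ⟨h.mem_t y1 hu, h.mem_s y1 hu⟩ (h.mem_s y1 hu)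
  have c4 := rm2_card_le Sec.V_sq (hf.a_sq i) (hf.odd i) (hf.inv i) (D := s.img (t.U ⊓ s.U))
    fun v hv => by
      obtain ⟨u, u1, u2, rfl⟩ := Sec.mem_img.1 hv
      obtain ⟨y, y1, y2, y3⟩ := Sec.mem_imgK.1 (hf.mem i)
      rw [← y3, Sec.bar_mem_fx y2 u2, commutatorElement_eq_one_iff_mul_comm.2 (t.comm y1 u1.1)]
      exact one_mem _
  have c5 : Nat.card ↥(s.img (t.U ⊓ s.U) ⊓ fx s.V (d i)) ≤ Nat.card (s.img (t.U ⊓ s.U ⊓ Cz x)) :=
    Trans.card_le_of_le fun v hv => by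
      obtain ⟨u, u1, u2, rfl⟩ := Sec.mem_img.1 hv.1
      exact Sec.bar_mem_img ⟨u1, Cz_symm (Sec.mem_Cz_of_fix hx ho u2 (e1 ▸ hv.2))⟩ u2
  have c6 : Nat.card ((cV s.V (d i)).map (cm s.V (a i))) ≤ 4 := by
    have q0 := h.gs.four_le hf 0
    have q1 := h.gs.four_le hf 1
    rw [Fin.prod_univ_two, hf'.card] at p2
    fin_cases i
    · simp only [Fin.zero_eta]; nlinarith
    · simp only [Fin.mk_one]; nlinarith
  refine ⟨by omega, ?_⟩
  have := c4.trans (Nat.mul_le_mul c6 c5)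
  omega

theorem two_false {a d : Fin 2 → s.K} (hf : Frame (s.imgK t.U) a d) {b e : Fin 2 → t.K}
    (hf' : Frame (t.imgK s.U) b e) : False := by
  have app : ∃ i j, (∃ w ∈ s.U, s.bar w ∈ cV s.V (d i) ∧ t.star w * e j * (t.star w)⁻¹ = (e j)⁻¹) ∧
      ∃ x ∈ t.U, t.bar x ∈ cV t.V (e j) ∧ s.star x * d i * (s.star x)⁻¹ = (d i)⁻¹ := by
    by_contra hn
    have key : ∀ i, ∃ j, (∀ x ∈ t.U, t.bar x ∈ cV t.V (e j) → s.star x * d i = d i * s.star x) ∧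
        t.img s.E ≤ cV t.V (e j) ∧ 4 ≤ Nat.card (t.img s.E) := by
      intro i
      obtain ⟨w, w1, w2, w3⟩ := h.exists_notX hf i
      have w4 := Sec.star_mem_imgK w1 (h.le2 w1)
      obtain ⟨j, hj⟩ : ∃ j, t.star w * e j * (t.star w)⁻¹ = (e j)⁻¹ := by
        by_contra h1
        push Not at h1
        exact w3 ((Sec.star_eq_one (h.le2 w1)).1 (hf'.faith _ w4 fun j =>
          (hf'.comm_or_inverts w4 j).resolve_right (h1 j)))
      have h1 : ∀ x ∈ t.U, t.bar x ∈ cV t.V (e j) → s.star x * d i = d i * s.star x :=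
        fun x x1 x2 => (hf.comm_or_inverts (Sec.star_mem_imgK x1 (h.le1 x1)) i).resolve_right
          fun x3 => hn ⟨i, j, ⟨w, w1, w2, hj⟩, x, x1, x2, x3⟩
      have h2 : (cV t.V (e j)).map (cm t.V (t.star w)) ≤ t.img s.E := by
        rintro _ ⟨v, hv, rfl⟩
        obtain ⟨x, x1, rfl⟩ := Sec.exists_bar v
        rw [Sec.cm_star (h.le2 w1) x1]
        refine Sec.bar_mem_img ?_ (h.symm.mem_s w1 x1)
        rw [← commutatorElement_inv]
        exact inv_mem ((Sec.bar_mem_fx (h.le1 x1) w1).1 (hf.rm3_fx_of_comm h.gs.red (h.quad d)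
          (Sec.star_mem_imgK x1 (h.le1 x1)) (h1 x x1 hv) w2))
      have h3 := h.gt.four_le hf' j
      rw [← hf'.rm3_map_eq h.gt.red (h.symm.quad e) w4 hj] at h3
      have h4 := eq_of_le_of_card_le h2 (((card_img_le t s.E).trans h.gs.cardE.le).trans h3)
      exact ⟨j, h1, h4 ▸ (inv_cV_of_inverts hj).map_le, h4 ▸ h3⟩
    obtain ⟨j, j1, j2, j3⟩ := key 0
    obtain ⟨j', j1', j2', -⟩ := key 1
    by_cases hj : j = j'
    · subst hj
      obtain ⟨x, x1, x2, x3⟩ := h.symm.exists_notX hf' j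
      refine x3 ((Sec.star_eq_one (h.le1 x1)).1 (hf.faith _ (Sec.star_mem_imgK x1 (h.le1 x1))
        fun i => ?_))
      fin_cases i
      · exact j1 x x1 x2
      · exact j1' x x1 x2
    · have : t.img s.E = ⊥ := eq_bot_iff.2 fun v hv => eq_one_of_mem_cV_fx Sec.V_sq (hf'.odd j')
        (j2' hv) (hf'.rm3_fx_d h.gt.red (h.symm.quad e) hj (j2 hv))
      rw [this, card_bot] at j3
      omega
  obtain ⟨i, j, ⟨w, w1, w2, w3⟩, x, x1, x2, x3⟩ := app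
  obtain ⟨d', d1, d2, d3⟩ := h.lift hf i
  obtain ⟨e', e1, e2, e3⟩ := h.symm.lift hf' j
  obtain ⟨c1, c2⟩ := h.card_D hf hf' i d1 d2 d3
  obtain ⟨-, c3⟩ := h.symm.card_D hf' hf j e1 e2 e3
  rw [inf_comm s.U] at c3
  have c4 : (t.U ⊓ s.U ⊓ Cz d') ⊓ (t.U ⊓ s.U ⊓ Cz e') = ⊥ := eq_bot_iff.2 fun c hc =>
    h.plk d1 e1 d2 e2 (d3 ▸ hf.d_ne i) w1 (d3 ▸ w2) (e3 ▸ w3) x1 (e3 ▸ x2) (d3 ▸ x3)
      (s.sq hc.1.1.2) (fun _ hy => mem_Cz.2 (t.comm hy hc.1.1.1))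
      (fun _ hy => mem_Cz.2 (s.comm hy hc.1.1.2)) (Cz_symm hc.1.2) (Cz_symm hc.2.2)
  have c5 := CD.card_sup_mul_card_inf_of_le_centralizer (H := t.U ⊓ s.U ⊓ Cz d')
    (K := t.U ⊓ s.U ⊓ Cz e') fun y hy z hz => s.comm hz.1.2 hy.1.2
  have c6 := Trans.card_le_of_le (sup_le inf_le_left inf_le_left :
    (t.U ⊓ s.U ⊓ Cz d') ⊔ (t.U ⊓ s.U ⊓ Cz e') ≤ t.U ⊓ s.U)
  rw [c4, card_bot, mul_one] at c5
  rw [c5] at c6
  nlinarith [Nat.mul_le_mul c2 c3]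

theorem false : False := by
  obtain ⟨k, a, d, hf⟩ := h.gs.red.exists_frame' h.sqB
  obtain ⟨k', b, e, hf'⟩ := h.gt.red.exists_frame' h.symm.sqB
  have p1 := (h.prod_le hf).1.trans (h.prod_le hf).2
  have p2 := (h.symm.prod_le hf').1.trans (h.symm.prod_le hf').2
  rw [hf'.card, show 4 = 2 ^ 2 from rfl, ← pow_mul, ← pow_add,
    Nat.pow_le_pow_iff_right one_lt_two] at p1
  rw [hf.card, show 4 = 2 ^ 2 from rfl, ← pow_mul, ← pow_add,
    Nat.pow_le_pow_iff_right one_lt_two] at p2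
  have q1 : k ≠ 0 → k' ≠ 0 := fun h1 h2 => by
    have := h.two_le hf ⟨0, Nat.pos_of_ne_zero h1⟩
    rw [hf'.card, h2] at this
    omega
  have q2 : k' ≠ 0 → k ≠ 0 := fun h1 h2 => by
    have := h.symm.two_le hf' ⟨0, Nat.pos_of_ne_zero h1⟩
    rw [hf.card, h2] at this
    omega
  have : (k = 0 ∧ k' = 0) ∨ (k = 1 ∧ k' = 1) ∨ (k = 2 ∧ k' = 2) := by omega
  rcases this with ⟨rfl, rfl⟩ | ⟨rfl, rfl⟩ | ⟨rfl, rfl⟩
  · exact h.zero_false hf.card hf'.card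
  · exact h.one_false hf hf'
  · exact h.two_false hf hf'

end Pair

end Cfsg.Lib.Ngrp.Kc
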