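import Cfsg.Agent.Ngrp.NatK2

/-! The last configuration of case (C) does not occur. -/

set_option autoImplicit false

namespace Cfsg.Lib.Ngrp.Kc
open Subgroup Cfsg.Lib.Trans Cfsg.Lib.Local Cfsg.Lib.Local.JC Cfsg.Lib.Trans.TJ Cfsg.Lib.Ngrp.Geo
open Cfsg.Lib.Local.MSS (ncl)
open scoped commutatorElement Pointwise

variable {G : Type*} [Group G]

/-- A flag: a four-group `E` on a line `Y` of order 16. -/
structure KF (E Y : Subgroup G) : Prop where
  ah : AH G
  ea : IsElementaryAbelian 2 Y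
  cardY : Nat.card Y = 16
  cardE : Nat.card E = 4
  le : E ≤ Y
  comm : ∀ x ∈ normalizer (Y : Set G), x ∈ centralizer (E : Set G) → ∀ y ∈ Y, ⁅x, y⁆ ∈ E
  act : ∀ x ∈ normalizer (Y : Set G), x ∈ centralizer (E : Set G) →
    x ∉ centralizer (Y : Set G) → ∀ y ∈ Y, ⁅x, y⁆ = 1 → y ∈ E
  idx : ∀ x ∈ normalizer (Y : Set G), x ∈ centralizer (E : Set G) →
    ∀ x' ∈ normalizer (Y : Set G), x' ∈ centralizer (E : Set G) →
    x ∉ centralizer (Y : Set G) → x' ∉ centralizer (Y : Set G) → x * x' ∈ centralizer (Y : Set G)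
  syl : ∃ T : Subgroup G, IsSylowIn 2 T (centralizer (E : Set G)) ∧
    normalizer (T : Set G) ≤ normalizer (Y : Set G) ∧ ∀ p : G, p * p = 1 → T ≤ Cz p → p ∈ E

theorem exists_eq_conj (g x : G) : ∃ y, x = g * y * g⁻¹ := ⟨g⁻¹ * x * g, by group⟩

theorem cj_ncl_eq (g : G) (X L : Subgroup G) : cj g (ncl X L) = ncl (cj g X) (cj g L) := by
  rw [MSS.ncl_eq, MSS.ncl_eq, cj_sup, cj_commutator]

theorem commutator_ncl_le {D Y L E : Subgroup G} (hD : L ≤ normalizer (D : Set G))
    (hE : L ≤ normalizer (E : Set G)) (hY : Y ≤ L) (h : ⁅D, Y⁆ ≤ E) : ⁅D, ncl Y L⁆ ≤ E :=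
  commutator_iSup_le (fun l => (cj_le_iff.2 fun _ hy =>
    mul_mem (mul_mem l.2 (hY hy)) (inv_mem l.2)).trans hE) fun l => by
      rw [← cj_eq_self_iff.2 (hD l.2), ← cj_eq_self_iff.2 (hE l.2), ← cj_commutator]
      exact cj_mono _ h

namespace KF

variable {E Y : Subgroup G} (h : KF E Y)
include h

theorem conj (g : G) : KF (cj g E) (cj g Y) where
  ah := h.ah
  ea := ea_cj' h.ea g
  cardY := by rw [card_cj, h.cardY]
  cardE := by rw [card_cj, h.cardE]
  le := cj_mono g h.le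
  comm := fun x h1 h2 y h3 => by
    obtain ⟨x, rfl⟩ := exists_eq_conj g x
    obtain ⟨y, rfl⟩ := exists_eq_conj g y
    rw [← cj_normalizer, conj_mem_cj] at h1
    rw [← cj_centralizer, conj_mem_cj] at h2
    rw [← conjugate_commutatorElement, conj_mem_cj]
    exact h.comm x h1 h2 y (conj_mem_cj.1 h3)
  act := fun x h1 h2 h3 y h4 h5 => by
    obtain ⟨x, rfl⟩ := exists_eq_conj g x
    obtain ⟨y, rfl⟩ := exists_eq_conj g y
    rw [← cj_normalizer, conj_mem_cj] at h1
    rw [← cj_centralizer, conj_mem_cj] at h2 h3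
    rw [← conjugate_commutatorElement] at h5
    exact conj_mem_cj.2 (h.act x h1 h2 h3 y (conj_mem_cj.1 h4)
      (by_contra fun e => conj_ne_one e h5))
  idx := fun x h1 h2 y h3 h4 h5 h6 => by
    obtain ⟨x, rfl⟩ := exists_eq_conj g x
    obtain ⟨y, rfl⟩ := exists_eq_conj g y
    rw [← cj_normalizer, conj_mem_cj] at h1 h3
    rw [← cj_centralizer, conj_mem_cj] at h2 h4 h5 h6
    rw [conj_mul, ← cj_centralizer, conj_mem_cj]
    exact h.idx x h1 h2 y h3 h4 h5 h6
  syl := by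
    obtain ⟨T, h1, h2, h3⟩ := h.syl
    refine ⟨cj g T, cj_centralizer g E ▸ h1.cj g, ?_, fun p h4 h5 => ?_⟩
    · rw [← cj_normalizer, ← cj_normalizer]; exact cj_mono g h2
    · obtain ⟨p, rfl⟩ := exists_eq_conj g p
      rw [← cj_Cz, cj_le_cj] at h5
      rw [conj_mul] at h4
      exact conj_mem_cj.2 (h3 p (by_contra fun e => conj_ne_one e h4) h5)

theorem conj_of_mem {c : G} (hc : c ∈ centralizer (E : Set G)) : KF E (cj c Y) := by
  have := h.conj c
  rwa [cj_eq_self_iff.2 (centralizer_le_normalizer _ hc)] at this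

theorem eaE : IsElementaryAbelian 2 E := ea_mono h.ea h.le

theorem E_ne : E ≠ ⊥ := fun e => by have := h.cardE; rw [e, card_bot] at this; omega

theorem Y_le : Y ≤ centralizer (E : Set G) := ea_le_centralizer_of_le h.ea le_rfl h.le

theorem U_le : ncl Y (centralizer (E : Set G)) ≤ centralizer (E : Set G) := MSS.ncl_le_of_le h.Y_le

variable [Finite G]

theorem charP : CharP 2 (centralizer (E : Set G)) :=
  (ah_charP_normalizer h.ah (isPGroup_of_ea h.eaE) h.E_ne).of_normal (centralizer_le_normalizer _)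
    (normalizer_le_normalizer_centralizer _)

theorem core_le : pCoreOf 2 (centralizer (E : Set G)) ≤ normalizer (Y : Set G) :=
  let ⟨_, h1, h2, _⟩ := h.syl
  (pCoreOf_le_sylowIn h1).trans (le_normalizer.trans h2)

theorem U_le_core : ncl Y (centralizer (E : Set G)) ≤ pCoreOf 2 (centralizer (E : Set G)) :=
  le_pCoreOf h.U_le (MSS.le_normalizer_ncl _ _) (h.charP.isPGroup_of_commutator_le h.U_le
    (commutator_ncl_le (le_normalizer_pCoreOf _) (centralizer_le_normalizer _) h.Y_le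
      (commutator_le.2 fun x hx => h.comm x (h.core_le hx) (pCoreOf_le _ hx))) h.U_le)

theorem le_cent {B x : _} (hB : IsElementaryAbelian 2 B) (h1 : B ≤ normalizer (Y : Set G))
    (h2 : B ≤ centralizer (E : Set G)) (hx : x ∈ B) (hx' : x ∉ centralizer (Y : Set G)) :
    2 * Nat.card B ≤ Nat.card ((B ⊓ centralizer (Y : Set G)) ⊔ Y : Subgroup G) := by
  have a1 : Half (B ⊓ centralizer (Y : Set G)) B := ⟨inf_le_left, fun a ha b hb h3 h4 =>
    ⟨mul_mem ha hb, h.idx a (h1 ha) (h2 ha) b (h1 hb) (h2 hb) (fun e => h3 ⟨ha, e⟩)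
      fun e => h4 ⟨hb, e⟩⟩⟩
  have a2 := a1.card_le hB
  have a3 := CD.card_sup_mul_card_inf_of_le_centralizer (H := B ⊓ centralizer (Y : Set G))
    (K := Y) inf_le_right
  have a4 : Nat.card (B ⊓ centralizer (Y : Set G) ⊓ Y : Subgroup G) ≤ Nat.card E :=
    Trans.card_le_of_le fun y hy => h.act x (h1 hx) (h2 hx) hx' y hy.2
      (commutatorElement_eq_one_iff_mul_comm.2 (ea_comm' hB hx hy.1.1))
  rw [h.cardE] at a4
  rw [h.cardY] at a3
  nlinarith

theorem le_cent_of {Y' : Subgroup G} (h' : KF E Y') (h1 : Y' ≤ normalizer (Y : Set G))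
    (h2 : Y ≤ normalizer (Y' : Set G)) : Y' ≤ centralizer (Y : Set G) := by
  by_contra hn
  obtain ⟨x, hx, hx'⟩ := SetLike.not_le_iff_exists.1 hn
  have a1 : Half (Y ⊓ centralizer (Y' : Set G)) Y := ⟨inf_le_left, fun a ha b hb h3 h4 =>
    ⟨mul_mem ha hb, h'.idx a (h2 ha) (h.Y_le ha) b (h2 hb) (h.Y_le hb) (fun e => h3 ⟨ha, e⟩)
      fun e => h4 ⟨hb, e⟩⟩⟩
  have a2 := a1.card_le h.ea
  have a4 : Nat.card (Y ⊓ centralizer (Y' : Set G) : Subgroup G) ≤ Nat.card E :=
    Trans.card_le_of_le fun y hy => h.act x (h1 hx) (h'.Y_le hx) hx' y hy.1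
      (commutatorElement_eq_one_iff_mul_comm.2 (hy.2 x hx))
  rw [h.cardE] at a4
  rw [h.cardY] at a2
  omega

theorem eaU : IsElementaryAbelian 2 (ncl Y (centralizer (E : Set G))) :=
  ea_iSup (fun l => ea_cj' h.ea l) fun l l' => (h.conj_of_mem l'.2).le_cent_of (h.conj_of_mem l.2)
    ((MSS.cj_le_ncl Y l.2).trans (h.U_le_core.trans (h.conj_of_mem l'.2).core_le))
    ((MSS.cj_le_ncl Y l'.2).trans (h.U_le_core.trans (h.conj_of_mem l.2).core_le))

theorem normU : normalizer (E : Set G) ≤ normalizer (ncl Y (centralizer (E : Set G)) : Set G) := by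
  intro g hg
  obtain ⟨T, h1, h2, -⟩ := h.syl
  obtain ⟨k, hk, n, hn, rfl⟩ := h1.frattini (normalizer_le_normalizer_centralizer _ hg)
  refine mul_mem (MSS.le_normalizer_ncl _ _ hk) (MSS.normalizer_inf_le_normalizer_ncl
    (A := zpowers n) (zpowers_le.2 (h2 hn)) (zpowers_le.2 ?_) (mem_zpowers n))
  exact normalizer_le_normalizer_centralizer _
    ((mul_mem_cancel_left (centralizer_le_normalizer _ hk)).1 hg)

/-- The section belonging to the point `E`. -/
def sec : Sec G where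
  E := E
  U := ncl Y (centralizer (E : Set G))
  L := centralizer (E : Set G)
  ea := h.eaU
  le := h.le.trans (MSS.le_ncl _ _)
  cent := le_rfl
  norm := MSS.le_normalizer_ncl _ _
  UL := h.U_le

theorem red : Red h.sec.K h.sec.V where
  expo := Sec.V_sq
  faith := fun _ => Sec.K_eq_one
  solv := by
    have : Group.IsSolvable h.sec.L :=
      ah_solvable_of_le h.ah (isPGroup_of_ea h.eaE) h.E_ne (centralizer_le_normalizer _)
    exact Group.isSolvable_of_surjective Sec.mkK_surjective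
  core := by
    obtain ⟨T, h1, h2, -⟩ := h.syl
    have a1 : IsSylowIn 2 (h.sec.imgK T) ⊤ := by
      have := (IsSylowIn.subgroupOf_top (H := h.sec.L) h1).map h.sec.mkK
      rwa [map_top_of_surjective _ Sec.mkK_surjective] at this
    have a2 : pCore 2 h.sec.K ≤ h.sec.imgK T := MSS.pCoreOf_top (p := 2) (G := h.sec.K) ▸
      pCoreOf_le_sylowIn a1
    have a3 : ⁅h.sec.preK (pCore 2 h.sec.K), h.sec.U⁆ ≤ E :=
      commutator_ncl_le (Sec.normalizer_preK (s := h.sec) inferInstance)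
        (centralizer_le_normalizer _) h.Y_le (commutator_le.2 fun x hx y hy => by
          obtain ⟨t, t1, t2, t3⟩ := Sec.mem_imgK.1 (a2 (Sec.mem_preK.1 hx).2)
          have y1 : y ∈ h.sec.U := MSS.le_ncl _ _ hy
          exact (Sec.bar_mem_fx (Sec.mem_preK.1 hx).1 y1).1 (t3 ▸ (Sec.bar_mem_fx t2 y1).2
            (h.comm t (h2 (le_normalizer t1)) t2 y hy)))
    refine eq_bot_iff.2 fun k hk => ?_
    obtain ⟨c, hc, rfl⟩ := Sec.exists_star k
    exact Sec.star_of_mem ⟨hc, fun u hu =>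
      a3 (commutator_mem_commutator (Sec.mem_preK.2 ⟨hc, hk⟩) hu)⟩

theorem X_le {c : G} (hc : c ∈ centralizer (E : Set G)) :
    h.sec.X ≤ normalizer (cj c Y : Set G) := fun x hx =>
  mem_normalizer_of_cj_le (cj_le_iff.2 fun y hy => by
    rw [conj_eq_comm_mul]
    exact mul_mem ((h.conj_of_mem hc).le (hx.2 y (MSS.cj_le_ncl Y hc hy))) hy)

theorem good : Good h.sec {l | ∃ c ∈ centralizer (E : Set G), cj c Y = l} where
  red := h.red
  cardE := h.cardE
  gen := fun _ hH => iSup_le fun c => hH _ ⟨c, c.2, rfl⟩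
  le := by rintro _ ⟨c, hc, rfl⟩; exact MSS.cj_le_ncl Y hc
  El := by rintro _ ⟨c, hc, rfl⟩; exact (h.conj_of_mem hc).le
  card := by rintro _ ⟨c, hc, rfl⟩; exact (h.conj_of_mem hc).cardY
  act := by
    rintro _ ⟨c, hc, rfl⟩ x hx
    exact (h.conj_of_mem hc).act x (h.X_le hc hx) hx.1
  idx := by
    rintro _ ⟨c, hc, rfl⟩ x hx x' hx'
    exact (h.conj_of_mem hc).idx x (h.X_le hc hx) hx.1 x' (h.X_le hc hx') hx'.1
  sep := fun f hf u hu h1 => by
    by_contra hn
    push Not at hn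
    obtain ⟨T, t1, -, t3⟩ := h.syl
    obtain ⟨c, hc, rfl⟩ := Sec.exists_star f
    have hV : IsElementaryAbelian 2 (h.sec.U ⊓ centralizer (h.sec.X : Set G) : Subgroup G) :=
      ea_mono h.eaU inf_le_left
    have := le_centralizer_of_odd (L := h.sec.L) (D := h.sec.preK (fittingSubgroup h.sec.K)) hV
      (fun P p1 p2 p3 => by
        obtain ⟨⟨p, hp⟩, p4⟩ := ne_bot_iff_exists_ne_one.1 (Solv.PG.inf_centralizer_ne_bot
          t1.isPGroup (isPGroup_of_ea (ea_mono hV p1)) (t1.le.trans p3) p2)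
        exact ⟨p, hp.1, fun e => p4 (Subtype.ext e), le_Cz_of_mem (t3 p (ea_sq hV (p1 hp.1))
          fun t ht => mem_Cz.2 (hp.2 t ht))⟩)
      ((le_inf h.sec.norm (Sec.normX.trans (normalizer_le_normalizer_centralizer _))).trans
        inf_normalizer_le_normalizer_inf)
      (fun _ hx => (Sec.mem_preK.1 hx).1) (Sec.normalizer_preK inferInstance)
      (fun d hd => ⟨_, h.red.odd_of_mem (Sec.mem_preK.1 hd).2, fun v hv => (hv.2 _ (by
        exact (Sec.star_eq_one (pow_mem (Sec.mem_preK.1 hd).1 _)).1 (by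
          rw [Sec.star_pow (Sec.mem_preK.1 hd).1, pow_orderOf_eq_one]))).symm⟩)
      (Sec.mem_preK.2 ⟨hc, hf⟩) u
      ⟨hu, fun t ht => commutatorElement_eq_one_iff_mul_comm.1 (hn t ht)⟩
    refine h1 ((Sec.bar_mem_fx hc hu).2 ?_)
    rw [commutatorElement_eq_one_iff_mul_comm.2 this.symm]
    exact one_mem _

theorem false (mx : ∀ D : Subgroup G, IsPGroup 2 D → D ≠ ⊥ →
      normalizer (Y : Set G) ≤ normalizer (D : Set G) →
      normalizer (D : Set G) ≤ normalizer (Y : Set G))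
    (hn : ¬ centralizer (E : Set G) ≤ normalizer (Y : Set G)) : False := by
  classical
  set U := ncl Y (centralizer (E : Set G)) with hU
  set B : Set G := (normalizer (E : Set G) : Set G) * (normalizer (Y : Set G) : Set G) *
    (normalizer (E : Set G) : Set G) with hB
  have b1 : B⁻¹ = B := by simp only [hB, mul_inv_rev, inv_coe_set, mul_assoc]
  have b2 : ∀ {n : ℕ} {g : G}, g ∈ B ^ n → g⁻¹ ∈ B ^ n := fun hg => by
    rw [← b1, inv_pow]; exact Set.inv_mem_inv.2 hg
  have hex : ∃ n : ℕ, ∃ g ∈ B ^ n, ¬ cj g U ≤ centralizer (U : Set G) := by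
    by_contra h0
    push Not at h0
    let H : Subgroup G :=
      { carrier := {g | ∃ n : ℕ, g ∈ B ^ n}
        one_mem' := ⟨0, rfl⟩
        mul_mem' := fun ⟨n, ha⟩ ⟨m, hb⟩ => ⟨n + m, pow_add B n m ▸ Set.mul_mem_mul ha hb⟩
        inv_mem' := fun ⟨n, ha⟩ => ⟨n, b2 ha⟩ }
    have h1 : IsElementaryAbelian 2 (ncl U H) := ea_iSup (fun g => ea_cj' h.eaU g) fun g g' => by
      obtain ⟨n, h2⟩ := mul_mem (inv_mem g'.2) g.2
      have := h0 n _ h2
      rwa [cj_mul, cj_le_iff_le_cj_inv, inv_inv, cj_centralizer] at this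
    have h2 : normalizer (Y : Set G) ≤ H := fun g hg => ⟨1, by
      rw [pow_one]
      exact ⟨_, ⟨1, one_mem _, g, hg, rfl⟩, 1, one_mem _, by simp⟩⟩
    have h3 : centralizer (E : Set G) ≤ H := fun g hg => ⟨1, by
      rw [pow_one]
      exact ⟨_, ⟨1, one_mem _, 1, one_mem _, rfl⟩, g, centralizer_le_normalizer _ hg, by simp⟩⟩
    refine hn (h3.trans ((MSS.le_normalizer_ncl U H).trans (mx _ (isPGroup_of_ea h1) (fun e => ?_)
      (h2.trans (MSS.le_normalizer_ncl U H)))))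
    exact h.E_ne (eq_bot_iff.2 (h.le.trans ((MSS.le_ncl _ _).trans ((MSS.le_ncl U H).trans e.le))))
  obtain ⟨g, g1, g2⟩ := Nat.find_spec hex
  have key : ∀ x ∈ B ^ Nat.find hex, U ≤ centralizer (cj x E : Set G) := fun x hx => by
    rcases e : Nat.find hex with _ | n
    · rw [e, pow_zero, Set.mem_one] at hx
      rw [hx, cj_one]; exact h.U_le
    · rw [e, pow_succ] at hx
      obtain ⟨y, hy, _, ⟨_, ⟨a, ha, m, hm, rfl⟩, b, hb, rfl⟩, rfl⟩ := hx
      have h1 : cj y U ≤ centralizer (U : Set G) := by_contra fun h1 =>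
        Nat.find_min hex (m := n) (by omega) ⟨y, hy, h1⟩
      refine le_centralizer_iff.1 (le_trans ?_ h1)
      simp only [cj_mul]
      rw [cj_eq_self_iff.2 hb]
      exact cj_mono _ ((cj_mono _ ((cj_mono _ h.le).trans ((cj_eq_self_iff.2 hm).le.trans
        (MSS.le_ncl _ _)))).trans (cj_eq_self_iff.2 (h.normU ha)).le)
  have e1 : (h.conj g).sec.U = cj g U := by rw [hU, cj_ncl_eq, cj_centralizer]; rfl
  refine Pair.false ⟨h.ah, h.good, (h.conj g).good, ?_, key g g1, e1 ▸ g2, fun e => g2 ?_⟩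
  · rw [e1, cj_le_iff_le_cj_inv]
    exact (key _ (b2 g1)).trans (cj_centralizer _ _).ge
  · rw [cj_eq_self_iff.2 (h.normU (cj_eq_self_iff.1 e.symm))]
    exact ea_le_centralizer h.eaU

end KF

end Cfsg.Lib.Ngrp.Kc

namespace Cfsg.Lib.Ngrp
open Subgroup Cfsg.Lib.Trans Cfsg.Lib.Local Cfsg.Lib.Local.JC Cfsg.Lib.Trans.TJ Cfsg.Lib.Ngrp.Geo
open scoped commutatorElement

variable {G : Type*} [Group G] [Finite G] {S : Sylow 2 G} {Y E A : Subgroup G} {a b d : G}

theorem CaseK.false (h : CaseK S Y E A a b d) : False := by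
  have ea : IsElementaryAbelian 2 Y := h.eq ▸ MSS.yOf_ea _
  have pr : MSS.PRed 2 Y (normalizer (Y : Set G)) := by
    have := MSS.yOf_pRed (p := 2) (normalizer (Y : Set G))
    rwa [h.eq] at this
  have sy := isSylowIn_of_le S h.le
  set R : Subgroup G := (S : Subgroup G) ⊓ centralizer (Y : Set G) with hR
  have oc : Y = omegaCenterOf R := by
    have := MSS.yOf_eq_omega (ah_charP_normalizer h.ah (isPGroup_of_ea ea) h.ne) sy
    rwa [h.eq] at this
  have YR : Y ≤ R := oc.le.trans (oc_le R)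
  have SN := MSS.le_inf_normalizer_inf_centralizer h.le (le_refl (normalizer (Y : Set G)))
  have up : ∀ D : Subgroup G, IsPGroup 2 D → D ≠ ⊥ →
      normalizer (Y : Set G) ⊓ normalizer (R : Set G) ≤ normalizer (D : Set G) →
      normalizer (D : Set G) ≤ normalizer (Y : Set G) := fun D h1 h2 h3 => by
    have a1 := MSS.le_yOf_of_sylow_le (ah_charP_normalizer h.ah h1 h2) (pr.inf_normalizer sy) ea
      (YR.trans (inf_le_left.trans SN)) (isSylowIn_of_le S (SN.trans h3)) SN h3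
    have a2 := h.max _ ⟨SN.trans h3, core_ne_bot_of_twoLocal (isTwoLocal_normalizer h1 h2)⟩
    rw [Subgroup.eq_of_le_of_card_ge a1 a2]
    exact MSS.self_le_normalizer_yOf _
  have pR : IsPGroup 2 R := S.isPGroup'.to_inf_left
  have nJ := up (J R) (pR.to_le (J_le R)) (J_ne_bot pR fun e => h.ne (eq_bot_iff.2 (e ▸ YR)))
    (inf_le_right.trans (normalizer_le_normalizer_J R))
  obtain ⟨β, hβ⟩ : ∃ β, β = d * b * d⁻¹ := ⟨_, rfl⟩
  have b1 : β * β = 1 := by rw [hβ, conj_mul, ea_sq h.maxA.ea h.hb]; simp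
  have b2 : β ∈ (S : Subgroup G) := hβ ▸ h.mem
  have b3 : ∀ y ∈ Y, ⁅y, β⁆ ∈ E := hβ ▸ h.comm
  have b4 : ∀ y ∈ Y, ⁅y, β⁆ = 1 ↔ y ∈ E := hβ ▸ h.fix
  have b5 : ∀ x ∈ normalizer (Y : Set G), x ∈ centralizer (E : Set G) →
      x ∉ centralizer (Y : Set G) → x * β ∈ centralizer (Y : Set G) :=
    fun x h1 h2 h3 => hβ ▸ (h.cent x h1 h2).resolve_left h3
  have b6 : β ∈ centralizer (E : Set G) := fun y hy =>
    commutatorElement_eq_one_iff_mul_comm.1 ((b4 y (h.EY hy)).2 hy)
  have b7 : ∀ x : G, x * β ∈ centralizer (Y : Set G) → ∀ y ∈ Y, ⁅x, y⁆ = ⁅y, β⁆⁻¹ :=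
    fun x h1 y hy => by
      have h2 := conj_eq_of_mem_centralizer h1 (mem_normalizer_conj' (h.le b2) hy)
      rw [commutatorElement_inv, commutatorElement_def, commutatorElement_def, inv_eq_of_sq b1]
      rw [inv_eq_of_sq b1] at h2
      rw [← h2]
      simp only [mul_inv_rev, inv_eq_of_sq b1, mul_assoc]
      simp only [← mul_assoc β β, b1, one_mul]
  have idx : ∀ x ∈ normalizer (Y : Set G), x ∈ centralizer (E : Set G) →
      ∀ x' ∈ normalizer (Y : Set G), x' ∈ centralizer (E : Set G) → x ∉ centralizer (Y : Set G) →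
      x' ∉ centralizer (Y : Set G) → x * x' ∈ centralizer (Y : Set G) :=
    fun x h1 h2 x' h3 h4 h5 h6 => by
      have := mul_mem (b5 x h1 h2 h5) (mem_normalizer_conj
        (normalizer_le_normalizer_centralizer _ (h.le b2)) (b5 x' h3 h4 h6))
      rwa [show x * β * (β * (x' * β) * β⁻¹) = x * (β * β) * x' by group, b1, mul_one] at this
  have act : ∀ x ∈ normalizer (Y : Set G), x ∈ centralizer (E : Set G) →
      x ∉ centralizer (Y : Set G) → ∀ y ∈ Y, ⁅x, y⁆ = 1 → y ∈ E := fun x h1 h2 h3 y hy e =>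
    (b4 y hy).1 (inv_eq_one.1 ((b7 x (b5 x h1 h2 h3) y hy).symm.trans e))
  set T : Subgroup G := (S : Subgroup G) ⊓ centralizer (E : Set G) with hT
  have RT : R ≤ T := inf_le_inf_left _ (centralizer_le h.EY)
  have pT : IsPGroup 2 T := S.isPGroup'.to_inf_left
  have JT : J T ≤ R := J_le_iff.2 fun B hB x hx => ⟨(hB.le hx).1, by_contra fun hx' => by
    have h1 := hB.le.trans (inf_le_left.trans h.le)
    have h2 := hB.le.trans inf_le_right
    have a1 : Half (B ⊓ centralizer (Y : Set G)) B := ⟨inf_le_left, fun a ha b hb h3 h4 =>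
      ⟨mul_mem ha hb, idx a (h1 ha) (h2 ha) b (h1 hb) (h2 hb) (fun e => h3 ⟨ha, e⟩)
        fun e => h4 ⟨hb, e⟩⟩⟩
    have a2 := a1.card_le hB.ea
    have a3 := CD.card_sup_mul_card_inf_of_le_centralizer (H := B ⊓ centralizer (Y : Set G))
      (K := Y) inf_le_right
    have a4 : Nat.card (B ⊓ centralizer (Y : Set G) ⊓ Y : Subgroup G) ≤ Nat.card E :=
      Trans.card_le_of_le fun y hy => act x (h1 hx) (h2 hx) hx' y hy.2
        (commutatorElement_eq_one_iff_mul_comm.2 (ea_comm' hB.ea hx hy.1.1))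
    have a5 := hB.card_le (sup_le (inf_le_left.trans hB.le) (YR.trans RT))
      (ea_sup (ea_mono hB.ea inf_le_left) ea inf_le_right)
    have a6 : 0 < Nat.card B := Nat.card_pos
    rw [h.cardE] at a4
    rw [h.cardY] at a3
    nlinarith⟩
  have nT : normalizer (T : Set G) ≤ normalizer (Y : Set G) :=
    (normalizer_le_normalizer_J T).trans (by rw [← J_eq_of_le JT RT]; exact nJ)
  have sT : IsSylowIn 2 T (centralizer (E : Set G)) :=
    isSylowIn_of_maximal inf_le_right pT fun Q q1 q2 q3 => by_contra fun q4 => by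
      have q5 := lt_inf_normalizer q1 (lt_of_le_of_ne q2 fun e => q4 e.ge)
      have q6 : Q ⊓ normalizer (T : Set G) ⊓ centralizer (Y : Set G) = R :=
        (MSS.isSylowIn_inf_centralizer sy le_rfl).eq_of_le q1.to_inf_left.to_inf_left
          (le_inf (RT.trans q5.le) inf_le_right) (inf_le_inf_right _ (inf_le_right.trans nT))
      refine q5.not_ge fun x hx => ?_
      by_cases e : x ∈ centralizer (Y : Set G)
      · exact RT (q6.le ⟨hx, e⟩)
      · exact (mul_mem_cancel_right (show β ∈ T from ⟨b2, b6⟩)).1 (RT (q6.le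
          ⟨mul_mem hx (q5.le ⟨b2, b6⟩), b5 x (nT hx.2) (q3 hx.1) e⟩))
  have kf : Kc.KF E Y := ⟨h.ah, ea, h.cardY, h.cardE, h.EY, fun x h1 h2 y hy => by
    by_cases e : x ∈ centralizer (Y : Set G)
    · rw [commutatorElement_eq_one_iff_mul_comm.2 (e y hy).symm]; exact one_mem _
    · rw [b7 x (b5 x h1 h2 e) y hy]; exact inv_mem (b3 y hy), act, idx, T, sT, nT, fun p p1 p2 => by
    have p3 : p ∈ centralizer (T : Set G) := fun t ht => mem_Cz.1 (p2 ht)
    have p4 : p ∈ T := (sT.eq_of_le (isPGroup_sup' pT (isPGroup_zpowers_two p1)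
      (zpowers_le.2 (centralizer_le_normalizer _ p3))) le_sup_left (sup_le sT.le (zpowers_le.2
        (centralizer_le (h.EY.trans (YR.trans RT)) p3)))).le (mem_sup_right (mem_zpowers p))
    have p5 : p ∈ Y := oc.ge (mem_oc.2 ⟨⟨p4.1, centralizer_le (YR.trans RT) p3⟩,
      centralizer_le RT p3, p1⟩)
    exact (b4 p p5).1 (commutatorElement_eq_one_iff_mul_comm.2 (p3 β ⟨b2, b6⟩).symm)⟩
  refine kf.false (fun D h1 h2 h3 => up D h1 h2 (inf_le_left.trans h3)) fun e => ?_
  have h1 : β ∈ centralizer (Y : Set G) := hβ ▸ mem_normalizer_conj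
    (normalizer_le_normalizer_centralizer _ (e h.dE)) (h.maxA.le h.hb).2
  have := Trans.card_le_of_le (show Y ≤ E from fun y hy =>
    (b4 y hy).1 (commutatorElement_eq_one_iff_mul_comm.2 (h1 y hy)))
  rw [h.cardY, h.cardE] at this
  omega

end Cfsg.Lib.Ngrp
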