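import Cfsg.Agent.Ngrp.AmMod4

/-!
# Module lemmas for the short case of the natural geometry
-/

set_option autoImplicit false

namespace Cfsg.Lib.Ngrp
open Subgroup Cfsg.Lib.Local.Tv
open scoped Pointwise

variable {K V : Type*} [Group K] [CommGroup V] [MulDistribMulAction K V]

/-- A 2-group fixes a nontrivial vector of a nontrivial invariant subgroup. -/
theorem exists_fixed_of_invt [Finite V] (hV : ∀ v : V, v * v = 1) {P : Subgroup K}
    (hP : IsPGroup 2 P) {X : Subgroup V} (hX : ∀ g ∈ P, Invt g X) (h1 : X ≠ ⊥) :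
    ∃ t ∈ X, t ≠ 1 ∧ ∀ g ∈ P, g • t = t := by
  let T : SubMulAction P V := { carrier := X, smul_mem' := fun c _ hy => hX c c.2 _ hy }
  obtain ⟨n, hn⟩ := exists_card_eq_two_pow hV X
  have hn0 : n ≠ 0 := by
    rintro rfl
    exact h1 (eq_bot_of_card_le_one hn.le)
  obtain ⟨v, hv, hne⟩ := hP.exists_fixed_point_of_prime_dvd_card_of_fixed_point T
    (by rw [show Nat.card T = Nat.card X from rfl, hn]; exact dvd_pow_self 2 hn0)
    (a := ⟨1, X.one_mem⟩) (fun g => Subtype.ext (smul_one (g : K)))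
  exact ⟨v, v.2, fun e => hne (Subtype.ext e.symm), fun g hg => congrArg Subtype.val (hv ⟨g, hg⟩)⟩

theorem isPGroup_zpowers_of_sq {a : K} (ha : a * a = 1) : IsPGroup 2 (zpowers a) := by
  rintro ⟨_, k, rfl⟩
  refine ⟨1, Subtype.ext ?_⟩
  change (a ^ k) ^ 2 ^ 1 = 1
  rw [pow_one, ← zpow_natCast, ← zpow_mul, mul_comm, zpow_mul, zpow_natCast, pow_two, ha, one_zpow]

/-- Uniqueness of the coprime decomposition: fixed vectors have fixed components. -/
theorem fix_of_dec (hV : ∀ v : V, v * v = 1) {d g : K} (hd : Odd (orderOf d))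
    (hg : g * d * g⁻¹ = d ∨ g * d * g⁻¹ = d⁻¹) {w c : V} (hw : w ∈ cV V d) (hc : c ∈ fx V d)
    (h : g • (w * c) = w * c) : g • w = w ∧ g • c = c := by
  have h1 : g • w * w⁻¹ = c * (g • c)⁻¹ := by
    rw [smul_mul'] at h
    rw [mul_inv_eq_iff_eq_mul, mul_right_comm, eq_mul_inv_iff_mul_eq, h, mul_comm]
  have h2 : g • w * w⁻¹ = 1 := eq_one_of_mem_cV_fx hV hd
    (mul_mem (inv_cV_of_or hg w hw) (inv_mem hw))
    (h1 ▸ mul_mem hc (inv_mem (inv_fx_of_or hg c hc)))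
  exact ⟨mul_inv_eq_one.1 h2, (mul_inv_eq_one.1 (h1.symm.trans h2)).symm⟩

section tvodd

variable [Finite V] (hV : ∀ v : V, v * v = 1) {a d : K} {u : V} (h : IsTv a u)
  (hd : Odd (orderOf d)) (hinv : a * d * a⁻¹ = d⁻¹)
include hV h hd hinv

omit [Finite V] in
theorem tv_cV_le : cV V d ≤ zpowers u ⊔ zpowers (d • u) := by
  have h1 : d * d = d * a * d⁻¹ * a := by
    have : a * d⁻¹ * a⁻¹ = d := by rw [← conj_inv, hinv, inv_inv]
    rw [h.inv_eq] at this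
    rw [mul_assoc d, mul_assoc d, this]
  obtain ⟨k, hk⟩ := exists_eq_sq_pow_of_odd hd
  refine hk ▸ (cV_pow_le _ k).trans ?_
  rw [← hk, h1, sup_comm]
  refine (cV_mul_le _ _).trans (sup_le_sup ?_ (isTv_cV hV h).le)
  exact (isTv_cV hV (h.conj d)).le

theorem tv_smul_centre (hn : cV V d ≠ ⊥) : a • d • u = d • u * u := by
  refine (h.act _).resolve_left fun h1 => hn ?_
  have h2 : cV V d ≤ fx V a := (tv_cV_le hV h hd hinv).trans
    (sup_le (zpowers_le.2 (mem_fx.2 (h.fix hV))) (zpowers_le.2 (mem_fx.2 h1)))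
  have h3 := le_fx_of_inverts h.sq hd hinv (inv_cV_self d) h2
  rw [← cV_inf_fx hV hd, inf_eq_left.2 h3]

theorem tv_fix_or {z : V} (hz : a • z = z) : d • z = z ∨ d • (z * u) = z * u := by
  obtain ⟨w, hw, c, hc, rfl⟩ := exists_dec hV hd z
  have h1 := (fix_of_dec hV hd (Or.inr hinv) hw hc hz).1
  by_cases hn : cV V d = ⊥
  · exact Or.inl (cV_eq_bot_iff.1 hn _)
  have h2 := tv_smul_centre hV h hd hinv hn
  obtain ⟨x, hx, y, hy, rfl⟩ := mem_sup.1 (tv_cV_le hV h hd hinv hw)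
  rw [mem_zpowers_iff_of_expo hV] at hx hy
  have h3 := h.fix hV
  rcases hy with rfl | rfl
  · rcases hx with rfl | rfl
    · left; simpa using mem_fx.1 hc
    · right
      rw [mul_one, mul_right_comm, hV, one_mul]
      exact mem_fx.1 hc
  · exfalso
    have h4 : a • x = x := by rcases hx with rfl | rfl <;> simp [h3]
    rw [smul_mul', h4, h2, mul_right_inj, mul_eq_left] at h1
    exact h.ne h1

end tvodd

variable [Finite K] [Finite V] (hr : Red K V)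
include hr

omit [Finite K] in
theorem Red.card_inf_fx {β f : K} (hβ : β * β = 1) (ho : Odd (orderOf f))
    (hc : Nat.card (cV V f) = 4) (hinv : β * f * β⁻¹ = f⁻¹) :
    Nat.card ↥(cV V f ⊓ fx V β) = 2 := by
  have h1 := rm2_cV_card hr.expo hβ ho hinv
  rw [← rm2_cV_inf_fx hr.expo hβ ho hinv, hc] at h1
  exact (Nat.pow_left_injective two_ne_zero (show _ ^ 2 = 2 ^ 2 from h1.symm))

/-- A 2-group normalising a component fixes the vector fixed by one inverting element. -/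
theorem Red.fix_centre {T : Subgroup K} (hT : IsPGroup 2 T) {β f j : K} (hf : Cmp V f)
    (hβT : β ∈ T) (hβ : β * β = 1) (hinv : β * f * β⁻¹ = f⁻¹) {u : V} (hu : u ∈ cV V f)
    (h1 : u ≠ 1) (hβu : β • u = u) (hj : j ∈ T) (hjf : j * f * j⁻¹ = f ∨ j * f * j⁻¹ = f⁻¹) :
    j • u = u := by
  obtain ⟨t, ht, ht1, h⟩ := exists_fixed_of_invt hr.expo
    (P := T ⊓ MulAction.stabilizer K (cV V f)) (hT.to_le inf_le_left)
    (fun g hg => Invt.of_smul_eq hg.2) hf.ne_bot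
  have h2 : t = u := eq_of_card_le_two (hr.card_inf_fx hβ (hf.odd hr) hf.card hinv).le
    ⟨ht, mem_fx.2 (h β ⟨hβT, (inv_cV_of_inverts hinv).smul_eq⟩)⟩ ⟨hu, mem_fx.2 hβu⟩ ht1 h1
  exact h2 ▸ h j ⟨hj, (inv_cV_of_or hjf).smul_eq⟩

/-- The Fitting subgroup centralises a component inverted by a transvection. -/
theorem Red.comm_of_tv {τ f x : K} {u : V} (h : IsTv τ u) (hf : Cmp V f) (hu : u ∈ cV V f)
    (hx : x ∈ fittingSubgroup K) : x * f = f * x := by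
  refine comm_of_odd_of_or (hr.odd_of_mem hx) ?_
  by_contra hn
  have h1 : x • u ∉ cV V f := fun h1 => hn (hf.sameD_conj_of_mem hr hu h.ne h1)
  have h2 := (hr.tv_comm_of_not_mem (h.conj x) hf h1).1
  have h3 : τ * (x * τ * x⁻¹) ∈ fittingSubgroup K := by
    have := mul_mem ((inferInstance : (fittingSubgroup K).Normal).conj_mem x hx τ) (inv_mem hx)
    rwa [h.inv_eq, mul_assoc, mul_assoc, ← mul_assoc x] at this
  have h4 := Frame.mul_inverts_of_comm (hr.tv_inverts_of_mem h hf hu) h2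
  have h5 := comm_of_odd_of_or (hr.odd_of_mem h3) (Or.inr h4)
  rw [h5, mul_inv_cancel_right] at h4
  exact hf.ne_one (eq_one_of_odd_of_eq_inv (hf.odd hr) h4)

/-- An involution centralising a component centralises its module. -/
theorem Red.le_fx_of_comm {β f : K} (hf : Cmp V f) (hβ : β * β = 1) (hc : β * f = f * β) :
    cV V f ≤ fx V β := by
  obtain ⟨t, ht, ht1, h⟩ := exists_fixed_of_invt hr.expo (isPGroup_zpowers_of_sq hβ)
    (X := cV V f) (fun g hg => (inv_cV_of_comm hc).of_mem_zpowers hg) hf.ne_bot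
  have h1 := h β (mem_zpowers β)
  have h2 : β • f • t = f • t := by rw [← mul_smul, hc, mul_smul, h1]
  intro x hx
  rcases (four_elems_smul hr.expo hf.card (inv_cV_self f) (hf.fpf hr) ht ht1).1 hx with
    rfl | rfl | rfl | rfl
  · exact one_mem _
  · exact mem_fx.2 h1
  · exact mem_fx.2 h2
  · exact mul_mem (mem_fx.2 h1) (mem_fx.2 h2)

omit [Finite K] [Finite V] hr in
theorem card_eq_of_fx_eq_bot {f : K} (h : fx V f = ⊥) : Nat.card V = Nat.card (cV V f) := by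
  rw [← card_cV_mul_fx f, h, card_bot, mul_one]

section rm8

variable {B : Subgroup K} {k : ℕ} {a d : Fin k → K} (hf : Frame B a d)
include hf

theorem Frame.two_mul_card_le (I : Finset (Fin k)) {i : Fin k} (hi : i ∉ I) :
    2 * Nat.card ↥(fx V (a i) ⊓ ⨅ j ∈ I, fx V (a j)) ≤ Nat.card ↥(⨅ j ∈ I, fx V (a j)) := by
  have hB : IsPGroup 2 B := fun b => ⟨1, Subtype.ext (by simpa [pow_two] using hf.sq b b.2)⟩
  obtain ⟨t, ht, ht1, h⟩ := exists_fixed_of_invt hr.expo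
    (P := B ⊓ centralizer {d i}) (hB.to_le inf_le_left) (X := cV V (d i))
    (fun g hg => hf.invt_cV hg.1 i) (hr.cV_ne_bot (hf.d_ne i))
  have h1 : ¬ (cV V (d i) ⊓ ⨅ j ∈ I, fx V (a j)) ≤ fx V (a i) := fun h1 => by
    have h2 : Invt (d i) (cV V (d i) ⊓ ⨅ j ∈ I, fx V (a j)) := (inv_cV_self _).inf fun w hw => by
      simp only [mem_iInf] at hw ⊢
      exact fun j hj => inv_fx_of_comm (hf.ad j i (fun e => hi (e ▸ hj))).symm w (hw j hj)
    refine ht1 (eq_one_of_mem_cV_fx hr.expo (hf.odd i) ht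
      (le_fx_of_inverts (hf.a_sq i) (hf.odd i) (hf.inv i) h2 h1 (mem_inf.2 ⟨ht, ?_⟩)))
    simp only [mem_iInf]
    exact fun j hj => mem_fx.2 (h _ ⟨hf.mem j, mem_centralizer_singleton_iff.2
      (hf.ad j i fun e => hi (e ▸ hj))⟩)
  obtain ⟨c, hc⟩ := card_dvd_of_le (inf_le_right : fx V (a i) ⊓ ⨅ j ∈ I, fx V (a j) ≤ _)
  have h2 : c ≠ 1 := by
    rintro rfl
    have := eq_of_le_of_card_le (inf_le_right : fx V (a i) ⊓ ⨅ j ∈ I, fx V (a j) ≤ _)
      (by rw [hc, mul_one])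
    exact h1 (inf_le_right.trans (this.ge.trans inf_le_left))
  have h3 : c ≠ 0 := by
    rintro rfl
    exact Nat.card_pos.ne' hc
  rw [hc, mul_comm]
  exact Nat.mul_le_mul_left _ (by omega)

theorem Frame.pow_mul_card_le (I L : Finset (Fin k)) (h : Disjoint I L) :
    2 ^ L.card * Nat.card ↥(⨅ j ∈ I ∪ L, fx V (a j)) ≤ Nat.card ↥(⨅ j ∈ I, fx V (a j)) := by
  induction L using Finset.induction_on with
  | empty => simp
  | insert i L hi ih =>
    rw [Finset.disjoint_insert_right] at h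
    rw [Finset.card_insert_of_notMem hi, Finset.union_insert, Finset.iInf_insert, pow_succ,
      mul_assoc]
    exact (Nat.mul_le_mul_left _ (Frame.two_mul_card_le hr hf _ (by simp [h.1, hi]))).trans (ih h.2)

omit hr [Finite K] [Finite V] in
theorem Frame.mem_iInf_fx {v : V} (hv : ∀ b ∈ B, b • v = v) :
    v ∈ ⨅ j ∈ (Finset.univ : Finset (Fin k)), fx V (a j) := by
  simp only [mem_iInf]
  exact fun j _ => mem_fx.2 (hv _ (hf.mem j))

/-- RM8. -/
theorem Frame.rm8s {D : Subgroup V} (hD : ∀ b ∈ B, D ≤ fx V b) :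
    2 ^ k ≤ D.index ∧ (D.index ≤ 2 ^ k →
      (∀ v : V, (∀ b ∈ B, b • v = v) → v ∈ D) ∧ ∀ i, ∃ u : V, IsTv (a i) u) := by
  have h0 : D ≤ ⨅ j ∈ (Finset.univ : Finset (Fin k)), fx V (a j) := fun v hv =>
    hf.mem_iInf_fx fun b hb => mem_fx.1 (hD b hb hv)
  have h1 := Frame.pow_mul_card_le hr hf ∅ Finset.univ (by simp)
  simp only [Finset.card_univ, Fintype.card_fin, Finset.empty_union, Finset.notMem_empty,
    iInf_false, iInf_top, card_top] at h1
  have h2 := D.index_mul_card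
  have h3 := card_le_of_le h0
  have hp : 0 < Nat.card D := Nat.card_pos
  refine ⟨Nat.le_of_mul_le_mul_right (h2 ▸ (Nat.mul_le_mul_left _ h3).trans h1) hp,
    fun h => ⟨fun v hv => ?_, fun i => ?_⟩⟩
  · refine (eq_of_le_of_card_le h0 (Nat.le_of_mul_le_mul_left (h1.trans ?_)
      (Nat.two_pow_pos k))).ge (hf.mem_iInf_fx hv)
    rw [← h2]
    exact Nat.mul_le_mul_right _ h
  · have h4 := Frame.pow_mul_card_le hr hf {i} (Finset.univ.erase i) (by simp)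
    rw [Finset.singleton_union, Finset.insert_erase (Finset.mem_univ i),
      Finset.card_erase_of_mem (Finset.mem_univ i), Finset.card_univ, Fintype.card_fin] at h4
    simp only [Finset.mem_singleton, iInf_iInf_eq_left] at h4
    have h5 := card_cV_mul_fx (V := V) (a i)
    have h6 := two_le_card_of_ne_bot (hr.cV_ne_bot (hf.a_ne i))
    refine exists_isTv_of_card hr.expo (hf.a_sq i) (le_antisymm ?_ h6)
    refine Nat.le_of_mul_le_mul_right ?_ (Nat.card_pos (α := fx V (a i)))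
    have h7 : 2 ^ k = 2 * 2 ^ (k - 1) := by
      rw [← pow_succ']; congr 1; have := i.2; omega
    calc _ = D.index * Nat.card D := h5.trans h2.symm
      _ ≤ 2 * (2 ^ (k - 1) * _) := by rw [← mul_assoc, ← h7]; exact Nat.mul_le_mul h h3
      _ ≤ _ := Nat.mul_le_mul_left _ h4

end rm8

omit hr

variable (V) in
/-- The module situation of step (s2). -/
structure S2 (T J B : Subgroup K) (E : Subgroup V) : Prop where
  hT : IsPGroup 2 T
  hJ : J ≤ T
  hB : B ≤ T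
  sq : ∀ b ∈ B, b * b = 1
  jt : ∀ j ∈ J, ∀ f, Cmp V f → j * f * j⁻¹ = f ∨ j * f * j⁻¹ = f⁻¹
  jtv : J = ⊥ ∨ ∃ τ ∈ J, ∃ u : V, IsTv τ u
  hE : ∀ b ∈ B, E ≤ fx V b
  hZ : ∀ v : V, (∀ s ∈ T, s • v = v) → v ∈ E
  pj : ∀ t ∈ E, t ≠ 1 → (∀ j ∈ J, j • t = t) → ∀ e ∈ fittingSubgroup K, e ≠ 1 → e • t = t →
    ∀ β ∈ B, β * e * β⁻¹ ≠ e⁻¹

namespace S2

variable {T J B : Subgroup K} {E : Subgroup V} (h : S2 V T J B E)
include h hr

omit [Finite K] in
theorem eq_bot {β e : K} (hβ : β ∈ B) (he : e ∈ fittingSubgroup K) (h1 : e ≠ 1)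
    (hinv : β * e * β⁻¹ = e⁻¹) {X : Subgroup V} (hX : ∀ j ∈ J, Invt j X) (hXE : X ≤ E)
    (hXe : X ≤ fx V e) : X = ⊥ := by
  by_contra h2
  obtain ⟨t, ht, ht1, h3⟩ := exists_fixed_of_invt hr.expo (h.hT.to_le h.hJ) hX h2
  exact h.pj t (hXE ht) ht1 h3 e he h1 (mem_fx.1 (hXe ht)) β hβ hinv

/-- If an element of `B` inverts a component, there are only four vectors. -/
theorem card_eq_four {β e : K} (hβ : β ∈ B) (he : Cmp V e) (hinv : β * e * β⁻¹ = e⁻¹)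
    (hE : (cV V e).map (cm V β) ≤ E) : Nat.card V = 4 := by
  have ho := he.odd hr
  rw [← rm2_cV_inf_fx hr.expo (h.sq β hβ) ho hinv] at hE
  have key : ∀ z : V, (∀ s ∈ T, s • z = z) → z ∈ cV V e := fun z hz => by
    obtain ⟨w, hw, c, hc, rfl⟩ := exists_dec hr.expo ho z
    have h1 := fix_of_dec hr.expo ho (Or.inr hinv) hw hc (hz β (h.hB hβ))
    have h2 : c ∈ E := (mul_mem_cancel_left (hE ⟨hw, mem_fx.2 h1.1⟩)).1 (h.hZ _ hz)
    by_cases h3 : c = 1
    · rwa [h3, mul_one]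
    exact absurd hinv (h.pj c h2 h3 (fun j hj => (fix_of_dec hr.expo ho (h.jt j hj e he) hw hc
      (hz j (h.hJ hj))).2) e he.mem he.ne_one (mem_fx.1 hc) β hβ)
  obtain ⟨z, -, hz1, hz⟩ := exists_fixed_of_invt hr.expo h.hT (X := ⊤) (fun _ _ => Invt.top)
    fun e' => he.ne_bot (eq_bot_iff.2 (le_top.trans e'.le))
  rw [card_eq_of_fx_eq_bot (f := e), he.card]
  by_contra h1
  obtain ⟨c, hc, hc1, h2⟩ := exists_fixed_of_invt hr.expo h.hT (X := fx V e)
    (fun s hs => inv_fx_of_or (he.sameD_conj_of_fix hr (key z hz) hz1 (hz s hs))) h1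
  exact hc1 (eq_one_of_mem_cV_fx hr.expo ho (key c h2) hc)

/-- The case `|V : E| ≤ |B|`. -/
theorem card_eq_four_of_le (hne : B ≠ ⊥) (hi : E.index ≤ Nat.card B) : Nat.card V = 4 := by
  obtain ⟨k, a, d, hf⟩ := hr.exists_frame' h.sq
  obtain ⟨i⟩ : Nonempty (Fin k) := by
    rcases k with _ | k
    · exact absurd (card_eq_one.1 hf.card) hne
    · infer_instance
  obtain ⟨h1, h2⟩ := (hf.rm8s hr h.hE).2 (hf.card ▸ hi)
  obtain ⟨u, hu⟩ := h2 i
  obtain ⟨h3, -, -, h4, -⟩ := hr.tv_of_inverts hu (hf.dF i) (hf.d_ne i) (hf.inv i)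
  refine h.card_eq_four hr (hf.mem i) h3 (hf.inv i) (h4 ▸ zpowers_le.2 (h1 u fun b hb => ?_))
  exact hu.smul_centre_of_comm (by rw [hf.comm hb (hf.mem i), mul_inv_cancel_right])

variable {β : K} (hβ : β ∈ B) (hq : cV V β ≤ E) (hi : E.index ≤ 4)
  (hn : ∀ e, Cmp V e → β * e * β⁻¹ ≠ e⁻¹)
include hβ hi hn

omit hq in
theorem of_inverts {e : K} (he : e ∈ fittingSubgroup K) (h1 : e ≠ 1) (hinv : β * e * β⁻¹ = e⁻¹) :
    Nat.card (cV V e) = 16 ∧ Nat.card (cV V β) = 4 ∧ fx V β = E ∧ fx V e ≤ E := by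
  have h2 : Nat.card (cV V β) ≤ E.index :=
    index_fx (V := V) β ▸ Nat.le_of_dvd (Nat.pos_of_ne_zero FiniteIndex.index_ne_zero)
      (index_dvd_of_le (h.hE β hβ))
  obtain ⟨h3, h4, -⟩ := (hr.cmp_or_sixteen (h.sq β hβ) (h2.trans hi) he h1 hinv).resolve_left
    fun hc => hn e hc hinv
  have h5 := rm2_cV_card hr.expo (h.sq β hβ) (hr.odd_of_mem he) hinv
  rw [h3, h4] at h5
  have h6 : Nat.card (cV V β) = 4 :=
    Nat.pow_left_injective two_ne_zero (show _ ^ 2 = 4 ^ 2 from h5.symm)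
  have h7 : fx V β = E := by
    refine (eq_of_le_of_card_le (h.hE β hβ) ?_).symm
    have h8 := card_cV_mul_fx (V := V) β
    rw [h6, ← E.index_mul_card] at h8
    have := Nat.mul_le_mul_right (Nat.card E) hi
    omega
  refine ⟨h3, h6, h7, fun c hc => h7 ▸ mem_fx.2 (cm_eq_one_iff.1 ?_)⟩
  refine eq_one_of_mem_cV_fx hr.expo (hr.odd_of_mem he) ?_ ((inv_fx_of_inverts hinv).cm_mem hc)
  exact (inv_cV_of_inverts hinv).map_le (h4.ge (cm_mem_cV β c))

omit hq in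
theorem card_eq_sixteen (h1 : β ≠ 1) : Nat.card V = 16 := by
  obtain ⟨e, he, he1, -, hinv⟩ := hr.exists_inverted (h.sq β hβ) h1
  obtain ⟨h2, -, h3, h4⟩ := h.of_inverts hr hβ hi hn he he1 hinv
  rcases h.jtv with hJ | ⟨τ, hτ, u, hu⟩
  · rw [card_eq_of_fx_eq_bot (h.eq_bot hr hβ he he1 hinv (fun j hj => ?_) h4 le_rfl), h2]
    rw [hJ, mem_bot] at hj
    exact hj ▸ Invt.one
  obtain ⟨f, hf, hτf, huf, -⟩ := hr.tv_exists hu
  rcases hf.dich hr (hf.conj β) with (h5 | h5) | h5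
  · exfalso
    have h6 := hr.le_fx_of_comm hf (h.sq β hβ) (mul_inv_eq_iff_eq_mul.1 h5)
    have h7 := le_fx_of_inverts (h.sq β hβ) (hr.odd_of_mem he) hinv
      (inv_cV_of_comm (hr.comm_of_tv hu hf huf he)) h6
    exact h.pj u (h3 ▸ h6 huf) hu.ne (fun j hj => hr.fix_centre h.hT hf (h.hJ hτ) hu.sq hτf huf
      hu.ne (hu.fix hr.expo) (h.hJ hj) (h.jt j hj f hf)) e he he1 (mem_fx.1 (h7 huf)) β hβ hinv
  · exact absurd h5 (hn f hf)
  set f' := β * f * β⁻¹ with hf'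
  have hc : Cmp V f' := hf.conj β
  have e1 : f * f'⁻¹ ≠ 1 := fun e => hf.ne_bot (by
    have := h5.inf_eq_bot hr.expo (hf.odd hr)
    rwa [← mul_inv_eq_one.1 e, inf_idem] at this)
  have e2 : β * (f * f'⁻¹) * β⁻¹ = (f * f'⁻¹)⁻¹ := by
    have : β⁻¹ = β := inv_eq_of_mul_eq_one_right (h.sq β hβ)
    calc β * (f * f'⁻¹) * β⁻¹ = f' * (β * β) * f⁻¹ * (β * β)⁻¹ := by rw [hf']; group
      _ = _ := by rw [h.sq β hβ]; group
  have e3 : fx V f ⊓ fx V f' ≤ fx V (f * f'⁻¹) := by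
    rw [← fx_inv f']; exact fx_inf_le_mul _ _
  have e4 := mul_mem hf.mem (inv_mem hc.mem)
  have e5 := h.eq_bot hr hβ e4 e1 e2 (X := fx V f ⊓ fx V f')
    (fun j hj => (inv_fx_of_or (h.jt j hj f hf)).inf (inv_fx_of_or (h.jt j hj f' hc)))
    (e3.trans (h.of_inverts hr hβ hi hn e4 e1 e2).2.2.2) e3
  have e6 := card_le_of_le (le_cV_of_inf_fx (inv_fx_of_comm (hf.comm hr hc)) e5)
  have e7 := card_cV_mul_fx (V := V) f
  have e8 := card_le_card_group (cV V e)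
  rw [hc.card] at e6
  rw [hf.card] at e7
  omega

include hq in
theorem config (h1 : β ≠ 1) : Nat.card V = 16 ∧ Nat.card E = 4 ∧ fx V β = E ∧
    ∀ x : K, E ≤ fx V x → x = 1 ∨ x * β = 1 := by
  have h2 := h.card_eq_sixteen hr hβ hi hn h1
  obtain ⟨e, he, he1, -, hinv⟩ := hr.exists_inverted (h.sq β hβ) h1
  obtain ⟨-, h3, h4, -⟩ := h.of_inverts hr hβ hi hn he he1 hinv
  have h5 : Nat.card E = 4 := by
    have := card_cV_mul_fx (V := V) β
    rw [h3, h4, h2] at this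
    omega
  have h6 : cV V β = E := eq_of_le_of_card_le hq (by rw [h5, h3])
  refine ⟨h2, h5, h4, ?_⟩
  let T0 : Subgroup K :=
    { carrier := {g | E ≤ fx V g ∧ cV V g ≤ E}
      one_mem' := ⟨fx_one (K := K) (V := V) ▸ le_top, cV_one (K := K) (V := V) ▸ bot_le⟩
      mul_mem' := fun hx hy => ⟨(le_inf hx.1 hy.1).trans (fx_inf_le_mul _ _),
        (cV_mul_le _ _).trans (sup_le hx.2 hy.2)⟩
      inv_mem' := fun {g} hx => ⟨hx.1.trans (fx_inv g).ge, (cV_inv g).le.trans hx.2⟩ }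
  have hsq : ∀ g ∈ T0, g * g = 1 := fun g hg => hr.faith _ fun v => by
    rw [mul_smul, smul_eq_cm_mul g v, smul_mul', mem_fx.1 (hg.1 (hg.2 (cm_mem_cV g v))),
      smul_eq_cm_mul g v, ← mul_assoc, hr.expo, one_mul]
  obtain ⟨k, a, d, hf⟩ := hr.exists_frame' hsq
  have hq' : QuadOn V T0 d := quadOn_of_quad (B := T0) (fun b hb b' hb' => hb.2.trans hb'.1) d
  have hβ0 : β ∈ T0 := ⟨h4.ge, hq⟩
  obtain ⟨i, hi'⟩ : ∃ i, β * d i * β⁻¹ = (d i)⁻¹ := by
    by_contra! h7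
    exact h1 (hf.faith β hβ0 fun i => (hf.comm_or_inverts hβ0 i).resolve_right (h7 i))
  have h7 : ∀ j, j = i := fun j => by_contra fun hj => by
    refine hn (d i) ⟨hf.dF i, le_antisymm ?_ (hf.four_le hr i)⟩ hi'
    have h8 := prod_card_le_of_indep (hf.rm3_indep hr hq') {i, j} (D := ⊤) fun _ _ => le_top
    rw [Finset.prod_pair (Ne.symm hj), card_top, h2] at h8
    have := Nat.mul_le_mul_left (Nat.card (cV V (d i))) (hf.four_le hr j)
    omega
  have h8 : ∀ g ∈ T0, g = 1 ∨ g = β := fun g hg => by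
    rw [(hf.eq_one_or_eq hβ0 i fun j hj => absurd (h7 j) hj).resolve_left h1]
    exact hf.eq_one_or_eq hg i fun j hj => absurd (h7 j) hj
  intro x hx
  have h9 : x * β * x⁻¹ = β := by
    refine (h8 _ ⟨?_, ?_⟩).resolve_left fun e => h1 (by simpa using e)
    · rw [fx_conj, h4, (Invt.of_le_fx hx).smul_eq]
    · rw [cV_conj, h6, (Invt.of_le_fx hx).smul_eq]
  refine (h8 x ⟨hx, ?_⟩).imp id fun e => by rw [e]; exact h.sq β hβ
  rintro _ ⟨v, rfl⟩
  rw [← h4, mem_fx, ← cm_eq_one_iff, cm_apply x, map_mul, map_inv,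
    ← smul_cm_of_comm (mul_inv_eq_iff_eq_mul.1 h9), mem_fx.1 (hx (hq (cm_mem_cV β v))),
    mul_inv_cancel]

omit hβ hi hn in
/-- The quadratic case `|V : E| ≤ 2 |B|`. -/
theorem of_quad (hne : B ≠ ⊥) (hi : E.index ≤ 2 * Nat.card B) (hq : ∀ b ∈ B, cV V b ≤ E) :
    Nat.card V = 4 ∨ ∃ β ∈ B, cV V β ≤ E ∧ Nat.card V = 16 ∧ Nat.card E = 4 ∧ fx V β = E ∧
      ∀ x : K, E ≤ fx V x → x = 1 ∨ x * β = 1 := by
  refine or_iff_not_imp_left.2 fun h4 => ?_
  have hn : ∀ β ∈ B, ∀ e, Cmp V e → β * e * β⁻¹ ≠ e⁻¹ := fun β hβ e he hinv =>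
    h4 (h.card_eq_four hr hβ he hinv ((map_cm_le_cV _ _).trans (hq β hβ)))
  obtain ⟨k, a, d, hf⟩ := hr.exists_frame' h.sq
  have hq' : QuadOn V B d := quadOn_of_quad (fun b hb b' hb' => (hq b hb).trans (h.hE b' hb')) d
  obtain ⟨b, hb, -, h1, -⟩ := hf.rm3_exists hr hq'
  have h2 : Nat.card (cV V b) ≤ E.index :=
    index_fx (V := V) b ▸ Nat.le_of_dvd (Nat.pos_of_ne_zero FiniteIndex.index_ne_zero)
      (index_dvd_of_le (h.hE b hb))
  have h3 : ∀ i, 4 ≤ Nat.card ((cV V (d i)).map (cm V (a i))) := fun i => by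
    obtain ⟨n, hn'⟩ := exists_card_eq_two_pow hr.expo ((cV V (d i)).map (cm V (a i)))
    have h5 := hf.two_le hr i
    have h6 := hf.card_cV hr i
    rw [hn'] at h5 h6 ⊢
    rcases n with _ | _ | n
    · omega
    · exact absurd (hf.inv i) (hn _ (hf.mem i) _ ⟨hf.dF i, h6⟩)
    · rw [pow_succ, pow_succ]
      have := Nat.two_pow_pos n
      omega
  have h5 := (Finset.prod_le_prod' fun i (_ : i ∈ Finset.univ) => h3 i).trans (h1.trans (h2.trans hi))
  rw [Finset.prod_const, Finset.card_univ, Fintype.card_fin, hf.card, ← pow_succ',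
    show 4 = 2 ^ 2 from rfl, ← pow_mul, Nat.pow_le_pow_iff_right one_lt_two] at h5
  obtain ⟨β, hβ, hβ1⟩ := (bot_or_exists_ne_one B).resolve_left hne
  refine ⟨β, hβ, hq β hβ, h.config hr hβ (hq β hβ) (hi.trans ?_) (hn β hβ) hβ1⟩
  rw [hf.card, ← pow_succ', show 4 = 2 ^ 2 from rfl, Nat.pow_le_pow_iff_right one_lt_two]
  omega

end S2

section FF

variable {T : Subgroup K} {τ f : K} {u : V} (hτ : IsTv τ u) (hf : Cmp V f) (hu : u ∈ cV V f)
  (hX : ∀ v : V, (∀ s ∈ T, (s * f * s⁻¹) • v = v) → v = 1)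
include hr hτ hf hu hX

theorem ff_trans (hT : IsPGroup 2 T) (hτT : τ ∈ T) {τ' : K} {u' : V} (hτ' : IsTv τ' u')
    (hτT' : τ' ∈ T) : ∃ s ∈ T, τ' = s * τ * s⁻¹ := by
  obtain ⟨f', hf', hinv, hu', -⟩ := hr.tv_exists hτ'
  obtain ⟨s, hs, h1⟩ : ∃ s ∈ T, SameD f' (s * f * s⁻¹) := by
    by_contra! h1
    exact hτ'.ne (hX u' fun s hs => mem_fx.1 ((hf'.sep hr (hf.conj s) (h1 s hs)).1 hu'))
  have h2 : s • u ∈ cV V f' := by
    rw [← h1.cV_eq, cV_conj]
    exact smul_mem_smul s hu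
  have h3 := hτ.conj s
  have h4 := hr.tv_inverts_of_mem h3 hf' h2
  have h5 := hr.fix_centre hT hf' hτT' hτ'.sq hinv hu' hτ'.ne (hτ'.fix hr.expo)
    (mul_mem (mul_mem hs hτT) (inv_mem hs)) (Or.inr h4)
  have h6 : u' = s • u := eq_of_card_le_two (hr.card_inf_fx h3.sq (hf'.odd hr) hf'.card h4).le
    ⟨hu', mem_fx.2 h5⟩ ⟨h2, mem_fx.2 (h3.fix hr.expo)⟩ hτ'.ne h3.ne
  exact ⟨s, hs, hr.tv_eq hτ' (h6 ▸ h3)⟩

theorem ff_inv {β : K} (hβ : β * β = 1) (h1 : β ≠ 1) (h : ∀ s ∈ T, β • s • u = s • u) :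
    ∃ s ∈ T, β * (s * f * s⁻¹) * β⁻¹ = (s * f * s⁻¹)⁻¹ := by
  by_contra! h2
  refine h1 (hr.faith β fun v => cm_eq_one_iff.1 (hX _ fun s hs => ?_))
  have h3 := mul_inv_eq_iff_eq_mul.1 (((hf.conj s).sameD_conj_of_fix hr
    ((cV_conj (V := V) s f).ge (smul_mem_smul s hu)) (smul_ne_one' s hτ.ne) (h s hs)).resolve_right (h2 s hs))
  rw [← cm_eq_one_iff, ← cm_cm_comm h3, cm_eq_one_iff]
  exact mem_fx.1 (hr.le_fx_of_comm (hf.conj s) hβ h3 (cm_mem_cV _ v))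

omit hτ hu [Finite K] [Finite V] hr in
theorem ff_four (h : ∀ s ∈ T, SameD f (s * f * s⁻¹)) : Nat.card V = 4 := by
  rw [card_eq_of_fx_eq_bot (f := f), hf.card]
  refine eq_bot_iff.2 fun v hv => hX v fun s hs => mem_fx.1 ?_
  rwa [(h s hs).fx_eq]

end FF

end Cfsg.Lib.Ngrp
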