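import Cfsg.Agent.Ngrp.NatFF
import Cfsg.Agent.Ngrp.NatSMod
import Cfsg.Agent.Ngrp.AmGeo

set_option autoImplicit false

namespace Cfsg.Lib.Ngrp
open Subgroup Cfsg.Lib.Trans Cfsg.Lib.Local Cfsg.Lib.Local.MSS Cfsg.Lib.Local.JC Cfsg.Lib.Trans.TJ
open Cfsg.Lib.Local.Tv Cfsg.Lib.Ngrp.Geo
open scoped commutatorElement Pointwise

section Mod

variable {K V : Type*} [Group K] [CommGroup V] [MulDistribMulAction K V] [Finite K] [Finite V]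

/-- An involution commuting with a transvection acts on its component trivially or as the
transvection. -/
theorem Red.tv_act (hr : Red K V) {τ f β : K} {u : V} (h : IsTv τ u) (hf : Cmp V f)
    (hu : u ∈ cV V f) (hβ : β * β = 1) (hc : β * τ = τ * β) :
    cV V f ≤ fx V β ∨ (β * f * β⁻¹ = f⁻¹ ∧ ∀ w ∈ cV V f, β • w = τ • w) := by
  have h1 : β • u = u := h.smul_centre_of_comm (by rw [hc, mul_inv_cancel_right])
  rcases hf.sameD_conj_of_fix hr hu h.ne h1 with e | e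
  · exact Or.inl (hr.le_fx_of_comm hf hβ (by rw [← e, inv_mul_cancel_right, e]))
  · refine Or.inr ⟨e, fun w hw => ?_⟩
    have h2 := hr.tv_inverts_of_mem h hf hu
    have h3 : β * τ * (β * τ) = 1 := by
      rw [mul_assoc, ← mul_assoc τ, ← hc, mul_assoc, h.sq, mul_one, hβ]
    have h4 := hr.le_fx_of_comm hf h3 (Frame.mul_comm_of_inverts e h2) hw
    rw [mem_fx, mul_smul] at h4
    calc β • w = β • β • τ • w := by rw [h4]
      _ = τ • w := by rw [← mul_smul, hβ, one_smul]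

end Mod

variable {G : Type*} [Group G]

theorem comm_conj (g a b : G) : g * ⁅a, b⁆ * g⁻¹ = ⁅g * a * g⁻¹, g * b * g⁻¹⁆ := by
  simp only [commutatorElement_def]; group

theorem comm_congr_of_cent {Y : Subgroup G} {n d y : G} (hd : d ∈ normalizer (Y : Set G))
    (h : n * d⁻¹ ∈ centralizer (Y : Set G)) (hy : y ∈ Y) : ⁅n, y⁆ = ⁅d, y⁆ := by
  have h1 := conj_eq_of_mem_centralizer h (mem_normalizer_conj hd hy)
  calc ⁅n, y⁆ = n * d⁻¹ * (d * y * d⁻¹) * (n * d⁻¹)⁻¹ * y⁻¹ := by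
        rw [commutatorElement_def]; group
    _ = ⁅d, y⁆ := by rw [h1, commutatorElement_def]

theorem comm_mem_of_mem_normalizer {Y : Subgroup G} {n y : G} (hn : n ∈ normalizer (Y : Set G))
    (hy : y ∈ Y) : ⁅n, y⁆ ∈ Y :=
  mul_mem (mem_normalizer_conj hn hy) (inv_mem hy)

theorem comm_mem_of_mem_normalizer' {Y : Subgroup G} {n y : G} (hn : n ∈ normalizer (Y : Set G))
    (hy : y ∈ Y) : ⁅y, n⁆ ∈ Y := by
  rw [← commutatorElement_inv]; exact inv_mem (comm_mem_of_mem_normalizer hn hy)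

/-- (PLp) for two subgroups normalising each other. -/
theorem plg [Finite G] (ah : AH G) {Y B : Subgroup G} (hYB : Y ≤ normalizer (B : Set G))
    (hBY : B ≤ normalizer (Y : Set G)) {d e y b c : G} (hd : d ∈ normalizer (Y : Set G))
    (he : e ∈ normalizer (B : Set G)) (od : Odd (orderOf d)) (oe : Odd (orderOf e))
    (hd1 : d ∉ centralizer (Y : Set G)) (hy : y ∈ Y) (hb : b ∈ B)
    (iw : ⁅d, y⁆ * e * ⁅d, y⁆⁻¹ * e ∈ centralizer (B : Set G))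
    (ia : ⁅e, b⁆ * d * ⁅e, b⁆⁻¹ * d ∈ centralizer (Y : Set G)) (hc : c * c = 1)
    (hYc : Y ≤ Cz c) (hBc : B ≤ Cz c) (hdc : d ∈ Cz c) (hec : e ∈ Cz c) : c = 1 := by
  by_contra h1
  have key : ∀ {Y B : Subgroup G}, Y ≤ normalizer (B : Set G) → Y ≤ Cz c → ∀ {d y : G},
      d ∈ normalizer (Y : Set G) → y ∈ Y → ∀ N : Subgroup G, N ≤ Cz c →
      Cz c ≤ normalizer (N : Set G) →
      (∃ n ∈ N, n ∈ normalizer (Y : Set G) ⊓ Cz c ∧ n * d⁻¹ ∈ centralizer (Y : Set G)) →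
      ∃ n ∈ N, n ∈ normalizer (B : Set G) ⊓ Cz c ∧ n * ⁅d, y⁆⁻¹ ∈ centralizer (B : Set G) := by
    rintro Y B e1 e2 d y hd hy N - hN ⟨n, hn, h2, h3⟩
    have h4 := comm_mem_of_mem_normalizer h2.1 hy
    refine ⟨⁅n, y⁆, comm_mem_of_mem_normalizer' (hN (e2 hy)) hn, ⟨e1 h4, e2 h4⟩, ?_⟩
    rw [comm_congr_of_cent hd h3 hy, mul_inv_cancel]; exact one_mem _
  exact PL' (Cz c) (ah_solvable_Cz ah hc h1) (H₁ := normalizer (Y : Set G) ⊓ Cz c)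
    (H₂ := normalizer (B : Set G) ⊓ Cz c) inf_le_right inf_le_right
    (inf_le_left.trans (normalizer_le_normalizer_centralizer Y))
    (inf_le_left.trans (normalizer_le_normalizer_centralizer B))
    ⟨hd, hdc⟩ ⟨he, hec⟩ hd1 od oe
    (by rw [pow_orderOf_eq_one]; exact one_mem _) (by rw [pow_orderOf_eq_one]; exact one_mem _)
    ia iw (key hYB hYc hd hy) (key hBY hBc he hb)

namespace Sec

variable {L V : Subgroup G} (h : Sec L V ⊥)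
include h

theorem inverts_iff' {a d : G} (ha : a ∈ L) (hd : d ∈ L) :
    h.hat a * h.hat d * (h.hat a)⁻¹ = (h.hat d)⁻¹ ↔ a * d * a⁻¹ * d ∈ centralizer (V : Set G) := by
  have h2 := mul_mem (mul_mem ha hd) (inv_mem ha)
  rw [← h.hat_eq_one' (mul_mem h2 hd), h.hat_mul h2 hd, h.hat_conj ha hd, mul_eq_one_iff_eq_inv]

theorem exists_comm_of_mem_cV {d w : G} (hd : d ∈ L) (hw : w ∈ V)
    (e : h.bar w ∈ cV h.Mo (h.hat d)) : ∃ y ∈ V, w = ⁅d, y⁆ :=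
  (h.mem_pre_cV' hd).1 (h.mem_pre.2 ⟨hw, e⟩)

theorem comm_eq_one_iff {a v : G} (ha : a ∈ L) (hv : v ∈ V) :
    ⁅a, v⁆ = 1 ↔ h.hat a • h.bar v = h.bar v := by
  rw [h.hat_smul_eq_iff ha hv, mem_bot]

theorem comm_eq_of_smul_eq {a b v : G} (ha : a ∈ L) (hb : b ∈ L) (hv : v ∈ V)
    (e : h.hat a • h.bar v = h.hat b • h.bar v) : ⁅a, v⁆ = ⁅b, v⁆ := by
  rw [← h.bar_inj (h.comm_V ha hv) (h.comm_V hb hv), ← h.cm_hat ha hv, ← h.cm_hat hb hv, cm_apply,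
    cm_apply, e]

end Sec

/-- The situation of step (s1). -/
structure S1 (L Y : Subgroup G) (g : G) : Prop where
  ah : AH G
  sec : Sec L Y ⊥
  red : Red sec.Kq sec.Mo
  hB : cj g Y ≤ L
  hB' : cj g⁻¹ Y ≤ L

namespace S1

variable [Finite G] {L Y : Subgroup G} {g : G} (h : S1 L Y g)
include h

omit [Finite G] in
theorem YB : Y ≤ normalizer (cj g Y : Set G) := by
  rw [← cj_normalizer, ← cj_inv_le_iff_le_cj]; exact h.hB'.trans h.sec.nV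

omit [Finite G] in
theorem eaB : IsElementaryAbelian 2 (cj g Y) := ea_cj' h.sec.ea g

theorem card_eq : Nat.card Y =
    Nat.card (h.sec.imgK (cj g Y)) * Nat.card (Y ⊓ centralizer (cj g Y : Set G) : Subgroup G) := by
  have sq : ∀ {x : G} (a : G), a ∈ cj x Y → a * a ∈ centralizer (Y : Set G) := fun a ha => by
    rw [ea_sq (ea_cj' h.sec.ea _) ha]; exact one_mem _
  have h1 := h.sec.rm8 h.red h.hB sq
  have h2 := h.sec.rm8 h.red h.hB' sq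
  have h3 := h.sec.card_imgK' h.hB
  have h4 := h.sec.card_imgK' h.hB'
  have h5 : Nat.card (cj g⁻¹ Y ⊓ centralizer (Y : Set G) : Subgroup G) =
      Nat.card (Y ⊓ centralizer (cj g Y : Set G) : Subgroup G) := by
    rw [← card_cj g, cj_inf, cj_cj_inv, cj_centralizer]
  have h6 : Nat.card (Y ⊓ centralizer (cj g⁻¹ Y : Set G) : Subgroup G) =
      Nat.card (cj g Y ⊓ centralizer (Y : Set G) : Subgroup G) := by
    rw [← card_cj g, cj_inf, cj_centralizer, cj_cj_inv]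
  rw [card_cj] at h3 h4
  rw [h5] at h4
  rw [h6] at h2
  have p1 : 0 < Nat.card (cj g Y ⊓ centralizer (Y : Set G) : Subgroup G) := Nat.card_pos
  have h7 : Nat.card (h.sec.imgK (cj g⁻¹ Y)) ≤ Nat.card (h.sec.imgK (cj g Y)) := by
    refine Nat.le_of_mul_le_mul_right ?_ p1
    rw [mul_comm (Nat.card (h.sec.imgK (cj g Y))), ← h3]; exact h2
  refine le_antisymm ?_ h1
  rw [h4, mul_comm]
  exact Nat.mul_le_mul_right _ h7

section Tv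

variable {a u : G} {f : h.sec.Kq} (ha : a ∈ cj g Y) (hu : u ∈ Y)
  (ht : IsTv (h.sec.hat a) (h.sec.bar u)) (hf : Cmp h.sec.Mo f) (huf : h.sec.bar u ∈ cV h.sec.Mo f)
include ha hu ht hf huf

theorem exists_w : ∃ w ∈ Y, h.sec.bar w ∈ cV h.sec.Mo f ∧ ⁅a, w⁆ = u ∧ ∀ b ∈ cj g Y,
    ⁅b, w⁆ = 1 ∨ (⁅b, w⁆ = u ∧ h.sec.hat b * f * (h.sec.hat b)⁻¹ = f⁻¹) := by
  have h1 := h.red.not_cV_le_fx ht.sq (hf.odd h.red) (h.red.tv_inverts_of_mem ht hf huf) hf.ne_one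
  obtain ⟨x, hx, hx'⟩ := SetLike.not_le_iff_exists.1 h1
  obtain ⟨w, hw, rfl⟩ := h.sec.exists_bar x
  have h2 : ⁅a, w⁆ = u := (((h.sec.isTv_iff (h.hB ha) hu).1 ht).2.2.1 w hw).resolve_left
    fun e => hx' (mem_fx.2 ((h.sec.comm_eq_one_iff (h.hB ha) hw).1 e))
  refine ⟨w, hw, hx, h2, fun b hb => ?_⟩
  rcases h.red.tv_act ht hf huf (h.sec.hat_sq (h.hB hb) (ea_sq h.eaB hb)) (by
    rw [← h.sec.hat_mul (h.hB hb) (h.hB ha), ← h.sec.hat_mul (h.hB ha) (h.hB hb),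
      ea_comm' h.eaB hb ha]) with e | ⟨e, e'⟩
  · exact Or.inl ((h.sec.comm_eq_one_iff (h.hB hb) hw).2 (mem_fx.1 (e hx)))
  · exact Or.inr ⟨(h.sec.comm_eq_of_smul_eq (h.hB hb) (h.hB ha) hw (e' _ hx)).trans h2, e⟩

/-- The dual transvection and (PLp). -/
theorem dual : g⁻¹ * u * g ∈ Y ∧ (∃ w ∈ cj g⁻¹ Y, IsTv (h.sec.hat w) (h.sec.bar (g⁻¹ * u * g))) ∧
    ∀ f' : h.sec.Kq, Cmp h.sec.Mo f' → h.sec.bar (g⁻¹ * u * g) ∈ cV h.sec.Mo f' → ∀ c ∈ Y,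
      g⁻¹ * c * g ∈ Y → f • h.sec.bar c = h.sec.bar c →
      f' • h.sec.bar (g⁻¹ * c * g) = h.sec.bar (g⁻¹ * c * g) → c = 1 := by
  obtain ⟨w, hw, hwf, h1, h2⟩ := h.exists_w ha hu ht hf huf
  have hu1 : u ≠ 1 := ((h.sec.isTv_iff (h.hB ha) hu).1 ht).2.1
  have hu' : g⁻¹ * u * g ∈ Y := by
    rw [← mem_cj, ← h1]; exact comm_mem_of_mem_normalizer' (h.YB hw) ha
  have hw' : g⁻¹ * w * g ∈ cj g⁻¹ Y := by rw [mem_cj_inv]; simpa [mul_assoc] using hw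
  have cm1 : ∀ v : G, ⁅g⁻¹ * w * g, v⁆ = g⁻¹ * ⁅g * v * g⁻¹, w⁆⁻¹ * g := fun v => by
    simp only [commutatorElement_def]; group
  have tw : IsTv (h.sec.hat (g⁻¹ * w * g)) (h.sec.bar (g⁻¹ * u * g)) := by
    refine (h.sec.isTv_iff (h.hB' hw') hu').2 ⟨?_, ?_, fun v hv => ?_, fun e => hu1 ?_⟩
    · rw [ea_sq (ea_cj' h.sec.ea _) hw']; exact one_mem _
    · simpa using conj_ne_one (g := g⁻¹) hu1
    · rw [cm1]
      rcases h2 _ (conj_mem_cj.2 hv) with e | ⟨e, -⟩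
      · left; rw [e]; group
      · right; rw [e, inv_eq_of_sq (ea_sq h.sec.ea hu)]
    · have h3 : ⁅g⁻¹ * w * g, g⁻¹ * a * g⁆ = 1 :=
        commutatorElement_eq_one_iff_mul_comm.2 (e _ (mem_cj.1 ha)).symm
      rw [cm1] at h3
      have h4 : g * (g⁻¹ * a * g) * g⁻¹ = a := by group
      rw [h4, h1] at h3
      have h5 : u = g * (g⁻¹ * u⁻¹ * g)⁻¹ * g⁻¹ := by group
      rw [h5, h3]; group
  refine ⟨hu', ⟨_, hw', tw⟩, fun f' hf' huf' c hc hc' e1 e2 => ?_⟩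
  obtain ⟨d, hd, od, rfl⟩ := h.sec.exists_hat_odd (hf.odd h.red)
  obtain ⟨d', hd', od', rfl⟩ := h.sec.exists_hat_odd (hf'.odd h.red)
  have i1 := h.red.tv_inverts_of_mem tw hf' huf'
  obtain ⟨x, hx, hx'⟩ := SetLike.not_le_iff_exists.1
    (h.red.not_cV_le_fx tw.sq (hf'.odd h.red) i1 hf'.ne_one)
  obtain ⟨a', ha', rfl⟩ := h.sec.exists_bar x
  obtain ⟨y, hy, rfl⟩ := h.sec.exists_comm_of_mem_cV hd hw hwf
  obtain ⟨b, hb, rfl⟩ := h.sec.exists_comm_of_mem_cV hd' ha' hx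
  have i2 : h.sec.hat (g * ⁅d', b⁆ * g⁻¹) * h.sec.hat d * (h.sec.hat (g * ⁅d', b⁆ * g⁻¹))⁻¹ =
      (h.sec.hat d)⁻¹ := by
    refine ((h2 _ (conj_mem_cj.2 ha')).resolve_left fun e => hx' ?_).2
    rw [mem_fx, ← h.sec.comm_eq_one_iff (h.hB' hw') ha', cm1, e]; group
  rw [h.sec.inverts_iff' (h.hB (conj_mem_cj.2 ha')) hd, comm_conj] at i2
  rw [h.sec.inverts_iff' (h.hB' hw') hd'] at i1
  refine plg h.ah h.YB (h.hB.trans h.sec.nV) (e := g * d' * g⁻¹) (h.sec.nV hd) ?_ od ?_ ?_ hy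
    (conj_mem_cj.2 hb) ?_ i2 (ea_sq h.sec.ea hc) ?_ ?_ ?_ ?_
  · rw [← cj_normalizer]; exact conj_mem_cj.2 (h.sec.nV hd')
  · rwa [← MulAut.conj_apply, MulEquiv.orderOf_eq]
  · exact fun e => hf.ne_one ((h.sec.hat_eq_one' hd).2 e)
  · rw [← cj_centralizer, mem_cj]
    convert i1 using 1; group
  · exact fun x hx => mem_Cz.2 (ea_comm' h.sec.ea hx hc)
  · exact fun x hx => mem_Cz.2 (ea_comm' h.eaB hx (mem_cj.2 hc'))
  · exact mem_Cz.2 ((h.sec.hat_smul_eq_iff' hd hc).1 e1)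
  · have h3 := conj_mem_Cz g (mem_Cz.2 ((h.sec.hat_smul_eq_iff' hd' hc').1 e2))
    rwa [show g * (g⁻¹ * c * g) * g⁻¹ = c by group] at h3

end Tv

theorem tv_eq {a₁ a₂ : G} {x₁ x₂ : h.sec.Mo} (ha₁ : a₁ ∈ cj g Y) (ha₂ : a₂ ∈ cj g Y)
    (t₁ : IsTv (h.sec.hat a₁) x₁) (t₂ : IsTv (h.sec.hat a₂) x₂) :
    h.sec.hat a₁ = h.sec.hat a₂ := by
  by_contra hne
  obtain ⟨u₁, hu₁, rfl⟩ := h.sec.exists_bar x₁
  obtain ⟨u₂, hu₂, rfl⟩ := h.sec.exists_bar x₂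
  obtain ⟨f₁, hf₁, -, m₁, -⟩ := h.red.tv_exists t₁
  obtain ⟨f₂, hf₂, -, m₂, -⟩ := h.red.tv_exists t₂
  obtain ⟨k₁, ⟨w₁, hw₁, s₁⟩, pl⟩ := h.dual ha₁ hu₁ t₁ hf₁ m₁
  obtain ⟨k₂, ⟨w₂, hw₂, s₂⟩, -⟩ := h.dual ha₂ hu₂ t₂ hf₂ m₂
  obtain ⟨f₃, hf₃, -, m₃, -⟩ := h.red.tv_exists s₁
  obtain ⟨f₄, hf₄, -, m₄, -⟩ := h.red.tv_exists s₂
  have c1 : h.sec.hat a₂ * h.sec.hat a₁ = h.sec.hat a₁ * h.sec.hat a₂ := by
    rw [← h.sec.hat_mul (h.hB ha₂) (h.hB ha₁), ← h.sec.hat_mul (h.hB ha₁) (h.hB ha₂),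
      ea_comm' h.eaB ha₂ ha₁]
  have c2 : h.sec.hat w₂ * h.sec.hat w₁ = h.sec.hat w₁ * h.sec.hat w₂ := by
    rw [← h.sec.hat_mul (h.hB' hw₂) (h.hB' hw₁), ← h.sec.hat_mul (h.hB' hw₁) (h.hB' hw₂),
      ea_comm' (ea_cj' h.sec.ea _) hw₂ hw₁]
  have n1 : ¬ SameD f₁ f₂ := fun e =>
    hne (h.red.tv_eq_of_comm t₁ t₂ hf₁ m₁ (e.cV_eq (V := h.sec.Mo) ▸ m₂) c1).1
  have n2 : ¬ SameD f₃ f₄ := fun e => by
    have h1 := (h.red.tv_eq_of_comm s₁ s₂ hf₃ m₃ (e.cV_eq (V := h.sec.Mo) ▸ m₄) c2).2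
    rw [h.sec.bar_inj k₁ k₂, mul_left_inj, mul_right_inj] at h1
    exact hne (h.red.tv_eq t₁ (h1 ▸ t₂))
  have h2 := pl f₃ hf₃ m₃ u₂ hu₂ k₂ (mem_fx.1 ((hf₁.sep h.red hf₂ n1).2 m₂))
    (mem_fx.1 ((hf₃.sep h.red hf₄ n2).2 m₄))
  exact t₂.ne (by rw [h2, h.sec.bar_one])

theorem exists_tv (hn : ¬ cj g Y ≤ centralizer (Y : Set G)) :
    ∃ a ∈ cj g Y, ∃ u ∈ Y, IsTv (h.sec.hat a) (h.sec.bar u) ∧
      ∀ b ∈ cj g Y, ∀ y ∈ Y, ⁅b, y⁆ = 1 ∨ ⁅b, y⁆ = u := by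
  obtain ⟨k, a, d, hf⟩ := h.red.exists_frame' (h.sec.imgK_sq_of_ea h.eaB)
  have he : Nat.card h.sec.Mo ≤ 2 ^ k * Nat.card (fxS h.sec.Mo (h.sec.imgK (cj g Y))) := by
    rw [h.sec.card_Mo, h.sec.card_fxS h.hB, ← hf.card, ← h.card_eq]
  have h1 : ∀ i, ∃ b ∈ cj g Y, h.sec.hat b = a i ∧ ∃ x : h.sec.Mo, IsTv (h.sec.hat b) x :=
    fun i => by
      obtain ⟨b, hb, -, e⟩ := h.sec.mem_imgK.1 (hf.mem i)
      exact ⟨b, hb, e, e ▸ hf.rm8_tv h.red he i⟩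
  rcases k with _ | k
  · refine (hn fun b hb => (h.sec.hat_eq_one' (h.hB hb)).1 ?_).elim
    exact hf.faith _ (h.sec.hat_mem_imgK hb (h.hB hb)) fun i => i.elim0
  obtain ⟨b₀, hb₀, -, x, hx⟩ := h1 0
  obtain ⟨u, hu, rfl⟩ := h.sec.exists_bar x
  refine ⟨b₀, hb₀, u, hu, hx, fun b hb y hy => ?_⟩
  have h2 : h.sec.imgK (cj g Y) ≤ zpowers (h.sec.hat b₀) := by
    rw [← hf.gen]
    refine iSup_le fun i => ?_
    obtain ⟨b, hb, e, x, hx'⟩ := h1 i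
    rw [← e, h.tv_eq hb hb₀ hx' hx]
  rcases (mem_zpowers_two hx.sq).1 (h2 (h.sec.hat_mem_imgK hb (h.hB hb))) with e | e
  · exact Or.inl ((h.sec.comm_eq_one_iff (h.hB hb) hy).2 (by rw [e, one_smul]))
  · rw [h.sec.comm_eq_of_smul_eq (h.hB hb) (h.hB hb₀) hy (by rw [e])]
    exact ((h.sec.isTv_iff (h.hB hb₀) hu).1 hx).2.2.1 y hy

/-- Step (s1). -/
theorem card_eq_four {S Q : Subgroup G} (hS : IsPGroup 2 S) (hSL : S ≤ L) (hQS : Q ≤ S)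
    (hYQ : Y ≤ Q) (hSQ : S ≤ normalizer (Q : Set G)) (hg : g ∈ normalizer (Q : Set G))
    (hgc : g ∈ centralizer (omegaCenterOf Q : Set G)) (hn : ¬ cj g Y ≤ centralizer (Y : Set G)) :
    Nat.card Y = 4 := by
  obtain ⟨a, ha, u, hu, ht, hall⟩ := h.exists_tv hn
  obtain ⟨f, hf, -, huf, -⟩ := h.red.tv_exists ht
  obtain ⟨w, hw, -, h1, -⟩ := h.exists_w ha hu ht hf huf
  obtain ⟨-, -, pl⟩ := h.dual ha hu ht hf huf
  have hu1 : u ≠ 1 := ((h.sec.isTv_iff (h.hB ha) hu).1 ht).2.1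
  have hQY : Q ≤ normalizer (Y : Set G) := hQS.trans (hSL.trans h.sec.nV)
  have hQB : Q ≤ normalizer (cj g Y : Set G) := by
    rw [← cj_normalizer, ← cj_eq_of_mem_normalizer hg]; exact cj_mono g hQY
  have huZ : u ∈ omegaCenterOf Q := by
    refine mem_oc.2 ⟨hYQ hu, fun q hq => ?_, ea_sq h.sec.ea hu⟩
    have h2 := hall _ (mem_normalizer_conj (hQB hq) ha) _ (mem_normalizer_conj (hQY hq) hw)
    rw [← comm_conj, h1] at h2
    rw [← mul_inv_eq_iff_eq_mul]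
    exact h2.resolve_left (conj_ne_one hu1)
  have fixg : ∀ c ∈ omegaCenterOf Q, g⁻¹ * c * g = c := fun c hc =>
    conj_eq_of_mem_centralizer' hgc hc
  have key : ∀ c ∈ Y, c ∈ omegaCenterOf Q → f • h.sec.bar c = h.sec.bar c → c = 1 :=
    fun c hc hc' e => pl f hf (by rwa [fixg u huZ]) c hc (by rwa [fixg c hc']) e
      (by rwa [fixg c hc'])
  have hsame : ∀ s ∈ h.sec.imgK S, s * f * s⁻¹ = f ∨ s * f * s⁻¹ = f⁻¹ := fun s' hs' => by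
    obtain ⟨s, hs, hsL, rfl⟩ := h.sec.mem_imgK.1 hs'
    refine (hf.dich h.red (hf.conj _)).resolve_right fun e => conj_ne_one (g := s) hu1 ?_
    refine key _ (h.sec.conj_V hsL hu)
      (mem_normalizer_conj (normalizer_le_normalizer_oc Q (hSQ hs)) huZ) (mem_fx.1 (e.2 ?_))
    rw [cV_conj, ← h.sec.hat_smul hsL hu]
    exact smul_mem_smul _ huf
  have hbot : fx h.sec.Mo f = ⊥ := by
    by_contra hne
    obtain ⟨t, ht1, ht2, ht3⟩ := exists_fixed_of_invt h.red.expo (h.sec.isPGroup_imgK hS)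
      (fun s hs => inv_fx_of_or (hsame s hs)) hne
    obtain ⟨z, hz, rfl⟩ := h.sec.exists_bar t
    refine ht2 ((h.sec.bar_eq_one' hz).2 (key z hz (mem_oc.2 ⟨hYQ hz, fun q hq => ?_,
      ea_sq h.sec.ea hz⟩) (mem_fx.1 ht1)))
    exact (h.sec.hat_smul_eq_iff' (hSL (hQS hq)) hz).1
      (ht3 _ (h.sec.hat_mem_imgK (hQS hq) (hSL (hQS hq))))
  rw [← h.sec.card_Mo, card_eq_of_fx_eq_bot hbot, hf.card]

end S1

end Cfsg.Lib.Ngrp
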