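import Cfsg.Agent.Ngrp.NatS1
import Cfsg.Agent.Ngrp.NatC2
import Cfsg.Agent.Ngrp.NatK3

set_option autoImplicit false
set_option linter.unusedSectionVars false

namespace Cfsg.Lib.Ngrp
open Subgroup Cfsg.Lib.Trans Cfsg.Lib.Local Cfsg.Lib.Local.MSS Cfsg.Lib.Local.JC Cfsg.Lib.Trans.TJ
open Cfsg.Lib.Local.Tv Cfsg.Lib.Ngrp.Geo
open scoped commutatorElement Pointwise

variable {G : Type*} [Group G] [Finite G]

local notation "𝐍 " X:max => normalizer (X : Set G)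
local notation "𝐂 " X:max => centralizer (X : Set G)

theorem mem_of_pow_two_pow {P : Subgroup G} {d : G} (ho : Odd (orderOf d)) (k : ℕ)
    (h : d ^ 2 ^ k ∈ P) : d ∈ P :=
  zpowers_le.2 h (mem_zpowers_pow_iff.2 (Nat.Coprime.pow_left k (Nat.coprime_two_left.2 ho)))

theorem mem_of_inv_conj {P : Subgroup G} {a d : G} (ho : Odd (orderOf d))
    (hinv : a * d * a⁻¹ = d⁻¹) (h1 : a ∈ P) (h2 : d⁻¹ * a * d ∈ P) : d ∈ P := by
  refine mem_of_pow_two_pow ho 1 ?_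
  have h3 : d ^ 2 ^ 1 = (d⁻¹ * a * d * a⁻¹)⁻¹ := by
    rw [mul_assoc, mul_assoc, ← mul_assoc a, hinv]; group
  rw [h3]; exact inv_mem (mul_mem h2 (inv_mem h1))

theorem mem_of_inv_conj₂ {P : Subgroup G} {a d : G} (ho : Odd (orderOf d))
    (hinv : a * d * a⁻¹ = d⁻¹) (h1 : d * a * d⁻¹ ∈ P) (h2 : d⁻¹ * a * d ∈ P) : d ∈ P := by
  refine mem_of_pow_two_pow ho 2 ?_
  have h4 : a⁻¹ * d * a = d⁻¹ := by
    rw [← inv_inj, inv_inv]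
    calc (a⁻¹ * d * a)⁻¹ = a⁻¹ * d⁻¹ * a := by group
      _ = d := by rw [← hinv]; group
  have h5 : (d * a * d⁻¹)⁻¹ * (d⁻¹ * a * d) = d ^ 2 ^ 2 := by
    calc (d * a * d⁻¹)⁻¹ * (d⁻¹ * a * d) = d * (a⁻¹ * d * a)⁻¹ * (a⁻¹ * d * a)⁻¹ * d := by group
      _ = d ^ 4 := by rw [h4, inv_inv]; simp only [pow_succ, pow_zero, one_mul]
  rw [← h5]; exact mul_mem (inv_mem h1) h2

theorem two_mul_card_le_of_lt' {A B : Subgroup G} (hA : IsPGroup 2 A) (hB : IsPGroup 2 B)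
    (h : Nat.card A < Nat.card B) : 2 * Nat.card A ≤ Nat.card B := by
  obtain ⟨m, hm⟩ := IsPGroup.iff_card.1 hA
  obtain ⟨n, hn⟩ := IsPGroup.iff_card.1 hB
  rw [hm, hn] at h ⊢
  rw [← pow_succ']
  exact Nat.pow_le_pow_right two_pos ((Nat.pow_lt_pow_iff_right one_lt_two).1 h)

namespace CaseC

variable {S : Sylow 2 G} {Y H : Subgroup G} (h : CaseC S Y H)
include h

/-- Step (s1). -/
theorem s1 (hY : Y ≤ pCoreOf 2 H) : Nat.card Y = 4 ∨ ∀ g ∈ H, cj g Y ≤ 𝐂 Y := by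
  refine or_iff_not_imp_left.2 fun h4 g hg => ?_
  rw [← h.K_sup, ← SetLike.mem_coe, coe_mul_of_right_le_normalizer_left _ _ (h.SH.trans h.nK)] at hg
  obtain ⟨k, hk, s, hs, rfl⟩ := hg
  rw [cj_mul, cj_eq_of_mem_normalizer (h.le hs)]
  by_contra hn
  have key : ∀ x ∈ H, cj x Y ≤ 𝐍 Y := fun x hx => by
    refine le_trans ?_ h.QM
    rw [← cj_eq_of_mem_normalizer (h.nQ hx)]; exact cj_mono x hY
  exact h4 (S1.card_eq_four ⟨h.ah, h.toMaxY.ffh.sec, h.toMaxY.ffh.red, key k (h.KH hk),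
    key _ (inv_mem (h.KH hk))⟩ S.isPGroup' h.le h.QS hY (h.SH.trans h.nQ) (h.nQ (h.KH hk))
    (h.K_le_cent_ocQ hk) hn)

theorem mkS2 {a d : G} (ha : a ∈ J (S : Subgroup G)) (hd : d ∈ resOf 2 H) (ho : Odd (orderOf d))
    (hinv : a * d * a⁻¹ = d⁻¹) {B : Subgroup h.toMaxY.ffh.sec.Kq}
    (hB : B ≤ h.toMaxY.ffh.sec.imgK S) (sq : ∀ b ∈ B, b * b = 1)
    (hE : ∀ b ∈ B, h.toMaxY.ffh.sec.img (Y ⊓ Cz d) ≤ fx _ b)
    (hl : ∀ b ∈ B, ∀ t ∈ Y ⊓ Cz d, ∃ β ∈ 𝐍 Y, β ∈ ncl (zpowers d) (Cz t) ∧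
      h.toMaxY.ffh.sec.hat β = b) :
    S2 h.toMaxY.ffh.sec.Mo (h.toMaxY.ffh.sec.imgK S) (h.toMaxY.ffh.sec.imgK (J (S : Subgroup G))) B
      (h.toMaxY.ffh.sec.img (Y ⊓ Cz d)) := by
  set F := h.toMaxY.ffh
  refine ⟨F.sec.isPGroup_imgK S.isPGroup', F.sec.imgK_mono (J_le _), hB, sq,
    fun j hj => (mem_NrmD.1 (F.imgK_J_le_NrmD hj)).1, ?_, hE, fun v hv => ?_,
    fun t₀ ht₀ h1 hJ e he he1 het b hb => ?_⟩
  · by_cases hJ : J (S : Subgroup G) ≤ 𝐂 Y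
    · refine Or.inl (eq_bot_iff.2 fun j hj => ?_)
      obtain ⟨c, hc, hc', rfl⟩ := F.sec.mem_imgK.1 hj
      exact (F.sec.hat_eq_one' hc').2 (hJ hc)
    · obtain ⟨A, a, hA, hh, ha, hc⟩ := F.exists_half_of_not_le hJ
      exact Or.inr ⟨_, F.sec.hat_mem_imgK (hA.le_J ha) (h.le (hA.le ha)), F.ffc hA hh ha hc⟩
  · obtain ⟨z, hz, rfl⟩ := F.sec.exists_bar v
    refine F.sec.bar_mem_img ⟨hz, mem_Cz.2 (h.K_le_cent_Z hd z (mem_oc.2 ⟨h.toMaxY.YS hz,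
      fun s hs => ?_, ea_sq F.ea hz⟩))⟩ hz
    exact (F.sec.hat_smul_eq_iff' (h.le hs) hz).1 (hv _ (F.sec.hat_mem_imgK hs (h.le hs)))
  · obtain ⟨t, ht, ht', rfl⟩ := F.sec.mem_img.1 ht₀
    obtain ⟨β, hβ, hβ', rfl⟩ := hl b hb t ht
    refine h.toMaxY.pj_d h.nj ht' (fun e => h1 (by rw [e, F.sec.bar_one])) (fun j hj => ?_) ha
      (Cz_symm ht.2) ho hinv he he1 het hβ hβ' (k := 1) (by rw [pow_one, pow_two, sq _ hb])
    exact mem_Cz.2 ((F.sec.hat_smul_eq_iff' (F.J_le hj) ht').1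
      (hJ _ (F.sec.hat_mem_imgK hj (F.J_le hj))))

end CaseC

namespace Adm

variable {S : Sylow 2 G} {Y H A A₁ : Subgroup G} {a d : G} (m : Adm S Y H A A₁ a d)
  (h : CaseC S Y H) (hA : MaxEA 2 ((S : Subgroup G) ⊓ centralizer (Y : Set G)) A)
include m hA

theorem sh_mem_E {x : G} (hx : x ∈ cj d⁻¹ Y) (hax : a ∈ Cz x) : x ∈ Y ⊓ Cz d := by
  have h1 : d * x * d⁻¹ ∈ Y := mem_cj_inv.1 hx
  have h2 : d⁻¹ * a * d ∈ Cz x := by
    have h3 := conj_mem_Cz d⁻¹ (le_Cz_of_mem h1 (hA.le m.ha).2)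
    rwa [show d⁻¹ * (d * x * d⁻¹) * d⁻¹⁻¹ = x by group, inv_inv] at h3
  have h4 := mem_of_inv_conj m.odd m.inv hax h2
  rw [Cz_conj h4] at h1
  exact ⟨h1, Cz_symm h4⟩

theorem sh_mem_E₂ {x : G} (hx : x ∈ cj d⁻¹ Y) (hx' : x ∈ cj d Y) : x ∈ Y ⊓ Cz d := by
  have h1 : d * x * d⁻¹ ∈ Y := mem_cj_inv.1 hx
  have h2 : d⁻¹ * a * d ∈ Cz x := by
    have h3 := conj_mem_Cz d⁻¹ (le_Cz_of_mem h1 (hA.le m.ha).2)
    rwa [show d⁻¹ * (d * x * d⁻¹) * d⁻¹⁻¹ = x by group, inv_inv] at h3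
  have h3 : d * a * d⁻¹ ∈ Cz x := by
    have h3 := conj_mem_Cz d (le_Cz_of_mem (mem_cj.1 hx') (hA.le m.ha).2)
    rwa [show d * (d⁻¹ * x * d) * d⁻¹ = x by group] at h3
  have h4 := mem_of_inv_conj₂ m.odd m.inv h3 h2
  rw [Cz_conj h4] at h1
  exact ⟨h1, Cz_symm h4⟩

omit hA in
theorem sh_E_le : Y ⊓ Cz d ≤ cj d⁻¹ Y := fun x hx => by
  rw [mem_cj_inv, Cz_conj (Cz_symm hx.2)]; exact hx.1

include h

theorem sh_E_eq : Y ⊓ Cz d = Y ⊓ cj d⁻¹ Y :=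
  le_antisymm (le_inf inf_le_left m.sh_E_le) fun _ hx =>
    m.sh_mem_E hA hx.2 (le_Cz_of_mem hx.1 (hA.le m.ha).2)

omit hA in
theorem sh_RH_norm {g : G} (hg : g = d ∨ g = d⁻¹) : A₁ ⊔ pCoreOf 2 H ≤ 𝐍 (cj g Y) := by
  have h1 : g ∈ 𝐍 (A₁ ⊔ pCoreOf 2 H : Subgroup G) := by
    rcases hg with rfl | rfl
    exacts [m.norm_RH h, inv_mem (m.norm_RH h)]
  rw [← cj_normalizer, ← cj_eq_of_mem_normalizer h1]
  exact cj_mono g ((m.RH_le h).trans h.le)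

omit hA in
theorem Bs_le : cj d A₁ ≤ S := by
  refine le_trans ?_ (m.RH_le h)
  rw [← cj_eq_of_mem_normalizer (m.norm_RH h)]
  exact cj_mono d le_sup_left

theorem sh_P_le : ⁅pCoreOf 2 H, zpowers d⁆ ≤ 𝐂 (Y ⊓ Cz d : Subgroup G) := by
  have h1 : pCoreOf 2 H ≤ 𝐍 (Y ⊓ Cz d : Subgroup G) := by
    rw [m.sh_E_eq h hA]
    exact le_normalizer_inf₂ h.QM (le_sup_right.trans (m.sh_RH_norm h (Or.inr rfl)))
  refine commutator_le.2 fun q hq x hx => comm_mem_right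
    (normalizer_le_normalizer_centralizer _ (h1 hq)) (zpowers_le.2 ?_ hx)
  exact fun y hy => mem_Cz.1 hy.2

variable (hY : Y ≤ pCoreOf 2 H)
include hY

/-- The case `k = 0` of (s2). -/
theorem s2_zero (hi : (h.toMaxY.ffh.sec.img (Y ⊓ Cz d)).index ≤ 2) : Nat.card Y = 4 := by
  set F := h.toMaxY.ffh
  have hdQ : zpowers d ≤ 𝐍 (pCoreOf 2 H) := zpowers_le.2 (h.nQ (m.dH h))
  have hPQ : ⁅pCoreOf 2 H, zpowers d⁆ ≤ pCoreOf 2 H :=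
    commutator_le.2 fun q hq x hx => comm_mem_left hq (hdQ hx)
  obtain ⟨β, hβ, hβ1, hβ2⟩ := CaseC.exists_sq_mem (h.pQ.to_le hPQ) (h.k2d hY (m.dH h) m.dM)
  have hβM : β ∈ 𝐍 Y := h.QM (hPQ hβ)
  have sq : F.sec.hat β * F.sec.hat β = 1 := by
    rw [← F.sec.hat_mul hβM hβM, F.sec.hat_eq_one' (mul_mem hβM hβM)]; exact hβ2
  have ne : F.sec.hat β ≠ 1 := fun e => hβ1 ((F.sec.hat_eq_one' hβM).1 e)
  have hP : ⁅⁅pCoreOf 2 H, zpowers d⁆, zpowers d⁆ = ⁅pCoreOf 2 H, zpowers d⁆ := by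
    refine Solv.Coprime.commutator_commutator hdQ ?_
    obtain ⟨n, hn⟩ := IsPGroup.iff_card.1 h.pQ
    rw [hn, Nat.card_zpowers]
    exact (Nat.coprime_two_right.2 m.odd).pow_right n
  have s2 := h.mkS2 ((F.maxEA_up hA).le_J m.ha) m.dK m.odd m.inv (B := zpowers (F.sec.hat β))
    (zpowers_le.2 (F.sec.hat_mem_imgK (h.QS (hPQ hβ)) hβM))
    (fun b hb => by rcases (mem_zpowers_two sq).1 hb with rfl | rfl; exacts [mul_one 1, sq])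
    (fun b hb x hx => by
      rcases (mem_zpowers_two sq).1 hb with rfl | rfl
      · exact mem_fx.2 (one_smul _ _)
      · obtain ⟨t, ht, ht', rfl⟩ := F.sec.mem_img.1 hx
        exact (F.sec.bar_mem_fx' hβM ht').2 (m.sh_P_le h hA hβ t ht).symm)
    (fun b hb t ht => by
      rcases (mem_zpowers_two sq).1 hb with rfl | rfl
      · exact ⟨1, one_mem _, one_mem _, F.sec.hat_one⟩
      · refine ⟨β, hβM, ?_, rfl⟩
        rw [ncl_eq]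
        refine mem_sup_left (commutator_mono ((m.sh_P_le h hA).trans (le_Cz_of_mem ht)) le_rfl ?_)
        rwa [hP])
  rw [← F.sec.card_Mo]
  exact s2.card_eq_four_of_le F.red (by rwa [Ne, zpowers_eq_bot]) (by rwa [card_zpowers_two sq ne])

variable (hc : ∀ g ∈ H, cj g Y ≤ centralizer (Y : Set G))
include hc

omit hA in
theorem sh_cj_le_R {g : G} (hg : g ∈ H) : cj g Y ≤ (S : Subgroup G) ⊓ 𝐂 Y := by
  refine le_inf (le_trans ?_ h.QS) (hc g hg)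
  rw [← cj_eq_of_mem_normalizer (h.nQ hg)]; exact cj_mono g hY

theorem sh_inf_eq : A₁ ⊓ 𝐂 (cj d⁻¹ Y) ⊓ cj d⁻¹ Y = Y ⊓ Cz d := by
  refine le_antisymm (fun x hx => m.sh_mem_E hA hx.2 (mem_Cz.2 (ea_comm' m.ea m.ha (m.le hx.1.1))))
    (le_inf (le_inf ?_ ?_) m.sh_E_le)
  · exact inf_le_left.trans ((le_inf (h.toMaxY.ffh.le_of_maxEA hA) hY).trans m.AQ)
  · exact m.sh_E_le.trans (ea_le_centralizer (ea_cj' h.toMaxY.ea _))

theorem sh_card_star : Nat.card (A₁ ⊓ 𝐂 (cj d⁻¹ Y) ⊔ cj d⁻¹ Y : Subgroup G) =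
    Nat.card (A₁ ⊓ 𝐂 (cj d⁻¹ Y) : Subgroup G) * (h.toMaxY.ffh.sec.img (Y ⊓ Cz d)).index := by
  have h1 := CD.card_sup_mul_card_inf_of_le_centralizer
    (inf_le_right : A₁ ⊓ 𝐂 (cj d⁻¹ Y) ≤ 𝐂 (cj d⁻¹ Y))
  rw [m.sh_inf_eq h hA hY hc, card_cj, ← h.toMaxY.ffh.sec.card_Mo,
    ← (h.toMaxY.ffh.sec.img (Y ⊓ Cz d)).index_mul_card, h.toMaxY.ffh.sec.card_img' inf_le_left,
    ← mul_assoc] at h1
  exact Nat.eq_of_mul_eq_mul_right Nat.card_pos h1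

omit hA hY hc in
theorem sh_card_A : Nat.card A = Nat.card (A₁ ⊓ 𝐂 (cj d⁻¹ Y) : Subgroup G) *
    (2 * Nat.card (h.toMaxY.ffh.sec.imgK (cj d A₁))) := by
  have h1 := h.toMaxY.ffh.sec.card_imgK' ((m.Bs_le h).trans h.le)
  have h2 : cj d A₁ ⊓ 𝐂 Y = cj d (A₁ ⊓ 𝐂 (cj d⁻¹ Y)) := by
    rw [cj_inf, cj_centralizer, cj_cj_inv]
  rw [h2, card_cj, card_cj] at h1
  rw [m.card_eq h, h1]; ring

omit hA hY hc h in
theorem sh_ea_star (hY : IsElementaryAbelian 2 Y) :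
    IsElementaryAbelian 2 (A₁ ⊓ 𝐂 (cj d⁻¹ Y) ⊔ cj d⁻¹ Y : Subgroup G) :=
  ea_sup (ea_mono m.ea₁ inf_le_left) (ea_cj' hY _) inf_le_right

theorem sh_star_le : A₁ ⊓ 𝐂 (cj d⁻¹ Y) ⊔ cj d⁻¹ Y ≤ (S : Subgroup G) ⊓ 𝐂 Y :=
  sup_le (inf_le_left.trans (m.le.trans hA.le)) (m.sh_cj_le_R h hY hc (inv_mem (m.dH h)))

theorem sh_quad (hs : MaxEA 2 ((S : Subgroup G) ⊓ 𝐂 Y) (A₁ ⊓ 𝐂 (cj d⁻¹ Y) ⊔ cj d⁻¹ Y)) {b y : G}
    (hb : b ∈ A₁) (hy : y ∈ Y) : ⁅d * b * d⁻¹, y⁆ ∈ Y ⊓ Cz d := by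
  have ai : a⁻¹ = a := inv_eq_of_sq m.a_sq
  have had : ∀ y ∈ Y, a * (d⁻¹ * y * d) * a⁻¹ = d * y * d⁻¹ := fun y hy => by
    calc a * (d⁻¹ * y * d) * a⁻¹ = (a * d * a⁻¹)⁻¹ * (a * y * a⁻¹) * (a * d * a⁻¹) := by group
      _ = d * y * d⁻¹ := by
        rw [m.inv, inv_inv, conj_eq_of_mem_centralizer (hA.le m.ha).2 hy]
  have h1 : cj d Y ≤ 𝐂 (cj d⁻¹ Y) := by
    rw [← cj_centralizer, ← cj_inv_le_iff_le_cj, inv_inv, cj_cj]
    exact hc _ (mul_mem (m.dH h) (m.dH h))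
  have h2 : cj d Y ≤ A₁ ⊓ 𝐂 (cj d⁻¹ Y) ⊔ cj d⁻¹ Y := by
    refine hs.le_of_le_centralizer (m.sh_cj_le_R h hY hc (m.dH h)) (ea_cj' h.toMaxY.ea _) ?_
    rw [centralizer_sup']
    refine le_inf (fun x hx c hc' => ?_) h1
    have h3 : d⁻¹ * (d⁻¹ * x * d) * d ∈ cj d⁻¹ Y := by
      rw [mem_cj_inv]; convert mem_cj.1 hx using 1; group
    have h4 := had _ (mem_cj.1 hx)
    have h5 := hc'.2 _ h3
    have h6 := ea_comm' m.ea m.ha (m.le hc'.1)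
    rw [show d * (d⁻¹ * x * d) * d⁻¹ = x by group] at h4
    rw [← h4]
    calc c * (a * (d⁻¹ * (d⁻¹ * x * d) * d) * a⁻¹)
        = a * (c * (d⁻¹ * (d⁻¹ * x * d) * d)) * a⁻¹ := by rw [← mul_assoc, ← mul_assoc c, ← h6]; group
      _ = a * (d⁻¹ * (d⁻¹ * x * d) * d) * (c * a⁻¹) := by rw [← h5]; group
      _ = _ := by rw [ai, ← h6]; group
  set x := d⁻¹ * y * d with hx
  set x' := d * y * d⁻¹ with hx'
  have m1 : x ∈ cj d⁻¹ Y := by rw [mem_cj_inv, hx]; convert hy using 1; group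
  have m2 : x' ∈ cj d Y := conj_mem_cj.2 hy
  have c1 : x * x' = x' * x := h1 m2 x m1
  have a1 : a * x * a⁻¹ = x' := had y hy
  have a2 : a * x' * a⁻¹ = x := by
    rw [← a1, ai]
    calc a * (a * x * a) * a = a * a * x * (a * a) := by group
      _ = x := by rw [m.a_sq]; group
  have h7 : x * x' ∈ A₁ := by
    have h8 : x * x' ∈ A₁ ⊓ 𝐂 (cj d⁻¹ Y) ⊔ cj d⁻¹ Y := mul_mem (mem_sup_right m1) (h2 m2)
    rw [← SetLike.mem_coe, coe_mul_of_left_le_normalizer_right _ _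
      (inf_le_right.trans (centralizer_le_normalizer _))] at h8
    obtain ⟨c, hc', w, hw, e⟩ := h8
    have e' : c * w = x * x' := e
    have h9 : a * w * a⁻¹ = w := by
      have h10 : a * (c * w) * a⁻¹ = c * w := by
        rw [e']
        calc a * (x * x') * a⁻¹ = (a * x * a⁻¹) * (a * x' * a⁻¹) := by group
          _ = x * x' := by rw [a1, a2, c1]
      rw [← mul_assoc, ea_comm' m.ea m.ha (m.le hc'.1), mul_assoc c, mul_assoc c] at h10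
      exact mul_left_cancel h10
    have h11 := m.sh_mem_E hA hw (mem_Cz'.2 h9)
    rw [← m.sh_inf_eq h hA hY hc] at h11
    rw [← e']; exact mul_mem hc'.1 h11.1.1
  have n1 := m.sh_RH_norm h (Or.inr rfl) (mem_sup_left hb)
  have n2 := m.sh_RH_norm h (Or.inl rfl) (mem_sup_left hb)
  have k1 : ⁅b, x⁆ ∈ cj d⁻¹ Y := comm_mem_right n1 m1
  have k2 : ⁅b, x⁆ ∈ cj d Y := by
    have h12 : b * (x * x') = x * x' * b := ea_comm' m.ea₁ hb h7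
    have h13 : b * x * b⁻¹ = x * x' * (b * x' * b⁻¹)⁻¹ := by
      calc b * x * b⁻¹ = b * (x * x') * x'⁻¹ * b⁻¹ := by group
        _ = _ := by rw [h12]; group
    have h14 := mul_mem m2 (inv_mem (mem_normalizer_conj n2 m2))
    have h15 : ⁅b, x⁆ = x' * (b * x' * b⁻¹)⁻¹ := by
      rw [commutatorElement_def, h13, mul_assoc x, h1 h14 x m1]; group
    rwa [h15]
  have k3 := m.sh_mem_E₂ hA k1 k2
  have k4 : ⁅d * b * d⁻¹, y⁆ = d * ⁅b, x⁆ * d⁻¹ := by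
    rw [comm_conj, hx]; congr 1; group
  rwa [k4, Cz_conj (Cz_symm k3.2)]

/-- Step (s2). -/
theorem s2 : Nat.card Y = 4 := by
  set F := h.toMaxY.ffh
  have h1 := hA.card_le (m.sh_star_le h hA hY hc) (m.sh_ea_star F.ea)
  have h2 := m.sh_card_star h hA hY hc
  have h3 := m.sh_card_A h
  have hi : (F.sec.img (Y ⊓ Cz d)).index ≤ 2 * Nat.card (F.sec.imgK (cj d A₁)) := by
    rw [h2, h3] at h1; exact Nat.le_of_mul_le_mul_left h1 Nat.card_pos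
  by_cases h0 : F.sec.imgK (cj d A₁) = ⊥
  · rw [h0, card_bot] at hi; exact m.s2_zero h hA hY hi
  have hBM := (m.Bs_le h).trans h.le
  have s2 := h.mkS2 ((F.maxEA_up hA).le_J m.ha) m.dK m.odd m.inv (B := F.sec.imgK (cj d A₁))
    (F.sec.imgK_mono (m.Bs_le h)) (F.sec.imgK_sq_of_ea (ea_cj' m.ea₁ d))
    (fun b hb x hx => by
      obtain ⟨β, hβ, hβ', rfl⟩ := F.sec.mem_imgK.1 hb
      obtain ⟨t, ht, ht', rfl⟩ := F.sec.mem_img.1 hx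
      have h4 := conj_mem_Cz d (le_Cz_of_mem ht' (hA.le (m.le (mem_cj.1 hβ))).2)
      rw [Cz_conj (Cz_symm ht.2), show d * (d⁻¹ * β * d) * d⁻¹ = β by group] at h4
      exact (F.sec.bar_mem_fx' hβ' ht').2 (mem_Cz.1 h4))
    (fun b hb t ht => by
      obtain ⟨β, hβ, hβ', rfl⟩ := F.sec.mem_imgK.1 hb
      have h4 := (hA.le (m.le (mem_cj.1 hβ))).2
      have h5 := centralizer_le_normalizer _ h4
      refine ⟨β * (d⁻¹ * β * d)⁻¹, mul_mem hβ' (inv_mem h5), ?_, ?_⟩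
      · have h6 : β * (d⁻¹ * β * d)⁻¹ = d * ((d⁻¹ * β * d) * d * (d⁻¹ * β * d)⁻¹)⁻¹ := by group
        rw [h6]
        exact mul_mem (le_ncl _ _ (mem_zpowers d)) (inv_mem
          (cj_le_ncl _ (le_Cz_of_mem ht.1 h4) (conj_mem_cj.2 (mem_zpowers d))))
      · rw [F.sec.hat_mul hβ' (inv_mem h5), (F.sec.hat_eq_one' (inv_mem h5)).2 (inv_mem h4),
          mul_one])
  rw [← F.sec.card_Mo]
  rcases h1.lt_or_eq with h4 | h4
  · refine s2.card_eq_four_of_le F.red h0 ?_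
    have h5 := two_mul_card_le_of_lt' (isPGroup_of_ea (m.sh_ea_star F.ea)) (isPGroup_of_ea m.ea) h4
    rw [h2, h3] at h5
    have p : 0 < Nat.card (A₁ ⊓ 𝐂 (cj d⁻¹ Y) : Subgroup G) := Nat.card_pos
    nlinarith
  have hs := hA.of_card_le (m.sh_star_le h hA hY hc) (m.sh_ea_star F.ea) h4.ge
  have hq : ∀ b ∈ A₁, ∀ y ∈ Y, ⁅d * b * d⁻¹, y⁆ ∈ Y ⊓ Cz d := fun b hb y hy =>
    m.sh_quad h hA hY hc hs hb hy
  refine (s2.of_quad F.red h0 hi fun b hb x hx => ?_).resolve_right ?_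
  · obtain ⟨β, hβ, hβ', rfl⟩ := F.sec.mem_imgK.1 hb
    obtain ⟨v, rfl⟩ := mem_cV.1 hx
    obtain ⟨y, hy, rfl⟩ := F.sec.exists_bar v
    have h5 := hq _ (mem_cj.1 hβ) y hy
    rw [show d * (d⁻¹ * β * d) * d⁻¹ = β by group] at h5
    rw [← cm_apply, F.sec.cm_hat hβ' hy]
    exact F.sec.bar_mem_img h5 h5.1
  rintro ⟨β', hβ', -, k1, k2, k3, k4⟩
  obtain ⟨β, hβ, hβM, rfl⟩ := F.sec.mem_imgK.1 hβ'
  obtain ⟨b, hb, rfl⟩ : ∃ b ∈ A₁, β = d * b * d⁻¹ := ⟨_, mem_cj.1 hβ, by group⟩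
  rw [F.sec.card_Mo] at k1
  rw [F.sec.card_img' inf_le_left] at k2
  refine CaseK.false (S := S) (Y := Y) (E := Y ⊓ Cz d) (A := A) (a := a) (b := b) (d := d)
    ⟨h.toMaxY, k1, k2, inf_le_left, hA, m.ha, m.le hb, m.odd, m.inv, fun y hy => mem_Cz.1 hy.2,
      m.Bs_le h hβ, fun y hy => ?_, fun y hy => ?_, fun x hx hxE => ?_⟩
  · rw [← commutatorElement_inv]; exact inv_mem (hq b hb y hy)
  · rw [← commutatorElement_inv, inv_eq_one, F.sec.comm_eq_one_iff hβM hy, ← mem_fx, k3,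
      F.sec.bar_mem_img' hy]
  · rw [← F.sec.hat_eq_one' hx, ← F.sec.hat_eq_one' (mul_mem hx hβM), F.sec.hat_mul hx hβM]
    refine k4 _ fun v hv => ?_
    obtain ⟨t, ht, ht', rfl⟩ := F.sec.mem_img.1 hv
    exact (F.sec.bar_mem_fx' hx ht').2 (hxE t ht).symm

end Adm

end Cfsg.Lib.Ngrp
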