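import Cfsg.Agent.Ngrp.NatC2

/-!
# Case (C), `Y ≰ O₂(H)`: the groups `I`, `N`, `E` and the nearly quadratic action
-/

set_option autoImplicit false
set_option linter.unusedSectionVars false

namespace Cfsg.Lib.Ngrp
open Subgroup Cfsg.Lib.Trans Cfsg.Lib.Local Cfsg.Lib.Local.MSS Cfsg.Lib.Local.JC Cfsg.Lib.Trans.TJ
open Cfsg.Lib.Local.Tv Cfsg.Lib.Ngrp.Geo
open scoped commutatorElement Pointwise

variable {G : Type*} [Group G] [Finite G]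

local notation "𝐍 " X:max => normalizer (X : Set G)
local notation "𝐂 " X:max => centralizer (X : Set G)

/-- The elements of `L` centralizing the set `V` modulo `E`. -/
def kerMod {L E : Subgroup G} (h : L ≤ 𝐍 E) (V : Set G) : Subgroup G where
  carrier := {c | c ∈ L ∧ ∀ u ∈ V, ⁅c, u⁆ ∈ E}
  one_mem' := ⟨one_mem _, fun u _ => by simp⟩
  mul_mem' := fun {c d} hc hd => ⟨mul_mem hc.1 hd.1, fun u hu => by
    have := mul_mem (mem_normalizer_conj (h hc.1) (hd.2 u hu)) (hc.2 u hu)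
    convert this using 1
    simp only [commutatorElement_def]
    group⟩
  inv_mem' := fun {c} hc => ⟨inv_mem hc.1, fun u hu => by
    have := inv_mem (mem_normalizer_conj (h (inv_mem hc.1)) (hc.2 u hu))
    convert this using 1
    simp only [commutatorElement_def]
    group⟩

theorem mem_kerMod {L E : Subgroup G} {h : L ≤ 𝐍 E} {V : Set G} {c : G} :
    c ∈ kerMod h V ↔ c ∈ L ∧ ∀ u ∈ V, ⁅c, u⁆ ∈ E := Iff.rfl

theorem mem_of_conj_mem {X : Subgroup G} {a d : G} (ho : Odd (orderOf d))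
    (hinv : a * d * a⁻¹ = d⁻¹) (h1 : a ∈ X) (h2 : d * a * d⁻¹ ∈ X) : d ∈ X :=
  mem_of_inverted ho hinv (mul_mem h2 (inv_mem h1))

theorem pow_conj_mul_mem {W : Subgroup G} {x r e : G} (hx : x ∈ 𝐍 W) (he : e ∈ 𝐍 W)
    (h1 : ⁅x, r⁆ = e) (h2 : ⁅x, e⁆ ∈ W) (n : ℕ) : ⁅x ^ n, r⁆ * (e ^ n)⁻¹ ∈ W := by
  induction n with
  | zero => simp
  | succ n ih =>
    have h3 : ∀ k : ℕ, ⁅x, e ^ k⁆ ∈ W := fun k => by
      induction k with
      | zero => simp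
      | succ k ihk =>
        have := mul_mem h2 (mem_normalizer_conj he ihk)
        convert this using 1
        simp only [commutatorElement_def, pow_succ']
        group
    have := mul_mem (mem_normalizer_conj hx ih) (h3 n)
    convert this using 1
    rw [pow_succ e, mul_inv_rev, ← mul_assoc, eq_comm, ← eq_mul_inv_iff_mul_eq, pow_succ']
    conv_rhs => rw [← h1]
    simp only [commutatorElement_def, ← h1]
    group

/-- An element of odd order acting on a coset `r W₁` of a 2-group centralized modulo `W`. -/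
theorem comm_mem_of_odd {W D : Subgroup G} {x r : G} (hD : IsPGroup 2 D) (ho : Odd (orderOf x))
    (hx : x ∈ 𝐍 W) (hn : D ≤ 𝐍 W) (h1 : ⁅x, r⁆ ∈ D) (h2 : ⁅x, ⁅x, r⁆⁆ ∈ W) : ⁅x, r⁆ ∈ W := by
  have h3 := pow_conj_mul_mem hx (hn h1) rfl h2 (orderOf x)
  rw [pow_orderOf_eq_one, commutatorElement_one_left, one_mul, inv_mem_iff] at h3
  obtain ⟨n, hn⟩ := hD ⟨_, h1⟩
  refine MSS.mem_of_pow_mem_of_coprime ?_ h3
  exact Nat.Coprime.coprime_dvd_left (orderOf_dvd_of_pow_eq_one (congrArg Subtype.val hn))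
    (Nat.Coprime.pow_left n (Nat.coprime_two_left.2 ho))

theorem comm_eq_one_of_odd {D : Subgroup G} {x r : G} (hD : IsPGroup 2 D) (ho : Odd (orderOf x))
    (h1 : ⁅x, r⁆ ∈ D) (h2 : x ∈ 𝐂 D) : ⁅x, r⁆ = 1 :=
  comm_mem_of_odd (W := ⊥) hD ho (mem_normalizer_bot _) (fun g _ => mem_normalizer_bot g) h1
    (commutatorElement_eq_one_iff_mul_comm.2 (h2 _ h1).symm)

theorem exists_odd_pow_mem {T L : Subgroup G} (hT : IsSylowIn 2 T L) (hn : L ≤ 𝐍 T) {x : G}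
    (hx : x ∈ L) : ∃ m, Odd m ∧ x ^ m ∈ T := by
  obtain ⟨a, m, hm, e⟩ := Nat.exists_eq_two_pow_mul_odd (orderOf_pos x).ne'
  have hp : IsPGroup 2 (zpowers (x ^ m)) := by
    refine IsPGroup.of_card_dvd_pow (n := a) ?_
    rw [Nat.card_zpowers]
    exact orderOf_dvd_of_pow_eq_one (by rw [← pow_mul, mul_comm, ← e, pow_orderOf_eq_one])
  obtain ⟨g, hg, h1⟩ := hT.exists_cj_le hp (zpowers_le.2 (pow_mem hx m))
  have := mem_normalizer_conj' (hn hg) (h1 (conj_mem_cj.2 (mem_zpowers _)))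
  exact ⟨m, hm, by simpa [mul_assoc] using this⟩

theorem comm_of_sq_eq_one {y b : G} (hy : y * y = 1) (hb : b * b = 1) (h : y * b * (y * b) = 1) :
    y * b = b * y := by
  rw [← inv_eq_of_sq h, mul_inv_rev, inv_eq_of_sq hy, inv_eq_of_sq hb]

namespace Adm

variable {S : Sylow 2 G} {Y H Y₁ : Subgroup G} {a d : G} (m : Adm S Y H Y Y₁ a d)
  (h : CaseC S Y H)
include m h

theorem Y1_RH : Y₁ ≤ Y₁ ⊔ pCoreOf 2 H := le_sup_left

theorem B_RH : cj d Y₁ ≤ Y₁ ⊔ pCoreOf 2 H := by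
  rw [← cj_eq_of_mem_normalizer (m.norm_RH h)]; exact cj_mono d le_sup_left

theorem B_le : cj d Y₁ ≤ cj d Y := cj_mono d m.le
theorem B_S : cj d Y₁ ≤ S := (m.B_RH h).trans (m.RH_le h)
theorem B_M : cj d Y₁ ≤ 𝐍 Y := (m.B_S h).trans h.le
theorem eaY' : IsElementaryAbelian 2 (cj d Y) := ea_cj' m.ea d
theorem eaB : IsElementaryAbelian 2 (cj d Y₁) := ea_cj' m.ea₁ d
theorem RH_nY : Y₁ ⊔ pCoreOf 2 H ≤ 𝐍 Y := (m.RH_le h).trans h.le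

theorem RH_nY' : Y₁ ⊔ pCoreOf 2 H ≤ 𝐍 (cj d Y) := by
  rw [← cj_normalizer, ← cj_eq_of_mem_normalizer (m.norm_RH h)]; exact cj_mono d (m.RH_nY h)

theorem inf_RH' : cj d Y ⊓ (Y₁ ⊔ pCoreOf 2 H) = cj d Y₁ := by
  conv_lhs => rw [← cj_eq_of_mem_normalizer (m.norm_RH h), ← cj_inf, m.inf_RH h]

theorem Y'_norm_RH : cj d Y ≤ 𝐍 (Y₁ ⊔ pCoreOf 2 H : Subgroup G) :=
  cj_le_of_mem_of_le (m.norm_RH h) (m.A_norm_RH h)

theorem a'_mem : d * a * d⁻¹ ∈ cj d Y := conj_mem_cj.2 m.ha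

theorem comm_Y_RH {y r : G} (hy : y ∈ Y) (hr : r ∈ Y₁ ⊔ pCoreOf 2 H) : ⁅y, r⁆ ∈ Y₁ :=
  m.inf_RH h ▸ ⟨comm_mem_left hy (m.RH_nY h hr), comm_mem_right (m.A_norm_RH h hy) hr⟩

theorem comm_Y'_RH {y r : G} (hy : y ∈ cj d Y) (hr : r ∈ Y₁ ⊔ pCoreOf 2 H) : ⁅y, r⁆ ∈ cj d Y₁ :=
  m.inf_RH' h ▸ ⟨comm_mem_left hy (m.RH_nY' h hr), comm_mem_right (m.Y'_norm_RH h hy) hr⟩

theorem comm_Y1_B {y b : G} (hy : y ∈ Y₁) (hb : b ∈ cj d Y₁) : ⁅y, b⁆ ∈ Y ⊓ cj d Y :=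
  ⟨comm_mem_left (m.le hy) (m.B_M h hb), comm_mem_right (m.RH_nY' h (mem_sup_left hy)) (m.B_le h hb)⟩

theorem d_mem_I : d ∈ Y ⊔ cj d Y :=
  mem_of_conj_mem m.odd m.inv (mem_sup_left m.ha) (mem_sup_right (m.a'_mem h))

theorem I_le_cent : Y ⊔ cj d Y ≤ 𝐂 (Y ⊓ cj d Y : Subgroup G) :=
  sup_le (ea_le_centralizer_of_le m.ea le_rfl inf_le_left)
    (ea_le_centralizer_of_le (m.eaY' h) le_rfl inf_le_right)

theorem I_H : Y ⊔ cj d Y ≤ H := sup_le (m.AS.trans h.SH) (cj_le_of_mem_of_le (m.dH h) (m.AS.trans h.SH))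

theorem mem_E_of_comm {y : G} (hy : y ∈ Y) (hc : d * y = y * d) : y ∈ Y ⊓ cj d Y :=
  ⟨hy, mem_cj.2 (by rwa [mul_assoc, ← hc, inv_mul_cancel_left])⟩

theorem mem_E_of_comm' {y : G} (hy : y ∈ cj d Y) (hc : d * y = y * d) : y ∈ Y ⊓ cj d Y :=
  ⟨by have := mem_cj.1 hy; rwa [mul_assoc, ← hc, inv_mul_cancel_left] at this, hy⟩

theorem comm_E {e : G} (he : e ∈ Y ⊓ cj d Y) : d * e = e * d := (m.I_le_cent h (m.d_mem_I h) e he).symm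

theorem E_le_Y1 : Y ⊓ cj d Y ≤ Y₁ := fun e he => (m.half e he.1).resolve_right fun h1 => by
  refine m.dM (h.QM (mem_of_inverted m.odd m.inv ?_))
  have := m.comm _ h1
  rwa [commutatorElement_def, show d * (a * e) * d⁻¹ * (a * e)⁻¹ = d * a * (e * d⁻¹ * e⁻¹) * a⁻¹ by group,
    show e * d⁻¹ * e⁻¹ = d⁻¹ by rw [mul_inv_eq_iff_eq_mul, eq_inv_mul_iff_mul_eq, ← mul_assoc,
      m.comm_E h he, mul_inv_cancel_right]] at this

theorem E_le_B : Y ⊓ cj d Y ≤ cj d Y₁ := fun e he =>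
  mem_cj.2 (by rw [mul_assoc, ← m.comm_E h he, inv_mul_cancel_left]; exact m.E_le_Y1 h he)

theorem Z_le_E : omegaCenterOf (S : Subgroup G) ≤ Y ⊓ cj d Y := fun z hz =>
  m.mem_E_of_comm h (h.toMaxY.Z_le hz) (h.K_le_cent_Z m.dK z hz).symm

theorem pE : IsPGroup 2 (Y ⊓ cj d Y : Subgroup G) := h.toMaxY.pg.to_inf_left

/-- What `a` and `a^d` centralize modulo `E` is centralized by `d`. -/
theorem comm_of_mem_E {r : G} (h1 : ⁅a, r⁆ ∈ Y ⊓ cj d Y) (h2 : ⁅d * a * d⁻¹, r⁆ ∈ Y ⊓ cj d Y) :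
    d * r = r * d := by
  have h3 : d ∈ kerMod ((m.I_le_cent h).trans (centralizer_le_normalizer _)) {r} :=
    mem_of_conj_mem m.odd m.inv ⟨mem_sup_left m.ha, fun u hu => hu ▸ h1⟩
      ⟨mem_sup_right (m.a'_mem h), fun u hu => hu ▸ h2⟩
  exact commutatorElement_eq_one_iff_mul_comm.1
    (comm_eq_one_of_odd (m.pE h) m.odd (h3.2 r rfl) (m.I_le_cent h (m.d_mem_I h)))

theorem inj_a {b : G} (hb : b ∈ cj d Y) (h1 : ⁅a, b⁆ ∈ Y ⊓ cj d Y) : b ∈ Y ⊓ cj d Y :=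
  m.mem_E_of_comm' h hb (m.comm_of_mem_E h h1 (by
    rw [commutatorElement_eq_one_iff_mul_comm.2 (ea_comm (m.eaY' h) (m.a'_mem h) hb)]
    exact one_mem _))

theorem inj_a' {y : G} (hy : y ∈ Y) (h1 : ⁅d * a * d⁻¹, y⁆ ∈ Y ⊓ cj d Y) : y ∈ Y ⊓ cj d Y :=
  m.mem_E_of_comm h hy (m.comm_of_mem_E h (by
    rw [commutatorElement_eq_one_iff_mul_comm.2 (ea_comm m.ea m.ha hy)]
    exact one_mem _) h1)

theorem B_cent {b : G} (hb : b ∈ cj d Y₁) (hc : b ∈ 𝐂 Y) : b ∈ Y ⊓ cj d Y :=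
  m.inj_a h (m.B_le h hb) (by
    rw [commutatorElement_eq_one_iff_mul_comm.2 (hc a m.ha)]; exact one_mem _)

theorem B_not_le : ¬ cj d Y₁ ≤ Y ⊓ cj d Y := fun e => by
  have e1 : Y₁ ≤ Y ⊓ cj d Y := by
    rw [← cj_le_cj (g := d), cj_eq_of_mem_centralizer (m.I_le_cent h (m.d_mem_I h))]; exact e
  refine m.ne_one (h.eq_one_of_cent (m.dH h) m.odd fun q hq => (m.comm_of_mem_E h ?_ ?_).symm)
  · exact e1 (m.comm_Y_RH h m.ha (mem_sup_right hq))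
  · exact e (m.comm_Y'_RH h (m.a'_mem h) (mem_sup_right hq))

theorem N_RH : Y₁ ⊔ cj d Y₁ ≤ Y₁ ⊔ pCoreOf 2 H := sup_le le_sup_left (m.B_RH h)
theorem N_S : Y₁ ⊔ cj d Y₁ ≤ S := (m.N_RH h).trans (m.RH_le h)
theorem N_I : Y₁ ⊔ cj d Y₁ ≤ Y ⊔ cj d Y := sup_le_sup m.le (m.B_le h)

theorem comm_I_RH {g r : G} (hg : g ∈ Y ∨ g ∈ cj d Y) (hr : r ∈ Y₁ ⊔ pCoreOf 2 H) :
    ⁅g, r⁆ ∈ Y₁ ⊔ cj d Y₁ :=
  hg.elim (fun e => mem_sup_left (m.comm_Y_RH h e hr)) fun e => mem_sup_right (m.comm_Y'_RH h e hr)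

theorem I_nN : Y ⊔ cj d Y ≤ 𝐍 (Y₁ ⊔ cj d Y₁ : Subgroup G) :=
  sup_le (fun _ hg => mem_normalizer_of_comm_mem fun _ hr => m.comm_I_RH h (Or.inl hg) (m.N_RH h hr))
    fun _ hg => mem_normalizer_of_comm_mem fun _ hr => m.comm_I_RH h (Or.inr hg) (m.N_RH h hr)

theorem mem_N {n : G} : n ∈ Y₁ ⊔ cj d Y₁ ↔ ∃ y ∈ Y₁, ∃ b ∈ cj d Y₁, y * b = n :=
  Solv.mem_sup_of_le_normalizer fun _ hb => mem_normalizer_of_comm_mem fun y hy => by
    rw [← commutatorElement_inv]; exact inv_mem (m.E_le_Y1 h (m.comm_Y1_B h hy hb))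

/-- The section `N / E`. -/
theorem sec : Sec (Y ⊔ cj d Y) (Y₁ ⊔ cj d Y₁) (Y ⊓ cj d Y) :=
  ⟨(m.E_le_Y1 h).trans le_sup_left, m.I_nN h, (m.I_le_cent h).trans (centralizer_le_normalizer _),
    fun n hn => by
      obtain ⟨y, hy, b, hb, rfl⟩ := (m.mem_N h).1 hn
      have := m.comm_Y1_B h hy hb
      rwa [commutatorElement_def, inv_eq_of_sq (ea_sq m.ea₁ hy), inv_eq_of_sq (ea_sq (m.eaB h) hb),
        mul_assoc] at this⟩

theorem N_le_X : Y₁ ⊔ cj d Y₁ ≤ (m.sec h).X := fun _ hn =>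
  ⟨m.N_I h hn, fun _ hu => (m.sec h).comm_mem hn hu⟩

theorem fx_d : fx (m.sec h).Mo ((m.sec h).hat d) = ⊥ := by
  refine eq_bot_iff.2 fun x hx => ?_
  obtain ⟨n, hn, rfl⟩ := (m.sec h).exists_bar x
  have h1 := comm_eq_one_of_odd (m.pE h) m.odd (((m.sec h).bar_mem_fx (m.d_mem_I h) hn).1 hx)
    (m.I_le_cent h (m.d_mem_I h))
  have h2 := commutatorElement_eq_one_iff_mul_comm.1 h1
  have h4 : ⁅a, n⁆ ∈ Y₁ := m.comm_Y_RH h m.ha (m.N_RH h hn)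
  -- `a` inverts `d`, so `[a, n]` commutes with `d`
  have h5 : d * ⁅a, n⁆ = ⁅a, n⁆ * d := by
    have e1 : d * (a * n * a⁻¹) = a * n * a⁻¹ * d := by
      have e2 : a⁻¹ * d * a = d⁻¹ := by
        have := m.inv
        rwa [inv_eq_of_sq m.a_sq] at this ⊢
      calc d * (a * n * a⁻¹) = a * ((a⁻¹ * d * a) * n) * a⁻¹ := by group
        _ = a * (n * (a⁻¹ * d * a)) * a⁻¹ := by rw [e2, (show Commute d n from h2).inv_left.eq]
        _ = _ := by group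
    rw [commutatorElement_def, ← mul_assoc, e1, mul_assoc, (show Commute d n from h2).inv_right.eq,
      ← mul_assoc]
  have h6 := m.mem_E_of_comm h (m.le h4) h5
  obtain ⟨y, hy, b, hb, rfl⟩ := (m.mem_N h).1 hn
  have h7 : b ∈ Y ⊓ cj d Y := m.inj_a h (m.B_le h hb) (by
    have := mem_normalizer_conj' ((m.sec h).nE (mem_sup_left (m.le hy))) h6
    convert this using 1
    simp only [commutatorElement_def]
    calc a * b * a⁻¹ * b⁻¹ = y⁻¹ * (y * a) * b * a⁻¹ * b⁻¹ := by group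
      _ = _ := by rw [ea_comm m.ea (m.le hy) m.ha]; group)
  rw [mem_bot, (m.sec h).bar_eq_one hn]
  exact m.mem_E_of_comm h (mul_mem (m.le hy) h7.1) h2

/-- `N = [N, n] E` for every `n ∈ I` acting on `N / E` as `d`. -/
theorem exists_comm {n β : G} (hn : n ∈ Y ⊔ cj d Y) (hd : n * d⁻¹ ∈ (m.sec h).X)
    (hβ : β ∈ Y₁ ⊔ cj d Y₁) : ∃ u ∈ Y₁ ⊔ cj d Y₁, β * ⁅n, u⁆⁻¹ ∈ Y ⊓ cj d Y := by
  refine ((m.sec h).mem_pre_cV hn).1 ((m.sec h).mem_pre.2 ⟨hβ, ?_⟩)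
  rw [((m.sec h).hat_eq_hat hn (m.d_mem_I h)).2 hd]
  exact le_cV_of_inf_fx Invt.top (by rw [m.fx_d h, inf_bot_eq]) (mem_top _)

theorem d_not_mem_X : d ∉ (m.sec h).X := fun e => m.B_not_le h fun b hb => by
  rw [← (m.sec h).bar_eq_one (mem_sup_right hb), ← mem_bot, ← m.fx_d h, (m.sec h).hat_of_mem e,
    fx_one]
  trivial

theorem surj_a {y : G} (hy : y ∈ Y₁) : ∃ b ∈ cj d Y₁, y * ⁅a, b⁆⁻¹ ∈ Y ⊓ cj d Y := by
  have haI : a ∈ Y ⊔ cj d Y := mem_sup_left m.ha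
  have h1 := rm2_inf_fx (m.sec h).Mo_sq ((m.sec h).hat_sq haI m.a_sq)
    ((m.sec h).odd_hat (m.d_mem_I h) m.odd) ((m.sec h).hat_inverts haI (m.d_mem_I h) m.inv)
    Invt.top Invt.top (by rw [m.fx_d h, inf_bot_eq])
  have h2 : (m.sec h).bar y ∈ cV _ ((m.sec h).hat a) := by
    rw [cV_eq_map, ← h1]
    refine ⟨trivial, ((m.sec h).bar_mem_fx haI (mem_sup_left hy)).2 ?_⟩
    rw [commutatorElement_eq_one_iff_mul_comm.2 (ea_comm m.ea m.ha (m.le hy))]; exact one_mem _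
  obtain ⟨n, hn, h3⟩ := ((m.sec h).mem_pre_cV haI).1 ((m.sec h).mem_pre.2 ⟨mem_sup_left hy, h2⟩)
  obtain ⟨y', hy', b, hb, rfl⟩ := (m.mem_N h).1 hn
  refine ⟨b, hb, ?_⟩
  have h4 : ⁅a, b⁆ ∈ Y := m.le (m.comm_Y_RH h m.ha (m.B_RH h hb))
  have : ⁅a, y' * b⁆ = ⁅a, b⁆ := by
    calc ⁅a, y' * b⁆ = (a * y') * b * a⁻¹ * b⁻¹ * y'⁻¹ := by rw [commutatorElement_def]; group
      _ = y' * ⁅a, b⁆ * y'⁻¹ := by rw [ea_comm m.ea m.ha (m.le hy'), commutatorElement_def]; group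
      _ = ⁅a, b⁆ := by rw [ea_comm m.ea (m.le hy') h4, mul_inv_cancel_right]
  rwa [this] at h3

/-- The pair lemma in an overgroup of `I`. -/
theorem tpl {L : Subgroup G} (hs : Group.IsSolvable L) (hI : Y ⊔ cj d Y ≤ L) {e β : G} (he : e ∈ L)
    (heM : e ∈ 𝐍 Y) (ho : Odd (orderOf e)) (hβ : β ∈ Y₁ ⊔ cj d Y₁)
    (hinv : β * e * β⁻¹ * e ∈ 𝐂 Y) {y : G} (hy : y ∈ Y) (hn : ⁅e, y⁆ ∉ Y₁) : False := by
  refine PL' L hs (H₂ := L ⊓ 𝐍 Y) (X₂ := 𝐂 Y) hI inf_le_left (m.sec h).le_normalizer_X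
    (inf_le_right.trans (normalizer_le_normalizer_centralizer _)) (m.d_mem_I h) ⟨he, heM⟩
    (m.d_not_mem_X h) m.odd ho (by rw [pow_orderOf_eq_one]; exact one_mem _)
    (by rw [pow_orderOf_eq_one]; exact one_mem _) (a₁ := a) (by rw [m.inv]; simp) hinv ?_ ?_
  · rintro N h1 h2 ⟨n, h3, h4, h5⟩
    obtain ⟨u, h6, h7⟩ := m.exists_comm h h4 h5 hβ
    have h8 := (m.sec h).comm_V h4 h6
    refine ⟨⁅n, u⁆, comm_mem_left h3 (h2 (hI (m.N_I h h6))), ⟨hI (m.N_I h h8), h.le (m.N_S h h8)⟩, ?_⟩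
    simpa using inv_mem (h.toMaxY.YC h7.1)
  · rintro N h1 h2 ⟨n, h3, h4, h5⟩
    have h6 : ⁅n, y⁆ = ⁅e, y⁆ := by
      have := conj_eq_of_mem_centralizer h5 (mem_normalizer_conj heM hy)
      rw [commutatorElement_def, commutatorElement_def, ← this]
      group
    have h7 : ⁅e, y⁆ ∈ Y := comm_mem_right heM hy
    refine ⟨⁅n, y⁆, comm_mem_left h3 (h2 (hI (mem_sup_left hy))), h6 ▸ mem_sup_left h7, ?_⟩
    rw [h6, inv_eq_of_sq m.a_sq, ea_comm m.ea h7 m.ha]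
    exact m.N_le_X h (mem_sup_left ((m.half _ h7).resolve_left hn))

/-- The nearly quadratic action of `B` on `Y`. -/
theorem nq : NQ (h.toMaxY.ffh.sec.imgK (cj d Y₁)) (h.toMaxY.ffh.sec.img Y₁)
    (h.toMaxY.ffh.sec.img (Y ⊓ cj d Y)) (h.toMaxY.ffh.sec.bar a) := by
  set s := h.toMaxY.ffh.sec
  have hc : ∀ {b y : G}, b ∈ cj d Y₁ → y ∈ Y → cm s.Mo (s.hat b) (s.bar y) = s.bar ⁅y, b⁆ :=
    fun {b y} hb hy => by
      rw [s.cm_hat (m.B_M h hb) hy, ← commutatorElement_inv,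
        s.bar_inv' (comm_mem_left hy (m.B_M h hb))]
  refine ⟨?_, s.img_mono (m.E_le_Y1 h), fun e => m.not_mem h ((s.bar_mem_img' m.ha).1 e), ?_, ?_, ?_,
    ?_, ?_⟩
  · have h1 := card_mul_index (s.img Y₁)
    rw [s.card_img' m.le, s.card_Mo, m.card_eq h, mul_comm 2] at h1
    exact Nat.eq_of_mul_eq_mul_left Nat.card_pos h1
  · rintro _ hb₀ _ ⟨x, rfl⟩
    obtain ⟨b, hb, -, rfl⟩ := s.mem_imgK.1 hb₀
    obtain ⟨y, hy, rfl⟩ := s.exists_bar x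
    have := m.comm_Y_RH h hy (m.B_RH h hb)
    rw [hc hb hy]
    exact s.bar_mem_img this (m.le this)
  · intro _ hb₀ x hx
    obtain ⟨b, hb, -, rfl⟩ := s.mem_imgK.1 hb₀
    obtain ⟨y, hy, hy', rfl⟩ := s.mem_img.1 hx
    have := m.comm_Y1_B h hy hb
    rw [hc hb hy']
    exact s.bar_mem_img this this.1
  · intro _ hb₀ x hx
    obtain ⟨b, hb, hb', rfl⟩ := s.mem_imgK.1 hb₀
    obtain ⟨y, hy, hy', rfl⟩ := s.mem_img.1 hx
    exact (s.bar_mem_fx' hb' hy').2 (ea_comm (m.eaY' h) (m.B_le h hb) hy.2)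
  · intro _ hb₀ hx
    obtain ⟨b, hb, hb', rfl⟩ := s.mem_imgK.1 hb₀
    rw [hc hb m.ha, s.bar_mem_img' (comm_mem_left m.ha hb')] at hx
    exact (s.hat_eq_one' hb').2 (h.toMaxY.YC (m.inj_a h (m.B_le h hb) hx).1)
  · intro x hx
    obtain ⟨y, hy, hy', rfl⟩ := s.mem_img.1 hx
    obtain ⟨b, hb, h1⟩ := m.surj_a h hy
    have h2 := comm_mem_left m.ha (m.B_M h hb)
    refine ⟨_, s.hat_mem_imgK hb (m.B_M h hb), ?_⟩
    rw [hc hb m.ha, ← s.bar_inv h2, ← s.bar_mul hy' (inv_mem h2)]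
    exact s.bar_mem_img h1 h1.1

end Adm

end Cfsg.Lib.Ngrp
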