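import Cfsg.Agent.Ngrp.Triples

/-!
Every minimal simple group contains two elements which, together with their product, have three
distinct prime orders.
-/

set_option autoImplicit false

namespace Cfsg.Lib.Ngrp

open Subgroup Cfsg.Lib.Solv

universe u

variable {G : Type*} [Group G]

/-- Two elements which, together with their product, have three distinct prime orders. -/
def PrimeTriple (G : Type*) [Group G] : Prop :=
  ∃ (r s t : ℕ) (a b : G), r.Prime ∧ s.Prime ∧ t.Prime ∧ r ≠ s ∧ s ≠ t ∧ r ≠ t ∧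
    orderOf a = r ∧ orderOf b = s ∧ orderOf (a * b) = t

theorem PrimeTriple.of_injective {G' : Type*} [Group G'] (f : G' →* G)
    (hf : Function.Injective f) (h : PrimeTriple G') : PrimeTriple G := by
  obtain ⟨r, s, t, a, b, hr, hs, ht, h1, h2, h3, ha, hb, hab⟩ := h
  exact ⟨r, s, t, f a, f b, hr, hs, ht, h1, h2, h3, by rwa [orderOf_injective f hf],
    by rwa [orderOf_injective f hf], by rwa [← map_mul, orderOf_injective f hf]⟩

theorem primeTriple_psl2 {F : Type*} [Field F] [Fintype F]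
    (h : ¬ Group.IsSolvable (Known.GL2.PSL2 F)) : PrimeTriple (Known.GL2.PSL2 F) := by
  have := Known.GL2.finite_PSL2 (F := F)
  obtain ⟨r, hr, hrG, hr2, -⟩ := exists_prime_dvd_ne_ne h Nat.prime_two Nat.prime_two
  obtain ⟨t, ht, htG, ht2, htr⟩ := exists_prime_dvd_ne_ne h Nat.prime_two hr
  obtain ⟨a, b, ha, hb, hab⟩ := psl2_exists_triple hr Nat.prime_two ht hr2 ht2.symm htr.symm hrG
    (Cor.even_card_of_not_isSolvable h) htG
  exact ⟨r, 2, t, a, b, hr, Nat.prime_two, ht, hr2, ht2.symm, htr.symm, ha, hb, hab⟩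

theorem primeTriple_SL33 : PrimeTriple SL33 :=
  ⟨2, 3, 13, a33, u33, Nat.prime_two, Nat.prime_three, by norm_num, by norm_num, by norm_num,
    by norm_num, orderOf_a33, orderOf_u33, orderOf_a33_mul_u33⟩

section Suzuki

open Cfsg.Lib.Chev Matrix

theorem sz_aux_pow_five {R : Type*} [CommRing R] (h2 : (2 : R) = 0) {d1 d2 d3 d4 b : R}
    (h14 : d1 * d4 = 1) (h23 : d2 * d3 = 1) (hb : b ^ 2 * d3 * d4 = 1) :
    (!![0, 0, 0, d4; 0, 0, d3, 0; 0, d2, 0, b * d4; d1, 0, b * d3, 1] :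
      Matrix (Fin 4) (Fin 4) R) ^ 5 = 1 := by
  set A : Matrix (Fin 4) (Fin 4) R :=
    !![0, 0, 0, d4; 0, 0, d3, 0; 0, d2, 0, b * d4; d1, 0, b * d3, 1] with hA
  have e2 : A * A = !![1, 0, b * d3 * d4, d4; 0, 1, 0, b * d3 * d4;
      b, 0, 0, b * d4; d1, b, b * d3, 1] := by
    ext i j
    fin_cases i <;> fin_cases j <;> simp [hA, Matrix.mul_apply, Fin.sum_univ_four] <;> grind
  have e4 : A * A * (A * A) * A = 1 := by
    rw [e2]
    ext i j
    fin_cases i <;> fin_cases j <;> simp [hA, Matrix.mul_apply, Fin.sum_univ_four] <;> grind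
  rw [← e4]
  simp only [pow_succ, pow_zero, one_mul, mul_assoc]

variable {F : Type*} [Field F] [Fintype F] {τ : Tw F} (M : SzModel τ G)

theorem sz_w_mul_pow_five (l : Fˣ) {b : F} (hb : τ.θ b = τ.θ l * l) :
    (M.w * (M.T 0 b * M.D l)) ^ 5 = 1 := by
  have hl : (l : F) ≠ 0 := l.ne_zero
  have hl' : τ.θ l ≠ 0 := by simpa using hl
  have hb2 : b ^ 2 = (l : F) ^ 2 * τ.θ l := by rw [← τ.θθ, hb, map_mul, τ.θθ]
  apply M.ρ_inj
  rw [map_pow, map_one, ← sz_aux_pow_five τ.two (d1 := τ.θ l * l) (d2 := l) (d3 := (l : F)⁻¹)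
    (d4 := (τ.θ l * l)⁻¹) (b := b) (by field_simp) (by field_simp) (by rw [hb2]; field_simp)]
  congr 1
  rw [map_mul, map_mul, M.ρ_w, M.ρ_T, M.ρ_D, ← mul_assoc, Tw.Dm]
  ext i j
  rw [Matrix.mul_diagonal]
  fin_cases i <;> fin_cases j <;>
    simp [szJ, Tw.Tm, Tw.N, Matrix.mul_apply, Fin.sum_univ_four, hb]
  field_simp

include M in
theorem primeTriple_sz : PrimeTriple G := by
  have h8 := M.eight_le_card
  obtain ⟨r, hr, hrd⟩ := Nat.exists_prime_and_dvd (n := Fintype.card F - 1) (by omega)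
  obtain ⟨l, hl⟩ := @exists_prime_orderOf_dvd_card' Fˣ _ _ r ⟨hr⟩
    (by classical rwa [Nat.card_eq_fintype_card, Fintype.card_units])
  have hl1 := ne_one_of_orderOf_prime hr hl
  obtain ⟨b, hb⟩ := τ.θ_surj (τ.θ l * l)
  obtain ⟨m, -, hm⟩ := M.exists_card
  have hr2 : r ≠ 2 := by
    rintro rfl
    exact (Nat.not_even_iff_odd.2 (SzModel.odd_sub_one (τ := τ))) (even_iff_two_dvd.2 hrd)
  have hw : orderOf M.w = 2 := orderOf_eq_prime (by simp [sq]) fun h =>
    M.pt_ne_inf 0 0 (by rw [← M.w_smul_inf, h, one_smul])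
  have hy : orderOf (M.T 0 b * M.D l) = r := by
    obtain ⟨x, y, e⟩ := M.TD_conj 0 b hl1
    rw [e]
    exact ((MulAut.conj (M.T x y)).orderOf_eq (M.D l)).trans
      (by rw [orderOf_injective _ M.D_inj, hl])
  have h5 : Fact (Nat.Prime 5) := ⟨by norm_num⟩
  refine ⟨2, r, 5, M.w, M.T 0 b * M.D l, Nat.prime_two, hr, h5.out, hr2.symm, ?_, by norm_num,
    hw, hy, orderOf_eq_prime (sz_w_mul_pow_five M l hb) fun h => hr2 ?_⟩
  · rintro rfl
    have h1 : 2 ^ (2 * m + 1) % 5 = 2 ∨ 2 ^ (2 * m + 1) % 5 = 3 := by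
      clear hm
      induction m with
      | zero => simp
      | succ m ih =>
        rw [show 2 * (m + 1) + 1 = 2 * m + 1 + 2 by ring, pow_add]
        omega
    omega
  · rw [← hy, eq_inv_of_mul_eq_one_right h, orderOf_inv, hw]

end Suzuki

theorem primeTriple_of_isMinimalSimple {G : Type u} [Group G] [Finite G]
    [Agent.Gate.MinSimple.{u}] (h : IsMinimalSimple G) : PrimeTriple G := by
  rcases minimalSimple_cases h with ⟨F, _, _, -, ⟨e⟩⟩ | ⟨⟨e⟩⟩ | ⟨F, _, _, τ, ⟨M⟩⟩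
  · exact (primeTriple_psl2 (not_isSolvable_of_equiv e h)).of_injective e.symm.toMonoidHom
      e.symm.injective
  · exact primeTriple_SL33.of_injective e.symm.toMonoidHom e.symm.injective
  · exact primeTriple_sz M

end Cfsg.Lib.Ngrp
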