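import Cfsg.Agent.Ngrp.AmOne

set_option autoImplicit false
set_option linter.unusedSectionVars false

namespace Cfsg.Lib.Ngrp.Ti
open Subgroup Cfsg.Lib.Trans Cfsg.Lib.Local Cfsg.Lib.Local.JC Cfsg.Lib.Trans.TJ Cfsg.Lib.Ngrp.Geo
open scoped commutatorElement

/-- A reduced module of order 16 for a group of order 20. -/
structure M20 (K V : Type*) [Group K] [CommGroup V] [MulDistribMulAction K V] : Prop where
  red : Red K V
  cK : Nat.card K = 20
  cM : Nat.card V = 16

namespace M20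

variable {K V : Type*} [Group K] [CommGroup V] [MulDistribMulAction K V] [Finite K] [Finite V]
  (h : M20 K V) {g g' k : K} {v : V}
include h

theorem five_of_odd {n : ℕ} (h1 : Odd n) (h2 : n ∣ 20) : n = 1 ∨ n = 5 := by
  have := Nat.le_of_dvd (by norm_num) h2
  interval_cases n <;> simp_all +decide

theorem card_F : Nat.card (fittingSubgroup K) = 5 := by
  refine (h.five_of_odd h.red.odd_card (h.cK ▸ card_subgroup_dvd_card _)).resolve_left fun e => ?_
  have h1 : (⊤ : Subgroup K) ≤ fittingSubgroup K := fun x _ => h.red.mem_of_comm fun y hy => by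
    rw [card_eq_one.1 e, mem_bot] at hy
    rw [hy, one_mul, mul_one]
  have := Trans.card_le_of_le h1
  rw [card_top, h.cK] at this; omega

theorem index_F : (fittingSubgroup K).index = 4 := by
  have := (fittingSubgroup K).card_mul_index
  rw [h.card_F, h.cK] at this; omega

theorem mem_F (ho : Odd (orderOf g)) : g ∈ fittingSubgroup K := by
  have h1 := (fittingSubgroup K).pow_index_mem g
  rw [h.index_F] at h1
  refine mem_of_sq_mem ho (mem_of_sq_mem ?_ (by rwa [← pow_two, ← pow_two, ← pow_mul]))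
  rw [← pow_two]; exact ho.of_dvd_nat (orderOf_pow_dvd 2)

theorem order_five (hg : g ∈ fittingSubgroup K) (h1 : g ≠ 1) : orderOf g = 5 :=
  (h.five_of_odd (h.red.odd_of_mem hg) (h.cK ▸ orderOf_dvd_natCard g)).resolve_left
    fun e => h1 (orderOf_eq_one_iff.1 e)

theorem zpowers_eq (hg : g ∈ fittingSubgroup K) (h1 : g ≠ 1) : zpowers g = fittingSubgroup K :=
  eq_of_le_of_card_ge (zpowers_le.2 hg) (by rw [Nat.card_zpowers, h.order_five hg h1, h.card_F])

theorem exists_pow (hg : g ∈ fittingSubgroup K) (h1 : g ≠ 1) (hg' : g' ∈ fittingSubgroup K) :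
    ∃ j, j < 5 ∧ g' = g ^ j := by
  classical
  rw [← h.zpowers_eq hg h1, mem_zpowers_iff_mem_range_orderOf, h.order_five hg h1] at hg'
  obtain ⟨j, hj, e⟩ := Finset.mem_image.1 hg'
  exact ⟨j, Finset.mem_range.1 hj, e.symm⟩

theorem fx_eq (hg : g ∈ fittingSubgroup K) (h1 : g ≠ 1) : fx V g = ⊥ := by
  have : Fact (Nat.Prime 5) := ⟨by norm_num⟩
  have hP : IsPGroup 5 (zpowers g) :=
    IsPGroup.of_card (n := 1) (by rw [Nat.card_zpowers, h.order_five hg h1]; rfl)
  have h2 := hP.card_modEq_card_fixedPoints V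
  have h3 : Nat.card (MulAction.fixedPoints (zpowers g) V) = Nat.card (fx V g) :=
    Nat.card_congr (Equiv.setCongr (Set.ext fun x => ⟨fun hx => mem_fx.2 (hx ⟨g, mem_zpowers g⟩),
      fun hx y => mem_fx.1 (fx_le_of_mem_zpowers y.2 hx)⟩))
  have h4 := card_subgroup_dvd_card (fx V g)
  have h5 : Nat.card (fx V g) ≠ 16 := fun e =>
    h1 (h.red.eq_one_of_fx (eq_top_of_card_eq _ (e.trans h.cM.symm)).ge)
  rw [h3, h.cM] at h2
  rw [h.cM] at h4
  refine eq_bot_of_card_le_one ?_
  have := Nat.le_of_dvd (by norm_num) h4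
  generalize Nat.card (fx V g) = n at *
  interval_cases n <;> simp_all +decide

theorem eq_one_of_fix (hg : g ∈ fittingSubgroup K) (hv : v ≠ 1) (e : g • v = v) : g = 1 := by
  by_contra h1
  exact hv (mem_bot.1 (h.fx_eq hg h1 ▸ mem_fx.2 e))

theorem cV_eq (hg : g ∈ fittingSubgroup K) (h1 : g ≠ 1) : cV V g = ⊤ := by
  have := card_cV_mul_fx (V := V) g
  rw [h.fx_eq hg h1, card_bot, mul_one] at this
  exact eq_top_of_card_eq _ this

theorem mem_F_of_comm (hg : g ∈ fittingSubgroup K) (h1 : g ≠ 1) (e : k * g = g * k) :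
    k ∈ fittingSubgroup K := h.red.mem_of_comm fun x hx => by
  obtain ⟨j, -, rfl⟩ := h.exists_pow hg h1 hx
  exact (Commute.pow_right e j).symm

/-- An element fixing two points is trivial. -/
theorem eq_one_of_two (hv : v ≠ 1) (hg : g ∈ fittingSubgroup K) (h1 : g ≠ 1) (e1 : k • v = v)
    (e2 : k • g • v = g • v) : k = 1 := by
  have h2 := h.eq_one_of_fix (mul_mem (inv_mem hg) (Normal.conj_mem inferInstance g hg k)) hv (by
    rw [mul_smul, mul_smul, mul_smul, inv_smul_eq_iff.2 e1.symm, e2, inv_smul_smul])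
  refine h.eq_one_of_fix (h.mem_F_of_comm hg h1 ?_) hv e1
  exact mul_inv_eq_iff_eq_mul.1 (inv_mul_eq_one.1 h2).symm

theorem exists_F (ho : Odd (MulAction.stabilizer K v).index) (k : K) :
    ∃ g ∈ fittingSubgroup K, k • v = g • v := by
  have h1 := index_dvd_of_le (le_sup_left : fittingSubgroup K ≤ _ ⊔ MulAction.stabilizer K v)
  have h2 := ho.of_dvd_nat
    (index_dvd_of_le (le_sup_right : _ ≤ fittingSubgroup K ⊔ MulAction.stabilizer K v))
  rw [h.index_F] at h1
  have h3 : fittingSubgroup K ⊔ MulAction.stabilizer K v = ⊤ := by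
    rw [← index_eq_one]
    have := Nat.le_of_dvd (by norm_num) h1
    generalize (fittingSubgroup K ⊔ MulAction.stabilizer K v).index = n at *
    interval_cases n <;> simp_all +decide
  obtain ⟨g, hg, t, ht, rfl⟩ := mem_sup_of_normal_left.1 (h3.ge (mem_top k))
  exact ⟨g, hg, by rw [mul_smul, MulAction.mem_stabilizer_iff.1 ht]⟩

theorem norm_eq (hg : g ∈ fittingSubgroup K) (h1 : g ≠ 1) (v : V) :
    v * g • v * g ^ 2 • v * g ^ 3 • v * g ^ 4 • v = 1 := by
  refine mem_bot.1 (h.fx_eq hg h1 ▸ mem_fx.2 ?_)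
  have h5 : g * g ^ 4 = 1 := by
    rw [← pow_succ']; exact orderOf_dvd_iff_pow_eq_one.1 (h.order_five hg h1 ▸ dvd_rfl)
  simp only [smul_mul', smul_smul, h5, one_smul, ← pow_succ', ← pow_two]
  ac_rfl

theorem pow_ne (hv : v ≠ 1) (hg : g ∈ fittingSubgroup K) (h1 : g ≠ 1) {i j : ℕ} (hi : 0 < i)
    (hi' : i < 5) : g ^ j • v * g ^ (j + i) • v ≠ 1 := fun e => by
  rw [pow_add, mul_smul, ← smul_mul', smul_eq_iff_eq_inv_smul, smul_one] at e
  have h2 := h.eq_one_of_fix (pow_mem hg i) hv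
    ((eq_inv_of_mul_eq_one_right e).trans (inv_eq_self h.red.expo v))
  exact pow_ne_one_of_lt_orderOf hi.ne' (h.order_five hg h1 ▸ hi') h2

/-- The product of two points is not a point. -/
theorem mul_ne (hv : v ≠ 1) (hg : g ∈ fittingSubgroup K) (hg' : g' ∈ fittingSubgroup K) :
    v * g • v ≠ g' • v := fun e => by
  by_cases h1 : g = 1
  · rw [h1, one_smul, h.red.expo] at e; exact smul_ne_one' g' hv e.symm
  obtain ⟨j, hj, rfl⟩ := h.exists_pow hg h1 hg'
  have h2 := h.norm_eq hg h1 v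
  rw [e] at h2
  interval_cases j
  · exact smul_ne_one' g hv (by simpa using e)
  · exact hv (by simpa using e)
  · rw [h.red.expo, one_mul] at h2; exact h.pow_ne hv hg h1 (j := 3) (i := 1) (by norm_num) (by norm_num) h2
  · rw [mul_comm (g ^ 3 • v), mul_assoc (g ^ 2 • v), h.red.expo, mul_one] at h2
    exact h.pow_ne hv hg h1 (j := 2) (i := 2) (by norm_num) (by norm_num) h2
  · rw [mul_comm, ← mul_assoc, ← mul_assoc, h.red.expo, one_mul] at h2
    exact h.pow_ne hv hg h1 (j := 2) (i := 1) (by norm_num) (by norm_num) h2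

theorem inverts (hk : k * k = 1) (hk1 : k ≠ 1) (hg : g ∈ fittingSubgroup K) :
    k * g * k⁻¹ = g⁻¹ := by
  obtain ⟨d, hd, hd1, -, e⟩ := h.red.exists_inverted hk hk1
  obtain ⟨j, -, rfl⟩ := h.exists_pow hd hd1 hg
  rw [← conj_pow, e, inv_pow]

theorem fx_inv (hk : k * k = 1) (hk1 : k ≠ 1) : fx V k = cV V k ∧ Nat.card (fx V k) = 4 := by
  obtain ⟨d, hd, hd1, -, e⟩ := h.red.exists_inverted hk hk1
  have h1 := rm2_cV_inf_fx h.red.expo hk (h.red.odd_of_mem hd) e
  have h2 := rm2_cV_card h.red.expo hk (h.red.odd_of_mem hd) e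
  rw [h.cV_eq hd hd1, top_inf_eq] at h1
  rw [h.cV_eq hd hd1, ← h1, card_top, h.cM] at h2
  exact ⟨h1.trans (cV_eq_map k).symm, by nlinarith⟩

/-- At most one involution fixes a nontrivial vector. -/
theorem inv_unique {k' : K} (hk : k * k = 1) (hk1 : k ≠ 1) (hk' : k' * k' = 1) (hk1' : k' ≠ 1)
    (hv : v ≠ 1) (e : k • v = v) (e' : k' • v = v) : k = k' := by
  obtain ⟨d, hd, hd1, -, e1⟩ := h.red.exists_inverted hk hk1
  have h2 := h.eq_one_of_fix (h.mem_F_of_comm hd hd1
    (Frame.mul_comm_of_inverts e1 (h.inverts hk' hk1' hd))) hv (by rw [mul_smul, e', e])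
  rw [eq_inv_of_mul_eq_one_left h2, inv_eq_of_mul_eq_one_right hk']

theorem mem_zpowers_of_fix (hv : v ≠ 1) (ho : Odd (MulAction.stabilizer K v).index) {t : K}
    (ht : t • v = v) (ht2 : t * t ≠ 1) (hk : k • v = v) : k ∈ zpowers t := by
  obtain ⟨d, hd, hd1⟩ : ∃ d ∈ fittingSubgroup K, d ≠ 1 := by
    by_contra! hn
    have := h.card_F
    rw [(eq_bot_iff_forall _).2 hn, card_bot] at this; omega
  have h1 := (MulAction.stabilizer K v).card_mul_index
  rw [h.cK] at h1
  rw [(h.five_of_odd ho (Dvd.intro_left _ h1)).resolve_left fun e =>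
    hd1 (h.eq_one_of_fix hd hv ((index_eq_one.1 e).ge (mem_top d)))] at h1
  have h2 : zpowers t ≤ MulAction.stabilizer K v := zpowers_le.2 ht
  have h3 := card_dvd_of_le h2
  rw [show Nat.card (MulAction.stabilizer K v) = 4 by omega, Nat.card_zpowers] at h3
  have h4 : ¬ orderOf t ∣ 2 := fun e => ht2 (by rw [← pow_two]; exact orderOf_dvd_iff_pow_eq_one.1 e)
  refine (eq_of_le_of_card_ge h2 ?_).ge hk
  have := Nat.le_of_dvd (by norm_num) h3
  rw [Nat.card_zpowers]
  generalize orderOf t = n at *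
  interval_cases n <;> simp_all +decide
  omega

end M20

end Cfsg.Lib.Ngrp.Ti
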