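import Cfsg.Agent.Ngrp.AmDefs
import Cfsg.Agent.Spor.CosetSeq

set_option autoImplicit false

namespace Cfsg.Lib.Ngrp.Ti
open Subgroup Cfsg.Lib.Spor.Bulk
open scoped commutatorElement

variable {G : Type*} [Group G]

/-- Conjugation by a power of `f`. -/
def cf (f : G) (k : ℕ) (x : G) : G := f ^ k * x * (f ^ k)⁻¹

/-- Relations for the subgroup of order 5120 of the centralizer of `z`. -/
structure RH (z a f p u : G) : Prop where
  z2 : z * z = 1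
  a2 : a * a = 1
  p2 : p * p = 1
  u2 : u * u = 1
  f5 : f ^ 5 = 1
  af : a * f * a * f = 1
  za : z * a = a * z
  zf : z * f = f * z
  zp : z * p = p * z
  zu : z * u = u * z
  ap : a * p = p * a
  au : a * u = u * a
  pu : p * u = u * p
  p01 : ⁅p, cf f 1 p⁆ = 1
  p02 : ⁅p, cf f 2 p⁆ = 1
  pp : p * cf f 1 p * cf f 2 p * cf f 3 p * cf f 4 p = 1
  up1 : ⁅u, cf f 1 p⁆ = z
  up2 : ⁅u, cf f 2 p⁆ = z
  x14 : ⁅cf f 1 u, cf f 4 u⁆ = cf f 2 p * cf f 3 p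
  x23 : ⁅cf f 2 u, cf f 3 u⁆ = cf f 1 p * cf f 4 p
  xx : u * cf f 1 u * cf f 2 u * cf f 3 u * cf f 4 u = z

/-- Relations for the group of order 10240. -/
structure RC (z a f p u t : G) : Prop extends RH z a f p u where
  zt : z * t = t * z
  tf : t * f * t⁻¹ = f * f
  tt : t * t = a * z
  tp : t * p = p * t
  tu : t * u * t⁻¹ = u * p

/-- The group generated by the six elements. -/
def C0 (z a f p u t : G) : Subgroup G := closure {z, a, f, p, u, t}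

/-- An element extending the group of order 10240 by two. -/
structure Ext (z a f p u t e : G) : Prop where
  ez : e * z = z * e
  ea : e * a = a * e
  ef : e * f = f * e
  ep : e * p = p * e
  eu : e * u * e⁻¹ = u * p
  ee : e * e ∈ zpowers z
  et : ⁅t, e⁆ ∈ zpowers z
  cent : centralizer {z} = C0 z a f p u t ⊔ zpowers e

/-- What the geometry gives. -/
structure TC0 (z a f p u t m : G) : Prop extends RC z a f p u t where
  ne : z ≠ 1
  m2 : m * m = 1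
  mx : (m * cf f 1 u) ^ 3 = 1
  mz : m * z * m⁻¹ = p
  mR : ∀ g ∈ C0 z a f p u t, g * p = p * g → m * g * m⁻¹ ∈ C0 z a f p u t
  ma : ∃ k, 1 ≤ k ∧ k ≤ 4 ∧ (m * a * m⁻¹ = cf f k p ∨ m * a * m⁻¹ = cf f k p * z)
  odd : ¬ 2 ∣ (centralizer {z}).index
  cent : centralizer {z} = C0 z a f p u t ∨ ∃ e, Ext z a f p u t e

/-- Inversion of the letters `x t T s S a q k K u v y p z f F r`, numbered from 1. -/
def tiIota (l : ℕ) : ℕ := [0, 1, 3, 2, 5, 4, 6, 7, 9, 8, 10, 11, 12, 13, 14, 16, 15, 17].getD l 0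

/-- The relators of the amalgam, in order of application. -/
def tiR : List (List ℕ) := [[3, 5, 7, 10, 12, 1, 2, 1], [5, 7, 11, 14, 1, 4, 1], [6, 7, 9, 10, 11, 1, 6, 1], [7, 1, 7, 1],
  [9, 11, 14, 1, 8, 1], [10, 11, 12, 1, 10, 1], [11, 1, 11, 1], [12, 1, 12, 1], [13, 14, 1, 13,
  1], [14, 1, 14, 1], [6, 14, 2, 2], [5, 9, 11, 12, 3, 4, 2], [6, 3, 6, 2], [7, 11, 13, 14, 3, 7,
  2], [9, 10, 12, 13, 3, 8, 2], [10, 13, 3, 10, 2], [11, 12, 13, 14, 3, 11, 2], [12, 13, 3, 12,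
  2], [13, 3, 13, 2], [14, 3, 14, 2], [7, 13, 4, 4], [6, 10, 13, 14, 5, 6, 4], [7, 5, 7, 4], [9,
  11, 12, 5, 8, 4], [10, 12, 13, 14, 5, 10, 4], [11, 14, 5, 11, 4], [12, 14, 5, 12, 4], [13, 5,
  13, 4], [14, 5, 14, 4], [7, 12, 13, 14, 6, 7, 6], [9, 6, 8, 6], [10, 6, 10, 6], [11, 13, 6, 11,
  6], [12, 6, 12, 6], [13, 6, 13, 6], [14, 6, 14, 6], [9, 7, 8, 7], [10, 14, 7, 10, 7], [11, 7,
  11, 7], [12, 7, 12, 7], [13, 7, 13, 7], [14, 7, 14, 7], [12, 13, 14, 8, 8], [10, 13, 9, 10, 8],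
  [11, 14, 9, 11, 8], [12, 9, 12, 8], [13, 9, 13, 8], [14, 9, 14, 8], [11, 10, 11, 10], [12, 10,
  12, 10], [13, 10, 13, 10], [14, 10, 14, 10], [12, 11, 12, 11], [13, 11, 13, 11], [14, 11, 14,
  11], [13, 12, 13, 12], [14, 12, 14, 12], [14, 13, 14, 13], [15, 15, 15, 15, 15], [16, 16, 3, 15,
  2], [15, 6, 15, 6], [1, 5, 9, 10, 11, 14, 16, 1, 15], [1, 5, 13, 14, 16, 4, 15], [7, 11, 13, 14,
  16, 7, 15], [5, 7, 9, 11, 12, 13, 16, 8, 15], [1, 16, 10, 15], [7, 12, 16, 11, 15], [11, 16, 12,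
  15], [7, 16, 13, 15], [14, 16, 14, 15], [5, 17, 2, 17], [3, 17, 4, 17], [7, 17, 6, 17], [6, 17,
  7, 17], [9, 12, 13, 14, 17, 8, 17], [11, 17, 10, 17], [10, 17, 11, 17], [12, 17, 12, 17], [14,
  17, 13, 17], [13, 17, 14, 17], [1, 17, 1, 17, 1, 17]]

/-- The amalgam inside `G`. -/
structure TP (g : ℕ → G) : Prop where
  sat : Sat g 18 tiIota tiR
  ne : g 14 ≠ 1
  odd : ¬ 2 ∣ (centralizer {g 14}).index
  cent : centralizer {g 14} = C0 (g 14) (g 6) (g 15) (g 13) (g 10) (g 2) ∨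
    ∃ e, Ext (g 14) (g 6) (g 15) (g 13) (g 10) (g 2) e

end Cfsg.Lib.Ngrp.Ti
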