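import Cfsg.Agent.Ngrp.TitsA1
import Cfsg.Agent.Ngrp.TitsDefs

set_option autoImplicit false
set_option linter.unusedSectionVars false

namespace Cfsg.Lib.Ngrp.Ti
open Subgroup Cfsg.Lib.Trans Cfsg.Lib.Local Cfsg.Lib.Local.JC Cfsg.Lib.Trans.TJ Cfsg.Lib.Ngrp.Geo
open scoped commutatorElement

variable {G : Type*} [Group G] [Finite G]

theorem cz_of_comm {a b : G} (h : ⁅a, b⁆ = 1) : a ∈ Cz b :=
  mem_Cz.2 (commutatorElement_eq_one_iff_mul_comm.1 h)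

theorem comm_of_cz {a b : G} (h : a ∈ Cz b) : ⁅a, b⁆ = 1 :=
  commutatorElement_eq_one_iff_mul_comm.2 (mem_Cz.1 h)

theorem cz_comm {a b : G} : a ∈ Cz b ↔ b ∈ Cz a := ⟨Cz_symm, Cz_symm⟩

theorem comm_symm_mem {H : Subgroup G} {a b : G} (h : ⁅a, b⁆ ∈ H) : ⁅b, a⁆ ∈ H := by
  rw [← commutatorElement_inv]; exact inv_mem h

theorem conj_eq_comm_mul (a b : G) : a * b * a⁻¹ = ⁅a, b⁆ * b := by
  rw [commutatorElement_def]; group

/-- Elements of `X_p` act on `U_p` through linear functionals. -/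
theorem XX_mul_iff {p s t w : G} (h : Pt p) (hs : s ∈ XX p) (ht : t ∈ XX p) (hw : w ∈ UU p) :
    s * t ∈ Cz w ↔ (s ∈ Cz w ↔ t ∈ Cz w) :=
  (idxLeTwo_centralizer h.sq (fun _ hx => mem_Cz.1 (XX_le_Cz p hx))
    fun _ hx => h.conj_XX hx hw).mul_mem_iff hs ht

theorem XX_mul_iff' {p s v w : G} (h : Pt p) (hs : s ∈ XX p) (hv : v ∈ UU p) (hw : w ∈ UU p) :
    s ∈ Cz (v * w) ↔ (s ∈ Cz v ↔ s ∈ Cz w) := by
  have k : ∀ x ∈ UU p, s ∈ Cz x ↔ ⁅s, x⁆ = 1 := fun x _ => ⟨comm_of_cz, cz_of_comm⟩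
  rw [k _ (mul_mem hv hw), k _ hv, k _ hw, Geo.comm_mul_right hs hv hw]
  rcases h.comm_XX hs hv with e | e <;> rcases h.comm_XX hs hw with e' | e' <;>
    simp [e, e', h.sq, h.ne]

theorem comm_eq_of_not {p s w : G} (h : Pt p) (hs : s ∈ XX p) (hw : w ∈ UU p) (hn : s ∉ Cz w) :
    ⁅s, w⁆ = p := (h.comm_XX hs hw).resolve_left fun e => hn (cz_of_comm e)

/-- The geometry with five lines through each point. -/
structure Tg (G : Type*) [Group G] [Finite G] : Prop where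
  ab : AbU G
  th : Thin G
  c32 : ∀ p : G, Pt p → Nat.card (UU p) = 32 ∧ Nat.card (KK p) = 20

theorem tg_of_nat {S : Sylow 2 G} {z : G} {Y : Subgroup G} (h : NatB3 S z Y)
    (hU : Nat.card (natU z Y) = 32) : Tg G := by
  have hz := (nat_fl h.toNatG).pt
  have hA := hz.abU (natU_eq h.toNatG ▸ h.eaU)
  rw [natU_eq h.toNatG] at hU
  refine ⟨hA, (hA.shape hz).1, fun p hp => (hA.shape hp).2.resolve_left fun e => ?_⟩
  have := hp.card_UU_eq hz
  omega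

namespace Tg

variable (H : Tg G) {z p a r r' w c x : G}
include H

theorem m20 (h : Pt z) : M20 (KK z) (VV z) :=
  ⟨red z, (H.c32 z h).2, by have := h.card_UU; have := (H.c32 z h).1; omega⟩

theorem cp (h : Col z p) : CP 1 p z := H.ab.cp h.symm

theorem eq_one_of_col (h : Col z p) (h1 : x ∈ zpowers z) (h2 : x ∈ zpowers p) : x = 1 :=
  mem_bot.1 ((H.cp h).zpowers_inf ▸ mem_inf.2 ⟨h2, h1⟩)

theorem UU_le (h : Col z p) : UU p ≤ Cz z := (H.cp h).le_Cz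

theorem star_sq (h : Col z p) (ha : a ∈ UU p) : star z a * star z a = 1 := by
  rw [← star_mul (H.UU_le h ha) (H.UU_le h ha), H.ab.sq ha, Geo.star_one]

theorem star_ne (h : Col z p) (ha : a ∈ UU p) (ha' : a ∉ XX z) : star z a ≠ 1 :=
  (H.cp h).star_ne ha ha'

theorem idxX (h : Col z p) : IdxLeTwo (XX z) (UU p) := fun s hs t ht hs' ht' => by
  rw [← star_eq_one (mul_mem (H.UU_le h hs) (H.UU_le h ht)), star_mul (H.UU_le h hs) (H.UU_le h ht),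
    (H.cp h).star_eq_of_not_mem hs ht hs' ht', H.star_sq h ht]

theorem img_eq (h : Col z p) (ha : a ∈ UU p) (ha' : a ∉ XX z) :
    img z (UU p ⊓ UU z) = fx (VV z) (star z a) :=
  have hb := star_mem_imgK (A := UU p) ha (H.UU_le h ha)
  le_antisymm ((H.cp h).img_le_fx hb)
    (((H.m20 h.pt).fx_inv (H.star_sq h ha) (H.star_ne h ha ha')).1 ▸ (H.cp h).cV_le_img hb)

theorem mem_UU_iff (h : Col z p) (ha : a ∈ UU p) (ha' : a ∉ XX z) (hw : w ∈ UU z) :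
    w ∈ UU p ↔ ⁅a, w⁆ ∈ zpowers z := by
  rw [← bar_mem_fx (H.UU_le h ha) hw, ← H.img_eq h ha ha',
    h.pt.bar_mem_img_iff (mem_inf.2 ⟨h.symm.mem_UU, h.pt.mem_UU⟩) hw]
  exact ⟨fun e => ⟨e, hw⟩, fun e => e.1⟩

theorem mem_UU_of_cz (h : Col z p) (ha : a ∈ UU p) (ha' : a ∉ XX z) (hw : w ∈ UU z)
    (e : a ∈ Cz w) : w ∈ UU p := (H.mem_UU_iff h ha ha' hw).2 (comm_of_cz e ▸ one_mem _)

theorem card_D (h : Col z p) : Nat.card (UU p ⊓ UU z : Subgroup G) = 8 := by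
  obtain ⟨a, ha, ha', -⟩ := (H.cp h).exists_rank_one
  rw [h.pt.card_img (mem_inf.2 ⟨h.symm.mem_UU, h.pt.mem_UU⟩) inf_le_right, H.img_eq h ha ha',
    ((H.m20 h.pt).fx_inv (H.star_sq h ha) (H.star_ne h ha ha')).2]

theorem exists_F (h : Col z p) (h' : Col z r) :
    ∃ g ∈ fittingSubgroup (KK z), bar z r = g • bar z p := by
  obtain ⟨k, hk⟩ := h.mem_orbit_iff.2 ⟨r, h', rfl⟩
  obtain ⟨g, hg, e⟩ := (H.m20 h.pt).exists_F h.odd_index k
  exact ⟨g, hg, hk.symm.trans e⟩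

theorem bar_mul_ne (h : Col z p) (h' : Col z r) (h'' : Col z r') :
    bar z p * bar z r ≠ bar z r' := by
  obtain ⟨g, hg, e⟩ := H.exists_F h h'
  obtain ⟨g', hg', e'⟩ := H.exists_F h h''
  rw [e, e']; exact (H.m20 h.pt).mul_ne h.bar_ne_one hg hg'

theorem not_col_mul (h : Col z p) (h' : Col z r) : ¬ Col z (p * r) := fun h'' =>
  H.bar_mul_ne h h' h'' (bar_mul h.mem_UU h'.mem_UU).symm

theorem bar_ne (h : Col z p) (h' : Col z r) (hn : r ∉ four z p) : bar z r ≠ bar z p := fun e =>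
  hn ((h.mem_four_iff_bar h'.mem_UU).2 (e ▸ mem_zpowers _))

/-- An element fixing two lines through `z` lies in `X_z`. -/
theorem mem_XX_of_two (h : Col z p) (h' : Col z r) (hn : bar z r ≠ bar z p) (hc : c ∈ Cz z)
    (e1 : ⁅c, p⁆ ∈ zpowers z) (e2 : ⁅c, r⁆ ∈ zpowers z) : c ∈ XX z := by
  obtain ⟨g, hg, e⟩ := H.exists_F h h'
  refine (star_eq_one hc).1 ((H.m20 h.pt).eq_one_of_two h.bar_ne_one hg
    (fun e' => hn (by rw [e, e', one_smul])) ((star_smul_eq_iff hc h.mem_UU).2 e1) ?_)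
  rw [← e]; exact (star_smul_eq_iff hc h'.mem_UU).2 e2

theorem not_mem_XX (h : Col z p) (h' : Col z r) (hn : r ∉ four z p) : r ∉ XX p := fun e => by
  obtain ⟨a, ha, ha', -⟩ := (H.cp h).exists_rank_one
  have hc := H.UU_le h ha
  rcases h.pt'.mem_zpowers.1 (comm_mem_of_XX' e ha) with e1 | e1
  · exact ha' (H.mem_XX_of_two h h' (H.bar_ne h h' hn) hc
      (comm_of_cz (UU_le_Cz p ha) ▸ one_mem _) (e1 ▸ one_mem _))
  · have := h'.conj_of_mem hc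
    rw [conj_eq_comm_mul, e1] at this
    exact H.not_col_mul h h' this

theorem star_eq (h : Col z p) {q b : G} (h' : Col z q) (e : bar z q = bar z p) (ha : a ∈ UU p)
    (ha' : a ∉ XX z) (hb : b ∈ UU q) (hb' : b ∉ XX z) : star z a = star z b :=
  (H.m20 h.pt).inv_unique (H.star_sq h ha) (H.star_ne h ha ha') (H.star_sq h' hb)
    (H.star_ne h' hb hb') h.bar_ne_one ((H.cp h).fix_y ha) (e ▸ (H.cp h').fix_y hb)

theorem mem_zp (h : Col z p) (h' : Col z r) (hn : r ∉ four z p) (h0 : x ∈ UU z) (h1 : x ∈ UU p)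
    (h2 : x ∈ UU r) : x ∈ zpowers z := by
  by_contra hx
  obtain ⟨a, ha, ha', -⟩ := (H.cp h).exists_rank_one
  obtain ⟨b, hb, hb', -⟩ := (H.cp h').exists_rank_one
  have e := (H.m20 h.pt).inv_unique (H.star_sq h ha) (H.star_ne h ha ha') (H.star_sq h' hb)
    (H.star_ne h' hb hb') (fun e => hx ((bar_eq_one h0).1 e))
    ((star_smul_eq_iff (H.UU_le h ha) h0).2 ((H.mem_UU_iff h ha ha' h0).1 h1))
    ((star_smul_eq_iff (H.UU_le h' hb) h0).2 ((H.mem_UU_iff h' hb hb' h0).1 h2))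
  refine H.not_mem_XX h h' hn (UU_le_XX p ((H.mem_UU_iff h ha ha' h'.mem_UU).2 ?_))
  rw [← star_smul_eq_iff (H.UU_le h ha) h'.mem_UU, e]
  exact (H.cp h').fix_y hb

theorem mem_UU_mul (h : Col z p) (h0 : x ∈ UU z) (h1 : x ∈ UU p) : x ∈ UU (z * p) := by
  obtain ⟨t, ht, e⟩ := h.exists_XX_swap
  have := conj_mem_UU t h1
  rw [e] at this
  rcases h.pt.conj_XX ht h0 with e1 | e1 <;> rw [e1] at this
  · exact this
  · exact (mul_mem_cancel_left h.mul.symm.mem_UU).1 this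

/-- An element of order four modulo `X_z` generates the stabilizer of the line. -/
theorem exists_pow (h : Col z p) {t : G} (ht : t ∈ Cz z) (ht1 : ⁅t, p⁆ ∈ zpowers z)
    (ht2 : t * t ∉ XX z) (hc : c ∈ Cz z) (hc1 : ⁅c, p⁆ ∈ zpowers z) :
    ∃ j : ℕ, c * (t ^ j)⁻¹ ∈ XX z := by
  obtain ⟨j, hj⟩ := mem_powers_iff_mem_zpowers.2 ((H.m20 h.pt).mem_zpowers_of_fix h.bar_ne_one
    h.odd_index ((star_smul_eq_iff ht h.mem_UU).2 ht1)
    (fun e => ht2 ((star_eq_one (mul_mem ht ht)).1 (by rw [star_mul ht ht, e])))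
    ((star_smul_eq_iff hc h.mem_UU).2 hc1))
  exact ⟨j, (star_eq_star hc (pow_mem ht j)).1 (by rw [star_pow ht]; exact hj.symm)⟩

theorem comm_not_mem (h : Col z p) {t : G} (ht : t ∈ Cz z) (ht1 : ⁅t, p⁆ ∈ zpowers z)
    (ht2 : t * t ∉ XX z) (h0 : x ∈ UU z) (h1 : x ∈ UU p) (hx : x ∉ four z p) :
    ⁅t, x⁆ ∉ zpowers z := fun e => by
  obtain ⟨a, ha, ha', -⟩ := (H.cp h).exists_rank_one
  have hM := H.m20 h.pt
  obtain ⟨f1, f2⟩ := hM.fx_inv (H.star_sq h ha) (H.star_ne h ha ha')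
  obtain ⟨s, hs, hs'⟩ := (H.cp h).exists_move ha ha' fun k hk _ => by
    have := orderOf_dvd_natCard k
    rw [hk.orderOf_eq hM.red, hM.cK] at this; omega
  have k1 := (star_smul_eq_iff ht h.mem_UU).2 ht1
  refine hs' (le_trans (fun v hv => ?_) (fx_le_of_mem_zpowers (hM.mem_zpowers_of_fix h.bar_ne_one
    h.odd_index k1 (fun e => ht2 ((star_eq_one (mul_mem ht ht)).1 (by rw [star_mul ht ht, e]))) hs)))
  have k2 := (bar_mem_fx ht h0).2 e
  have k3 : bar z x ∉ zpowers (bar z p) := fun e => hx ((h.mem_four_iff_bar h0).2 e)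
  rw [← f1] at hv
  rcases (four_elems VV_sq f2 (mem_fx.2 ((H.cp h).fix_y ha))
    ((bar_mem_fx (H.UU_le h ha) h0).2 ((H.mem_UU_iff h ha ha' h0).1 h1)) h.bar_ne_one
    (fun e => k3 (e ▸ one_mem _)) fun e => k3 (e ▸ mem_zpowers _)).1 hv with e | e | e | e <;>
    rw [e]
  exacts [one_mem _, mem_fx.2 k1, k2, mul_mem (mem_fx.2 k1) k2]

theorem eq_one_of_odd (h : Pt z) (hc : c ∈ XX z) (ho : Odd (orderOf c)) : c = 1 := by
  obtain ⟨k, hk⟩ := H.th.isPGroup_XX h ⟨c, hc⟩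
  have h1 : orderOf c ∣ 2 ^ k := orderOf_dvd_of_pow_eq_one (congrArg Subtype.val hk)
  exact orderOf_eq_one_iff.1 (Nat.Coprime.eq_one_of_dvd
    ((Nat.coprime_two_right.2 ho).pow_right k) h1)

end Tg

end Cfsg.Lib.Ngrp.Ti
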