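import Cfsg.Agent.Ngrp.TitsA2

set_option autoImplicit false
set_option linter.unusedSectionVars false

namespace Cfsg.Lib.Ngrp.Ti
open Subgroup Cfsg.Lib.Trans Cfsg.Lib.Local Cfsg.Lib.Local.JC Cfsg.Lib.Trans.TJ Cfsg.Lib.Ngrp.Geo
open scoped commutatorElement

variable {G : Type*} [Group G]

theorem cf_zero (f x : G) : cf f 0 x = x := by simp [cf]
theorem cf_one (f x : G) : cf f 1 x = f * x * f⁻¹ := by simp [cf]
theorem cf_cf (f : G) (i j : ℕ) (x : G) : cf f i (cf f j x) = cf f (i + j) x := by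
  simp only [cf, pow_add]; group
theorem cf_mul (f : G) (k : ℕ) (x y : G) : cf f k (x * y) = cf f k x * cf f k y := by
  simp only [cf]; group
theorem cf_comm (f : G) (k : ℕ) (x y : G) : cf f k ⁅x, y⁆ = ⁅cf f k x, cf f k y⁆ :=
  conjugate_commutatorElement _ _ _
theorem cf_mod {f : G} (h : f ^ 5 = 1) (k : ℕ) (x : G) : cf f k x = cf f (k % 5) x := by
  rw [cf, cf, pow_eq_pow_mod k h]
theorem conj_cf {f g : G} {i : ℕ} (h : g * f * g⁻¹ = f ^ i) (k : ℕ) (x : G) :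
    g * cf f k x * g⁻¹ = cf f (i * k) (g * x * g⁻¹) := by
  rw [cf, cf, pow_mul, ← h, conj_pow]; group
theorem cf_mem_Cz {f x y : G} (k : ℕ) : cf f k x ∈ Cz (cf f k y) ↔ x ∈ Cz y := by
  rw [cf, cf, ← cj_Cz, conj_mem_cj]
theorem cf_of_mem {f x : G} (h : f ∈ Cz x) (k : ℕ) : cf f k x = x := Cz_conj (pow_mem h k)
theorem cf_sq {f x : G} (h : x * x = 1) (k : ℕ) : cf f k x * cf f k x = 1 := by
  rw [← cf_mul, h, cf]; group

variable [Finite G]

/-- A frame: a path `z, p, a`, an element `f` of order five inverted by `a`, and `u`. -/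
structure Fr (z p a f u : G) : Prop where
  tg : Tg G
  col : Col z p
  col' : Col p a
  aX : a ∉ XX z
  fC : f ∈ Cz z
  f5 : f ^ 5 = 1
  f1 : f ≠ 1
  af : a * f * a⁻¹ = f⁻¹
  uU : u ∈ UU p
  uA : u ∈ UU a
  uX : u ∈ XX z
  uN : u ∉ UU z

theorem Tg.exists_fr (H : Tg G) {z p : G} (h : Col z p) : ∃ a f u, Fr z p a f u := by
  obtain ⟨a, ha, ha'⟩ : ∃ a, Col p a ∧ a ∉ XX z := by
    by_contra! hn
    exact (H.cp h).not_le_XX (UU_le_of_col hn)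
  have hM := H.m20 h.pt
  obtain ⟨d, hd, hd1, -, e⟩ := hM.red.exists_inverted (H.star_sq h ha.mem_UU)
    (H.star_ne h ha.mem_UU ha')
  obtain ⟨f, hf, ho, hi, rfl, -⟩ := star_lift (H.UU_le h ha.mem_UU) ha.sq (hM.red.odd_of_mem hd) e
  have k1 := card_le_of_idx (M := XX z) (T := UU a ⊓ UU p) fun s hs t ht => H.idxX h s hs.2 t ht.2
  rw [H.card_D ha] at k1
  obtain ⟨u, hu, hu'⟩ := SetLike.not_le_iff_exists.1
    fun e : UU a ⊓ UU p ⊓ XX z ≤ zpowers p => by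
      have := Trans.card_le_of_le e
      rw [h.pt'.card_zpowers] at this; omega
  refine ⟨a, f, u, H, h, ha, ha', hf, H.eq_one_of_odd h.pt ?_ (ho.of_dvd_nat (orderOf_pow_dvd 5)),
    fun e => hd1 (by rw [e, Geo.star_one]), hi, hu.1.2, hu.1.1, hu.2, fun e => hu' ?_⟩
  · rw [← star_eq_one (pow_mem hf 5), Geo.star_pow hf, ← hM.order_five hd hd1, pow_orderOf_eq_one]
  · exact H.mem_zp h.symm ha (fun e' => ha' (UU_le_XX z (h.fl.le_UU (four_comm p z ▸ e')))) hu.1.2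
      e hu.1.1

namespace Fr

variable {z p a f u : G} (h : Fr z p a f u) {w c x : G} {k j : ℕ}
include h

theorem pt : Pt z := h.col.pt
theorem pt' : Pt p := h.col.pt'
theorem m20 : M20 (KK z) (VV z) := h.tg.m20 h.pt
theorem aU : a ∈ UU p := h.col'.mem_UU
theorem aC : a ∈ Cz z := h.tg.UU_le h.col h.aU
theorem aY : a ∉ four z p := fun e => h.aX (UU_le_XX z (h.col.fl.le_UU e))
theorem uC : u ∈ Cz z := XX_le_Cz z h.uX
theorem u2 : u * u = 1 := h.tg.ab.sq h.uU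
theorem order_f : orderOf f = 5 :=
  haveI : Fact (Nat.Prime 5) := ⟨by norm_num⟩
  orderOf_eq_prime h.f5 h.f1
theorem odd : Odd (orderOf f) := by rw [h.order_f]; decide
theorem af' : a * f * a⁻¹ = f ^ 4 := by
  rw [h.af, eq_comm, ← mul_eq_one_iff_eq_inv, ← pow_succ, h.f5]
theorem pow_eq_one (e : f ^ k ∈ XX z) : k % 5 = 0 := by
  have := h.tg.eq_one_of_odd h.pt e (h.odd.of_dvd_nat (orderOf_pow_dvd k))
  rwa [← orderOf_dvd_iff_pow_eq_one, h.order_f, Nat.dvd_iff_mod_eq_zero] at this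
theorem fF : star z f ∈ fittingSubgroup (KK z) := h.m20.mem_F (odd_orderOf_star h.fC h.odd)
theorem star_ne : star z f ≠ 1 := fun e => by
  have := h.pow_eq_one (k := 1) (by rw [pow_one]; exact (star_eq_one h.fC).1 e)
  omega
theorem colP (k : ℕ) : Col z (cf f k p) := h.col.conj_of_mem (pow_mem h.fC k)
theorem PU (k : ℕ) : cf f k p ∈ UU z := (h.colP k).mem_UU
theorem pU : p ∈ UU z := h.col.mem_UU
theorem xX (k : ℕ) : cf f k u ∈ XX z := conj_mem_XX_of_mem (pow_mem h.fC k) h.uX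
theorem barP (k : ℕ) : bar z (cf f k p) = star z f ^ k • bar z p := by
  rw [← Geo.star_pow h.fC, star_smul (pow_mem h.fC k) h.pU, cf]
theorem cf_z (k : ℕ) : cf f k z = z := cf_of_mem h.fC k
theorem aP (k : ℕ) : a * cf f k p * a⁻¹ = cf f (4 * k % 5) p := by
  rw [conj_cf h.af', Cz_conj (UU_le_Cz p h.aU), ← cf_mod h.f5]
theorem aXk (k : ℕ) : a * cf f k u * a⁻¹ = cf f (4 * k % 5) u := by
  rw [conj_cf h.af', Cz_conj (Cz_symm (UU_le_Cz a h.uA)), ← cf_mod h.f5]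

theorem mem_zp (hw : w ∈ UU z) (e : f ∈ Cz w) : w ∈ zpowers z := by
  by_contra hn
  exact h.star_ne (h.m20.eq_one_of_fix h.fF (fun e => hn ((bar_eq_one hw).1 e))
    ((star_smul_eq_iff h.fC hw).2 (comm_of_cz e ▸ one_mem _)))

theorem mod_eq_of_fix (e : star z f ^ k • bar z p = bar z p) : k % 5 = 0 :=
  h.pow_eq_one ((star_eq_one (pow_mem h.fC k)).1 (Geo.star_pow h.fC k ▸
    h.m20.eq_one_of_fix (pow_mem h.fF k) h.col.bar_ne_one e))

theorem P_not (hk : k % 5 ≠ 0) : cf f k p ∉ four z p := fun e => by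
  rcases (mem_zpowers_iff_of_expo VV_sq).1 ((h.col.mem_four_iff_bar (h.PU k)).1 e) with e1 | e1
  · exact (h.colP k).bar_ne_one e1
  · exact hk (h.mod_eq_of_fix (h.barP k ▸ e1))

theorem P_notX (hk : k % 5 ≠ 0) : cf f k p ∉ XX p := h.tg.not_mem_XX h.col (h.colP k) (h.P_not hk)

theorem exists_P {r : G} (hr : Col z r) : ∃ k, k < 5 ∧ (r = cf f k p ∨ r = z * cf f k p) := by
  obtain ⟨g, hg, e⟩ := h.tg.exists_F h.col hr
  obtain ⟨k, hk, rfl⟩ := h.m20.exists_pow h.fF h.star_ne hg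
  exact ⟨k, hk, (h.pt.bar_eq_bar hr.mem_UU (h.PU k)).1 (e.trans (h.barP k).symm)⟩

theorem UU_le {L : Subgroup G} (h1 : z ∈ L) (h2 : ∀ k < 5, cf f k p ∈ L) : UU z ≤ L :=
  UU_le_of_col fun r hr => by
    obtain ⟨k, hk, rfl | rfl⟩ := h.exists_P hr
    exacts [h2 k hk, mul_mem h1 (h2 k hk)]

theorem mem_UU_of (hx : x ∈ UU p) (hk : k % 5 ≠ 0) (e : x ∈ Cz (cf f k p)) : x ∈ UU z :=
  h.tg.mem_UU_of_cz h.col.symm (h.PU k) (h.P_notX hk) hx (Cz_symm e)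

theorem up : u ∈ Cz p := UU_le_Cz p h.uU

theorem uP (j : ℕ) : u ∈ Cz (cf f j p) ↔ j % 5 = 0 :=
  ⟨fun e => by_contra fun hj => h.uN (h.mem_UU_of h.uU hj e),
    fun e => by rw [cf_mod h.f5, e, cf_zero]; exact h.up⟩

theorem xP (k j : ℕ) : cf f k u ∈ Cz (cf f j p) ↔ j % 5 = k % 5 := by
  rw [← cf_mem_Cz (f := f) (4 * k), cf_cf, cf_cf, cf_mod h.f5 (4 * k + k),
    show (4 * k + k) % 5 = 0 by omega, cf_zero, h.uP]
  omega

theorem xp (k : ℕ) : cf f k u ∈ Cz p ↔ k % 5 = 0 := by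
  have := h.xP k 0
  rwa [cf_zero, eq_comm] at this

theorem Pcomm (k j : ℕ) : cf f k p * cf f j p = cf f j p * cf f k p := h.tg.ab.comm (h.PU k) (h.PU j)

theorem pp : p * cf f 1 p * cf f 2 p * cf f 3 p * cf f 4 p = 1 := by
  have h1 := h.m20.norm_eq h.fF h.star_ne (bar z p)
  rw [← pow_one (star z f), ← h.barP, pow_one, ← h.barP, ← h.barP, ← h.barP,
    ← bar_mul h.pU (h.PU 1), ← bar_mul (mul_mem h.pU (h.PU 1)) (h.PU 2),
    ← bar_mul (mul_mem (mul_mem h.pU (h.PU 1)) (h.PU 2)) (h.PU 3),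
    ← bar_mul (mul_mem (mul_mem (mul_mem h.pU (h.PU 1)) (h.PU 2)) (h.PU 3)) (h.PU 4),
    bar_eq_one (mul_mem (mul_mem (mul_mem (mul_mem h.pU (h.PU 1)) (h.PU 2)) (h.PU 3)) (h.PU 4))] at h1
  have h2 := comm_mem_of_XX' (h.tg.idxX h.col.symm _ (h.PU 3) _ (h.PU 4) (h.P_notX (by decide))
    (h.P_notX (by decide))) h.aU
  rw [commutatorElement_def, conj_mul_eq, h.aP, h.aP, h.Pcomm, inv_eq_of_sq
    (h.tg.ab.sq (mul_mem (h.PU 3) (h.PU 4)))] at h2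
  refine h.tg.eq_one_of_col h.col h1 ?_
  have := mul_mem (mem_zpowers p) h2
  rwa [← mul_assoc, ← mul_assoc, ← mul_assoc] at this

theorem p_mul : p * (cf f 1 p * cf f 4 p) = cf f 2 p * cf f 3 p := by
  have := h.pp
  rw [mul_assoc (p * _), mul_assoc (p * _), h.tg.ab.comm (mul_mem (h.PU 2) (h.PU 3)) (h.PU 4),
    ← mul_assoc, mul_assoc p] at this
  rw [eq_inv_of_mul_eq_one_left this, inv_eq_of_sq (h.tg.ab.sq (mul_mem (h.PU 2) (h.PU 3)))]

theorem comm_Pa : ⁅cf f 1 p, a⁆ = cf f 1 p * cf f 4 p := by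
  rw [commutatorElement_def, inv_eq_of_sq (h.colP 1).sq, mul_assoc, mul_assoc, ← mul_assoc a, h.aP]

theorem P14 : cf f 1 p * cf f 4 p ∈ UU p :=
  h.comm_Pa ▸ comm_mem_UU_of_Cz (h.tg.UU_le h.col.symm (h.PU 1)) h.aU

theorem xsq (hk : k % 5 ≠ 0) : ⁅cf f k u, cf f (4 * k % 5) u⁆ = cf f 1 p * cf f 4 p ∨
    ⁅cf f k u, cf f (4 * k % 5) u⁆ = cf f 2 p * cf f 3 p := by
  have h1 := h.col'.conj (cf f k u)
  have hx := XX_le_Cz z (h.xX k)
  rw [conj_eq_comm_mul _ p, comm_eq_of_not h.pt (h.xX k) h.pU fun e => hk ((h.xp k).1 e)] at h1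
  have h2 : cf f k u * a * (cf f k u)⁻¹ ∉ XX p :=
    h.tg.not_mem_XX h.col.mul_right.symm h1 fun e => by
      rw [four_comm, h.col.comm, h.col.symm.four_mul, four_comm] at e
      exact h.aY ((mem_normalizer_iff.1 (h.col.fl.XX_le (h.xX k)) a).2 e)
  have h3 := h.tg.star_eq h.col.mul_right h.col.symm
    (by rw [h.col.comm, h.pt'.bar_mul_left h.col.symm.mem_UU]) h1.mem_UU h2 (h.PU 1)
    (h.P_notX (by decide))
  have c1 := h.tg.UU_le h.col.mul_right h1.mem_UU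
  have h4 := cm_star c1 h.aU
  rw [h3, cm_star (h.tg.UU_le h.col.symm (h.PU 1)) h.aU, h.comm_Pa, eq_comm,
    h.pt'.bar_eq_bar (comm_mem_UU_of_Cz c1 h.aU) h.P14, h.p_mul] at h4
  convert h4 using 2 <;>
  · rw [← h.aXk]
    simp only [commutatorElement_def, mul_inv_rev, inv_eq_of_sq (cf_sq h.u2 k),
      inv_eq_of_sq h.col'.sq, mul_assoc]

omit h in
theorem cz_comm_self {x y : G} (hx : x * x = 1) (h1 : ⁅x, y⁆ * ⁅x, y⁆ = 1) (hy : y * y = 1) :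
    x ∈ Cz ⁅x, y⁆ := by
  refine mem_Cz'.2 (Eq.trans ?_ (inv_eq_of_sq h1))
  rw [commutatorElement_inv]
  simp only [commutatorElement_def, inv_eq_of_sq hx, inv_eq_of_sq hy, ← mul_assoc, hx, one_mul]

theorem x14 : ⁅cf f 1 u, cf f 4 u⁆ = cf f 2 p * cf f 3 p := by
  refine (h.xsq (k := 1) (by decide)).resolve_left fun e => ?_
  have := cz_comm_self (cf_sq h.u2 1) (e ▸ h.tg.ab.sq h.P14) (cf_sq h.u2 _)
  rw [e, XX_mul_iff' h.pt (h.xX 1) (h.PU 1) (h.PU 4), h.xP, h.xP] at this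
  simp at this

theorem x23 : ⁅cf f 2 u, cf f 3 u⁆ = cf f 1 p * cf f 4 p := by
  refine (h.xsq (k := 2) (by decide)).resolve_right fun e => ?_
  have := cz_comm_self (cf_sq h.u2 2) (e ▸ h.tg.ab.sq (mul_mem (h.PU 2) (h.PU 3))) (cf_sq h.u2 _)
  rw [e, XX_mul_iff' h.pt (h.xX 2) (h.PU 2) (h.PU 3), h.xP, h.xP] at this
  simp at this

theorem hp : cf f 1 u * cf f 2 u ∈ Cz p := by
  rw [XX_mul_iff h.pt (h.xX 1) (h.xX 2) h.pU, h.xp, h.xp]; simp

theorem conj_a : cf f 1 u * cf f 2 u * a * (cf f 1 u * cf f 2 u)⁻¹ =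
    cf f 1 u * cf f 2 u * cf f 3 u * cf f 4 u * a := by
  have e1 : a * cf f 1 u * a⁻¹ = cf f 4 u := h.aXk 1
  have e2 : a * cf f 2 u * a⁻¹ = cf f 3 u := h.aXk 2
  rw [← e1, ← e2, mul_inv_rev, inv_eq_of_sq (cf_sq h.u2 1), inv_eq_of_sq (cf_sq h.u2 2)]
  group

theorem xx : u * cf f 1 u * cf f 2 u * cf f 3 u * cf f 4 u = z := by
  have h1 := h.col'.conj_of_mem h.hp
  rw [h.conj_a] at h1
  have h2 : u * cf f 1 u * cf f 2 u * cf f 3 u * cf f 4 u ∈ UU p := by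
    have := mul_mem h.uU ((mul_mem_cancel_right h.aU).1 h1.mem_UU)
    rwa [← mul_assoc, ← mul_assoc, ← mul_assoc] at this
  have h3 := h.mem_UU_of h2 (k := 1) (by decide) (by
    rw [XX_mul_iff h.pt (mul_mem (mul_mem (mul_mem h.uX (h.xX 1)) (h.xX 2)) (h.xX 3)) (h.xX 4)
      (h.PU 1), XX_mul_iff h.pt (mul_mem (mul_mem h.uX (h.xX 1)) (h.xX 2)) (h.xX 3) (h.PU 1),
      XX_mul_iff h.pt (mul_mem h.uX (h.xX 1)) (h.xX 2) (h.PU 1),
      XX_mul_iff h.pt h.uX (h.xX 1) (h.PU 1)]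
    simp [h.xP, h.uP])
  refine (h.pt.mem_zpowers.1 (h.mem_zp h3 (mem_Cz'.2 ?_))).resolve_left fun e => ?_
  · rw [← cf_one, cf_mul, cf_mul, cf_mul, cf_mul, cf_cf, cf_cf, cf_cf, cf_cf, cf_mod h.f5 (1 + 4),
      cf_zero]
    refine mul_left_cancel (a := u) ?_
    rw [h.tg.ab.comm h.uU h2]
    simp only [mul_assoc]
  · rw [mul_assoc u, mul_assoc u, mul_assoc u] at e
    rw [eq_inv_of_mul_eq_one_right e, inv_eq_of_sq h.u2] at h1
    have h4 : u * a ∈ four p a := by_contra fun hn =>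
      h.tg.not_mem_XX h.col' h1 hn (UU_le_XX a (mul_mem h.uA h.col'.pt'.mem_UU))
    rcases h.col'.mem_four.1 ((mul_mem_cancel_right (right_mem_four p a)).1 h4) with e | e | e | e
    · exact h.uN (e ▸ one_mem _)
    · exact h.uN (e ▸ h.pU)
    · exact h.aX (e ▸ h.uX)
    · exact h.aX ((mul_mem_cancel_left (UU_le_XX z h.pU)).1 (e ▸ h.uX))

theorem rh : RH z a f p u where
  z2 := h.pt.sq
  a2 := h.col'.sq
  p2 := h.col.sq
  u2 := h.u2
  f5 := h.f5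
  af := by have := h.af; rw [inv_eq_of_sq h.col'.sq] at this; rw [this, inv_mul_cancel]
  za := (mem_Cz.1 h.aC).symm
  zf := (mem_Cz.1 h.fC).symm
  zp := h.col.comm
  zu := (mem_Cz.1 h.uC).symm
  ap := h.col'.comm.symm
  au := (mem_Cz.1 (UU_le_Cz a h.uA)).symm
  pu := (mem_Cz.1 h.up).symm
  p01 := commutatorElement_eq_one_iff_mul_comm.2 (h.tg.ab.comm h.pU (h.PU 1))
  p02 := commutatorElement_eq_one_iff_mul_comm.2 (h.tg.ab.comm h.pU (h.PU 2))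
  pp := h.pp
  up1 := comm_eq_of_not h.pt h.uX (h.PU 1) (by simp [h.uP])
  up2 := comm_eq_of_not h.pt h.uX (h.PU 2) (by simp [h.uP])
  x14 := h.x14
  x23 := h.x23
  xx := h.xx

end Fr

end Cfsg.Lib.Ngrp.Ti
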