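import Cfsg.Agent.Ngrp.TitsA3
import Cfsg.Agent.Solv.Hall

set_option autoImplicit false
set_option linter.unusedSectionVars false

namespace Cfsg.Lib.Ngrp.Ti
open Subgroup Cfsg.Lib.Trans Cfsg.Lib.Local Cfsg.Lib.Local.JC Cfsg.Lib.Trans.TJ Cfsg.Lib.Ngrp.Geo
open scoped commutatorElement

variable {G : Type*} [Group G] [Finite G]

/-- The centralizer of `U_z`. -/
abbrev CU (z : G) : Subgroup G := centralizer (UU z : Set G)

/-- The subgroup generated by `U_z` and the conjugates of `u`. -/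
def Q0 (z f u : G) : Subgroup G :=
  UU z ⊔ zpowers (cf f 1 u) ⊔ zpowers (cf f 2 u) ⊔ zpowers (cf f 3 u) ⊔ zpowers (cf f 4 u)

theorem cz_of_CU {z c w : G} (hc : c ∈ CU z) (hw : w ∈ UU z) : c ∈ Cz w := le_Cz_of_mem hw hc

theorem mem_CU_of_le {z c : G} (h : UU z ≤ Cz c) : c ∈ CU z := fun _ hw => mem_Cz.1 (h hw)

theorem conj_mem_CU {z c g : G} (hg : g ∈ Cz z) (hc : c ∈ CU z) : g * c * g⁻¹ ∈ CU z :=
  mem_normalizer_conj (normalizer_le_normalizer_centralizer _ (Cz_le_normalizer_UU z hg)) hc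

theorem mem_normalizer_of_cmod {U L : Subgroup G} {x : G} (h1 : U ≤ L) (h2 : L ≤ cmod U x) :
    x ∈ normalizer (L : Set G) :=
  mem_normalizer_of_cj_le (cj_le_iff.2 fun t ht => by
    rw [conj_eq_comm_mul]; exact mul_mem (h1 (comm_symm_mem (h2 ht).2)) ht)

namespace Fr

variable {z p a f u : G} (h : Fr z p a f u) {w c x e q : G} {k j : ℕ}
include h

theorem xc1 (n : ℕ) : ⁅cf f ((n + 1) % 5) u, cf f ((n + 4) % 5) u⁆ ∈ UU z := by
  rw [← cf_mod h.f5, ← cf_mod h.f5, ← cf_cf, ← cf_cf f n 4, ← cf_comm, h.x14]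
  exact conj_mem_UU_of_mem (pow_mem h.fC n) (mul_mem (h.PU 2) (h.PU 3))

theorem xc2 (n : ℕ) : ⁅cf f ((n + 2) % 5) u, cf f ((n + 3) % 5) u⁆ ∈ UU z := by
  rw [← cf_mod h.f5, ← cf_mod h.f5, ← cf_cf, ← cf_cf f n 3, ← cf_comm, h.x23]
  exact conj_mem_UU_of_mem (pow_mem h.fC n) (mul_mem (h.PU 1) (h.PU 4))

theorem U_le_cmod (hx : x ∈ Cz z) : UU z ≤ cmod (UU z) x := fun _ hw =>
  ⟨le_normalizer hw, comm_symm_mem (comm_mem_UU_of_Cz hx hw)⟩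

theorem x_le_cmod (e : ⁅cf f k u, x⁆ ∈ UU z) : zpowers (cf f k u) ≤ cmod (UU z) x :=
  zpowers_le.2 ⟨Cz_le_normalizer_UU z (XX_le_Cz z (h.xX k)), e⟩

theorem U_le_Q0 : UU z ≤ Q0 z f u :=
  le_sup_left.trans (le_sup_left.trans (le_sup_left.trans le_sup_left))

theorem Q0_le_iff {L : Subgroup G} : Q0 z f u ≤ L ↔
    UU z ≤ L ∧ cf f 1 u ∈ L ∧ cf f 2 u ∈ L ∧ cf f 3 u ∈ L ∧ cf f 4 u ∈ L := by
  simp only [Q0, sup_le_iff, zpowers_le, and_assoc]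

theorem Q0_le : Q0 z f u ≤ XX z := h.Q0_le_iff.2 ⟨UU_le_XX z, h.xX 1, h.xX 2, h.xX 3, h.xX 4⟩

theorem zQ : z ∈ Q0 z f u := h.U_le_Q0 h.pt.mem_UU

theorem uQ : u ∈ Q0 z f u := by
  obtain ⟨-, h1, h2, h3, h4⟩ := h.Q0_le_iff.1 le_rfl
  have : u * cf f 1 u * cf f 2 u * cf f 3 u * cf f 4 u ∈ Q0 z f u := by rw [h.xx]; exact h.zQ
  rwa [mul_mem_cancel_right h4, mul_mem_cancel_right h3, mul_mem_cancel_right h2,
    mul_mem_cancel_right h1] at this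

theorem xQ (k : ℕ) : cf f k u ∈ Q0 z f u := by
  obtain ⟨-, h1, h2, h3, h4⟩ := h.Q0_le_iff.1 le_rfl
  have := Nat.mod_lt k (show 0 < 5 by norm_num)
  rw [cf_mod h.f5]
  generalize k % 5 = n at this
  interval_cases n
  exacts [(cf_zero f u).symm ▸ h.uQ, h1, h2, h3, h4]

theorem f_norm : f ∈ normalizer (Q0 z f u : Set G) :=
  mem_normalizer_of_cj_le (cj_le_iff_le_cj_inv.2 (h.Q0_le_iff.2
    ⟨fun _ hw => mem_cj_inv.2 (h.U_le_Q0 (conj_mem_UU_of_mem h.fC hw)), by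
      simp only [mem_cj_inv, ← cf_one, cf_cf, h.xQ, and_self]⟩))

theorem step {L : Subgroup G} (h1 : UU z ≤ L) (h2 : L ≤ cmod (UU z) (cf f k u))
    (h3 : L ≤ Cz (p * cf f k p)) (hk : k % 5 ≠ 0) (hc : c ∈ CU z)
    (hc' : c ∈ L ⊔ zpowers (cf f k u)) : c ∈ L := by
  refine ((mem_sup_zpowers_two (mem_normalizer_of_cmod h1 h2)
    (cf_sq h.u2 k ▸ one_mem _)).1 hc').resolve_right fun e => ?_
  have := (mul_mem_cancel_right (cz_of_CU hc (mul_mem h.pU (h.PU k)))).1 (h3 e)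
  rw [XX_mul_iff' h.pt (h.xX k) h.pU (h.PU k), h.xp, h.xP] at this
  exact hk (this.2 rfl)

theorem x_le_Cz (hk : k % 5 ≠ 0) (hj : j % 5 ≠ k % 5) : zpowers (cf f k u) ≤ Cz (p * cf f j p) :=
  zpowers_le.2 (by rw [XX_mul_iff' h.pt (h.xX k) h.pU (h.PU j), h.xp, h.xP]; tauto)

theorem U_le_Cz (hw : w ∈ UU z) : UU z ≤ Cz w := fun _ hx => mem_Cz.2 (h.tg.ab.comm hx hw)

/-- `C_{Q₀}(U) = U`. -/
theorem mem_U_of_Q0 (hq : q ∈ Q0 z f u) (hc : q ∈ CU z) : q ∈ UU z := by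
  have c0 := fun k => h.U_le_cmod (XX_le_Cz z (h.xX k))
  have c1 := fun k => h.U_le_Cz (mul_mem h.pU (h.PU k))
  refine h.step (k := 1) le_rfl (c0 _) (c1 _) (by decide) hc (h.step (k := 2) le_sup_left
    (sup_le (c0 _) (h.x_le_cmod (h.xc2 4))) (sup_le (c1 _) (h.x_le_Cz (by decide) (by decide)))
    (by decide) hc (h.step (k := 3) (le_sup_left.trans le_sup_left)
      (sup_le (sup_le (c0 _) (h.x_le_cmod (comm_symm_mem (h.xc1 2)))) (h.x_le_cmod (h.xc2 0)))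
      (sup_le (sup_le (c1 _) (h.x_le_Cz (by decide) (by decide)))
        (h.x_le_Cz (by decide) (by decide))) (by decide) hc (h.step (k := 4)
      (le_sup_left.trans (le_sup_left.trans le_sup_left))
      (sup_le (sup_le (sup_le (c0 _) (h.x_le_cmod (h.xc1 0)))
        (h.x_le_cmod (comm_symm_mem (h.xc1 3)))) (h.x_le_cmod (h.xc2 1)))
      (sup_le (sup_le (sup_le (c1 _) (h.x_le_Cz (by decide) (by decide)))
        (h.x_le_Cz (by decide) (by decide))) (h.x_le_Cz (by decide) (by decide)))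
      (by decide) hc hq)))

theorem mem_CU (hc : c ∈ Cz z) (h0 : c ∈ Cz p) (h1 : c ∈ Cz (cf f 1 p)) (h2 : c ∈ Cz (cf f 2 p))
    (h3 : c ∈ Cz (cf f 3 p)) : c ∈ CU z := by
  refine mem_CU_of_le (h.UU_le (Cz_symm hc) fun k hk => ?_)
  interval_cases k
  exacts [(cf_zero f p).symm ▸ Cz_symm h0, Cz_symm h1, Cz_symm h2, Cz_symm h3,
    eq_inv_of_mul_eq_one_right h.pp ▸
      inv_mem (mul_mem (mul_mem (mul_mem (Cz_symm h0) (Cz_symm h1)) (Cz_symm h2)) (Cz_symm h3))]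

theorem adj (hq : q ∈ XX z) (hj : j < 4) : ∃ y ∈ Q0 z f u, y * q ∈ Cz (cf f j p) ∧
    ∀ i < 4, i ≠ j → y ∈ Cz (cf f i p) := by
  by_cases e : q ∈ Cz (cf f j p)
  · exact ⟨1, one_mem _, by rwa [one_mul], fun _ _ _ => one_mem _⟩
  refine ⟨cf f 4 u * cf f j u, mul_mem (h.xQ 4) (h.xQ j), ?_, fun i hi hij => ?_⟩
  · rw [XX_mul_iff h.pt (mul_mem (h.xX 4) (h.xX j)) hq (h.PU j),
      XX_mul_iff h.pt (h.xX 4) (h.xX j) (h.PU j), h.xP, h.xP]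
    simp only [e, iff_true, iff_false]; omega
  · rw [XX_mul_iff h.pt (h.xX 4) (h.xX j) (h.PU i), h.xP, h.xP]; omega

theorem dec_CU (hq : q ∈ XX z) : ∃ y ∈ Q0 z f u, y * q ∈ CU z := by
  obtain ⟨y0, a0, b0, -⟩ := h.adj (j := 0) hq (by decide)
  have q1 := mul_mem (h.Q0_le a0) hq
  obtain ⟨y1, a1, b1, c1⟩ := h.adj (j := 1) q1 (by decide)
  have q2 := mul_mem (h.Q0_le a1) q1
  obtain ⟨y2, a2, b2, c2⟩ := h.adj (j := 2) q2 (by decide)
  have q3 := mul_mem (h.Q0_le a2) q2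
  obtain ⟨y3, a3, b3, c3⟩ := h.adj (j := 3) q3 (by decide)
  refine ⟨y3 * (y2 * (y1 * y0)), mul_mem a3 (mul_mem a2 (mul_mem a1 a0)), ?_⟩
  rw [mul_assoc, mul_assoc, mul_assoc]
  refine h.mem_CU (XX_le_Cz z (mul_mem (h.Q0_le a3) q3)) ?_ ?_ ?_ b3
  · rw [← cf_zero f p]
    exact mul_mem (c3 0 (by decide) (by decide)) (mul_mem (c2 0 (by decide) (by decide))
      (mul_mem (c1 0 (by decide) (by decide)) b0))
  · exact mul_mem (c3 1 (by decide) (by decide)) (mul_mem (c2 1 (by decide) (by decide)) b1)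
  · exact mul_mem (c3 2 (by decide) (by decide)) b2

theorem CU_le : CU z ≤ XX z := centralizer_UU_le h.pt

theorem comm_CU (hc : c ∈ CU z) (hx : x ∈ UU p) : ⁅c, x⁆ ∈ UU z := by
  refine h.mem_UU_of (comm_mem_UU_of_Cz (cz_of_CU hc h.pU) hx) (k := 1) (by decide)
    (cz_of_CU ?_ (h.PU 1))
  rw [commutatorElement_def, mul_assoc, mul_assoc, ← mul_assoc x]
  exact mul_mem hc (conj_mem_CU (h.tg.UU_le h.col hx) (inv_mem hc))

theorem comm_f (hc : c ∈ CU z) : ⁅f, c⁆ ∈ UU z := by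
  have h1 : a ∈ cmod (UU z) c := ⟨Cz_le_normalizer_UU z h.aC, comm_symm_mem (h.comm_CU hc h.aU)⟩
  have h2 : f * a * f⁻¹ ∈ cmod (UU z) c := by
    refine ⟨Cz_le_normalizer_UU z (mul_mem (mul_mem h.fC h.aC) (inv_mem h.fC)), ?_⟩
    have := conj_mem_UU_of_mem h.fC
      (comm_symm_mem (h.comm_CU (conj_mem_CU (inv_mem h.fC) hc) h.aU))
    rwa [conjugate_commutatorElement, show f * (f⁻¹ * c * f⁻¹⁻¹) * f⁻¹ = c by group] at this
  refine (mem_of_sq_mem h.odd (H := cmod (UU z) c) ?_).2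
  have := mul_mem h2 (inv_mem h1)
  rwa [show f * a * f⁻¹ * a⁻¹ = f * (a * f * a⁻¹)⁻¹ by group, h.af, inv_inv] at this

theorem dec_E (hc : c ∈ CU z) : ∃ w ∈ UU z, w * c ∈ Cz f := by
  have h1 := h.comm_f hc
  obtain ⟨v, hv⟩ := (h.m20.cV_eq h.fF h.star_ne).ge (mem_top (bar z ⁅f, c⁆))
  obtain ⟨w, hw, rfl⟩ := exists_bar v
  have h2 := comm_mem_UU_of_Cz h.fC hw
  rw [cm_star h.fC hw] at hv
  refine ⟨w, hw, Cz_symm (h.pt.mem_Cz_of_odd h.odd h.fC ?_)⟩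
  rw [show ⁅f, w * c⁆ = ⁅f, w⁆ * (w * ⁅f, c⁆ * w⁻¹) by simp only [commutatorElement_def]; group,
    Cz_conj (h.U_le_Cz h1 hw), ← bar_eq_one (mul_mem h2 h1), bar_mul h2 h1, hv, VV_sq]

theorem E_CU (he : e ∈ XX z) (he' : e ∈ Cz f) : e ∈ CU z := by
  have k : ∀ j, e ∈ Cz (cf f j p) ↔ e ∈ Cz p := fun j => by
    rw [← cf_mem_Cz (f := f) j (x := e) (y := p), cf_of_mem (Cz_symm he')]
  have k0 : e ∈ Cz p := by
    have : e ∈ Cz (cf f 2 p * cf f 3 p) := by rw [XX_mul_iff' h.pt he (h.PU 2) (h.PU 3), k, k]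
    rw [← h.p_mul, XX_mul_iff' h.pt he h.pU (mul_mem (h.PU 1) (h.PU 4)),
      XX_mul_iff' h.pt he (h.PU 1) (h.PU 4), k, k] at this
    exact this.2 Iff.rfl
  exact h.mem_CU (XX_le_Cz z he) k0 ((k 1).2 k0) ((k 2).2 k0) ((k 3).2 k0)

theorem E_a (he : e ∈ XX z) (he' : e ∈ Cz f) : e ∈ Cz a := by
  have hc := h.E_CU he he'
  have h1 : ⁅e, a⁆ ∈ Cz f := by
    rw [commutatorElement_def, mul_assoc, mul_assoc, ← mul_assoc a]
    exact mul_mem he' (Cz_conj_inverts h.af (inv_mem he'))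
  refine cz_of_comm ((h.pt.mem_zpowers.1 (h.mem_zp (h.comm_CU hc h.aU)
    (Cz_symm h1))).resolve_right fun e1 => ?_)
  have := h.col'.conj_of_mem (cz_of_CU hc h.pU)
  rw [conj_eq_comm_mul, e1] at this
  exact h.tg.not_col_mul h.col.symm h.col' this

theorem mem_Xp (h1 : c ∈ Cz z) (h2 : c ∈ Cz p) (h3 : ⁅c, a⁆ ∈ zpowers p) : c ∈ XX p :=
  h.tg.mem_XX_of_two h.col.symm h.col' (h.tg.bar_ne h.col.symm h.col' (four_comm z p ▸ h.aY)) h2
    (comm_of_cz h1 ▸ one_mem _) h3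

theorem E_Xp (he : e ∈ XX z) (he' : e ∈ Cz f) : e ∈ XX p :=
  h.mem_Xp (XX_le_Cz z he) (cz_of_CU (h.E_CU he he') h.pU) (comm_of_cz (h.E_a he he') ▸ one_mem _)

theorem dec (hq : q ∈ XX z) : ∃ y ∈ Q0 z f u, ∃ e ∈ XX z, e ∈ Cz f ∧ q = y * e := by
  obtain ⟨y, hy, e1⟩ := h.dec_CU hq
  obtain ⟨w, hw, e2⟩ := h.dec_E e1
  exact ⟨y⁻¹ * w⁻¹, mul_mem (inv_mem hy) (inv_mem (h.U_le_Q0 hw)), _,
    mul_mem (UU_le_XX z hw) (h.CU_le e1), e2, by group⟩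

theorem zp_of_Q0 (hq : q ∈ Q0 z f u) (e : q ∈ Cz f) : q ∈ zpowers z :=
  h.mem_zp (h.mem_U_of_Q0 hq (h.E_CU (h.Q0_le hq) e)) (Cz_symm e)

/-- Frattini argument. -/
theorem frattini (hc : c ∈ Cz z) : ∃ y ∈ Q0 z f u, y * c ∈ normalizer (zpowers f : Set G) := by
  have h1 := mul_mem (mul_mem hc h.fC) (inv_mem hc)
  obtain ⟨j, -, e⟩ := h.m20.exists_pow h.fF h.star_ne
    (Normal.conj_mem inferInstance _ h.fF (star z c))
  rw [← Geo.star_conj hc h.fC, ← Geo.star_pow h.fC, star_eq_star h1 (pow_mem h.fC j)] at e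
  obtain ⟨n, hn⟩ := IsPGroup.iff_card.1 (h.tg.th.isPGroup_XX h.pt)
  obtain ⟨y, hy, e1⟩ := Solv.exists_conj_le_of_le_sup (N := XX z) (H := zpowers f)
    (K := zpowers (c * f * c⁻¹)) (zpowers_le.2 (Cz_le_normalizer_XX z h.fC))
    (eq_bot_iff.2 fun x hx => h.tg.eq_one_of_odd h.pt hx.1
      (h.odd.of_dvd_nat (orderOf_dvd_of_mem_zpowers hx.2)))
    (zpowers_le.2 (by
      have := mul_mem_sup e (pow_mem (mem_zpowers f) j)
      rwa [inv_mul_cancel_right] at this))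
    (by rw [hn, Nat.card_zpowers, show orderOf (c * f * c⁻¹) = 5 from
          ((MulAut.conj c).orderOf_eq f).trans h.order_f]
        exact Nat.Coprime.pow_right n (by norm_num))
    (Or.inl inferInstance)
  obtain ⟨y', hy', e', -, he', e2⟩ := h.dec (inv_mem hy)
  refine ⟨y'⁻¹, inv_mem hy', mem_normalizer_of_cj_le ?_⟩
  have e3 : y * (c * f * c⁻¹) * y⁻¹ ∈ zpowers f :=
    e1 (Subgroup.smul_mem_pointwise_smul _ (MulAut.conj y) _ (mem_zpowers _))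
  have e4 := mem_normalizer_conj (Cz_le_normalizer_zpowers f he') e3
  rw [cj_zpowers, zpowers_le]
  rwa [e2, ← inv_inv y, e2, show e' * ((y' * e')⁻¹ * (c * f * c⁻¹) * (y' * e')) * e'⁻¹ =
    y'⁻¹ * c * f * (y'⁻¹ * c)⁻¹ by group] at e4

theorem Q0_eq : Q0 z f u = ⁅XX z, zpowers f⁆ := by
  refine le_antisymm ?_ (commutator_le.2 fun q hq g hg => ?_)
  · have k1 : ∀ y ∈ XX z, y * y = 1 → ∀ k, y * cf f k y ∈ ⁅XX z, zpowers f⁆ := fun y hy e k => by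
      have := commutator_mem_commutator hy (pow_mem (mem_zpowers f) k)
      rwa [commutatorElement_def, inv_eq_of_sq e, mul_assoc, mul_assoc, ← mul_assoc (f ^ k)] at this
    have k2 : ∀ y ∈ XX z, y * y = 1 → y * cf f 1 y * cf f 2 y * cf f 3 y * cf f 4 y ∈
        ⁅XX z, zpowers f⁆ → ∀ k, cf f k y ∈ ⁅XX z, zpowers f⁆ := fun y hy e h1 k => by
      have h2 := mul_mem (inv_mem (k1 y hy e 2)) (k1 y hy e 3)
      rw [mul_inv_rev, inv_eq_of_sq (cf_sq e 2), mul_assoc, inv_mul_cancel_left] at h2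
      rw [mul_assoc (y * _), mul_mem_cancel_left (mul_mem (k1 y hy e 1) h2)] at h1
      exact (mul_mem_cancel_left ((mul_mem_cancel_right h1).1 (k1 y hy e 4))).1 (k1 y hy e k)
    have k3 := k2 p (UU_le_XX z h.pU) h.col.sq (h.pp ▸ one_mem _)
    have k4 : z ∈ ⁅XX z, zpowers f⁆ := by
      have := mul_mem (mem_normalizer_conj (normalizer_commutator_ge_left _ _ h.uX) (k3 1))
        (inv_mem (k3 1))
      rwa [← commutatorElement_def, h.rh.up1] at this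
    have k5 := k2 u h.uX h.u2 (h.xx ▸ k4)
    exact h.Q0_le_iff.2 ⟨h.UU_le k4 fun k _ => k3 k, k5 1, k5 2, k5 3, k5 4⟩
  · obtain ⟨y, hy, e, -, he, rfl⟩ := h.dec hq
    have h1 : g ∈ Cz e := zpowers_le.2 (Cz_symm he) hg
    rw [show ⁅y * e, g⁆ = y * (e * g * e⁻¹ * y⁻¹ * g⁻¹) by simp only [commutatorElement_def]; group,
      Cz_conj (Cz_symm h1)]
    exact mul_mem hy (mem_normalizer_conj (zpowers_le.2 h.f_norm hg) (inv_mem hy))

theorem C_norm : Cz z ≤ normalizer (Q0 z f u : Set G) := fun c hc => by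
  obtain ⟨y, hy, e⟩ := h.frattini hc
  refine (mul_mem_cancel_left (le_normalizer hy)).1 ?_
  rw [h.Q0_eq]
  exact normalizer_le_normalizer_commutator _ _
    ⟨Cz_le_normalizer_XX z (mul_mem (XX_le_Cz z (h.Q0_le hy)) hc), e⟩

theorem A0 (hx : x ∈ UU p) (hx' : x ∈ XX z) : x ∈ UU z ∨ u * x ∈ UU z := by
  by_cases e : x ∈ Cz (cf f 1 p)
  · exact Or.inl (h.mem_UU_of hx (by decide) e)
  · refine Or.inr (h.mem_UU_of (k := 1) (mul_mem h.uU hx) (by decide) ?_)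
    rw [XX_mul_iff h.pt h.uX hx' (h.PU 1), h.uP]; simp [e]

theorem A0_le (hx : x ∈ UU p) (hx' : x ∈ XX z) : x ∈ Q0 z f u :=
  (h.A0 hx hx').elim (fun e => h.U_le_Q0 e) fun e => (mul_mem_cancel_left h.uQ).1 (h.U_le_Q0 e)

end Fr

end Cfsg.Lib.Ngrp.Ti
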