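import Cfsg.Agent.Ngrp.TitsA4
import Cfsg.Agent.Ngrp.NatN4

set_option autoImplicit false
set_option linter.unusedSectionVars false

namespace Cfsg.Lib.Ngrp.Ti
open Subgroup Cfsg.Lib.Trans Cfsg.Lib.Local Cfsg.Lib.Local.JC Cfsg.Lib.Trans.TJ Cfsg.Lib.Ngrp.Geo
open scoped commutatorElement

variable {G : Type*} [Group G] [Finite G]

theorem exists_comm_le {P M N : Subgroup G} (hP : IsPGroup 2 P) (hM : M ≤ P)
    (hn : ∀ g ∈ P, ∀ x ∈ M, g * x * g⁻¹ ∈ M) (hne : ¬ M ≤ N) :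
    ∃ x ∈ M, x ∉ N ∧ ∀ g ∈ P, ⁅x, g⁆ ∈ N := by
  obtain ⟨n, hn'⟩ := (Subgroup.isNilpotent_iff_lowerCentralSeries P).1 hP.isNilpotent
  by_contra! h
  have key : ∀ i, ∃ x ∈ M, x ∉ N ∧ x ∈ P.lowerCentralSeries i := by
    intro i
    induction i with
    | zero =>
      obtain ⟨x, hx, hxN⟩ := SetLike.not_le_iff_exists.1 hne
      exact ⟨x, hx, hxN, hM hx⟩
    | succ i ih =>
      obtain ⟨x, hx, hxN, hi⟩ := ih
      obtain ⟨g, hg, hg'⟩ := h x hx hxN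
      refine ⟨_, ?_, hg', commutator_mem_commutator hi hg⟩
      rw [commutatorElement_def, mul_assoc, mul_assoc, ← mul_assoc g]
      exact mul_mem hx (hn g hg _ (inv_mem hx))
  obtain ⟨x, -, hx, h1⟩ := key n
  rw [hn', mem_bot] at h1
  exact hx (h1 ▸ one_mem _)

theorem eq_one_of_two_odd {L : Subgroup G} (hL : IsPGroup 2 L) {c : G} (hc : c ∈ L)
    (ho : Odd (orderOf c)) : c = 1 := by
  obtain ⟨k, hk⟩ := hL ⟨c, hc⟩
  have h1 : orderOf c ∣ 2 ^ k := orderOf_dvd_of_pow_eq_one (congrArg Subtype.val hk)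
  exact orderOf_eq_one_iff.1 (Nat.Coprime.eq_one_of_dvd
    ((Nat.coprime_two_right.2 ho).pow_right k) h1)

/-- The centralizer of the groups `U_r` for the points `r` of the line. -/
abbrev KT (z p : G) : Subgroup G := centralizer (T2 (four z p) : Set G)

theorem norm_KT (z p : G) : normalizer (four z p : Set G) ≤ normalizer (KT z p : Set G) :=
  (normalizer_le_normalizer_T2 _).trans (normalizer_le_normalizer_centralizer _)

namespace Fr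

variable {z p a f u : G} (h : Fr z p a f u) {w c x e q m : G} {k j : ℕ}
include h

theorem x1p : cf f 1 u * p * (cf f 1 u)⁻¹ = z * p := by
  rw [conj_eq_comm_mul, comm_eq_of_not h.pt (h.xX 1) h.pU (by simp [h.xp])]

theorem x1z : cf f 1 u * z * (cf f 1 u)⁻¹ = z := Cz_conj (XX_le_Cz z (h.xX 1))

theorem x1zp : cf f 1 u * (z * p) * (cf f 1 u)⁻¹ = p := by
  rw [conj_mul_eq, h.x1p, h.x1z, ← mul_assoc, h.pt.sq, one_mul]

theorem exists_m : ∃ m : G, m * m = 1 ∧ (m * cf f 1 u) ^ 3 = 1 ∧ m * z * m⁻¹ = p ∧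
    m * p * m⁻¹ = z := by
  obtain ⟨g, ho, g1, g2⟩ := h.col.mul.exists_rot_odd
  rw [← mul_assoc z z, h.pt.sq, one_mul] at g2
  have k0 : ∀ d : G, d * z * d⁻¹ = z * p → d * (z * p) * d⁻¹ = p → d * p * d⁻¹ = z :=
    fun d e1 e2 => by
      rw [conj_mul_eq, e1] at e2
      rw [eq_inv_mul_of_mul_eq e2, inv_eq_of_sq h.col.mul.sq, mul_assoc, h.col.sq, mul_one]
  have g3 := k0 g g1 g2
  have hx := inv_eq_of_sq (cf_sq (f := f) h.u2 1)
  have k1 : ∀ s t x : G, s * t * x * (s * t)⁻¹ = s * (t * x * t⁻¹) * s⁻¹ := fun s t x => by group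
  obtain ⟨d, hd, e1, e2, -⟩ := lift (X := centralizer (four z p : Set G)) (a := cf f 1 u) (d := g)
    (normalizer_le_normalizer_centralizer _ (h.col.fl.XX_le (h.xX 1)))
    (normalizer_le_normalizer_centralizer _ (Col.mem_normalizer_of_mem
      (g1 ▸ mul_mem (left_mem_four z p) (right_mem_four z p)) (g3 ▸ left_mem_four z p)))
    (cf_sq h.u2 1) (h.col.mem_centralizer_iff.2 ⟨mem_Cz'.2 (by
      rw [hx, k1, k1, k1, g1, h.x1zp, g3, h.x1z]), mem_Cz'.2 (by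
      rw [hx, k1, k1, k1, g3, h.x1z, g1, h.x1zp])⟩) ho (pow_orderOf_eq_one g ▸ one_mem _)
  obtain ⟨c1, c2⟩ := h.col.mem_centralizer_iff.1 e2
  have d0 : d = d * g⁻¹ * g := by group
  have d1 : d * z * d⁻¹ = z * p := by rw [d0, k1, g1, Cz_conj (Cz_mul c1 c2)]
  have d2 : d * (z * p) * d⁻¹ = p := by rw [d0, k1, g2, Cz_conj c2]
  have d3 := k0 d d1 d2
  have d4 : d ^ 3 = 1 := eq_one_of_two_odd (h.tg.th.isPGroup_centralizer h.col.fl)
    (h.col.mem_centralizer_iff.2 ⟨mem_Cz'.2 (by rw [pow_three, k1, k1, d1, d2, d3]),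
      mem_Cz'.2 (by rw [pow_three, k1, k1, d3, d1, d2])⟩) (hd.of_dvd_nat (orderOf_pow_dvd 3))
  have k2 : ∀ x y : G, d * x * d⁻¹ = y → d⁻¹ * y * d⁻¹⁻¹ = x := fun x y e => by rw [← e]; group
  refine ⟨d * cf f 1 u * d⁻¹, ?_, ?_, ?_, ?_⟩
  · rw [← conj_mul_eq, cf_sq h.u2, mul_one, mul_inv_cancel]
  · rw [show d * cf f 1 u * d⁻¹ * cf f 1 u = d * (cf f 1 u * d * (cf f 1 u)⁻¹)⁻¹ *
      (cf f 1 u * cf f 1 u) by group, e1, cf_sq h.u2, inv_inv, mul_one, ← pow_two, ← pow_mul,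
      mul_comm, pow_mul, d4, one_pow]
  · rw [k1, k1, k2 _ _ d3, h.x1p, d2]
  · rw [k1, k1, k2 _ _ d2, h.x1zp, d3]

theorem mem_KT : c ∈ KT z p ↔ UU z ≤ Cz c ∧ UU p ≤ Cz c ∧ UU (z * p) ≤ Cz c := by
  rw [← and_assoc, ← sup_le_iff, ← sup_le_iff, ← h.col.T2_eq]
  exact ⟨fun e x hx => mem_Cz.2 (e x hx), fun e x hx => mem_Cz.1 (e hx)⟩

theorem KT_CU (hc : c ∈ KT z p) : c ∈ CU z := mem_CU_of_le (h.mem_KT.1 hc).1

theorem KT_le : KT z p ≤ centralizer (four z p : Set G) := fun _ hc =>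
  h.col.mem_centralizer_iff.2 ⟨cz_of_CU (h.KT_CU hc) h.pt.mem_UU, cz_of_CU (h.KT_CU hc) h.pU⟩

theorem Q0_le_Cz (he : e ∈ XX z) (he' : e ∈ Cz f) (hu : e ∈ Cz u) : Q0 z f u ≤ Cz e := by
  have k : ∀ j, cf f j u ∈ Cz e := fun j => by
    rw [← cf_of_mem (Cz_symm he') j, cf_mem_Cz]; exact Cz_symm hu
  exact h.Q0_le_iff.2 ⟨fun _ hw => Cz_symm (cz_of_CU (h.E_CU he he') hw), k 1, k 2, k 3, k 4⟩

theorem E3_mem (he : e ∈ XX z) (he' : e ∈ Cz f) (hu : e ∈ Cz u) : e ∈ KT z p := by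
  have h1 := h.Q0_le_Cz he he' hu
  have h2 : UU p ≤ Cz e := fun w hw => by
    by_cases e1 : w ∈ XX z
    · exact h1 (h.A0_le hw e1)
    · exact (mul_mem_cancel_left (Cz_symm (h.E_a he he'))).1
        (h1 (h.A0_le (mul_mem h.aU hw) (h.tg.idxX h.col a h.aU w hw h.aX e1)))
  refine h.mem_KT.2 ⟨h.U_le_Q0.trans h1, h2, ?_⟩
  rw [← h.x1p, ← cj_UU]
  exact cj_le_of_mem_of_le (h1 (h.xQ 1)) h2

theorem KT_dec (hc : c ∈ KT z p) : ∃ w ∈ UU z, ∃ e ∈ XX z, e ∈ Cz f ∧ e ∈ Cz u ∧ c = w * e := by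
  obtain ⟨w, hw, e1⟩ := h.dec_E (h.KT_CU hc)
  have h1 := mul_mem (UU_le_XX z hw) (h.CU_le (h.KT_CU hc))
  have h2 := (h.mem_KT.1 hc).2.1
  have h3 := h.tg.mem_UU_of_cz h.col h.aU h.aX hw
    (Cz_symm ((mul_mem_cancel_right (Cz_symm (h2 h.aU))).1 (h.E_a h1 e1)))
  exact ⟨w⁻¹, inv_mem hw, _, h1, e1,
    mul_mem (mem_Cz.2 (h.tg.ab.comm h3 h.uU)) (Cz_symm (h2 h.uU)), by group⟩

theorem KT_sq (hc : c ∈ KT z p) : c * c = 1 := by
  refine mem_bot.1 (h.col.fl.eq_bot_of_moved (D := sqOf (KT z p))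
    ((h.tg.th.isPGroup_centralizer h.col.fl).to_le ((sqOf_le _).trans h.KT_le))
    ((norm_KT z p).trans (normalizer_le_normalizer_sqOf _)) (g := f) (fun x hx => ?_)
    (fun e => ?_) ▸ sq_mem_sqOf hc)
  · refine mem_Cz.1 (sqOf_le_iff.2 (fun c hc => ?_) hx)
    obtain ⟨w, hw, e, he, he', -, rfl⟩ := h.KT_dec hc
    rw [mul_assoc, ← mul_assoc e, mem_Cz.1 (cz_of_CU (h.E_CU he he') hw), mul_assoc, ← mul_assoc w,
      h.tg.ab.sq hw, one_mul]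
    exact mul_mem he' he'
  · refine h.P_not (k := 1) (by decide) ?_
    rw [cf_of_mem (h.col.mem_centralizer_iff.1 e).2]; exact right_mem_four z p

theorem comm_KT (hc : c ∈ KT z p) : ⁅cf f 1 u, c⁆ ∈ zpowers z := by
  obtain ⟨w, hw, e, he, he', hu, rfl⟩ := h.KT_dec hc
  have := comm_mem_of_XX (h.xX 1) hw
  rwa [show ⁅cf f 1 u, w * e⁆ = ⁅cf f 1 u, w⁆ * (w * ⁅cf f 1 u, e⁆ * w⁻¹) by
    simp only [commutatorElement_def]; group, comm_of_cz (h.Q0_le_Cz he he' hu (h.xQ 1)), mul_one,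
    mul_inv_cancel, mul_one]

theorem conj_E (hq : q ∈ normalizer (zpowers f : Set G)) (he : e ∈ Cz f) : q * e * q⁻¹ ∈ Cz f :=
  cent_zpowers f ▸ mem_normalizer_conj (normalizer_le_normalizer_centralizer _ hq)
    (cent_zpowers f ▸ he)

theorem E3_le (he : e ∈ XX z) (he' : e ∈ Cz f) (hu : e ∈ Cz u) : e ∈ zpowers z := by
  by_contra hn
  obtain ⟨m, -, -, m1, m2⟩ := h.exists_m
  have hS := h.tg.th.isSylowIn h.col.fl
  have hKu : ∀ c ∈ KT z p, c ∈ Cz u := fun c hc => Cz_symm ((h.mem_KT.1 hc).2.1 h.uU)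
  obtain ⟨e, ⟨h1, h2⟩, h3, h4⟩ := exists_comm_le (M := KT z p ⊓ Cz f) (N := zpowers z) hS.isPGroup
    (fun c hc => ⟨XX_le_Cz z (h.CU_le (h.KT_CU hc.1)), h.col.fl.XX_le (h.CU_le (h.KT_CU hc.1))⟩)
    (fun s hs c hc => ⟨mem_normalizer_conj (norm_KT z p hs.2) hc.1, by
      obtain ⟨y, hy, e1⟩ := h.frattini hs.1
      have k1 := mem_normalizer_conj
        (norm_KT z p (mul_mem (h.col.fl.XX_le (h.Q0_le hy)) hs.2)) hc.1
      have k2 := h.conj_E e1 hc.2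
      have k3 := Cz_conj (inv_mem (h.Q0_le_Cz (h.CU_le (h.KT_CU k1)) k2 (hKu _ k1) hy))
      rw [show y⁻¹ * (y * s * c * (y * s)⁻¹) * y⁻¹⁻¹ = s * c * s⁻¹ by group] at k3
      exact k3 ▸ k2⟩) fun e1 => hn (e1 ⟨h.E3_mem he he' hu, he'⟩)
  have hm : m ∈ normalizer (four z p : Set G) :=
    Col.mem_normalizer_of_mem (m1 ▸ right_mem_four z p) (m2 ▸ left_mem_four z p)
  set y := m * cf f 1 u * m⁻¹ with hy
  have y0 : ∀ r : G, y * (m * r * m⁻¹) * y⁻¹ = m * (cf f 1 u * r * (cf f 1 u)⁻¹) * m⁻¹ :=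
    fun r => by rw [hy]; group
  have y1 : y * p * y⁻¹ = p := by have := y0 z; rwa [h.x1z, m1] at this
  have y2 : y * z * y⁻¹ = p * z := by have := y0 p; rwa [h.x1p, conj_mul_eq m, m1, m2] at this
  have y3 : ⁅y, e⁆ ∈ zpowers p := by
    have := conj_mem_cj (g := m).2 (h.comm_KT (mem_normalizer_conj' (norm_KT z p hm) h1))
    rwa [cj_zpowers, m1, conjugate_commutatorElement,
      show m * (m⁻¹ * e * m) * m⁻¹ = e by group] at this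
  have yM : y ∈ normalizer (four z p : Set G) :=
    mul_mem (mul_mem hm (h.col.fl.XX_le (h.xX 1))) (inv_mem hm)
  have hR : ∀ r ∈ centralizer (four z p : Set G), ⁅e, r⁆ ∈ zpowers z := fun r hr =>
    h4 r ⟨(h.col.mem_centralizer_iff.1 hr).1, centralizer_le_normalizer _ hr⟩
  have k1 : ∀ r ∈ Cz z, r ∈ Cz p → r ∈ Cz e := fun r hr hr' => by
    have hr0 := h.col.mem_centralizer_iff.2 ⟨hr, hr'⟩
    have k2 := conj_mem_cj (g := y).2
      (hR _ (mem_normalizer_conj' (normalizer_le_normalizer_centralizer _ yM) hr0))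
    have k3 : ⁅y, e⁆ ∈ Cz r := zpowers_le.2 (Cz_symm hr') y3
    have k4 : ⁅y, e⁆ ∈ Cz ⁅e, r⁆ :=
      zpowers_le.2 (Cz_symm (zpowers_le.2 (Cz_symm h.col.mem_Cz) (hR r hr0))) y3
    rw [cj_zpowers, y2, conjugate_commutatorElement, show y * (y⁻¹ * r * y) * y⁻¹ = r by group,
      conj_eq_comm_mul, show ⁅⁅y, e⁆ * e, r⁆ = ⁅y, e⁆ * ⁅e, r⁆ * ⁅y, e⁆⁻¹ * ⁅⁅y, e⁆, r⁆ by
        generalize ⁅y, e⁆ = t; simp only [commutatorElement_def]; group,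
      comm_of_cz k3, mul_one, Cz_conj k4, ← h.col.comm] at k2
    exact Cz_symm (cz_of_comm (h.tg.eq_one_of_col h.col.mul (hR r hr0) k2))
  refine h3 (h.pt.eq_of_central hS (h.KT_sq h1) (fun e1 => h3 (e1 ▸ one_mem _))
    (fun s hs => ?_) ▸ mem_zpowers _)
  rcases (h.col.mem_normalizer_iff hs.1).1 hs.2 with e1 | e1
  · exact k1 s hs.1 (mem_Cz'.2 e1)
  · refine (mul_mem_cancel_left (h.Q0_le_Cz (h.CU_le (h.KT_CU h1)) h2 (hKu _ h1) (h.xQ 1))).1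
      (k1 _ (mul_mem (XX_le_Cz z (h.xX 1)) hs.1) (mem_Cz'.2 ?_))
    rw [show ∀ t : G, t * s * p * (t * s)⁻¹ = t * (s * p * s⁻¹) * t⁻¹ from fun t => by group, e1,
      h.x1zp]

theorem E_u (he : e ∈ XX z) (he' : e ∈ Cz f) (hn : e ∉ zpowers z) : ⁅e, u⁆ = p :=
  comm_eq_of_not h.pt' (h.E_Xp he he') h.uU fun e1 => hn (h.E3_le he he' e1)

theorem E_mul {e' : G} (he : e ∈ XX z) (hf : e ∈ Cz f) (hn : e ∉ zpowers z) (he' : e' ∈ XX z)
    (hf' : e' ∈ Cz f) (hn' : e' ∉ zpowers z) : e * e' ∈ zpowers z :=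
  h.E3_le (mul_mem he he') (mul_mem hf hf') (by
    rw [XX_mul_iff h.pt' (h.E_Xp he hf) (h.E_Xp he' hf') h.uU]
    exact iff_of_false (fun e1 => hn (h.E3_le he hf e1)) fun e1 => hn' (h.E3_le he' hf' e1))

end Fr

end Cfsg.Lib.Ngrp.Ti
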