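import Cfsg.Agent.Ngrp.TitsA5

set_option autoImplicit false
set_option linter.unusedSectionVars false

namespace Cfsg.Lib.Ngrp.Ti
open Subgroup Cfsg.Lib.Trans Cfsg.Lib.Local Cfsg.Lib.Local.JC Cfsg.Lib.Trans.TJ Cfsg.Lib.Ngrp.Geo
open scoped commutatorElement

variable {G : Type*} [Group G] [Finite G]

/-- An element of `Q₀` acting with order four on the lines through `p`. -/
structure Hs (z p f u s : G) : Prop where
  mem : s ∈ Q0 z f u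
  cp : s ∈ Cz p
  sq : s * s ∉ XX p
  sqU : s * s ∈ UU z
  c12 : s ∈ Cz (cf f 1 p * cf f 2 p)
  n24 : s ∉ Cz (cf f 2 p * cf f 4 p)
  n14 : s ∉ Cz (cf f 1 p * cf f 4 p)

theorem Hs.inv {z p f u s : G} (h : Hs z p f u s) : Hs z p f u s⁻¹ :=
  ⟨inv_mem h.mem, inv_mem h.cp, fun e => h.sq (inv_mem_iff.1 (mul_inv_rev s s ▸ e)),
    mul_inv_rev s s ▸ inv_mem h.sqU, inv_mem h.c12, fun e => h.n24 (inv_mem_iff.1 e),
    fun e => h.n14 (inv_mem_iff.1 e)⟩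

theorem cz_conj_XX {z y w c : G} (hy : y ∈ XX z) (hw : w ∈ UU z) (hc : c ∈ Cz z) :
    c ∈ Cz (y * w * y⁻¹) ↔ c ∈ Cz w := by
  rw [conj_eq_comm_mul, cz_comm, cz_comm (a := c),
    mul_mem_cancel_left (zpowers_le.2 (Cz_symm hc) (comm_mem_of_XX hy hw))]

namespace Fr

variable {z p a f u : G} (h : Fr z p a f u) {w c x e q s : G} {k j : ℕ}
include h

theorem xxP (i j k : ℕ) :
    cf f i u * cf f j u ∈ Cz (cf f k p) ↔ (k % 5 = i % 5 ↔ k % 5 = j % 5) := by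
  rw [XX_mul_iff h.pt (h.xX i) (h.xX j) (h.PU k), h.xP, h.xP]

theorem xxPP (i j k l : ℕ) : cf f i u * cf f j u ∈ Cz (cf f k p * cf f l p) ↔
    ((k % 5 = i % 5 ↔ k % 5 = j % 5) ↔ (l % 5 = i % 5 ↔ l % 5 = j % 5)) := by
  rw [XX_mul_iff' h.pt (mul_mem (h.xX i) (h.xX j)) (h.PU k) (h.PU l), h.xxP, h.xxP]

theorem xs1 (n : ℕ) : ⁅cf f ((n + 1) % 5) u, cf f ((n + 4) % 5) u⁆ =
    cf f ((n + 2) % 5) p * cf f ((n + 3) % 5) p := by
  simp only [← cf_mod h.f5, ← cf_cf, ← cf_comm, ← cf_mul, h.x14]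

theorem xs2 (n : ℕ) : ⁅cf f ((n + 2) % 5) u, cf f ((n + 3) % 5) u⁆ =
    cf f ((n + 1) % 5) p * cf f ((n + 4) % 5) p := by
  simp only [← cf_mod h.f5, ← cf_cf, ← cf_comm, ← cf_mul, h.x23]

theorem xx_sq (i j : ℕ) :
    cf f i u * cf f j u * (cf f i u * cf f j u) = ⁅cf f i u, cf f j u⁆ := by
  rw [commutatorElement_def, inv_eq_of_sq (cf_sq h.u2 i), inv_eq_of_sq (cf_sq h.u2 j), ← mul_assoc]

theorem hs : Hs z p f u (cf f 1 u * cf f 2 u) := by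
  have e : ⁅cf f 1 u, cf f 2 u⁆ = cf f 0 p * cf f 3 p := h.xs2 4
  refine ⟨mul_mem (h.xQ 1) (h.xQ 2), h.hp, ?_, ?_, by simp [h.xxPP], by simp [h.xxPP],
    by simp [h.xxPP]⟩
  · rw [h.xx_sq, e, cf_zero, mul_mem_cancel_left (UU_le_XX p h.pt'.mem_UU)]
    exact h.P_notX (by decide)
  · rw [h.xx_sq, e]; exact mul_mem (h.PU 0) (h.PU 3)

theorem mem_U' (hq : q ∈ Q0 z f u) (h0 : q ∈ Cz p) (h1 : q ∈ Cz (cf f 1 p))
    (h2 : q ∈ Cz (cf f 2 p)) (h4 : q ∈ Cz (cf f 1 p * cf f 4 p)) : q ∈ UU z :=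
  h.mem_U_of_Q0 hq (h.mem_CU (XX_le_Cz z (h.Q0_le hq)) h0 h1 h2
    (Cz_symm ((mul_mem_cancel_left (Cz_symm h2)).1 (Cz_symm (h.p_mul ▸ Cz_mul h0 h4)))))

theorem cz_D (h1 : c ∈ XX z) (h2 : c ∈ XX p) (hx : x ∈ UU z) (hx' : x ∈ UU p) : c ∈ Cz x :=
  cz_of_comm (h.tg.eq_one_of_col h.col (comm_mem_of_XX h1 hx) (comm_mem_of_XX h2 hx'))

theorem cz_14 (h1 : c ∈ XX z) (h2 : c ∈ XX p) : c ∈ Cz (cf f 1 p * cf f 4 p) :=
  h.cz_D h1 h2 (mul_mem (h.PU 1) (h.PU 4)) h.P14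

theorem cz_f (h1 : c ∈ XX z) (h2 : c ∈ normalizer (zpowers f : Set G)) : c ∈ Cz f :=
  cz_of_comm (h.tg.eq_one_of_odd h.pt (comm_mem_XX h1 h.fC)
    (h.odd.of_dvd_nat (orderOf_dvd_of_mem_zpowers
      (mul_mem (mem_normalizer_conj h2 (mem_zpowers f)) (inv_mem (mem_zpowers f))))))

theorem a2 : a * a = 1 := h.col'.sq

/-- The squares of these elements of `Q₀` are not collinear with `z`. -/
theorem not_col_sq (hq : q ∈ Q0 z f u) (h0 : q ∈ Cz p) (h4 : q ∉ Cz (cf f 1 p * cf f 4 p)) :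
    ¬ Col z (q * q) := fun hc => by
  have hX := h.Q0_le hq
  have key : ∀ i j k l, ⁅cf f i u, cf f j u⁆ = cf f k p * cf f l p →
      cf f i u * cf f j u ∈ Cz (cf f 0 p) → cf f i u * cf f j u ∉ Cz (cf f 1 p * cf f 4 p) →
      (cf f i u * cf f j u ∈ Cz (cf f 1 p) ↔ q ∈ Cz (cf f 1 p)) →
      (cf f i u * cf f j u ∈ Cz (cf f 2 p) ↔ q ∈ Cz (cf f 2 p)) → False := by
    intro i j k l e e0 e4 e1 e2
    have hs := mul_mem (h.xX i) (h.xX j)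
    rw [← h.xx_sq] at e
    rw [cf_zero] at e0
    have hw := h.mem_U' (mul_mem (mul_mem (h.xQ i) (h.xQ j)) hq) (mul_mem e0 h0)
      ((XX_mul_iff h.pt hs hX (h.PU 1)).2 e1) ((XX_mul_iff h.pt hs hX (h.PU 2)).2 e2)
      ((XX_mul_iff h.pt hs hX (mul_mem (h.PU 1) (h.PU 4))).2 (iff_of_false e4 h4))
    generalize cf f i u * cf f j u = s at *
    have k1 : q * q = ⁅s, s * q⁆ * (s * s) := by
      have k3 : ⁅s, s * q⁆ ∈ Cz (s * q) :=
        zpowers_le.2 (Cz_symm (UU_le_Cz z hw)) (comm_mem_of_XX hs hw)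
      calc _ = (s * q)⁻¹ * ⁅s, (s * q)⁻¹⁆ * (s * q)⁻¹ * (s * s) := by
            rw [← inv_eq_of_sq hc.sq, commutatorElement_def]; group
        _ = _ := by
            rw [inv_eq_of_sq (h.tg.ab.sq hw), ← mem_Cz.1 k3, mul_assoc _ (s * q) (s * q),
              h.tg.ab.sq hw, mul_one]
    rw [k1, e, ← mul_assoc] at hc
    rcases h.pt.comm_XX hs hw with e3 | e3 <;> rw [e3] at hc
    · exact h.tg.not_col_mul (h.colP k) (h.colP l) (by rwa [one_mul] at hc)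
    · exact h.tg.not_col_mul (h.colP k).mul (h.colP l) hc
  by_cases e1 : q ∈ Cz (cf f 1 p) <;> by_cases e2 : q ∈ Cz (cf f 2 p)
  · exact key 3 4 2 0 (h.xs2 1) (by simp [h.xxP]) (by simp [h.xxPP]) (by simp [h.xxP, e1])
      (by simp [h.xxP, e2])
  · exact key 4 2 0 1 (h.xs1 3) (by simp [h.xxP]) (by simp [h.xxPP]) (by simp [h.xxP, e1])
      (by simp [h.xxP, e2])
  · exact key 3 1 4 0 (h.xs1 2) (by simp [h.xxP]) (by simp [h.xxPP]) (by simp [h.xxP, e1])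
      (by simp [h.xxP, e2])
  · exact key 1 2 0 3 (h.xs2 4) (by simp [h.xxP]) (by simp [h.xxPP]) (by simp [h.xxP, e1])
      (by simp [h.xxP, e2])

theorem a_norm : a ∈ normalizer (zpowers f : Set G) := by
  rw [← cj_eq_self_iff, cj_zpowers, h.af, zpowers_inv]

end Fr

/-- A frame with an involution interchanging `z` and `p`. -/
structure Fm (z p a f u m : G) : Prop extends Fr z p a f u where
  m2 : m * m = 1
  mx : (m * cf f 1 u) ^ 3 = 1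
  mz : m * z * m⁻¹ = p
  mp : m * p * m⁻¹ = z

/-- A frame with the element `t`. -/
structure Ft (z p a f u m s t : G) : Prop extends Fm z p a f u m where
  hs : Hs z p f u s
  tC : t ∈ Cz z
  tf : t * f * t⁻¹ = f ^ 2
  ta : t * t = a ∨ t * t = a * z
  ty : t * (m * s * m⁻¹)⁻¹ ∈ Q0 z f u

namespace Fm

variable {z p a f u m : G} (h : Fm z p a f u m) {w c x e q s : G}
include h

theorem mm (x : G) : m * (m * x * m⁻¹) * m⁻¹ = x := by
  rw [show m * (m * x * m⁻¹) * m⁻¹ = m * m * x * (m * m)⁻¹ by group, h.m2]; group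

theorem mXz (hx : x ∈ XX z) : m * x * m⁻¹ ∈ XX p := by have := conj_mem_XX m hx; rwa [h.mz] at this
theorem mXp (hx : x ∈ XX p) : m * x * m⁻¹ ∈ XX z := by have := conj_mem_XX m hx; rwa [h.mp] at this
theorem mUz (hx : x ∈ UU z) : m * x * m⁻¹ ∈ UU p := by have := conj_mem_UU m hx; rwa [h.mz] at this
theorem mUp (hx : x ∈ UU p) : m * x * m⁻¹ ∈ UU z := by have := conj_mem_UU m hx; rwa [h.mp] at this
theorem mCz (hx : x ∈ Cz z) : m * x * m⁻¹ ∈ Cz p := by have := conj_mem_Cz m hx; rwa [h.mz] at this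
theorem mCp (hx : x ∈ Cz p) : m * x * m⁻¹ ∈ Cz z := by have := conj_mem_Cz m hx; rwa [h.mp] at this

theorem bb (hs : Hs z p f u s) : m * s * m⁻¹ * (m * s * m⁻¹) * a ∈ Q0 z f u := by
  rw [← conj_mul_eq]
  exact h.A0_le (mul_mem (h.mUz hs.sqU) h.aU) (h.tg.idxX h.col _ (h.mUz hs.sqU) a h.aU
    (fun e => hs.sq (h.mm (s * s) ▸ h.mXz e)) h.aX)

theorem exists_t : ∃ s t, Ft z p a f u m s t := by
  obtain ⟨s, hs⟩ : ∃ s, Hs z p f u s := ⟨_, h.hs⟩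
  have bC := h.mCp hs.cp
  obtain ⟨y, hy, hn⟩ := h.frattini bC
  have tC := mul_mem (XX_le_Cz z (h.Q0_le hy)) bC
  have k1 := mul_mem (mul_mem hy (mem_normalizer_conj (h.C_norm bC) hy)) (h.bb hs)
  have k0 : y * (m * s * m⁻¹) * (m * s * m⁻¹)⁻¹ ∈ Q0 z f u := by rwa [mul_inv_cancel_right]
  have k0' : (y * (m * s * m⁻¹))⁻¹ * (m * s⁻¹ * m⁻¹)⁻¹ ∈ Q0 z f u := by
    have := mem_normalizer_conj' (h.C_norm bC) (inv_mem hy)
    rwa [show (y * (m * s * m⁻¹))⁻¹ * (m * s⁻¹ * m⁻¹)⁻¹ =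
      (m * s * m⁻¹)⁻¹ * y⁻¹ * (m * s * m⁻¹) by group]
  rw [show ∀ b : G, y * (b * y * b⁻¹) * (b * b * a) = y * b * (y * b) * a from fun b => by group]
    at k1
  generalize y * (m * s * m⁻¹) = t at *
  have k2 := h.zp_of_Q0 k1 (h.cz_f (h.Q0_le k1) (mul_mem (mul_mem hn hn) h.a_norm))
  have ai := inv_eq_of_sq h.a2
  have k3 : t * t = a ∨ t * t = a * z := by
    rcases h.pt.mem_zpowers.1 k2 with e | e
    · exact Or.inl (ai ▸ eq_inv_of_mul_eq_one_left e)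
    · exact Or.inr (by rw [eq_mul_inv_of_mul_eq e, ai, mem_Cz.1 h.aC])
  obtain ⟨i, hi⟩ := mem_powers_iff_mem_zpowers.2 (mem_normalizer_conj hn (mem_zpowers f))
  simp only at hi
  have k4 : f ^ (i * i) = f ^ 4 := by
    rw [pow_mul, hi, ← h.af', conj_pow, hi,
      show t * (t * f * t⁻¹) * t⁻¹ = t * t * f * (t * t)⁻¹ by group]
    rcases k3 with e | e <;> rw [e]
    rw [show a * z * f * (a * z)⁻¹ = a * (z * f * z⁻¹) * a⁻¹ by group, Cz_conj (Cz_symm h.fC)]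
  rw [pow_eq_pow_iff_modEq, h.order_f, Nat.ModEq, Nat.mul_mod] at k4
  rw [← pow_mod_orderOf, h.order_f] at hi
  have := Nat.mod_lt i (show 0 < 5 by norm_num)
  generalize i % 5 = n at *
  interval_cases n <;> try simp at k4
  · exact ⟨s, t, h, hs, tC, hi.symm, k3, k0⟩
  · refine ⟨s⁻¹, t⁻¹, h, hs.inv, inv_mem tC, ?_, ?_, k0'⟩
    · have : t * f ^ 2 * t⁻¹ = f := by
        rw [← conj_pow, ← hi, ← pow_mul, show 3 * 2 = 5 + 1 from rfl, pow_succ, h.f5, one_mul]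
      nth_rw 1 [← this]; group
    · rw [← mul_inv_rev]
      refine k3.imp (fun e => by rw [e, ai]) fun e => ?_
      rw [e, mul_inv_rev, ai, h.pt.inv, mem_Cz.1 h.aC]

end Fm

end Cfsg.Lib.Ngrp.Ti
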