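import Cfsg.Agent.Ngrp.TitsDefs
import Cfsg.Agent.Spor.PresBridge

/-! Order bound for the relators of the amalgam without `r`. -/

set_option autoImplicit false
set_option maxRecDepth 100000
set_option Elab.async false

namespace Cfsg.Lib.Ngrp.Ti

open Subgroup Cfsg.Lib.Spor.Bulk

/-- the relators without `r` -/
def tiR0 : List (List ℕ) := tiR.take 70

noncomputable def ct3_C : SeqCert := ⟨nat_lit 4, nat_lit 9, nat_lit 17, nat_lit 0xf10100f0e0e0d0d0c0c0b0b0a0a0809090807070606040505040203030201010000, (NT.leaf (nat_lit 0) (nat_lit 0xdcf0cdf0bef0d9e0cae0d7d0bad0c7c0b9c0c6b0b8b0d4a0c490c380b470b360b250efb0ee80ed60ec50db50ea30e920d820e710d610c510e400d300c200b100000)), (NT.node (nat_lit 3) (NT.node (nat_lit 1) (NT.leaf (nat_lit 16592) (nat_lit 0xb0c0b0c)) (NT.node (nat_lit 2) (NT.leaf (nat_lit 16596) (nat_lit 0xb0d0b0d)) (NT.leaf (nat_lit 16600) (nat_lit 0xb0e0b0e)))) (NT.node (nat_lit 4) (NT.leaf (nat_lit 16604) (nat_lit 0xc0d0c0d)) (NT.node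 (nat_lit 5) (NT.leaf (nat_lit 16608) (nat_lit 0xc0e0c0e)) (NT.leaf (nat_lit 16612) (nat_lit 0xd0e0d0e)))))⟩
noncomputable def ct3_U : List (List ℕ) := []
noncomputable def ct3_HL : List ℕ := []
theorem ct3_head : ct3_C.head 17 tiIota tiR0 ct3_U ct3_HL 16 4 0 = true := by decide +kernel
noncomputable def ct3_s0 : List ℕ := [nat_lit 0x3c160c80c0a1e1786c06040f0b43a030107020130181438270a80c081a0603c06050d08c2a0301060140f0181030210980c04160503406030b0842203008500c090181424040480c08100201c06030700812030103004070180414020280c0011]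
theorem ct3_ok0 : ct3_C.StepsOK 16 33 := (SeqCert.StepsOK.refl _ 16).step (L := ct3_s0) (by decide +kernel)
theorem ct3_ok : ct3_C.StepsOK (16 + 0) 33 := ct3_ok0
noncomputable def ct3_r0 : List ℕ := [nat_lit 0x42018c0840210, nat_lit 0x73831814a0301, nat_lit 0x9484200a02152, nat_lit 0xa501c04f02363, nat_lit 0x480ae85322574, nat_lit 0xc605ac1622025, nat_lit 0xd683445f62236, nat_lit 0x788df46782447, nat_lit 0xe704484c62db8, nat_lit 0x990ef850831c9, nat_lit 0xa98a9073c35da, nat_lit 0xf785d45cc2c8b, nat_lit 0xca907c64e309c, nat_lit 0xdb0d9c7fe34ad, nat_lit 0xec0ea47143dfe, nat_lit 0xfd90307da3cef]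
theorem ct3_final : ct3_C.final 17 33 (nat_lit 0xffff) 16 [11,12,13,14] (ct3_r0) = true := by decide +kernel
theorem ct3 {G : Type*} [Group G] {g : ℕ → G} {H : Subgroup G} (hg : Sat g 17 tiIota tiR0)
    (hU : ∀ u ∈ ct3_U, wv g u ∈ H) (hL : ∀ l ∈ ct3_HL, g l ∈ H) :
    IdxLe H (Subgroup.closure {x | ∃ l ∈ ([11,12,13,14] : List ℕ), g l = x}) 16 :=
  SeqCert.idxLe_of_final hg hU hL ct3_head ct3_ok ct3_final
theorem upT3 {G : Type*} [Group G] {g : ℕ → G} (hg : Sat g 17 tiIota tiR0) :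
    Finite (gL g [11,12,13,14]) ∧ Nat.card (gL g [11,12,13,14]) ≤ 16 :=
  ((ct3 (H := ⊥) hg forall_mem_nil' forall_mem_nil').card_le (finite_card_bot)).imp id fun h => h.trans (by norm_num)

noncomputable def ct2_C : SeqCert := ⟨nat_lit 4, nat_lit 9, nat_lit 17, nat_lit 0xf10100f0e0e0d0d0c0c0b0b0a0a0809090807070606040505040203030201010000, (NT.leaf (nat_lit 0) (nat_lit 0x8cf09cf07df0eff0dff0cff0bff06ef089e099e07ae0eee0dee0cee0bee087d097d0edd0ddd0cdd0bdd06ad077c0ecc0dcc0ccc0bcc069c0bbb085b0ebb0dbb0cbb076b068b084a094a0eaa0daa0caa0baa07490e990d990c990b990b8808280e880d880c8807380e770d770c770b7706470b6608160e660d660c66063606250e550d550c550b550e440d440c440b440b3308030e330d330c330e220d220c220b220b110e110d110c110e000d000c000b000afb0ae80ad60ac508b50aa30a9208820a71086107510a400830072006100000)), (NT.node (nat_lit 12) (NT.node (nat_lit 6) (NT.node (nat_lit 3) (NT.node (nat_lit 1) (NT.leaf (nat_lit 132) (nat_lit 0xc060c06)) (NT.node (nat_lit 2) (NT.leaf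 (nat_lit 136) (nat_lit 0xd060d06)) (NT.leaf (nat_lit 140) (nat_lit 0xe060e06)))) (NT.node (nat_lit 4) (NT.leaf (nat_lit 49280) (nat_lit 0xb060b0d06)) (NT.node (nat_lit 5) (NT.leaf (nat_lit 152) (nat_lit 0xb070b07)) (NT.leaf (nat_lit 156) (nat_lit 0xc070c07))))) (NT.node (nat_lit 9) (NT.node (nat_lit 7) (NT.leaf (nat_lit 160) (nat_lit 0xd070d07)) (NT.node (nat_lit 8) (NT.leaf (nat_lit 164) (nat_lit 0xe070e07)) (NT.leaf (nat_lit 180) (nat_lit 0xc090c08)))) (NT.node (nat_lit 10) (NT.leaf (nat_lit 184) (nat_lit 0xd090d08)) (NT.node (nat_lit 11) (NT.leaf (nat_lit 188) (nat_lit 0xe090e08)) (NT.leaf (nat_lit 65704) (nat_lit 0x80c0d0e08)))))) (NT.node (nat_lit 18) (NT.node (nat_lit 15) (NT.node (nat_lit 13) (NT.leaf (nat_lit 176) (nat_lit 0xb0e090b08)) (NT.node (nat_lit 14) (NT.leaf (nat_lit 192) (nat_lit 0xb0a0b0a)) (NT.leaf (nat_lit 196) (nat_lit 0xc0a0c0a)))) (NT.node (nat_lit 16) (NT.leaf (nat_lit 200) (nat_lit 0xd0a0d0a)) (NT.node (nat_lit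 17) (NT.leaf (nat_lit 204) (nat_lit 0xe0a0e0a)) (NT.leaf (nat_lit 65652) (nat_lit 0x60706070c0d0e))))) (NT.node (nat_lit 21) (NT.node (nat_lit 19) (NT.leaf (nat_lit 49272) (nat_lit 0x6090608)) (NT.node (nat_lit 20) (NT.leaf (nat_lit 16508) (nat_lit 0x60a060a)) (NT.leaf (nat_lit 49296) (nat_lit 0x7090708)))) (NT.node (nat_lit 22) (NT.leaf (nat_lit 32916) (nat_lit 0x70a070a0e)) (NT.node (nat_lit 23) (NT.leaf (nat_lit 32940) (nat_lit 0x90a080a0d)) (NT.leaf (nat_lit 65708) (nat_lit 0x80a0d090a)))))))⟩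
noncomputable def ct2_U : List (List ℕ) := []
noncomputable def ct2_HL : List ℕ := [11,12,13,14]
theorem ct2_head : ct2_C.head 17 tiIota tiR0 ct2_U ct2_HL 16 4 4 = true := by decide +kernel
noncomputable def ct2_s0 : List ℕ := [nat_lit 0x3c97270640817640782c1902059941e4786c08150f2503e0308079241f0183c3c900f80c1c1e4c07c060d0f2343a0309870e634098102eb80e04026040b2e8386b0a8102a1c3807406100e1b83a0307870d81d0183838740e80c1a1a2e8a81e040bab0340c078102c1a2d06c06100d160360307868ac1b01838345e0d80c1a1a2a854061351060140f0205430500c80c201827064060f0c13032030706094190183430530980c26162505d280406058a04e2601016162805c060a0b1382e03048589817018202c0a0680c28162984406120a0fc48090205d08140302408160a0f02a030805074150183c28380a80c1c1420054060d3e04808090205424360980c20121a04c060f090c82603070486013018342030089c0080c080d868320202c20360880c14101a0440609080c82203040400807018501c2c0780c200e1503c060f070a01e03070385c0f018341c020480c260c17034b40406030582a14010160c16034060a060a81a0304830500d0182018020380c245027130140202818220a1602c0607050a8160303028500b01814142e0580c08081302406100409012030782044090183810200480c1a061001c7804060184c241101016061301c060a030900e030481844070182008260280c0e04120140606020880a030281040050181004241000c08030109806030100848030180404220180c0055]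
theorem ct2_ok0 : ct2_C.StepsOK 20 105 := (SeqCert.StepsOK.refl _ 20).step (L := ct2_s0) (by decide +kernel)
theorem ct2_ok : ct2_C.StepsOK (16 + 4) 105 := ct2_ok0
noncomputable def ct2_r0 : List ℕ := [nat_lit 0x26012008804000841f9818c0840210, nat_lit 0x2c11508a045c20e72eb031814a0301, nat_lit 0x3621a10c8860412939c04200a05352, nat_lit 0x3c31d18e0c80614a0380f80d705563, nat_lit 0x484232111084809045d2268ff26174, nat_lit 0x505272931494a18c4bd85ac1625225, nat_lit 0x5a62c31598bcc1ad06897051f65436, nat_lit 0x687333991cc4e0f159eac754b86047, nat_lit 0x7083741b20e901ce0891c88d468db8, nat_lit 0x7c93d49e24ed213260f2ff8fc89bc9, nat_lit 0x86a42520a901415344222917bca7da, nat_lit 0x94b495a42d3161ef0baa5951cc8c8b, nat_lit 0xa2c50627b139819568fb3fd48e9a9c, nat_lit 0xaed566aab551a1b6583ac9d9bea6ad, nat_lit 0xbae5c72db969c1d85f4b025794c3fe, nat_lit 0xcaf647b1bd89e1fb676343199ac2ef]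
theorem ct2_final : ct2_C.final 17 105 (nat_lit 0xffff) 16 [6,7,8,9,10,11,12,13,14] (ct2_r0) = true := by decide +kernel
theorem ct2 {G : Type*} [Group G] {g : ℕ → G} {H : Subgroup G} (hg : Sat g 17 tiIota tiR0)
    (hU : ∀ u ∈ ct2_U, wv g u ∈ H) (hL : ∀ l ∈ ct2_HL, g l ∈ H) :
    IdxLe H (Subgroup.closure {x | ∃ l ∈ ([6,7,8,9,10,11,12,13,14] : List ℕ), g l = x}) 16 :=
  SeqCert.idxLe_of_final hg hU hL ct2_head ct2_ok ct2_final
theorem upT2 {G : Type*} [Group G] {g : ℕ → G} (hg : Sat g 17 tiIota tiR0) :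
    Finite (gL g [6,7,8,9,10,11,12,13,14]) ∧ Nat.card (gL g [6,7,8,9,10,11,12,13,14]) ≤ 256 :=
  ((ct2 hg forall_mem_nil' (forall_mem_gL g [11,12,13,14])).card_le (upT3 hg)).imp id fun h => h.trans (by norm_num)

noncomputable def ct1_C : SeqCert := ⟨nat_lit 3, nat_lit 9, nat_lit 17, nat_lit 0xf10100f0e0e0d0d0c0c0b0b0a0a0809090807070606040505040203030201010000, (NT.leaf (nat_lit 0) (nat_lit 0x1bf0afc0df027c06709fc33f0bfc3bf0dfc1ff045c0ae04d01b604980ee0ad82360dd83b60cd82f607d81ad0ab405d09b432d0bb43ad0db41ed04341e40b902640c902a40e90364069008c066c29b096c31b0b6c39b0d6c1db040c1d20b482520c482920e483520648082062428908243490e243090b241c90e003400c002c00a00200070018004e807204a40a104600900120000)), (NT.node (nat_lit 16) (NT.node (nat_lit 8) (NT.node (nat_lit 4) (NT.node (nat_lit 2) (NT.node (nat_lit 1) (NT.leaf (nat_lit 12) (nat_lit 0x7010701)) (NT.leaf (nat_lit 24) (nat_lit 0xb010b01))) (NT.node (nat_lit 3) (NT.leaf (nat_lit 28) (nat_lit 0xc010c01))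 (NT.leaf (nat_lit 36) (nat_lit 0xe010e01)))) (NT.node (nat_lit 6) (NT.node (nat_lit 5) (NT.leaf (nat_lit 49184) (nat_lit 0xd010d0e01)) (NT.leaf (nat_lit 65552) (nat_lit 0x801090b0e01))) (NT.node (nat_lit 7) (NT.leaf (nat_lit 65556) (nat_lit 0xa010a0b0c01)) (NT.leaf (nat_lit 98312) (nat_lit 0x6010607090a0b01))))) (NT.node (nat_lit 12) (NT.node (nat_lit 10) (NT.node (nat_lit 9) (NT.leaf (nat_lit 49192) (nat_lit 0x2060e02)) (NT.leaf (nat_lit 48) (nat_lit 0x6030602))) (NT.node (nat_lit 11) (NT.leaf (nat_lit 72) (nat_lit 0xd030d02)) (NT.leaf (nat_lit 76) (nat_lit 0xe030e02)))) (NT.node (nat_lit 14) (NT.node (nat_lit 13) (NT.leaf (nat_lit 60) (nat_lit 0xa0d030a02)) (NT.leaf (nat_lit 68) (nat_lit 0xc0d030c02))) (NT.node (nat_lit 15) (NT.leaf (nat_lit 56) (nat_lit 0x90a0c0d030802)) (NT.leaf (nat_lit 64) (nat_lit 0xb0c0d0e030b02)))))) (NT.node (nat_lit 24) (NT.node (nat_lit 20) (NT.node (nat_lit 18) (NT.node (nat_lit 17) (NT.leaf (nat_lit 81972)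 (nat_lit 0x702070b0d0e03)) (NT.leaf (nat_lit 49232) (nat_lit 0x4070d04))) (NT.node (nat_lit 19) (NT.leaf (nat_lit 88) (nat_lit 0x7050704)) (NT.leaf (nat_lit 108) (nat_lit 0xd050d04)))) (NT.node (nat_lit 22) (NT.node (nat_lit 21) (NT.leaf (nat_lit 112) (nat_lit 0xe050e04)) (NT.leaf (nat_lit 100) (nat_lit 0xb0e050b04))) (NT.node (nat_lit 23) (NT.leaf (nat_lit 104) (nat_lit 0xc0e050c04)) (NT.leaf (nat_lit 92) (nat_lit 0x90b0c050804))))) (NT.node (nat_lit 28) (NT.node (nat_lit 26) (NT.node (nat_lit 25) (NT.leaf (nat_lit 96) (nat_lit 0xa0c0d0e050a04)) (NT.leaf (nat_lit 82004) (nat_lit 0x604060a0d0e05))) (NT.node (nat_lit 27) (NT.leaf (nat_lit 98308) (nat_lit 0x105070b0e0104)) (NT.leaf (nat_lit 0) (nat_lit 0x305070a0c010201)))) (NT.node (nat_lit 30) (NT.node (nat_lit 29) (NT.leaf (nat_lit 98305) (nat_lit 0x4020103010c0a07)) (NT.leaf (nat_lit 32808) (nat_lit 0x202060e))) (NT.node (nat_lit 31) (NT.leaf (nat_lit 98348) (nat_lit 0x205090b0c0304))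 (NT.leaf (nat_lit 45) (nat_lit 0x305020c0b0804)))))))⟩
noncomputable def ct1_U : List (List ℕ) := []
noncomputable def ct1_HL : List ℕ := [6,7,8,9,10,11,12,13,14]
theorem ct1_head : ct1_C.head 17 tiIota tiR0 ct1_U ct1_HL 8 3 8 = true := by decide +kernel
noncomputable def ct1_s0 : List ℕ := [nat_lit 0x498d86838192480c19070e01e984b2700c18070f47c3a0201c0c1f070c434180a81c0c1e07035007c3d22c0c1a070f41e9c4d0142e0e1d03d30040b0387c0f4c0102a0e1b03c0614070d01e0309838800f018481c342000c228046224061d45208f403088307c381e100640d0381cf4863f03062032a01c380c0200c482c1002c0e1b060e87c38068140c0c1b0f8780d0281418361a0340804060d81a0301830740d01808183e0680c020c20034060033898502c171980c19050b0166c351c00c18050083c180901c0c1a050a81670370142e0a1202cd8040b028440b360102a0a1302c0614050a0160309828400b0184814281000c2255130a044202a018200811024b4582f0181e0815024b05e2e0181c0812024b0040682058092c010180813024060b040a01203050205c090182410261700c10430f0702c102101832060b01c90462601830060a01c984a0285c0c1a039200816030600e48020540c1e0380c28060e01c0613030480e0309018381201844621e0e0602430030400818028d8683a0303c0814028d0743803038081a028d0080d020580a3402030081e0280c16040e014060a020400a03048103c100182004180b05424100181c0e020d0602c0302818041e0c0540605028083c1c0181008020f00c06030106806030100830030180404120180c0045]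
theorem ct1_ok0 : ct1_C.StepsOK 16 85 := (SeqCert.StepsOK.refl _ 16).step (L := ct1_s0) (by decide +kernel)
theorem ct1_ok : ct1_C.StepsOK (8 + 8) 85 := ct1_ok0
noncomputable def ct1_r0 : List ℕ := [nat_lit 0x7807006806005805405004804010d8198c50110088, nat_lit 0x988a08908888b08ac8a88808b899e82a95602200c1, nat_lit 0xd90d10e90f90e10f10f51010c924f83b8140c00332, nat_lit 0x12191993192994193993d91194981c10828fa979d6b, nat_lit 0x16a16217a18a17218218619215a22f23b024950a87c, nat_lit 0x1b29aa9c29ba9da9ca9ce9a29e282c998a472271d1d, nat_lit 0x20320b1fb1f321b2172131eb23323e22a222a428356, nat_lit 0x263a5ba73a6ba9ba7ba7fa53aa383d249291a89a827]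
theorem ct1_final : ct1_C.final 17 85 (nat_lit 0xff) 8 [1,2,3,4,5,6,7,8,9,10,11,12,13,14] (ct1_r0) = true := by decide +kernel
theorem ct1 {G : Type*} [Group G] {g : ℕ → G} {H : Subgroup G} (hg : Sat g 17 tiIota tiR0)
    (hU : ∀ u ∈ ct1_U, wv g u ∈ H) (hL : ∀ l ∈ ct1_HL, g l ∈ H) :
    IdxLe H (Subgroup.closure {x | ∃ l ∈ ([1,2,3,4,5,6,7,8,9,10,11,12,13,14] : List ℕ), g l = x}) 8 :=
  SeqCert.idxLe_of_final hg hU hL ct1_head ct1_ok ct1_final
theorem upT1 {G : Type*} [Group G] {g : ℕ → G} (hg : Sat g 17 tiIota tiR0) :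
    Finite (gL g [1,2,3,4,5,6,7,8,9,10,11,12,13,14]) ∧ Nat.card (gL g [1,2,3,4,5,6,7,8,9,10,11,12,13,14]) ≤ 2048 :=
  ((ct1 hg forall_mem_nil' (forall_mem_gL g [6,7,8,9,10,11,12,13,14])).card_le (upT2 hg)).imp id fun h => h.trans (by norm_num)

noncomputable def ct0_C : SeqCert := ⟨nat_lit 3, nat_lit 9, nat_lit 17, nat_lit 0xf10100f0e0e0d0d0c0c0b0b0a0a0809090807070606040505040203030201010000, (NT.leaf (nat_lit 0) (nat_lit 0x42201902e408901e4049041c0c902a40e9036406700d4076c11b016c2db096c40b0c6c29b0e6c35b024c21201481d204482d20e483520c48292062828909241490d243090e241c90b240490e003400c002c00a002000700180040008001000e102644100f20000)), (NT.node (nat_lit 20) (NT.node (nat_lit 10) (NT.node (nat_lit 5) (NT.node (nat_lit 2) (NT.node (nat_lit 1) (NT.leaf (nat_lit 260) (nat_lit 0x1100a0f)) (NT.leaf (nat_lit 268) (nat_lit 0xb100c0f))) (NT.node (nat_lit 3) (NT.leaf (nat_lit 272) (nat_lit 0x7100d0f)) (NT.node (nat_lit 4) (NT.leaf (nat_lit 276) (nat_lit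 0xe100e0f)) (NT.leaf (nat_lit 16648) (nat_lit 0xc100b0f07))))) (NT.node (nat_lit 7) (NT.node (nat_lit 6) (NT.leaf (nat_lit 33020) (nat_lit 0xd0e10070f070b)) (NT.leaf (nat_lit 16632) (nat_lit 0x50d0e10040f01))) (NT.node (nat_lit 8) (NT.leaf (nat_lit 33024) (nat_lit 0x90b0c0d10080f0507)) (NT.node (nat_lit 9) (NT.leaf (nat_lit 49396) (nat_lit 0xa0b0e10010f010509)) (NT.leaf (nat_lit 241) (nat_lit 0x6100610)))))) (NT.node (nat_lit 15) (NT.node (nat_lit 12) (NT.node (nat_lit 11) (NT.leaf (nat_lit 33028) (nat_lit 0xa0f0110)) (NT.leaf (nat_lit 33036) (nat_lit 0xc0f0b10))) (NT.node (nat_lit 13) (NT.leaf (nat_lit 33040) (nat_lit 0xd0f0710)) (NT.node (nat_lit 14) (NT.leaf (nat_lit 33044) (nat_lit 0xe0f0e10)) (NT.leaf (nat_lit 49416) (nat_lit 0xb0f070c10))))) (NT.node (nat_lit 17) (NT.node (nat_lit 16) (NT.leaf (nat_lit 82168) (nat_lit 0x40f01050d0e10)) (NT.leaf (nat_lit 82172) (nat_lit 0x70f070b0d0e10))) (NT.node (nat_lit 18) (NT.leaf (nat_lit 114932)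 (nat_lit 0x10f0105090a0b0e10)) (NT.node (nat_lit 19) (NT.leaf (nat_lit 114944) (nat_lit 0x80f0507090b0c0d10)) (NT.leaf (nat_lit 49192) (nat_lit 0x2060e02))))))) (NT.node (nat_lit 30) (NT.node (nat_lit 25) (NT.node (nat_lit 22) (NT.node (nat_lit 21) (NT.leaf (nat_lit 72) (nat_lit 0xd030d02)) (NT.leaf (nat_lit 76) (nat_lit 0xe030e02))) (NT.node (nat_lit 23) (NT.leaf (nat_lit 60) (nat_lit 0xa0d030a02)) (NT.node (nat_lit 24) (NT.leaf (nat_lit 68) (nat_lit 0xc0d030c02)) (NT.leaf (nat_lit 236) (nat_lit 0x1010030f02))))) (NT.node (nat_lit 27) (NT.node (nat_lit 26) (NT.leaf (nat_lit 56) (nat_lit 0x90a0c0d030802)) (NT.leaf (nat_lit 64) (nat_lit 0xb0c0d0e030b02))) (NT.node (nat_lit 28) (NT.leaf (nat_lit 114688) (nat_lit 0x10305070a0c0102)) (NT.node (nat_lit 29) (NT.leaf (nat_lit 81964) (nat_lit 0x40205090b0c03)) (NT.leaf (nat_lit 81972) (nat_lit 0x702070b0d0e03)))))) (NT.node (nat_lit 35) (NT.node (nat_lit 32) (NT.node (nat_lit 31) (NT.leaf (nat_lit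 16425) (nat_lit 0x30e0603)) (NT.leaf (nat_lit 32816) (nat_lit 0x6020603))) (NT.node (nat_lit 33) (NT.leaf (nat_lit 32840) (nat_lit 0xd020d03)) (NT.node (nat_lit 34) (NT.leaf (nat_lit 32844) (nat_lit 0xe020e03)) (NT.leaf (nat_lit 49212) (nat_lit 0xa020a0d03))))) (NT.node (nat_lit 38) (NT.node (nat_lit 36) (NT.leaf (nat_lit 49220) (nat_lit 0xc020c0d03)) (NT.node (nat_lit 37) (NT.leaf (nat_lit 16621) (nat_lit 0x10020f0f03)) (NT.leaf (nat_lit 81976) (nat_lit 0x802090a0c0d03)))) (NT.node (nat_lit 39) (NT.leaf (nat_lit 81984) (nat_lit 0xb020b0c0d0e03)) (NT.node (nat_lit 40) (NT.leaf (nat_lit 81920) (nat_lit 0x102010305070a0c)) (NT.leaf (nat_lit 16620) (nat_lit 0x10030f0210))))))))⟩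
noncomputable def ct0_U : List (List ℕ) := []
noncomputable def ct0_HL : List ℕ := [1,2,3,4,5,6,7,8,9,10,11,12,13,14]
theorem ct0_head : ct0_C.head 17 tiIota tiR0 ct0_U ct0_HL 5 3 11 = true := by decide +kernel
noncomputable def ct0_s0 : List ℕ := [nat_lit 0x406014b80414198c86c3582040090389c1026150a0440903098102a140c05c09030941026150884809030741028110b85809030701002029180824040a850090208c102a1802408220409812031082054090188010322300c3e08190e8061e238e8703c201180c1d238d878451f9180c1c030805030120b00e070d8184407251209c060d0185e072413898060c818040d0181030061401c90040b8186007240102c061301c0615030a80e030a0184c320184c081c0d0602a120781410120207830160a83c140504044081e0e060240503040081e0e03c14050303c081a09014080e020780a030681024050183008180280c160405014060a020400603048b85820010280626110201024160082803150a0440803880040e0189854060308848020900c4c060289004180181008020f00c06030107006030100834030180404160180c002b]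
theorem ct0_ok0 : ct0_C.StepsOK 16 59 := (SeqCert.StepsOK.refl _ 16).step (L := ct0_s0) (by decide +kernel)
theorem ct0_ok : ct0_C.StepsOK (5 + 11) 59 := ct0_ok0
noncomputable def ct0_r0 : List ℕ := [nat_lit 0x1100887807006806005805405004804003c0380340300280, nat_lit 0xc1458988a88a08888c08b88bc8908cd0b08b48220198809, nat_lit 0x1d20140e90e10d90f10d11151111010c88fd0f911d9761092, nat_lit 0x1409a612992193995193194994d96997e16596181c919159b, nat_lit 0x1a19d518a18219a1c21921be1ba1b21799ae1aa1710249ca4]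
theorem ct0_final : ct0_C.final 17 59 (nat_lit 0x1f) 5 [1,2,3,4,5,6,7,8,9,10,11,12,13,14,15,16] (ct0_r0) = true := by decide +kernel
theorem ct0 {G : Type*} [Group G] {g : ℕ → G} {H : Subgroup G} (hg : Sat g 17 tiIota tiR0)
    (hU : ∀ u ∈ ct0_U, wv g u ∈ H) (hL : ∀ l ∈ ct0_HL, g l ∈ H) :
    IdxLe H (Subgroup.closure {x | ∃ l ∈ ([1,2,3,4,5,6,7,8,9,10,11,12,13,14,15,16] : List ℕ), g l = x}) 5 :=
  SeqCert.idxLe_of_final hg hU hL ct0_head ct0_ok ct0_final
theorem upT0 {G : Type*} [Group G] {g : ℕ → G} (hg : Sat g 17 tiIota tiR0) :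
    Finite (gL g [1,2,3,4,5,6,7,8,9,10,11,12,13,14,15,16]) ∧ Nat.card (gL g [1,2,3,4,5,6,7,8,9,10,11,12,13,14,15,16]) ≤ 10240 :=
  ((ct0 hg forall_mem_nil' (forall_mem_gL g [1,2,3,4,5,6,7,8,9,10,11,12,13,14])).card_le (upT1 hg)).imp id fun h => h.trans (by norm_num)


end Cfsg.Lib.Ngrp.Ti
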