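import Cfsg.Agent.Ngrp.TitsDefs
import Cfsg.Agent.Spor.PresBridge

/-! Order bounds for the groups defined by `RH` and `RC`. -/

set_option autoImplicit false
set_option maxRecDepth 100000
set_option Elab.async false

namespace Cfsg.Lib.Ngrp.Ti

open Subgroup Cfsg.Lib.Spor.Bulk

/-- inversion of the letters `z a p u f F t T` -/
noncomputable def mI : ℕ → ℕ := getN 0 [0,1,2,3,4,6,5,8,7]

/-- the letters -/
def mg {G : Type*} [Group G] (z a f p u t : G) : ℕ → G
  | 1 => z | 2 => a | 3 => p | 4 => u | 5 => f | 6 => f⁻¹ | 7 => t | 8 => t⁻¹ | _ => 1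

/-- the relators without `t` as expressions -/
def exH : List Ex := [(.mul (.gen 1) (.gen 1)),
  (.mul (.gen 2) (.gen 2)),
  (.mul (.gen 3) (.gen 3)),
  (.mul (.gen 4) (.gen 4)),
  (.pow (.gen 5) 5),
  (.mul (.mul (.mul (.gen 2) (.gen 5)) (.gen 2)) (.gen 5)),
  (.mul (.mul (.gen 1) (.gen 2)) (.inv (.mul (.gen 2) (.gen 1)))),
  (.mul (.mul (.gen 1) (.gen 5)) (.inv (.mul (.gen 5) (.gen 1)))),
  (.mul (.mul (.gen 1) (.gen 3)) (.inv (.mul (.gen 3) (.gen 1)))),
  (.mul (.mul (.gen 1) (.gen 4)) (.inv (.mul (.gen 4) (.gen 1)))),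
  (.mul (.mul (.gen 2) (.gen 3)) (.inv (.mul (.gen 3) (.gen 2)))),
  (.mul (.mul (.gen 2) (.gen 4)) (.inv (.mul (.gen 4) (.gen 2)))),
  (.mul (.mul (.gen 3) (.gen 4)) (.inv (.mul (.gen 4) (.gen 3)))),
  (.mul (.mul (.mul (.gen 3) (.mul (.mul (.pow (.gen 5) 1) (.gen 3)) (.inv (.pow (.gen 5) 1)))) (.inv (.gen 3))) (.inv (.mul (.mul (.pow (.gen 5) 1) (.gen 3)) (.inv (.pow (.gen 5) 1))))),
  (.mul (.mul (.mul (.gen 3) (.mul (.mul (.pow (.gen 5) 2) (.gen 3)) (.inv (.pow (.gen 5) 2)))) (.inv (.gen 3))) (.inv (.mul (.mul (.pow (.gen 5) 2) (.gen 3)) (.inv (.pow (.gen 5) 2))))),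
  (.mul (.mul (.mul (.mul (.gen 3) (.mul (.mul (.pow (.gen 5) 1) (.gen 3)) (.inv (.pow (.gen 5) 1)))) (.mul (.mul (.pow (.gen 5) 2) (.gen 3)) (.inv (.pow (.gen 5) 2)))) (.mul (.mul (.pow (.gen 5) 3) (.gen 3)) (.inv (.pow (.gen 5) 3)))) (.mul (.mul (.pow (.gen 5) 4) (.gen 3)) (.inv (.pow (.gen 5) 4)))),
  (.mul (.mul (.mul (.mul (.gen 4) (.mul (.mul (.pow (.gen 5) 1) (.gen 3)) (.inv (.pow (.gen 5) 1)))) (.inv (.gen 4))) (.inv (.mul (.mul (.pow (.gen 5) 1) (.gen 3)) (.inv (.pow (.gen 5) 1))))) (.inv (.gen 1))),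
  (.mul (.mul (.mul (.mul (.gen 4) (.mul (.mul (.pow (.gen 5) 2) (.gen 3)) (.inv (.pow (.gen 5) 2)))) (.inv (.gen 4))) (.inv (.mul (.mul (.pow (.gen 5) 2) (.gen 3)) (.inv (.pow (.gen 5) 2))))) (.inv (.gen 1))),
  (.mul (.mul (.mul (.mul (.mul (.mul (.pow (.gen 5) 1) (.gen 4)) (.inv (.pow (.gen 5) 1))) (.mul (.mul (.pow (.gen 5) 4) (.gen 4)) (.inv (.pow (.gen 5) 4)))) (.inv (.mul (.mul (.pow (.gen 5) 1) (.gen 4)) (.inv (.pow (.gen 5) 1))))) (.inv (.mul (.mul (.pow (.gen 5) 4) (.gen 4)) (.inv (.pow (.gen 5) 4))))) (.inv (.mul (.mul (.mul (.pow (.gen 5) 2) (.gen 3)) (.inv (.pow (.gen 5) 2))) (.mul (.mul (.pow (.gen 5) 3) (.gen 3)) (.inv (.pow (.gen 5) 3)))))),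
  (.mul (.mul (.mul (.mul (.mul (.mul (.pow (.gen 5) 2) (.gen 4)) (.inv (.pow (.gen 5) 2))) (.mul (.mul (.pow (.gen 5) 3) (.gen 4)) (.inv (.pow (.gen 5) 3)))) (.inv (.mul (.mul (.pow (.gen 5) 2) (.gen 4)) (.inv (.pow (.gen 5) 2))))) (.inv (.mul (.mul (.pow (.gen 5) 3) (.gen 4)) (.inv (.pow (.gen 5) 3))))) (.inv (.mul (.mul (.mul (.pow (.gen 5) 1) (.gen 3)) (.inv (.pow (.gen 5) 1))) (.mul (.mul (.pow (.gen 5) 4) (.gen 3)) (.inv (.pow (.gen 5) 4)))))),
  (.mul (.mul (.mul (.mul (.mul (.gen 4) (.mul (.mul (.pow (.gen 5) 1) (.gen 4)) (.inv (.pow (.gen 5) 1)))) (.mul (.mul (.pow (.gen 5) 2) (.gen 4)) (.inv (.pow (.gen 5) 2)))) (.mul (.mul (.pow (.gen 5) 3) (.gen 4)) (.inv (.pow (.gen 5) 3)))) (.mul (.mul (.pow (.gen 5) 4) (.gen 4)) (.inv (.pow (.gen 5) 4)))) (.inv (.gen 1)))]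

/-- the relators with `t` as expressions -/
def exC : List Ex := [(.mul (.mul (.gen 1) (.gen 7)) (.inv (.mul (.gen 7) (.gen 1)))),
  (.mul (.mul (.mul (.gen 7) (.gen 5)) (.inv (.gen 7))) (.inv (.mul (.gen 5) (.gen 5)))),
  (.mul (.mul (.gen 7) (.gen 7)) (.inv (.mul (.gen 2) (.gen 1)))),
  (.mul (.mul (.gen 7) (.gen 3)) (.inv (.mul (.gen 3) (.gen 7)))),
  (.mul (.mul (.mul (.gen 7) (.gen 4)) (.inv (.gen 7))) (.inv (.mul (.gen 4) (.gen 3))))]

/-- the relators without `t` as words -/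
def wH : List (List ℕ) := [[5,5,5,5,5],[5,2,5,2],[2,1,2,1],[6,1,5,1],[3,1,3,1],[4,1,4,1],[3,2,3,2],[4,2,4,2],[4,3,4,3],[6,3,5,3,6,3,5,3],[6,6,3,5,5,3,6,6,3,5,5,3],[6,6,6,6,3,5,3,5,3,5,3,5,3],[1,6,3,5,4,6,3,5,4],[1,6,6,3,5,5,4,6,6,3,5,5,4],[6,3,6,3,6,4,5,5,5,4,6,6,6,4,5,5,5,4],[3,6,6,6,3,5,4,5,4,6,4,5,4,5],[1,6,6,6,6,4,5,4,5,4,5,4,5,4]]

/-- all relators as words -/
def wC : List (List ℕ) := wH ++ [[8,1,7,1],[6,6,8,5,7],[2,1,7,7],[3,8,3,7],[4,3,8,4,7]]

/-- The group generated by the five elements. -/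
def H0 {G : Type*} [Group G] (z a f p u : G) : Subgroup G := closure {z, a, f, p, u}

section
variable {G : Type*} [Group G] {z a f p u : G}

theorem RH.mg_inv (h : RH z a f p u) (t : G) :
    ∀ l < 9, mg z a f p u t (mI l) = (mg z a f p u t l)⁻¹ := by
  intro l hl
  interval_cases l
  exacts [inv_one.symm, eq_inv_of_mul_eq_one_left h.z2, eq_inv_of_mul_eq_one_left h.a2,
    eq_inv_of_mul_eq_one_left h.p2, eq_inv_of_mul_eq_one_left h.u2, rfl, (inv_inv f).symm, rfl,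
    (inv_inv t).symm]

theorem RH.satE (h : RH z a f p u) (t : G) {es : List Ex}
    (h1 : allL (Ex.all fun l => Nat.blt l 9) es = true)
    (h2 : List.Forall (fun y => Ex.ev (mg z a f p u t) y = 1) es) :
    Sat (mg z a f p u t) 9 mI (mapL (Ex.word mI) es) := by
  refine ⟨rfl, h.mg_inv t, fun r hr => ?_⟩
  rw [mapL_eq] at hr
  obtain ⟨y, hy, rfl⟩ := List.mem_map.1 hr
  rw [Ex.wv_word (k := 9) (h.mg_inv t) (by decide +kernel) (fun l hl => by simpa using hl)
    (allL_iff.1 h1 y hy)]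
  exact List.forall_iff_forall_mem.1 h2 y hy

theorem RH.sat (h : RH z a f p u) (t : G) : Sat (mg z a f p u t) 9 mI wH :=
  (h.satE t (es := exH) (by decide +kernel) ⟨h.z2, h.a2, h.p2, h.u2, h.f5, h.af, mul_inv_eq_one.2 h.za, mul_inv_eq_one.2 h.zf, mul_inv_eq_one.2 h.zp, mul_inv_eq_one.2 h.zu, mul_inv_eq_one.2 h.ap, mul_inv_eq_one.2 h.au, mul_inv_eq_one.2 h.pu, h.p01, h.p02, h.pp, mul_inv_eq_one.2 h.up1, mul_inv_eq_one.2 h.up2, mul_inv_eq_one.2 h.x14, mul_inv_eq_one.2 h.x23, mul_inv_eq_one.2 h.xx⟩).deriv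
    (E := [(4,0),(5,0),(6,0),(7,0),(8,0),(9,0),(10,0),(11,0),(12,0),(13,0),(14,0),(15,0),(16,0),(17,0),(18,1),(19,1),(20,0)]) (by decide +kernel)

theorem RC.sat {t : G} (h : RC z a f p u t) : Sat (mg z a f p u t) 9 mI wC :=
  (h.toRH.sat t).append ((h.toRH.satE t (es := exC) (by decide +kernel) ⟨mul_inv_eq_one.2 h.zt, mul_inv_eq_one.2 h.tf, mul_inv_eq_one.2 h.tt, mul_inv_eq_one.2 h.tp, mul_inv_eq_one.2 h.tu⟩).deriv
    (E := [(0,0),(1,0),(2,0),(3,0),(4,0)]) (by decide +kernel)).rel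

end

noncomputable def cs_zaf_C : SeqCert := ⟨nat_lit 5, nat_lit 9, nat_lit 9, nat_lit 0x70808070506060504040303020201010000, (NT.leaf (nat_lit 0) (nat_lit 0x1a53018cc09d30184809f2068440951025c019cf015bc054e014b408cd0143008ec0652c0869022200487011980445069b4164c068a416080679c15c60669415850659015430648815020638414c1022841880051800840010800000)), (NT.node (nat_lit 3) (NT.node (nat_lit 1) (NT.leaf (nat_lit 16392) (nat_lit 0x1020102)) (NT.node (nat_lit 2) (NT.leaf (nat_lit 49164) (nat_lit 0x1060105)) (NT.leaf (nat_lit 16396) (nat_lit 0x1050106)))) (NT.node (nat_lit 4) (NT.leaf (nat_lit 16388) (nat_lit 0x2050205)) (NT.node (nat_lit 5) (NT.leaf (nat_lit 5) (nat_lit 0x2060206)) (NT.leaf (nat_lit 1) (nat_lit 0x606060606)))))⟩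
noncomputable def cs_zaf_U : List (List ℕ) := []
noncomputable def cs_zaf_HL : List ℕ := []
theorem cs_zaf_head : cs_zaf_C.head 9 mI wH cs_zaf_U cs_zaf_HL 20 5 0 = true := by decide +kernel
noncomputable def cs_zaf_s0 : List ℕ := [nat_lit 0x4c1a0c8940805130ec460301098721d0181048371080c02241a87c06031104822210201444310a80c08201785c06030f0381a1d020143c2d0b80c041c1585406010d0a4260301068140d0181030290880c02180503c06030b0200e150201424040380c08100202406030700812030103004070180414020280c0015]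
theorem cs_zaf_ok0 : cs_zaf_C.StepsOK 20 41 := (SeqCert.StepsOK.refl _ 20).step (L := cs_zaf_s0) (by decide +kernel)
theorem cs_zaf_ok : cs_zaf_C.StepsOK (20 + 0) 41 := cs_zaf_ok0
noncomputable def cs_zaf_r0 : List ℕ := [nat_lit 0x82018604100820, nat_lit 0xe3830c0a280c01, nat_lit 0x12484100500a4a2, nat_lit 0x7005143148acc3, nat_lit 0x16582402f40b4e4, nat_lit 0x1a686180b08a045, nat_lit 0xd0871c3968a866, nat_lit 0x1e783c23560b087, nat_lit 0x11108202e20dd88, nat_lit 0x22884c43018eda9, nat_lit 0x1518cd64588f5ca, nat_lit 0x32505c84380fdeb, nat_lit 0x19289243438d90c, nat_lit 0x26986ca3830e92d, nat_lit 0x1d3105e4d98f14e, nat_lit 0x40707ce4990f96f, nat_lit 0x21411e242592e50, nat_lit 0x46808d244513e71, nat_lit 0x256146648792a12, nat_lit 0x50909da4c713a33]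
theorem cs_zaf_final : cs_zaf_C.final 9 41 (nat_lit 0xfffff) 20 [1,2,5,6] (cs_zaf_r0) = true := by decide +kernel
theorem cs_zaf {G : Type*} [Group G] {g : ℕ → G} {H : Subgroup G} (hg : Sat g 9 mI wH)
    (hU : ∀ u ∈ cs_zaf_U, wv g u ∈ H) (hL : ∀ l ∈ cs_zaf_HL, g l ∈ H) :
    IdxLe H (Subgroup.closure {x | ∃ l ∈ ([1,2,5,6] : List ℕ), g l = x}) 20 :=
  SeqCert.idxLe_of_final hg hU hL cs_zaf_head cs_zaf_ok cs_zaf_final
theorem up_zaf {G : Type*} [Group G] {g : ℕ → G} (hg : Sat g 9 mI wH) :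
    Finite (gL g [1,2,5,6]) ∧ Nat.card (gL g [1,2,5,6]) ≤ 20 :=
  ((cs_zaf (H := ⊥) hg forall_mem_nil' forall_mem_nil').card_le (finite_card_bot)).imp id fun h => h.trans (by norm_num)

noncomputable def cs_zapf_C : SeqCert := ⟨nat_lit 4, nat_lit 9, nat_lit 9, nat_lit 0x70808070506060504040303020201010000, (NT.leaf (nat_lit 0) (nat_lit 0x3fd06df01ff02df02ee06be03ce01ee01dd02cc05ac01cc029b01bb038a01aa028a01990188065701770257054602460166015501440133022301220211011105000200010006fb06e905d905c803b706a60395058406730363055203420631052103100000)), (NT.node (nat_lit 6) (NT.node (nat_lit 3) (NT.node (nat_lit 1) (NT.leaf (nat_lit 16400) (nat_lit 0x1030103)) (NT.node (nat_lit 2) (NT.leaf (nat_lit 16408) (nat_lit 0x2030203)) (NT.leaf (nat_lit 49164) (nat_lit 0x1060105)))) (NT.node (nat_lit 4) (NT.leaf (nat_lit 5) (nat_lit 0x2060206)) (NT.node (nat_lit 5) (NT.leaf (nat_lit 16396) (nat_lit 0x1050106)) (NT.leaf (nat_lit 32804) (nat_lit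 0x503060305030603))))) (NT.node (nat_lit 9) (NT.node (nat_lit 7) (NT.leaf (nat_lit 1) (nat_lit 0x606060606)) (NT.node (nat_lit 8) (NT.leaf (nat_lit 32813) (nat_lit 0x3060306030603050505050306)) (NT.leaf (nat_lit 0) (nat_lit 0x505050505)))) (NT.node (nat_lit 11) (NT.node (nat_lit 10) (NT.leaf (nat_lit 16388) (nat_lit 0x2050205)) (NT.leaf (nat_lit 16420) (nat_lit 0x305030603050306))) (NT.node (nat_lit 12) (NT.leaf (nat_lit 16424) (nat_lit 0x60305050306060305050306)) (NT.leaf (nat_lit 32808) (nat_lit 0x30505030606030505030606))))))⟩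
noncomputable def cs_zapf_U : List (List ℕ) := []
noncomputable def cs_zapf_HL : List ℕ := [1,2,5,6]
theorem cs_zapf_head : cs_zapf_C.head 9 mI wH cs_zapf_U cs_zapf_HL 16 4 3 = true := by decide +kernel
noncomputable def cs_zapf_s0 : List ℕ := [nat_lit 0x620f0587e0a0484432582d87c160c0f168381b020183c4a0f80c081e2686c06032c948b00300870240a020084a250181c1e170582c38120502422482801c141c2107406040d10836030106088500182430101c05408080c1003203010587613018042c3c0b80c00140603c7e0a020084a0302824220c0385068150181028370880c06121904c0600080c02203010380c05058100c0e1703c0604070b41603018300c021200c0a0903814182d0480c020c170340600050a81603010205409018000c260380c0806140140603020980a030100844030180404200180c0020]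
theorem cs_zapf_ok0 : cs_zapf_C.StepsOK 19 51 := (SeqCert.StepsOK.refl _ 19).step (L := cs_zapf_s0) (by decide +kernel)
theorem cs_zapf_ok : cs_zapf_C.StepsOK (16 + 3) 51 := cs_zapf_ok0
noncomputable def cs_zapf_r0 : List ℕ := [nat_lit 0x25012000844402000, nat_lit 0x6302100c05022611, nat_lit 0x5105282105a62a22, nat_lit 0xe703883185842e33, nat_lit 0x39608402486ec3044, nat_lit 0xb21fb84a476e3255, nat_lit 0x14a1c2034c6c83466, nat_lit 0x3e507985ac74a3c77, nat_lit 0x1140c612688b44088, nat_lit 0x1ce0d684d49b64299, nat_lit 0x51c0ab122089046aa, nat_lit 0x1ef2df05dc9924abb, nat_lit 0x1982851678a584ecc, nat_lit 0x1b931f993cbfe54dd, nat_lit 0x5ab0ec9630b9c56ee, nat_lit 0x62d0fd9974bda60ff]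
theorem cs_zapf_final : cs_zapf_C.final 9 51 (nat_lit 0xffff) 16 [1,2,3,5,6] (cs_zapf_r0) = true := by decide +kernel
theorem cs_zapf {G : Type*} [Group G] {g : ℕ → G} {H : Subgroup G} (hg : Sat g 9 mI wH)
    (hU : ∀ u ∈ cs_zapf_U, wv g u ∈ H) (hL : ∀ l ∈ cs_zapf_HL, g l ∈ H) :
    IdxLe H (Subgroup.closure {x | ∃ l ∈ ([1,2,3,5,6] : List ℕ), g l = x}) 16 :=
  SeqCert.idxLe_of_final hg hU hL cs_zapf_head cs_zapf_ok cs_zapf_final
theorem up_zapf {G : Type*} [Group G] {g : ℕ → G} (hg : Sat g 9 mI wH) :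
    Finite (gL g [1,2,3,5,6]) ∧ Nat.card (gL g [1,2,3,5,6]) ≤ 320 :=
  ((cs_zapf hg forall_mem_nil' (forall_mem_gL g [1,2,5,6])).card_le (up_zaf hg)).imp id fun h => h.trans (by norm_num)

noncomputable def cs_zapuf_C : SeqCert := ⟨nat_lit 4, nat_lit 9, nat_lit 9, nat_lit 0x70808070506060504040303020201010000, (NT.leaf (nat_lit 0) (nat_lit 0x4fd03ff06df01ff02df03dd02ee06be04ce03ee01ee01dd02cc03cc05ac01cc03bb029b01bb048a038803aa01aa028a03990199018803770657017702570355054603660246016601550344014403220333013302230122031102110111050003000200010006fb06e905d905c804b706a60495058406730463055204420631052104100000)), (NT.node (nat_lit 9) (NT.node (nat_lit 4) (NT.node (nat_lit 2) (NT.node (nat_lit 1) (NT.leaf (nat_lit 16404) (nat_lit 0x1040104)) (NT.leaf (nat_lit 16412) (nat_lit 0x2040204))) (NT.node (nat_lit 3) (NT.leaf (nat_lit 16416) (nat_lit 0x3040304)) (NT.leaf (nat_lit 49164) (nat_lit 0x1060105)))) (NT.node (nat_lit 6)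 (NT.node (nat_lit 5) (NT.leaf (nat_lit 5) (nat_lit 0x2060206)) (NT.leaf (nat_lit 16396) (nat_lit 0x1050106))) (NT.node (nat_lit 7) (NT.leaf (nat_lit 32816) (nat_lit 0x30504060305040106)) (NT.node (nat_lit 8) (NT.leaf (nat_lit 24) (nat_lit 0x3020302)) (NT.leaf (nat_lit 65597) (nat_lit 0x504060406030505050306040604)))))) (NT.node (nat_lit 14) (NT.node (nat_lit 11) (NT.node (nat_lit 10) (NT.leaf (nat_lit 60) (nat_lit 0x306060603050405040604050405)) (NT.leaf (nat_lit 1) (nat_lit 0x606060606))) (NT.node (nat_lit 12) (NT.leaf (nat_lit 163884) (nat_lit 0x3050306060606030503050305)) (NT.node (nat_lit 13) (NT.leaf (nat_lit 32833) (nat_lit 0x406040604060405050505010406)) (NT.leaf (nat_lit 0) (nat_lit 0x505050505))))) (NT.node (nat_lit 16) (NT.node (nat_lit 15) (NT.leaf (nat_lit 98348) (nat_lit 0x3050305030503060606060305)) (NT.leaf (nat_lit 16388) (nat_lit 0x2050205))) (NT.node (nat_lit 17) (NT.leaf (nat_lit 163900) (nat_lit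 0x405040503060606030504050406)) (NT.node (nat_lit 18) (NT.leaf (nat_lit 114753) (nat_lit 0x604050505050104060406040604)) (NT.leaf (nat_lit 81984) (nat_lit 0x405040504050405040106060606)))))))⟩
noncomputable def cs_zapuf_U : List (List ℕ) := []
noncomputable def cs_zapuf_HL : List ℕ := [1,2,3,5,6]
theorem cs_zapuf_head : cs_zapuf_C.head 9 mI wH cs_zapuf_U cs_zapuf_HL 16 4 4 = true := by decide +kernel
noncomputable def cs_zapuf_s0 : List ℕ := [nat_lit 0x800f1d838520902812440603c2e1f068483c600b1348c4c0b87c10060f1d8381b020283c600f80c0a1e3186c06040d048140908978d0743b990ec1c0d8341275361d006013a9a4be193a070243c050100e0f0b834221c09028124421114221935060bc68068403852090286c0b0987410060e1483a0302868a41b0180c30563400c1e182e064d214228e888420a968d00c0706020440a8101a182806406030b1382e03010589213018042c4a0b80c0014060c81e4d050100427018141211068302008020084e03038342a5a0a114220d048507c0c079381c0d0a8200c141f05406050a1042203020488c1301808243c0980c00101c0440603269181436020b00a0b26038680f0602c1c060282c080a070c81e0302838620b018101409220300c021300c0e3403014160d048300c02138904c26130904e03028241a08060d01a030103062090180418320680c000a1702c0603040d81203010205c090180060341880c0e06140084c241380c0e08030185007018140c2a0280c08041401406030109006030100844030180404200180c002f]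
theorem cs_zapuf_ok0 : cs_zapuf_C.StepsOK 20 67 := (SeqCert.StepsOK.refl _ 20).step (L := cs_zapuf_s0) (by decide +kernel)
theorem cs_zapuf_ok : cs_zapuf_C.StepsOK (16 + 4) 67 := cs_zapuf_ok0
noncomputable def cs_zapuf_r0 : List ℕ := [nat_lit 0x4e026001089004402000, nat_lit 0xc60420180b045422811, nat_lit 0xa20a50420d886262e22, nat_lit 0x1ce0710630d0c6043233, nat_lit 0x8ac1080490e9082c3844, nat_lit 0x1644d7094919492e3c55, nat_lit 0x29444406990988083e66, nat_lit 0x98a0f30b5939c90a4a77, nat_lit 0x22818c2fd1720af45088, nat_lit 0x39c1ad09a9524c765299, nat_lit 0xd381562f416a8ad058aa, nat_lit 0x3de77e0bb992cc5260bb, nat_lit 0x33068a3af1ab0d9866cc, nat_lit 0x37281f4279eb4fbe6edd, nat_lit 0xed61d93a61cb8f1c70ee, nat_lit 0x101a1fb42ea0bcf9a7eff]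
theorem cs_zapuf_final : cs_zapuf_C.final 9 67 (nat_lit 0xffff) 16 [1,2,3,4,5,6] (cs_zapuf_r0) = true := by decide +kernel
theorem cs_zapuf {G : Type*} [Group G] {g : ℕ → G} {H : Subgroup G} (hg : Sat g 9 mI wH)
    (hU : ∀ u ∈ cs_zapuf_U, wv g u ∈ H) (hL : ∀ l ∈ cs_zapuf_HL, g l ∈ H) :
    IdxLe H (Subgroup.closure {x | ∃ l ∈ ([1,2,3,4,5,6] : List ℕ), g l = x}) 16 :=
  SeqCert.idxLe_of_final hg hU hL cs_zapuf_head cs_zapuf_ok cs_zapuf_final
theorem up_zapuf {G : Type*} [Group G] {g : ℕ → G} (hg : Sat g 9 mI wH) :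
    Finite (gL g [1,2,3,4,5,6]) ∧ Nat.card (gL g [1,2,3,4,5,6]) ≤ 5120 :=
  ((cs_zapuf hg forall_mem_nil' (forall_mem_gL g [1,2,3,5,6])).card_le (up_zapf hg)).imp id fun h => h.trans (by norm_num)

noncomputable def cs_t_C : SeqCert := ⟨nat_lit 1, nat_lit 9, nat_lit 9, nat_lit 0x70808070506060504040303020201010000, (NT.leaf (nat_lit 0) (nat_lit 0x1704c0f02c1d01c140400c0200407800)), (NT.node (nat_lit 3) (NT.node (nat_lit 1) (NT.leaf (nat_lit 49220) (nat_lit 0x1080107)) (NT.node (nat_lit 2) (NT.leaf (nat_lit 49228) (nat_lit 0x7020107)) (NT.leaf (nat_lit 76) (nat_lit 0x2010707)))) (NT.node (nat_lit 4) (NT.leaf (nat_lit 80) (nat_lit 0x3080307)) (NT.node (nat_lit 5) (NT.leaf (nat_lit 84) (nat_lit 0x403080407)) (NT.leaf (nat_lit 49224) (nat_lit 0x507060608)))))⟩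
noncomputable def cs_t_U : List (List ℕ) := []
noncomputable def cs_t_HL : List ℕ := [1,2,3,4,5,6]
theorem cs_t_head : cs_t_C.head 9 mI wC cs_t_U cs_t_HL 2 1 5 = true := by decide +kernel
noncomputable def cs_t_s0 : List ℕ := [nat_lit 0x110683420040280814030a01008020400c0603010401c030100808060180404040180c0006]
theorem cs_t_ok0 : cs_t_C.StepsOK 7 13 := (SeqCert.StepsOK.refl _ 7).step (L := cs_t_s0) (by decide +kernel)
theorem cs_t_ok : cs_t_C.StepsOK (2 + 5) 13 := cs_t_ok0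
noncomputable def cs_t_r0 : List ℕ := [nat_lit 0x1180a0d0300a02006010, nat_lit 0x304019862168521283b]
theorem cs_t_final : cs_t_C.final 9 13 (nat_lit 0x3) 2 [1,2,3,4,5,6,7,8] (cs_t_r0) = true := by decide +kernel
theorem cs_t {G : Type*} [Group G] {g : ℕ → G} {H : Subgroup G} (hg : Sat g 9 mI wC)
    (hU : ∀ u ∈ cs_t_U, wv g u ∈ H) (hL : ∀ l ∈ cs_t_HL, g l ∈ H) :
    IdxLe H (Subgroup.closure {x | ∃ l ∈ ([1,2,3,4,5,6,7,8] : List ℕ), g l = x}) 2 :=
  SeqCert.idxLe_of_final hg hU hL cs_t_head cs_t_ok cs_t_final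
theorem up_t {G : Type*} [Group G] {g : ℕ → G} (hg : Sat g 9 mI wC) :
    Finite (gL g [1,2,3,4,5,6,7,8]) ∧ Nat.card (gL g [1,2,3,4,5,6,7,8]) ≤ 10240 :=
  ((cs_t hg forall_mem_nil' (forall_mem_gL g [1,2,3,4,5,6])).card_le (up_zapuf (hg.mono le_rfl fun _ => List.mem_append_left _))).imp id fun h => h.trans (by norm_num)

section
variable {G : Type*} [Group G] {z a f p u t : G}

theorem H0_le_gL : H0 z a f p u ≤ gL (mg z a f p u t) [1, 2, 3, 4, 5, 6] := by
  rw [H0, closure_le]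
  rintro _ (rfl | rfl | rfl | rfl | rfl)
  exacts [mem_gL (l := 1) (by simp), mem_gL (l := 2) (by simp), mem_gL (l := 5) (by simp),
    mem_gL (l := 3) (by simp), mem_gL (l := 4) (by simp)]

theorem C0_le_gL : C0 z a f p u t ≤ gL (mg z a f p u t) [1, 2, 3, 4, 5, 6, 7, 8] := by
  rw [C0, closure_le]
  rintro _ (rfl | rfl | rfl | rfl | rfl | rfl)
  exacts [mem_gL (l := 1) (by simp), mem_gL (l := 2) (by simp), mem_gL (l := 5) (by simp),
    mem_gL (l := 3) (by simp), mem_gL (l := 4) (by simp), mem_gL (l := 7) (by simp)]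

theorem RH.card_le (h : RH z a f p u) : Finite (H0 z a f p u) ∧ Nat.card (H0 z a f p u) ≤ 5120 := by
  obtain ⟨h1, h2⟩ := up_zapuf (h.sat 1)
  exact ⟨Finite.of_injective _ (inclusion_injective (H0_le_gL (t := 1))),
    (card_le_of_le (H0_le_gL (t := 1))).trans h2⟩

theorem RC.card_le (h : RC z a f p u t) :
    Finite (C0 z a f p u t) ∧ Nat.card (C0 z a f p u t) ≤ 10240 := by
  obtain ⟨h1, h2⟩ := up_t h.sat
  exact ⟨Finite.of_injective _ (inclusion_injective C0_le_gL), (card_le_of_le C0_le_gL).trans h2⟩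

theorem H0_le_C0 : H0 z a f p u ≤ C0 z a f p u t := closure_mono (by
  rintro _ (rfl | rfl | rfl | rfl | rfl) <;> simp)

end

end Cfsg.Lib.Ngrp.Ti
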