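import Cfsg.Agent.Ngrp.TitsM0
import Cfsg.Agent.Ngrp.TitsM1
import Cfsg.Agent.Spor.BulkPK
import Cfsg.Agent.Spor.PermKitSearch
import Cfsg.Agent.Fus.PcKit

/-! The permutation model of degree 32 of the group of order 10240, and codes for its copies. -/

set_option autoImplicit false
set_option maxRecDepth 100000
set_option Elab.async false

namespace Cfsg.Lib.Ngrp.Ti

open Subgroup Cfsg.Lib.Spor Cfsg.Lib.Spor.Bulk Cfsg.Lib.Fus.Grp
open scoped commutatorElement

/-- permutations of 32 points -/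
abbrev P32 := Equiv.Perm (Fin 32)

/-- the number describes the permutation -/
abbrev Dn (c : ℕ) (π : P32) : Prop := PK.Den 10 32 (Fin.ofNat 32) c π

/-- product of codes -/
noncomputable def mu (a b : ℕ) : ℕ := frc a fun a => frc b fun b => PK.mul 10 1023 8 0 a b

/-- code of the identity -/
def o : ℕ := 647248388559933843523790820379070591051762214071221845171615726532740439528724699672232434083840

theorem mu_eq : mu = PK.pmul 10 32 := rfl

theorem o_eq : o = PK.one 10 32 := by decide +kernel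

theorem ctx32 : PK.Ctx P32 10 32 (Fin.ofNat 32) :=
  PK.ctx_fin 10 32 (by norm_num) (by norm_num) (by norm_num)

theorem codesP : Codes Dn mu o :=
  ⟨fun ha hb => PK.isMul_pmul ctx32 _ _ _ _ ha hb, o_eq ▸ PK.den_one ctx32,
    fun ha hb => ha.eq_iff ctx32 hb⟩

attribute [irreducible] mu o

/-- codes of the letters -/
def tcL : List ℕ := [647248388559933843523790820379070591051762214071221845171615726532740439528724699672232434083840,
  21205962323820282783502538109065368353646270888937984846418331306177582585665965482292334090280,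
  104785190845856389440563610822911618210071525994483035981806566153248530806810112565576707665920,
  480129618881329332997390875981987712674890971183243213151367159827883658324986236877313042155520,
  62985252319340228898862410353090455489920465169103629541693371425181568696118473813439692144650,
  83579686040081827650833803676539348396846750640905715354137748048659521635832159750812262727690,
  41840917883262100463270796610965504999113210535032201579177430384931713477218980252575470899480,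
  646902012871954380963045809565777427836470427564631573506049063021766022272792570246956088043520,
  42146612705096703675576084381312939764065693005142939132188280581270417189386992783804155883660,
  42085501625920497348162209442784292122349010124348519042939354783324175899857565390237786634380,
  521603591535461863046536352449012850355399348245532843232056853756256394916901679077652986777860,
  646902091900009487271843987078087717164858643928749178866714350832993396934196610017996193147160,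
  647248388015701779267999977325728234392099881134488248005849220990465192021240309502061356001560,
  167485595841633284353844157237667896847120052469855793571711958650659013051258037643511857162240,
  167139299181708928101490949111736420525793013883485286558991204975383878955718693257294265958680,
  417368540450766951105733697960608830833664499152154110346728616971126456963724394607503275540480,
  500724152067002858144352492366757841563738469156891967105906790848064174953806268806667069245440]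

/-- code of a letter -/
noncomputable def tc (l : ℕ) : ℕ := getN o tcL l

/-- permutation of a letter -/
noncomputable def tp (l : ℕ) : P32 := PK.elt P32 10 32 (Fin.ofNat 32) (tc l)

theorem dn_tp (l : ℕ) : Dn (tc l) (tp l) := by
  refine PK.den_elt ?_
  rcases getN_mem_or o tcL l with h | h
  · exact PK.exists_den_of_isPerm ctx32
      ((PK.allL_iff _ _).1 (show PK.allL tcL (PK.isPerm 10 32) = true by decide +kernel) _ h)
  · exact ⟨1, by rw [tc, h]; exact codesP.one⟩

attribute [irreducible] tc tp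

/-- code of a power -/
noncomputable def pwc (c n : ℕ) : ℕ := Nat.rec o (fun _ ih => mu ih c) n

/-- code of a word -/
noncomputable def wcc (cs : ℕ → ℕ) (L : List ℕ) : ℕ := List.rec o (fun l _ ih => mu ih (cs l)) L

/-- code of a word in the letters -/
noncomputable abbrev wc (L : List ℕ) : ℕ := wcc tc L

/-- code of an expression or of its inverse -/
noncomputable def exc (cs ci : ℕ → ℕ) (e : Ex) : Bool → ℕ :=
  Ex.rec (fun l s => cond s (ci l) (cs l))
    (fun _ _ a b s => cond s (mu (b true) (a true)) (mu (a false) (b false)))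
    (fun _ a s => a (!s)) (fun _ n a s => frc (a s) fun c => pwc c n) e

/-- code of an expression in the letters -/
noncomputable def ec (e : Ex) : ℕ := exc tc (fun l => tc (tiIota l)) e false

variable {G : Type*} [Group G] {R : ℕ → G → Prop}

theorem codes_pw (K : Codes R mu o) {c : ℕ} {x : G} (h : R c x) (n : ℕ) : R (pwc c n) (x ^ n) := by
  induction n with
  | zero => rw [pow_zero]; exact K.one
  | succ n ih => rw [pow_succ]; exact K.mul ih h

theorem codes_wv (K : Codes R mu o) {cs : ℕ → ℕ} {g : ℕ → G} {L : List ℕ}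
    (h : ∀ l ∈ L, R (cs l) (g l)) : R (wcc cs L) (wv g L) := by
  induction L with
  | nil => exact K.one
  | cons l L ih =>
    exact K.mul (ih fun x hx => h x (List.mem_cons_of_mem _ hx)) (h l List.mem_cons_self)

theorem codes_exc (K : Codes R mu o) {cs ci : ℕ → ℕ} {g : ℕ → G} {ok : ℕ → Bool}
    (h : ∀ l, ok l = true → R (cs l) (g l) ∧ R (ci l) (g l)⁻¹) {e : Ex} (he : e.all ok = true) :
    R (exc cs ci e false) (e.ev g) ∧ R (exc cs ci e true) (e.ev g)⁻¹ := by
  induction e with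
  | gen l => exact h l he
  | mul a b ha hb =>
    have h1 := ha (band_left he)
    have h2 := hb (band_right he)
    refine ⟨K.mul h1.1 h2.1, ?_⟩
    rw [show (a.mul b).ev g = a.ev g * b.ev g from rfl, mul_inv_rev]
    exact K.mul h2.2 h1.2
  | inv a ha =>
    refine ⟨(ha he).2, ?_⟩
    rw [show a.inv.ev g = (a.ev g)⁻¹ from rfl, inv_inv]
    exact (ha he).1
  | pow a n ha =>
    refine ⟨codes_pw K (ha he).1 n, ?_⟩
    rw [show (a.pow n).ev g = a.ev g ^ n from rfl, ← inv_pow]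
    exact codes_pw K (ha he).2 n

theorem codes_inv (K : Codes R mu o) {c d : ℕ} {x y : G} (hx : R c x) (hy : R d y)
    (e : Nat.beq (mu c d) o = true) : y = x⁻¹ :=
  eq_inv_of_mul_eq_one_right (K.beq (K.mul hx hy) K.one e)

/-- the letters as words in the generators -/
def tg (z a f p u t r : G) : ℕ → G
  | 1 => cf f 1 u | 2 => t | 3 => t⁻¹ | 4 => cf f 4 u * cf f 3 p * cf f 2 u
  | 5 => (cf f 4 u * cf f 3 p * cf f 2 u)⁻¹ | 6 => a | 7 => cf f 1 p
  | 8 => u * cf f 1 u * cf f 4 u * cf f 3 p | 9 => (u * cf f 1 u * cf f 4 u * cf f 3 p)⁻¹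
  | 10 => u | 11 => cf f 3 p * cf f 4 p * z | 12 => cf f 2 p * cf f 3 p * z | 13 => p | 14 => z
  | 15 => f | 16 => f⁻¹ | 17 => r | _ => 1

/-- the letters of the group of order 10240 -/
def okC (l : ℕ) : Bool := Nat.blt l 17

/-- the letters of the group of order 5120 -/
def okH (l : ℕ) : Bool := Nat.blt l 17 && !Nat.beq l 2 && !Nat.beq l 3

/-- codes for the letters satisfying `ok` -/
structure Base (ok : ℕ → Bool) (g : ℕ → G) (R : ℕ → G → Prop) : Prop where
  codes : Codes R mu o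
  lt : ∀ l, ok l = true → R (tc l) (g l)
  ok : ∀ l, ok l = true → ok (tiIota l) = true ∧ l < 17

/-- conjugation by a power of `f` as an expression -/
def xcf (k : ℕ) (e : Ex) : Ex := .mul (.mul (.pow (.gen 15) k) e) (.inv (.pow (.gen 15) k))

/-- a commutator as an expression -/
def xcm (a b : Ex) : Ex := .mul (.mul (.mul a b) (.inv a)) (.inv b)

/-- the expressions of each pair have the same code -/
noncomputable def eqB (ok : ℕ → Bool) (L : List (Ex × Ex)) : Bool :=
  allL (fun e => band (e.1.all ok) (band (e.2.all ok) (Nat.beq (ec e.1) (ec e.2)))) L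

/-- check that the letters of the table normalise the group generated by `cs` -/
noncomputable def norB (cs : List ℕ) (tab : List (ℕ × List ℕ)) : Bool :=
  allL (fun e => conjChk mu o (tc e.1) cs cs e.2) tab

/-- check that the letters of the table permute the cosets `f^j S` -/
noncomputable def cosB (cs : List ℕ) (tab : List (ℕ × List (ℕ × ℕ))) : Bool :=
  allL (fun e => allR (fun j => (fun x : ℕ × ℕ => band (Nat.blt x.1 5)
    (Nat.beq (mu (tc e.1) (pwc (tc 15) j)) (evM mu cs x.2 (pwc (tc 15) x.1)))) (getN (0, 0) e.2 j))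
    0 5) tab

/-- `f` holds for the codes of all `f^j s` -/
noncomputable def allC (cs : List ℕ) (f : ℕ → Bool) : Bool :=
  allR (fun j => frc (pwc (tc 15) j) (allE mu f cs)) 0 5

namespace Base

variable {ok : ℕ → Bool} {g : ℕ → G}

theorem inv (B : Base ok g R) {l : ℕ} (hl : ok l = true) : g (tiIota l) = (g l)⁻¹ :=
  codes_inv B.codes (B.lt l hl) (B.lt _ (B.ok l hl).1)
    (allR_zero_iff.1 (show allR (fun l => Nat.beq (mu (tc l) (tc (tiIota l))) o) 0 17 = true by
      decide +kernel) l (B.ok l hl).2)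

theorem ec (B : Base ok g R) {e : Ex} (he : e.all ok = true) : R (ec e) (e.ev g) :=
  (codes_exc B.codes (fun l hl => ⟨B.lt l hl, B.inv hl ▸ B.lt _ (B.ok l hl).1⟩) he).1

theorem wv (B : Base ok g R) {L : List ℕ} (h : allL ok L = true) : R (wc L) (wv g L) :=
  codes_wv B.codes fun l hl => B.lt l (allL_iff.1 h l hl)

theorem eqs (B : Base ok g R) (L : List (Ex × Ex)) (h : eqB ok L = true) :
    List.Forall (fun e => e.1.ev g = e.2.ev g) L :=
  List.forall_iff_forall_mem.2 fun e he =>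
    have h1 := allL_iff.1 h e he
    B.codes.beq (B.ec (band_left h1)) (B.ec (band_left (band_right h1))) (band_right (band_right h1))

theorem eq (B : Base ok g R) (a b : Ex) (h : eqB ok [(a, b)] = true) : a.ev g = b.ev g := B.eqs _ h

theorem ne (B : Base ok g R) (a b : Ex)
    (h : band (a.all ok) (band (b.all ok) (!Nat.beq (Ti.ec a) (Ti.ec b))) = true) :
    a.ev g ≠ b.ev g := fun e => by
  have h1 := band_right (band_right h)
  rw [(B.codes.beq_iff (B.ec (band_left h)) (B.ec (band_left (band_right h)))).2 e] at h1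
  cases h1

theorem rels (B : Base ok g R) {L : List (List ℕ)}
    (h : allL (fun w => band (allL ok w) (Nat.beq (wc w) o)) L = true) : ∀ w ∈ L, Bulk.wv g w = 1 :=
  fun w hw => have h1 := allL_iff.1 h w hw
    B.codes.beq (B.wv (band_left h1)) B.codes.one (band_right h1)

theorem dens (B : Base ok g R) {L : List ℕ} (h : allL ok L = true) :
    List.Forall₂ R (L.map tc) (L.map g) := by
  rw [List.forall₂_map_left_iff, List.forall₂_map_right_iff, List.forall₂_same]
  exact fun l hl => B.lt l (allL_iff.1 h l hl)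

theorem conj_mem (B : Base ok g R) {cs : List ℕ} {gs : List G} (hd : List.Forall₂ R cs gs)
    {tab : List (ℕ × List ℕ)} (h : norB cs tab = true) {e : ℕ × List ℕ} (he : e ∈ tab)
    (hl : ok e.1 = true) : ∀ k ∈ genL gs, g e.1 * k * (g e.1)⁻¹ ∈ genL gs := by
  have h5 := B.codes.conjChk_sound hd (B.lt _ hl) hd (allL_iff.1 h e he)
  intro k hk
  induction hk using closure_induction with
  | mem y hy => exact h5 y hy
  | one => simp
  | mul y z _ _ hy hz => simpa [mul_assoc] using mul_mem hy hz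
  | inv y _ hy => simpa [mul_assoc] using inv_mem hy

theorem cos (B : Base ok g R) (h15 : ok 15 = true) {cs : List ℕ} {gs : List G}
    (hd : List.Forall₂ R cs gs) {tab : List (ℕ × List (ℕ × ℕ))} (h : cosB cs tab = true)
    (h1 : ∀ l ∈ tab.map Prod.fst, ok l = true ∧ tiIota l ∈ tab.map Prod.fst) {x : G}
    (hx : x ∈ gL g (tab.map Prod.fst)) : ∃ j < 5, ∃ s ∈ genL gs, x = g 15 ^ j * s := by
  have key : ∀ l ∈ tab.map Prod.fst, ∀ y, (∃ j < 5, ∃ s ∈ genL gs, y = g 15 ^ j * s) →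
      ∃ j < 5, ∃ s ∈ genL gs, g l * y = g 15 ^ j * s := by
    rintro l hl _ ⟨j, hj, s, hs, rfl⟩
    have hok := (h1 l hl).1
    obtain ⟨e, he, rfl⟩ := List.mem_map.1 hl
    have h2 := allR_zero_iff.1 (allL_iff.1 h e he) j hj
    obtain ⟨s', hs', h3⟩ := B.codes.evM_sound hd (getN (0, 0) e.2 j).2
      (codes_pw B.codes (B.lt 15 h15) (getN (0, 0) e.2 j).1)
    refine ⟨_, by simpa using band_left h2, s' * s, mul_mem hs' hs, ?_⟩
    rw [← mul_assoc, ← mul_assoc,
      B.codes.beq (B.codes.mul (B.lt _ hok) (codes_pw B.codes (B.lt 15 h15) j)) h3 (band_right h2)]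
  induction hx using closure_induction_left with
  | one => exact ⟨0, by norm_num, 1, one_mem _, by simp⟩
  | mul_left x hx y _ ih => obtain ⟨l, hl, rfl⟩ := hx; exact key l hl y ih
  | inv_mul_cancel x hx y _ ih =>
    obtain ⟨l, hl, rfl⟩ := hx
    rw [← B.inv (h1 l hl).1]
    exact key _ (h1 l hl).2 y ih

theorem allC (B : Base ok g R) (h15 : ok 15 = true) {cs : List ℕ} {gs : List G}
    (hd : List.Forall₂ R cs gs) (hpc : PC gs) {f : ℕ → Bool} (h : allC cs f = true) {j : ℕ}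
    (hj : j < 5) {s : G} (hs : s ∈ genL gs) : ∃ c, R c (g 15 ^ j * s) ∧ f c = true :=
  B.codes.allE_sound hd hpc (codes_pw B.codes (B.lt 15 h15) j) (allR_zero_iff.1 h j hj) s hs

end Base

theorem okC_ok (l : ℕ) (h : okC l = true) : okC (tiIota l) = true ∧ l < 17 := by
  have h1 : l < 17 := by simpa [okC] using h
  refine ⟨?_, h1⟩
  interval_cases l <;> rfl

theorem okH_ok (l : ℕ) (h : okH l = true) : okH (tiIota l) = true ∧ l < 17 := by
  have h1 : l < 17 := by simp only [okH, Bool.and_eq_true, Nat.blt_eq] at h; exact h.1.1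
  refine ⟨?_, h1⟩
  interval_cases l <;> first | rfl | cases h

theorem okC_of_okH {l : ℕ} (h : okH l = true) : okC l = true := by
  simpa [okC] using (okH_ok l h).2

theorem Base.toH {g : ℕ → G} (B : Base okC g R) : Base okH g R :=
  ⟨B.codes, fun l h => B.lt l (okC_of_okH h), okH_ok⟩

theorem Base.rh {g : ℕ → G} (B : Base okH g R) : RH (g 14) (g 6) (g 15) (g 13) (g 10) := by
  have h0 : g 0 = 1 := B.codes.beq (B.lt 0 rfl) B.codes.one (by decide +kernel)
  obtain ⟨h1, h2, h3, h4, h5, h6, h7, h8, h9, h10, h11, h12, h13, h14, h15, h16, h17, h18, h19,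
    h20, h21⟩ := B.eqs [(.mul (.gen 14) (.gen 14), .gen 0), (.mul (.gen 6) (.gen 6), .gen 0),
    (.mul (.gen 13) (.gen 13), .gen 0), (.mul (.gen 10) (.gen 10), .gen 0),
    (.pow (.gen 15) 5, .gen 0), (.mul (.mul (.mul (.gen 6) (.gen 15)) (.gen 6)) (.gen 15), .gen 0),
    (.mul (.gen 14) (.gen 6), .mul (.gen 6) (.gen 14)),
    (.mul (.gen 14) (.gen 15), .mul (.gen 15) (.gen 14)),
    (.mul (.gen 14) (.gen 13), .mul (.gen 13) (.gen 14)),
    (.mul (.gen 14) (.gen 10), .mul (.gen 10) (.gen 14)),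
    (.mul (.gen 6) (.gen 13), .mul (.gen 13) (.gen 6)),
    (.mul (.gen 6) (.gen 10), .mul (.gen 10) (.gen 6)),
    (.mul (.gen 13) (.gen 10), .mul (.gen 10) (.gen 13)),
    (xcm (.gen 13) (xcf 1 (.gen 13)), .gen 0), (xcm (.gen 13) (xcf 2 (.gen 13)), .gen 0),
    (.mul (.mul (.mul (.mul (.gen 13) (xcf 1 (.gen 13))) (xcf 2 (.gen 13))) (xcf 3 (.gen 13)))
      (xcf 4 (.gen 13)), .gen 0),
    (xcm (.gen 10) (xcf 1 (.gen 13)), .gen 14), (xcm (.gen 10) (xcf 2 (.gen 13)), .gen 14),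
    (xcm (xcf 1 (.gen 10)) (xcf 4 (.gen 10)), .mul (xcf 2 (.gen 13)) (xcf 3 (.gen 13))),
    (xcm (xcf 2 (.gen 10)) (xcf 3 (.gen 10)), .mul (xcf 1 (.gen 13)) (xcf 4 (.gen 13))),
    (.mul (.mul (.mul (.mul (.gen 10) (xcf 1 (.gen 10))) (xcf 2 (.gen 10))) (xcf 3 (.gen 10)))
      (xcf 4 (.gen 10)), .gen 14)] (by decide +kernel)
  exact ⟨h1.trans h0, h2.trans h0, h3.trans h0, h4.trans h0, h5.trans h0, h6.trans h0, h7, h8, h9,
    h10, h11, h12, h13, h14.trans h0, h15.trans h0, h16.trans h0, h17, h18, h19, h20, h21⟩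

theorem Base.rc {g : ℕ → G} (B : Base okC g R) :
    RC (g 14) (g 6) (g 15) (g 13) (g 10) (g 2) := by
  obtain ⟨h1, h2, h3, h4, h5⟩ := B.eqs [(.mul (.gen 14) (.gen 2), .mul (.gen 2) (.gen 14)),
    (.mul (.mul (.gen 2) (.gen 15)) (.inv (.gen 2)), .mul (.gen 15) (.gen 15)),
    (.mul (.gen 2) (.gen 2), .mul (.gen 6) (.gen 14)),
    (.mul (.gen 2) (.gen 13), .mul (.gen 13) (.gen 2)),
    (.mul (.mul (.gen 2) (.gen 10)) (.inv (.gen 2)), .mul (.gen 10) (.gen 13))] (by decide +kernel)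
  exact ⟨B.toH.rh, h1, h2, h3, h4, h5⟩

theorem Base.eq_tgH {g : ℕ → G} (B : Base okH g R) (t r : G) {l : ℕ} (hl : okH l = true) :
    g l = tg (g 14) (g 6) (g 15) (g 13) (g 10) t r l := by
  have h0 : g 0 = 1 := B.codes.beq (B.lt 0 rfl) B.codes.one (by decide +kernel)
  obtain ⟨h1, h4, h7, h8, h11, h12⟩ := B.eqs [(.gen 1, xcf 1 (.gen 10)),
    (.gen 4, .mul (.mul (xcf 4 (.gen 10)) (xcf 3 (.gen 13))) (xcf 2 (.gen 10))),
    (.gen 7, xcf 1 (.gen 13)),
    (.gen 8, .mul (.mul (.mul (.gen 10) (xcf 1 (.gen 10))) (xcf 4 (.gen 10))) (xcf 3 (.gen 13))),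
    (.gen 11, .mul (.mul (xcf 3 (.gen 13)) (xcf 4 (.gen 13))) (.gen 14)),
    (.gen 12, .mul (.mul (xcf 2 (.gen 13)) (xcf 3 (.gen 13))) (.gen 14))] (by decide +kernel)
  have h := (okH_ok l hl).2
  interval_cases l
  exacts [h0, h1, absurd hl (by decide), absurd hl (by decide), h4, (B.inv (l := 4) rfl).trans (congrArg _ h4), rfl, h7,
    h8, (B.inv (l := 8) rfl).trans (congrArg _ h8), rfl, h11, h12, rfl, rfl, rfl,
    B.inv (l := 15) rfl]

theorem Base.eq_tg {g : ℕ → G} (B : Base okC g R) (r : G) {l : ℕ} (hl : l < 17) :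
    g l = tg (g 14) (g 6) (g 15) (g 13) (g 10) (g 2) r l := by
  by_cases h : okH l = true
  · exact B.toH.eq_tgH _ r h
  · interval_cases l <;> first | exact absurd rfl h | rfl | exact B.inv (l := 2) rfl

theorem tg_memH (z a f p u t r : G) {l : ℕ} (hl : okH l = true) :
    tg z a f p u t r l ∈ H0 z a f p u := by
  have hz : z ∈ H0 z a f p u := subset_closure (by simp)
  have hf : f ∈ H0 z a f p u := subset_closure (by simp)
  have hp : p ∈ H0 z a f p u := subset_closure (by simp)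
  have hu : u ∈ H0 z a f p u := subset_closure (by simp)
  have hc : ∀ k x, x ∈ H0 z a f p u → cf f k x ∈ H0 z a f p u := fun k x hx =>
    mul_mem (mul_mem (pow_mem hf k) hx) (inv_mem (pow_mem hf k))
  have h4 := mul_mem (mul_mem (hc 4 u hu) (hc 3 p hp)) (hc 2 u hu)
  have h8 := mul_mem (mul_mem (mul_mem hu (hc 1 u hu)) (hc 4 u hu)) (hc 3 p hp)
  have h := (okH_ok l hl).2
  interval_cases l
  exacts [one_mem _, hc 1 u hu, absurd hl (by decide), absurd hl (by decide), h4, inv_mem h4, subset_closure (by simp [tg]),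
    hc 1 p hp, h8, inv_mem h8, hu, mul_mem (mul_mem (hc 3 p hp) (hc 4 p hp)) hz,
    mul_mem (mul_mem (hc 2 p hp) (hc 3 p hp)) hz, hp, hz, hf, inv_mem hf]

theorem tg_mem (z a f p u t r : G) {l : ℕ} (hl : l < 17) :
    tg z a f p u t r l ∈ C0 z a f p u t := by
  have ht : t ∈ C0 z a f p u t := subset_closure (by simp)
  by_cases h : okH l = true
  · exact H0_le_C0 (tg_memH z a f p u t r h)
  · interval_cases l <;> first | exact absurd rfl h | exact ht | exact inv_mem ht

/-! ### The model -/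

theorem baseP : Base okC tp Dn := ⟨codesP, fun l _ => dn_tp l, okC_ok⟩

/-- the model of order 10240 -/
noncomputable def MC : Subgroup P32 := C0 (tp 14) (tp 6) (tp 15) (tp 13) (tp 10) (tp 2)

/-- the model of order 5120 -/
noncomputable def MH : Subgroup P32 := H0 (tp 14) (tp 6) (tp 15) (tp 13) (tp 10)

/-- generators of the model -/
noncomputable def csC : List ℕ := [tc 14, tc 6, tc 15, tc 13, tc 10, tc 2]

/-- generators of the smaller model -/
noncomputable def csH : List ℕ := [tc 14, tc 6, tc 15, tc 13, tc 10]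

/-- stabiliser chain -/
def certC : List Cfsg.Lib.Spor.PK.Cert :=
  [⟨0, [1792, 1668, 964, 1730, 770, 193, 1602, 1412, 645, 257, 1858, 1476, 1093, 324, 1988, 386, 133, 1028, 708,
    516, 1218, 1538, 1921, 898, 69, 450, 1282, 833, 578, 1345, 1154], [[4, 2, 4, 2, 2, 3, 2, 2, 4, 2, 4], [4,
    2, 2, 4, 2, 1, 3, 2, 5, 4, 2, 4]]⟩,
   ⟨1, [1344, 1217, 1024, 1921, 576, 448, 1473, 704, 1281, 1984, 897, 384, 513, 1408, 321, 832, 1153, 1536, 129],
    [[0, 0, 1, 1, 0, 0, 0, 1, 1, 0], [0, 1, 1], [0, 1, 0, 0, 1, 0]]⟩,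
   ⟨2, [1024, 1281, 450], [[2, 1], [1, 2, 0]]⟩,
   ⟨5, [704], [[0, 1]]⟩,
   ⟨3, [256], []⟩]

/-- stabiliser chain -/
def certH : List Cfsg.Lib.Spor.PK.Cert :=
  [⟨0, [1792, 1668, 964, 1730, 770, 193, 1602, 1412, 257, 1858, 1476, 324, 1089, 642, 1988, 386, 708, 516, 1218,
    132, 1028, 1538, 1921, 898, 66, 833, 578, 450, 1282, 1345, 1154], [[4, 2, 2, 4, 2, 1, 4, 2, 2, 4, 2, 2,
    4], [4, 2, 2, 2, 4, 2, 2, 4, 2, 2, 2, 4]]⟩,
   ⟨1, [1024, 1281, 1536, 512, 1345, 128, 449, 1152, 1985], [[1, 1, 1, 0, 0, 1, 1], [0, 1], [0, 0, 0, 1, 0, 0]]⟩,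
   ⟨2, [1281, 450, 1026], [[2, 0, 1], [0]]⟩,
   ⟨5, [704], [[0, 1]]⟩,
   ⟨3, [256], []⟩]

theorem densC : PK.Dens 10 32 (Fin.ofNat 32) csC [tp 14, tp 6, tp 15, tp 13, tp 10, tp 2] :=
  baseP.dens (L := [14, 6, 15, 13, 10, 2]) rfl

theorem densH : PK.Dens 10 32 (Fin.ofNat 32) csH [tp 14, tp 6, tp 15, tp 13, tp 10] :=
  baseP.dens (L := [14, 6, 15, 13, 10]) rfl

theorem genC : PK.gen [tp 14, tp 6, tp 15, tp 13, tp 10, tp 2] = MC :=
  congrArg Subgroup.closure (Set.ext fun x => by simp)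

theorem genH : PK.gen [tp 14, tp 6, tp 15, tp 13, tp 10] = MH :=
  congrArg Subgroup.closure (Set.ext fun x => by simp)

theorem chkC : PK.chk 10 32 certC csC = true := by decide +kernel

theorem chkH : PK.chk 10 32 certH csH = true := by decide +kernel

theorem card_MC : Nat.card MC = 10240 := genC ▸ PK.card_gen_of_chk ctx32 densC chkC

theorem card_MH : Nat.card MH = 5120 := genH ▸ PK.card_gen_of_chk ctx32 densH chkH

/-- polycyclic sequence of the Sylow subgroup -/
def gS (g : ℕ → G) : List G := [g 1, g 2, g 4, g 6, g 7, g 8, g 10, g 11, g 12, g 13, g 14]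

/-- polycyclic sequence of the centralizer of `p` -/
def gR (g : ℕ → G) : List G := [g 2, g 4, g 6, g 7, g 8, g 10, g 11, g 12, g 13, g 14]

/-- polycyclic sequence of the Sylow subgroup of the smaller group -/
def gS1 (g : ℕ → G) : List G := [g 1, g 4, g 6, g 7, g 8, g 10, g 11, g 12, g 13, g 14]

/-- polycyclic sequence of the normal subgroup of order 512 -/
def gQ (g : ℕ → G) : List G := [g 1, g 4, g 7, g 8, g 10, g 11, g 12, g 13, g 14]

theorem Base.dR {g : ℕ → G} (B : Base okC g R) : List.Forall₂ R (gR tc) (gR g) :=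
  B.dens (L := [2, 4, 6, 7, 8, 10, 11, 12, 13, 14]) rfl

theorem Base.dS {g : ℕ → G} (B : Base okC g R) : List.Forall₂ R (gS tc) (gS g) :=
  .cons (B.lt 1 rfl) B.dR

theorem Base.dS1 {g : ℕ → G} (B : Base okH g R) : List.Forall₂ R (gS1 tc) (gS1 g) :=
  B.dens (L := [1, 4, 6, 7, 8, 10, 11, 12, 13, 14]) rfl

theorem Base.dQ {g : ℕ → G} (B : Base okH g R) : List.Forall₂ R (gQ tc) (gQ g) :=
  B.dens (L := [1, 4, 7, 8, 10, 11, 12, 13, 14]) rfl

theorem Base.pcS {g : ℕ → G} (B : Base okC g R) : PC (gS g) :=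
  B.codes.pcChk_sound B.dS (cert := [(0,[171,586,124,8,592,224,64,128,768,512]),(258,[105,2,420,216,144,480,192,128,256]),(66,[201,2,52,232,144,160,64,128]),(0,[113,2,4,40,16,32,64]),(0,[1,34,4,8,16,32]),(28,[9,18,4,8,16]),(0,[1,2,4,8]),(0,[1,2,4]),(0,[1,2]),(0,[1]),(0,[])]) (by decide +kernel)

theorem Base.pcR {g : ℕ → G} (B : Base okC g R) : PC (gR g) := by
  cases B.pcS with
  | cons _ _ _ tail => exact tail

theorem Base.pcS1 {g : ℕ → G} (B : Base okH g R) : PC (gS1 g) :=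
  B.codes.pcChk_sound B.dS1 (cert := [(0,[293,62,4,296,112,32,64,384,256]),(66,[201,2,52,232,144,160,64,128]),(0,[113,2,4,40,16,32,64]),(0,[1,34,4,8,16,32]),(28,[9,18,4,8,16]),(0,[1,2,4,8]),(0,[1,2,4]),(0,[1,2]),(0,[1]),(0,[])]) (by decide +kernel)

theorem Base.pcQ {g : ℕ → G} (B : Base okH g R) : PC (gQ g) :=
  B.codes.pcChk_sound B.dQ (cert := [(0,[147,2,148,56,16,32,192,128]),(33,[1,26,116,72,80,32,64]),(0,[1,34,4,8,16,32]),(28,[9,18,4,8,16]),(0,[1,2,4,8]),(0,[1,2,4]),(0,[1,2]),(0,[1]),(0,[])]) (by decide +kernel)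

/-- conjugates of the generators of the normal subgroup of order 512 -/
def norQ : List (ℕ × List ℕ) := [(14,[1,2,4,8,16,32,64,128,256]),(6,[381,338,452,8,16,160,64,128,256]),(15,[315,387,420,238,1,68,32,4,256]),(13,[257,2,4,8,16,32,64,128,256]),(10,[97,194,260,136,16,32,64,128,256]),(2,[415,106,420,216,144,480,192,128,256])]

theorem norQ_ok : norB (gQ tc) norQ = true := by decide +kernel

theorem MC_le_normalizer : MC ≤ normalizer (genL (gQ tp) : Set P32) := by
  have h : ∀ e ∈ norQ, okC e.1 = true → tp e.1 ∈ normalizer (genL (gQ tp) : Set P32) :=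
    fun e he h => mem_normalizer_fintype (baseP.conj_mem baseP.toH.dQ norQ_ok he h)
  rw [MC, C0, closure_le]
  rintro _ (rfl | rfl | rfl | rfl | rfl | rfl)
  exacts [h _ (List.getElem_mem (n := 0) (by decide)) rfl, h _ (List.getElem_mem (n := 1) (by decide)) rfl,
    h _ (List.getElem_mem (n := 2) (by decide)) rfl, h _ (List.getElem_mem (n := 3) (by decide)) rfl,
    h _ (List.getElem_mem (n := 4) (by decide)) rfl, h _ (List.getElem_mem (n := 5) (by decide)) rfl]

theorem cent_Q {x : P32} (hx : x ∈ MC) (h : ∀ q ∈ genL (gQ tp), q * x = x * q) :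
    x = 1 ∨ x = tp 14 := by
  obtain ⟨c, h1, h2⟩ := PK.forall_gen_of_chk ctx32 densC chkC
    (f := fun _ _ c => [10, 1, 4, 8].any (fun l => !Nat.beq (mu (tc l) c) (mu c (tc l))) ||
      Nat.beq c o || Nat.beq c (tc 14)) (by decide +kernel) (genC ▸ hx)
  simp only [Bool.or_eq_true, List.any_eq_true, Bool.not_eq_true'] at h2
  rcases h2 with (⟨l, hl, h3⟩ | h3) | h3
  · rw [(codesP.beq_iff (codesP.mul (dn_tp l) h1) (codesP.mul h1 (dn_tp l))).2 (h _ (mem_genL (by
      simp only [List.mem_cons, List.not_mem_nil, or_false] at hl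
      rcases hl with rfl | rfl | rfl | rfl <;> simp [gQ])))] at h3
    cases h3
  · exact Or.inl (codesP.beq h1 codesP.one h3)
  · exact Or.inr (codesP.beq h1 (dn_tp 14) h3)

theorem Q_le_MH : genL (gQ tp) ≤ MH := by
  have h : ∀ l, okH l = true → tp l ∈ MH := fun l hl =>
    baseP.toH.eq_tgH 1 1 hl ▸ tg_memH _ _ _ _ _ 1 1 hl
  rw [closure_le]
  intro x hx
  simp only [gQ, Set.mem_ofPred_eq, List.mem_cons, List.not_mem_nil, or_false] at hx
  rcases hx with rfl | rfl | rfl | rfl | rfl | rfl | rfl | rfl | rfl <;> exact h _ rfl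

theorem eq_bot_of_not_mem {N : Subgroup P32} (hN : N ≤ MC)
    (hn : ∀ q ∈ genL (gQ tp), ∀ x ∈ N, q * x * q⁻¹ ∈ N) (hz : tp 14 ∉ N) : N = ⊥ := by
  have hQ : N ⊓ genL (gQ tp) = ⊥ := by
    by_contra h
    obtain ⟨w, hw, h1, h2⟩ := exists_central_mem (IsPGroup.of_card baseP.toH.pcQ.card) inf_le_right h
      fun s hs x hx => mem_inf.2 ⟨hn s hs x hx.1, mul_mem (mul_mem hs (mem_inf.1 hx).2) (inv_mem hs)⟩
    rcases cent_Q (hN hw.1) h2 with h3 | h3
    exacts [h1 h3, hz (h3 ▸ hw.1)]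
  refine eq_bot_iff.2 fun x hx => (cent_Q (hN hx) fun q hq => ?_).resolve_right fun e => hz (e ▸ hx)
  have h1 : x * q * x⁻¹ * q⁻¹ ∈ N ⊓ genL (gQ tp) :=
    mem_inf.2 ⟨by simpa [mul_assoc] using mul_mem hx (hn q hq _ (inv_mem hx)),
      mul_mem ((mem_normalizer_iff.1 (MC_le_normalizer (hN hx)) q).1 hq) (inv_mem hq)⟩
  rw [hQ, mem_bot, mul_inv_eq_one, mul_inv_eq_iff_eq_mul] at h1
  exact h1.symm

/-- codes through a subgroup of the product with the model -/
def GR (Γ : Subgroup (G × P32)) (c : ℕ) (x : G) : Prop := ∃ π, Dn c π ∧ (x, π) ∈ Γ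

theorem codes_GR {Γ : Subgroup (G × P32)} {N : ℕ} (hc : Finite Γ ∧ Nat.card Γ ≤ N)
    {M : Subgroup P32} (hM : Γ.map (MonoidHom.snd G P32) = M) (hN : Nat.card M = N) (h1 : MH ≤ M)
    (h2 : M ≤ MC) {z : G} (hz : (z, tp 14) ∈ Γ) (hz1 : z ≠ 1) : Codes (GR Γ) mu o := by
  have := hc.1
  have hb : Function.Bijective ((MonoidHom.snd G P32).subgroupMap Γ) :=
    ((MonoidHom.snd G P32).subgroupMap_surjective Γ).bijective_of_nat_card_le (by
      rw [hM, hN]; exact hc.2)
  have k1 : ∀ {x y π}, (x, π) ∈ Γ → (y, π) ∈ Γ → x = y := fun hx hy =>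
    congrArg (fun w : Γ => w.1.1) (hb.1 (a₁ := ⟨_, hx⟩) (a₂ := ⟨_, hy⟩) rfl)
  have k2 : Γ.comap (MonoidHom.inr G P32) = ⊥ := by
    refine eq_bot_of_not_mem (fun x hx => h2 (hM ▸ ⟨_, hx, rfl⟩)) (fun q hq x hx => ?_)
      fun h => hz1 (k1 hz h)
    obtain ⟨w, hw, rfl⟩ : q ∈ Γ.map (MonoidHom.snd G P32) := hM ▸ h1 (Q_le_MH hq)
    have := mul_mem (mul_mem hw (mem_comap.1 hx)) (inv_mem hw)
    rw [mem_comap]
    convert this using 1
    ext <;> simp
  refine ⟨fun ⟨π, a, b⟩ ⟨σ, c, d⟩ => ⟨π * σ, codesP.mul a c, mul_mem b d⟩,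
    ⟨1, codesP.one, one_mem Γ⟩, fun ⟨π, a, b⟩ ⟨σ, c, d⟩ => ?_⟩
  rw [← codesP.eq_iff a c]
  refine ⟨fun e => ?_, fun e => k1 b (e ▸ d)⟩
  have : π * σ⁻¹ ∈ Γ.comap (MonoidHom.inr G P32) := by
    have := mul_mem b (inv_mem d)
    rw [mem_comap]
    convert this using 1
    ext <;> simp [e]
  rwa [k2, mem_bot, mul_inv_eq_one] at this

theorem RH.prod {G' : Type*} [Group G'] {z a f p u : G} {z' a' f' p' u' : G'} (h : RH z a f p u)
    (k : RH z' a' f' p' u') : RH (z, z') (a, a') (f, f') (p, p') (u, u') :=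
  ⟨Prod.ext h.z2 k.z2, Prod.ext h.a2 k.a2, Prod.ext h.p2 k.p2, Prod.ext h.u2 k.u2,
    Prod.ext h.f5 k.f5, Prod.ext h.af k.af, Prod.ext h.za k.za, Prod.ext h.zf k.zf,
    Prod.ext h.zp k.zp, Prod.ext h.zu k.zu, Prod.ext h.ap k.ap, Prod.ext h.au k.au,
    Prod.ext h.pu k.pu, Prod.ext h.p01 k.p01, Prod.ext h.p02 k.p02, Prod.ext h.pp k.pp,
    Prod.ext h.up1 k.up1, Prod.ext h.up2 k.up2, Prod.ext h.x14 k.x14, Prod.ext h.x23 k.x23,
    Prod.ext h.xx k.xx⟩

theorem RC.prod {G' : Type*} [Group G'] {z a f p u t : G} {z' a' f' p' u' t' : G'}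
    (h : RC z a f p u t) (k : RC z' a' f' p' u' t') :
    RC (z, z') (a, a') (f, f') (p, p') (u, u') (t, t') :=
  ⟨h.toRH.prod k.toRH, Prod.ext h.zt k.zt, Prod.ext h.tf k.tf, Prod.ext h.tt k.tt,
    Prod.ext h.tp k.tp, Prod.ext h.tu k.tu⟩

theorem map_H0 {G' : Type*} [Group G'] (φ : G →* G') (z a f p u : G) :
    (H0 z a f p u).map φ = H0 (φ z) (φ a) (φ f) (φ p) (φ u) := by
  simp only [H0, MonoidHom.map_closure, Set.image_insert_eq, Set.image_singleton]

theorem map_C0 {G' : Type*} [Group G'] (φ : G →* G') (z a f p u t : G) :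
    (C0 z a f p u t).map φ = C0 (φ z) (φ a) (φ f) (φ p) (φ u) (φ t) := by
  simp only [C0, MonoidHom.map_closure, Set.image_insert_eq, Set.image_singleton]

theorem tg_prod {G' : Type*} [Group G'] (z a f p u t r : G) (z' a' f' p' u' t' r' : G') {l : ℕ}
    (hl : l < 17) : tg (z, z') (a, a') (f, f') (p, p') (u, u') (t, t') (r, r') l =
      (tg z a f p u t r l, tg z' a' f' p' u' t' r' l) := by
  interval_cases l <;> rfl

/-- Codes for the elements of a subgroup `K` isomorphic to the model `M`. -/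
structure ModG (ok : ℕ → Bool) (K : Subgroup G) (M : Subgroup P32) (g : ℕ → G)
    (R : ℕ → G → Prop) : Prop extends Base ok g R where
  mem : ∀ {c x}, R c x → x ∈ K
  ex : ∀ {x}, x ∈ K → ∃ c π, R c x ∧ Dn c π ∧ π ∈ M
  ex' : ∀ {c π}, π ∈ M → Dn c π → ∃ x, R c x

/-- Codes for the group of order 10240 generated by the letters. -/
abbrev Mod (g : ℕ → G) (R : ℕ → G → Prop) : Prop :=
  ModG okC (C0 (g 14) (g 6) (g 15) (g 13) (g 10) (g 2)) MC g R

/-- Codes for the group of order 5120 generated by the letters other than `t`. -/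
abbrev ModH (g : ℕ → G) (R : ℕ → G → Prop) : Prop :=
  ModG okH (H0 (g 14) (g 6) (g 15) (g 13) (g 10)) MH g R

theorem modG_GR {ok : ℕ → Bool} {g : ℕ → G} {Γ : Subgroup (G × P32)} (B : Base ok g (GR Γ)) :
    ModG ok (Γ.map (MonoidHom.fst G P32)) (Γ.map (MonoidHom.snd G P32)) g (GR Γ) where
  toBase := B
  mem := fun ⟨_, _, h⟩ => ⟨_, h, rfl⟩
  ex := by
    rintro _ ⟨x, hx, rfl⟩
    obtain ⟨c, hc⟩ := PK.exists_den ctx32 (g := x.2) fun i _ =>
      ⟨_, (x.2 • Fin.ofNat 32 i).2, Fin.ext (Nat.mod_eq_of_lt (x.2 • Fin.ofNat 32 i).2).symm⟩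
    exact ⟨c, x.2, ⟨x.2, hc, hx⟩, hc, x, hx, rfl⟩
  ex' := by
    rintro c _ ⟨x, hx, rfl⟩ hc
    exact ⟨x.1, x.2, hc, hx⟩

theorem RH.exists_mod {z a f p u : G} (h : RH z a f p u) (hz : z ≠ 1) (t r : G) :
    ∃ R, ModH (tg z a f p u t r) R := by
  have hM := map_H0 (MonoidHom.snd G P32) (z, tp 14) (a, tp 6) (f, tp 15) (p, tp 13) (u, tp 10)
  have K := codes_GR (h.prod baseP.toH.rh).card_le hM card_MH le_rfl H0_le_C0
    (subset_closure (by simp)) hz
  have M := modG_GR (g := tg z a f p u t r) ⟨K, fun l hl => ⟨tp l, dn_tp l, by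
    rw [baseP.toH.eq_tgH 1 1 hl, ← tg_prod _ _ _ _ _ _ _ _ _ _ _ _ _ _ (okH_ok l hl).2]
    exact tg_memH _ _ _ _ _ _ _ hl⟩, okH_ok⟩
  rw [map_H0, map_H0] at M
  exact ⟨_, M⟩

theorem RC.exists_mod {z a f p u t : G} (h : RC z a f p u t) (hz : z ≠ 1) (r : G) :
    ∃ R, Mod (tg z a f p u t r) R := by
  have hM := map_C0 (MonoidHom.snd G P32) (z, Ti.tp 14) (a, Ti.tp 6) (f, Ti.tp 15) (p, Ti.tp 13)
    (u, Ti.tp 10) (t, Ti.tp 2)
  have K := codes_GR (h.prod baseP.rc).card_le hM card_MC H0_le_C0 le_rfl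
    (subset_closure (by simp)) hz
  have M := modG_GR (g := tg z a f p u t r) ⟨K, fun l hl => ⟨Ti.tp l, dn_tp l, by
    rw [baseP.eq_tg 1 (okC_ok l hl).2, ← tg_prod _ _ _ _ _ _ _ _ _ _ _ _ _ _ (okC_ok l hl).2]
    exact tg_mem _ _ _ _ _ _ _ (okC_ok l hl).2⟩, okC_ok⟩
  rw [map_C0, map_C0] at M
  exact ⟨_, M⟩

theorem Base.sat {g : ℕ → G} (B : Base okC g R) : Sat g 17 tiIota tiR0 :=
  ⟨B.codes.beq (B.lt 0 rfl) B.codes.one (by decide +kernel),
    fun l hl => B.inv (by simpa [okC] using hl), B.rels (by decide +kernel)⟩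

theorem exists_mod_of_sat {g : ℕ → G} (h : Sat g 17 tiIota tiR0) (hz : g 14 ≠ 1) :
    ∃ R, Mod g R := by
  have hM : (gL (fun l => (g l, tp l)) [1, 2, 3, 4, 5, 6, 7, 8, 9, 10, 11, 12, 13, 14, 15, 16]).map
      (MonoidHom.snd G P32) = MC := by
    refine le_antisymm (map_le_iff_le_comap.2 (gL_le fun l hl => ?_)) ((closure_le _).2 ?_)
    · have h1 : l < 17 := by simp only [List.mem_cons, List.not_mem_nil, or_false] at hl; omega
      exact mem_comap.2 (show tp l ∈ MC from baseP.eq_tg 1 h1 ▸ tg_mem _ _ _ _ _ _ 1 h1)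
    · rintro _ (rfl | rfl | rfl | rfl | rfl | rfl) <;> exact ⟨_, mem_gL (by simp), rfl⟩
  have B : Base okC g _ := ⟨codes_GR (upT0 (h.prod baseP.sat)) hM card_MC H0_le_C0 le_rfl
    (mem_gL (l := 14) (by simp)) hz, fun l hl => ⟨tp l, dn_tp l, by
      have h1 := (okC_ok l hl).2
      by_cases h0 : l = 0
      · rw [h0, h.zero, baseP.sat.zero]; exact one_mem _
      · exact mem_gL (g := fun l => (g l, tp l)) (by
          simp only [List.mem_cons, List.not_mem_nil, or_false]; omega)⟩, okC_ok⟩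
  obtain ⟨R, M⟩ := B.rc.exists_mod hz 1
  exact ⟨R, ⟨M.codes, fun l hl => B.eq_tg 1 (okC_ok l hl).2 ▸ M.lt l hl, okC_ok⟩, M.mem, M.ex, M.ex'⟩

theorem TP.exists_mod {g : ℕ → G} (h : TP g) : ∃ R, Mod g R :=
  exists_mod_of_sat (h.sat.mono (by norm_num) fun _ => List.mem_of_mem_take) h.ne

namespace ModG

variable {ok : ℕ → Bool} {K : Subgroup G} {M : Subgroup P32} {g : ℕ → G}

theorem exists_rho (h : ModG ok K M g R) : ∃ ρ : K →* P32, Function.Injective ρ ∧ ρ.range = M ∧
    ∀ c x, R c x ↔ ∃ hx : x ∈ K, Dn c (ρ ⟨x, hx⟩) := by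
  choose c π h1 h2 h3 using fun x : K => h.ex x.2
  have k : ∀ {d} {x : K}, R d x → Dn d (π x) := fun {d x} hd =>
    (h.codes.eq_iff (h1 x) hd).1 rfl ▸ h2 x
  refine ⟨MonoidHom.mk' π fun x y => (codesP.eq_iff (k (x := x * y) (h.codes.mul (h1 x) (h1 y)))
    (codesP.mul (h2 x) (h2 y))).2 rfl, fun x y e => Subtype.ext ((h.codes.eq_iff (h1 x) (h1 y)).2
      ((codesP.eq_iff (h2 x) (h2 y)).1 e)), le_antisymm ?_ fun σ hσ => ?_, fun d x =>
    ⟨fun hd => ⟨h.mem hd, k (x := ⟨x, h.mem hd⟩) hd⟩, fun ⟨hx, hd⟩ => ?_⟩⟩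
  · rintro _ ⟨x, rfl⟩; exact h3 x
  · obtain ⟨d, hd⟩ := PK.exists_den ctx32 (g := σ) fun i _ =>
      ⟨_, (σ • Fin.ofNat 32 i).2, Fin.ext (Nat.mod_eq_of_lt (σ • Fin.ofNat 32 i).2).symm⟩
    obtain ⟨x, hx⟩ := h.ex' hσ hd
    exact ⟨⟨x, h.mem hx⟩, (codesP.eq_iff (k (x := ⟨x, h.mem hx⟩) hx) hd).2 rfl⟩
  · exact (codesP.eq_iff (h2 ⟨x, hx⟩) hd).1 rfl ▸ h1 ⟨x, hx⟩

theorem card_eq (h : ModG ok K M g R) : Nat.card K = Nat.card M := by
  obtain ⟨ρ, h1, rfl, -⟩ := h.exists_rho
  exact Nat.card_congr (MonoidHom.ofInjective h1).toEquiv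

theorem exists_code (h : ModG ok K M g R) {x : G} (hx : x ∈ K) : ∃ c, R c x :=
  let ⟨c, _, h1, _⟩ := h.ex hx; ⟨c, h1⟩

theorem genL_le (h : ModG ok K M g R) {cs : List ℕ} {gs : List G} (hd : List.Forall₂ R cs gs) :
    genL gs ≤ K := (closure_le _).2 fun x hx => by
  obtain ⟨i, hi, rfl⟩ := List.getElem_of_mem hx
  exact h.mem ((List.forall₂_iff_get.1 hd).2 i (hd.length_eq ▸ hi) hi)

end ModG

variable {g : ℕ → G}

theorem Mod.card (h : Mod g R) :
    Nat.card (C0 (g 14) (g 6) (g 15) (g 13) (g 10) (g 2)) = 10240 := h.card_eq.trans card_MC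

theorem ModH.card (h : ModH g R) : Nat.card (H0 (g 14) (g 6) (g 15) (g 13) (g 10)) = 5120 :=
  h.card_eq.trans card_MH

theorem RH.card {z a f p u : G} (h : RH z a f p u) (hz : z ≠ 1) : Nat.card (H0 z a f p u) = 5120 :=
  let ⟨_, M⟩ := h.exists_mod hz 1 1; M.card

theorem RC.card {z a f p u t : G} (h : RC z a f p u t) (hz : z ≠ 1) :
    Nat.card (C0 z a f p u t) = 10240 :=
  let ⟨_, M⟩ := h.exists_mod hz 1; M.card

theorem Base.mem_C0 (B : Base okC g R) {x : G}
    (hx : x ∈ C0 (g 14) (g 6) (g 15) (g 13) (g 10) (g 2)) :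
    ∃ j < 5, ∃ s ∈ genL (gS g), x = g 15 ^ j * s := by
  refine B.cos rfl B.dS (tab := [(14,[(0,1024),(1,1024),(2,1024),(3,1024),(4,1024)]),(6,[(0,8),(4,8),(3,8),(2,8),(1,8)]),(15,[(1,0),(2,0),(3,0),(4,0),(0,0)]),(16,[(4,0),(0,0),(1,0),(2,0),(3,0)]),(13,[(0,512),(1,1808),(2,912),(3,1680),(4,16)]),(10,[(0,64),(1,1521),(2,981),(3,1253),(4,1)]),(2,[(0,2),(2,2),(4,2),(1,2),(3,2)]),(3,[(0,1034),(3,1034),(1,1034),(4,1034),(2,1034)])]) (by decide +kernel) (by decide) ((closure_le _).2 ?_ hx)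
  rintro _ (rfl | rfl | rfl | rfl | rfl | rfl) <;> exact mem_gL (by simp)

theorem Base.mem_H0 (B : Base okH g R) {x : G} (hx : x ∈ H0 (g 14) (g 6) (g 15) (g 13) (g 10)) :
    ∃ j < 5, ∃ s ∈ genL (gS1 g), x = g 15 ^ j * s := by
  refine B.cos rfl B.dS1 (tab := [(14,[(0,512),(1,512),(2,512),(3,512),(4,512)]),(6,[(0,4),(4,4),(3,4),(2,4),(1,4)]),(15,[(1,0),(2,0),(3,0),(4,0),(0,0)]),(16,[(4,0),(0,0),(1,0),(2,0),(3,0)]),(13,[(0,256),(1,904),(2,456),(3,840),(4,8)]),(10,[(0,32),(1,761),(2,491),(3,627),(4,1)])]) (by decide +kernel) (by decide) ((closure_le _).2 ?_ hx)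
  rintro _ (rfl | rfl | rfl | rfl | rfl) <;> exact mem_gL (by simp)

theorem Base.forall_C0 (B : Base okC g R) {f : ℕ → Bool} (h : Ti.allC (gS tc) f = true) {x : G}
    (hx : x ∈ C0 (g 14) (g 6) (g 15) (g 13) (g 10) (g 2)) : ∃ c, R c x ∧ f c = true := by
  obtain ⟨j, hj, s, hs, rfl⟩ := B.mem_C0 hx
  exact B.allC rfl B.dS B.pcS h hj hs

theorem Base.forall_H0 (B : Base okH g R) {f : ℕ → Bool} (h : Ti.allC (gS1 tc) f = true) {x : G}
    (hx : x ∈ H0 (g 14) (g 6) (g 15) (g 13) (g 10)) : ∃ c, R c x ∧ f c = true := by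
  obtain ⟨j, hj, s, hs, rfl⟩ := B.mem_H0 hx
  exact B.allC rfl B.dS1 B.pcS1 h hj hs

theorem Base.forall_S0 (B : Base okC g R) {f : ℕ → Bool} (h : allE mu f (gS tc) o = true) :
    ∀ x ∈ genL (gS g), ∃ c, R c x ∧ f c = true := B.codes.allE_one B.dS B.pcS h

theorem Base.forall_R0 (B : Base okC g R) {f : ℕ → Bool} (h : allE mu f (gR tc) o = true) :
    ∀ x ∈ genL (gR g), ∃ c, R c x ∧ f c = true := B.codes.allE_one B.dR B.pcR h

theorem Base.forall_Q0 (B : Base okH g R) {f : ℕ → Bool} (h : allE mu f (gQ tc) o = true) :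
    ∀ x ∈ genL (gQ g), ∃ c, R c x ∧ f c = true := B.codes.allE_one B.dQ B.pcQ h

theorem Base.mem_S0 (B : Base okC g R) {x : G} :
    x ∈ genL (gS g) ↔ x ∈ genL (gR g) ∨ (g 1)⁻¹ * x ∈ genL (gR g) := by
  cases B.pcS with
  | cons sq conj _ _ => rw [gS, genL_cons]; exact mem_sup_zpowers_iff conj sq

theorem Base.comm_R0 (B : Base okC g R) {x : G} (hx : x ∈ genL (gR g)) :
    x * g 13 = g 13 * x ∧ x * g 14 = g 14 * x := by
  have key : ∀ c, okC c = true → allL (fun l => band (okC l)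
      (Nat.beq (mu (tc l) (tc c)) (mu (tc c) (tc l)))) [2, 4, 6, 7, 8, 10, 11, 12, 13, 14] = true →
      x * g c = g c * x := fun c hc h => by
    refine (mem_centralizer_singleton_iff.1 ((closure_le _).2 (fun y hy => ?_) hx))
    obtain ⟨l, hl, rfl⟩ := List.mem_map.1 (show y ∈ [2, 4, 6, 7, 8, 10, 11, 12, 13, 14].map g from hy)
    have h1 := allL_iff.1 h l hl
    exact mem_centralizer_singleton_iff.2 (B.codes.beq (B.codes.mul (B.lt l (band_left h1)) (B.lt c hc))
      (B.codes.mul (B.lt c hc) (B.lt l (band_left h1))) (band_right h1))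
  exact ⟨key 13 rfl (by decide +kernel), key 14 rfl (by decide +kernel)⟩

theorem Base.mem_R0 (B : Base okC g R) {x : G}
    (hx : x ∈ C0 (g 14) (g 6) (g 15) (g 13) (g 10) (g 2)) (hp : x * g 13 = g 13 * x) :
    x ∈ genL (gR g) := by
  obtain ⟨j, hj, s, hs, rfl⟩ := B.mem_C0 hx
  have key : ∀ {c y s}, R c y → s ∈ genL (gR g) → y * s * g 13 = g 13 * (y * s) →
      Nat.beq (mu c (tc 13)) (mu (tc 13) c) = true := fun {c y s} hy hs e =>
    (B.codes.beq_iff (B.codes.mul hy (B.lt 13 rfl)) (B.codes.mul (B.lt 13 rfl) hy)).2 (by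
      rwa [mul_assoc, (B.comm_R0 hs).1, ← mul_assoc, ← mul_assoc, mul_left_inj] at e)
  have hf := codes_pw B.codes (B.lt 15 rfl) j
  rcases B.mem_S0.1 hs with h | h
  · have h1 := key hf h hp
    obtain rfl : j = 0 := by
      revert h1
      interval_cases j <;> decide +kernel
    simpa using h
  · have h1 := key (B.codes.mul hf (B.lt 1 rfl)) h (by simpa [mul_assoc] using hp)
    exfalso
    revert h1
    interval_cases j <;> decide +kernel

end Cfsg.Lib.Ngrp.Ti
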