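import Cfsg.Agent.Ngrp.NatJ3
import Cfsg.Agent.Char.Blichfeldt
import Cfsg.Agent.Block.SylowIn
import Cfsg.Agent.Gold.KLiftBase
import Cfsg.Agent.S0213

/-! The order of a group with the two involution centralizers of the Tits group. -/

set_option autoImplicit false

namespace Cfsg.Lib.Ngrp.Ti

open Subgroup Cfsg.Lib.Trans Cfsg.Lib.Local

variable {G : Type*} [Group G]

theorem mc {a b : G} : a ∈ centralizer {b} ↔ a * b = b * a := mem_centralizer_singleton_iff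

theorem sq_of_isConj {a b : G} (h : IsConj a b) (ha : a * a = 1) : b * b = 1 := by
  obtain ⟨c, rfl⟩ := isConj_iff.1 h
  rw [conj_mul, ha]; group

theorem ne_one_of_isConj {a b : G} (h : IsConj a b) (ha : a ≠ 1) : b ≠ 1 := by
  rintro rfl; exact ha (isConj_one_right.1 h.symm)

theorem isConj_cj (a c : G) : IsConj a (c * a * c⁻¹) := isConj_iff.2 ⟨c, rfl⟩

/-- An involution in the rotation group of a dihedral group is central. -/
theorem mem_cent_of_mem_zpowers {u v c : G} (hu : u * u = 1) (hv : v * v = 1) (hc : c * c = 1)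
    (h : c ∈ zpowers (u * v)) : u ∈ centralizer {c} ∧ v ∈ centralizer {c} := by
  obtain ⟨k, rfl⟩ := mem_zpowers_iff.1 h
  have e : u * (u * v) * u⁻¹ = (u * v)⁻¹ := by
    rw [← mul_assoc, hu, one_mul, mul_inv_rev, inv_eq_of_mul_eq_one_right hv]
  have h1 : u ∈ centralizer {(u * v) ^ k} := by
    rw [mc, ← mul_inv_eq_iff_eq_mul, ← conj_zpow, e, inv_zpow, inv_eq_of_mul_eq_one_right hc]
  refine ⟨h1, ?_⟩
  have h2 : u * v ∈ centralizer {(u * v) ^ k} := mc.2 (Commute.self_zpow _ k)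
  simpa using mul_mem (inv_mem h1) h2

/-- The pairs counted by the order formula, with a further condition. -/
def Pairs (z y c : G) (Φ : G → G → Prop) : Set (G × G) :=
  {w | IsConj z w.1 ∧ IsConj y w.2 ∧ c ∈ zpowers (w.1 * w.2) ∧ Φ w.1 w.2}

theorem ncard_pairs_conj {z y h : G} (h2 : h * h = 1) (hy : h * y = y * h) {Φ Ψ : G → Prop}
    (h1 : ∀ v, v * v = 1 → v ∈ centralizer {y} → Φ v → Ψ (h * v * h⁻¹))
    (h3 : ∀ v, v * v = 1 → v ∈ centralizer {y} → Ψ v → Φ (h * v * h⁻¹)) (z2 : z * z = 1)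
    (y2 : y * y = 1) :
    (Pairs z y y fun _ v => Φ v).ncard = (Pairs z y y fun _ v => Ψ v).ncard := by
  have key : ∀ {Φ Ψ : G → Prop}, (∀ v, v * v = 1 → v ∈ centralizer {y} → Φ v → Ψ (h * v * h⁻¹)) →
      ∀ w ∈ Pairs z y y fun _ v => Φ v,
        (h * w.1 * h⁻¹, h * w.2 * h⁻¹) ∈ Pairs z y y fun _ v => Ψ v := fun h1 w hw => by
    obtain ⟨a, b, c, d⟩ := hw
    have v2 := sq_of_isConj b y2
    refine ⟨a.trans (isConj_cj _ _), b.trans (isConj_cj _ _), ?_,
      h1 _ v2 (mem_cent_of_mem_zpowers (sq_of_isConj a z2) v2 y2 c).2 d⟩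
    obtain ⟨k, hk⟩ := mem_zpowers_iff.1 c
    exact mem_zpowers_iff.2 ⟨k, by rw [conj_mul, conj_zpow, hk, hy, mul_inv_cancel_right]⟩
  have e : ∀ a : G, h * (h * a * h⁻¹) * h⁻¹ = a := fun a => by
    rw [← mul_assoc, ← mul_assoc, h2, mul_assoc, mul_assoc, ← mul_inv_rev, h2]; group
  refine Set.ncard_congr (fun w _ => (h * w.1 * h⁻¹, h * w.2 * h⁻¹)) (key h1) ?_ fun w hw =>
    ⟨_, key h3 w hw, by simp only [e]⟩
  intro a b _ _ hab
  simpa [Prod.ext_iff] using hab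

/-- The facts about the centralizer of `z` which determine the order. -/
structure OF (z p y r x : G) : Prop where
  z2 : z * z = 1
  y2 : y * y = 1
  r2 : r * r = 1
  x2 : x * x = 1
  z1 : z ≠ 1
  y1 : y ≠ 1
  pz : p ≠ z
  zp : z * p = p * z
  zy : z * y = y * z
  rz : r * z * r⁻¹ = p
  ry : r * y = y * r
  xy : x * y = y * x
  xz : x * z = z * x
  xp : x * p * x⁻¹ = p * z
  rx : (r * x) ^ 3 = 1
  card : Nat.card (centralizer ({z} : Set G)) = 10240
  odd : ¬ 2 ∣ (centralizer ({z} : Set G)).index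
  cls : ∀ c ∈ centralizer {z}, c * c = 1 → c ≠ 1 → IsConj z c ∨ IsConj y c
  cardP : Nat.card (centralizer {y} ⊓ centralizer {z} : Subgroup G) = 512
  zP : ¬ IsConj z y → ∀ w ∈ centralizer {z}, IsConj z w →
    (∀ s ∈ centralizer {y} ⊓ centralizer {z}, s * w = w * s) → w = z
  zy' : ¬ IsConj z y → ∀ w ∈ centralizer {z}, IsConj z w → w ∈ centralizer {y} →
    w ∈ centralizer {p} ∧
    (w = z ∨ w = p ∨ w = p * z ∨ ∃ s ∈ centralizer {y}, s * w * s⁻¹ ∉ centralizer {w})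
  n1 : ¬ IsConj z y →
    (Pairs z y z fun u v => u ∈ centralizer {z} ∧ v ∈ centralizer {z}).ncard = 5840
  n2 : ¬ IsConj z y → (Pairs z y y fun u v => u ∈ centralizer {z} ∧ v ∈ centralizer {z}).ncard +
    2 * (Pairs z y y fun u v => u ∈ centralizer {z} ∧ v ∈ centralizer {z} ∧
      v ∉ centralizer {p}).ncard = 879

namespace OF

variable {z p y r x : G} (h : OF z p y r x)
include h

theorem rp : r * p * r⁻¹ = z := by
  rw [← h.rz, ← mul_assoc, ← mul_assoc, h.r2, mul_assoc, mul_assoc, ← mul_inv_rev, h.r2]; group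

theorem p2 : p * p = 1 := sq_of_isConj (h.rz ▸ isConj_cj z r) h.z2

theorem xpz : x * (p * z) * x⁻¹ = p := by
  rw [← h.xp, ← mul_assoc, ← mul_assoc, h.x2, mul_assoc, mul_assoc, ← mul_inv_rev, h.x2]; group

theorem xz' : x * z * x⁻¹ = z := by rw [h.xz, mul_inv_cancel_right]

theorem mem_pz {v : G} (h1 : v ∈ centralizer {p}) : v ∈ centralizer {p * z} ↔ v ∈ centralizer {z} := by
  rw [mc] at *
  rw [mc, ← mul_assoc, h1, mul_assoc, mul_assoc, mul_right_inj]

variable [Finite G]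

theorem not_conj : ¬ IsConj z y := fun hc => by
  have h1 : orderOf (r * x) = 3 := orderOf_eq_prime (hp := ⟨Nat.prime_three⟩) h.rx fun e => by
    have h2 := h.rz
    rw [eq_inv_of_mul_eq_one_left e, inv_eq_of_mul_eq_one_right h.x2, h.xz'] at h2
    exact h.pz h2.symm
  have h2 := orderOf_dvd_natCard (⟨r * x, mul_mem (mc.2 h.ry) (mc.2 h.xy)⟩ : centralizer {y})
  rw [← orderOf_coe, h1, Block.card_centralizer_eq_of_isConj hc, h.card] at h2
  omega

theorem orbit (ah : AH G) {l : G} (hl : l ∈ centralizer {y}) :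
    l * z * l⁻¹ = z ∨ l * z * l⁻¹ = p ∨ l * z * l⁻¹ = p * z := by
  have hP : IsPGroup 2 (centralizer {y} ⊓ centralizer {z} : Subgroup G) :=
    IsPGroup.of_card (n := 9) h.cardP
  have hz : z ∈ centralizer {y} ⊓ centralizer {z} := ⟨mc.2 h.zy, mc.2 rfl⟩
  have hS : IsSylowIn 2 (centralizer {y} ⊓ centralizer {z}) (centralizer {y}) :=
    isSylowIn_of_maximal inf_le_left hP fun Q hQ h1 h2 => by
      by_contra h3
      obtain ⟨n, ⟨n1, n2⟩, n3⟩ := SetLike.exists_of_lt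
        (lt_inf_normalizer hQ (lt_of_le_not_ge h1 h3))
      refine n3 ⟨h2 n1, mc.2 (mul_inv_eq_iff_eq_mul.1 (h.zP h.not_conj _ ((mem_normalizer_iff.1 n2 z).1 hz).2
        (isConj_cj _ _) fun s hs => ?_))⟩
      have := mc.1 ((mem_normalizer_iff.1 (inv_mem n2) s).1 hs).2
      calc s * (n * z * n⁻¹) = n * (n⁻¹ * s * n⁻¹⁻¹ * z) * n⁻¹ := by group
        _ = _ := by rw [this]; group
  have hD := hS.le_of_normal (isPGroup_pCoreOf _) (pCoreOf_le _) (le_normalizer_pCoreOf _)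
  have hN : ∀ l ∈ centralizer {y}, ∀ d ∈ pCoreOf 2 (centralizer {y}),
      l * d * l⁻¹ ∈ pCoreOf 2 (centralizer {y}) := fun l hl d =>
    (mem_normalizer_iff.1 (le_normalizer_pCoreOf _ hl) d).1
  have hzD : z ∈ pCoreOf 2 (centralizer {y}) := ah.cent_le (twoLocal_cent h.y2 h.y1)
    (mem_centralizer_iff.2 fun d hd => mc.1 (hD hd).2)
  have hw := hN l hl z hzD
  rcases (h.zy' h.not_conj _ (hD hw).2 (isConj_cj _ _) (hD hw).1).2 with e | e | e | ⟨s, hs, e⟩
  exacts [Or.inl e, Or.inr (Or.inl e), Or.inr (Or.inr e), (e (mc.2 (by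
    have := mc.1 (hD (hN _ (inv_mem (mul_mem hs hl)) _ hw)).2
    calc _ = s * l * (z * ((s * l)⁻¹ * (l * z * l⁻¹) * (s * l)⁻¹⁻¹)) * (s * l)⁻¹ := by group
      _ = _ := by rw [← this]; group))).elim]

theorem card_y (ah : AH G) : Nat.card (centralizer ({y} : Set G)) = 1536 := by
  have h1 := Gold.KL.ncard_conj (centralizer {y}) z
  have h2 : {w | ∃ n ∈ centralizer ({y} : Set G), n * z * n⁻¹ = w} = {z, p, p * z} := by
    ext w
    constructor
    · rintro ⟨n, hn, rfl⟩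
      exact h.orbit ah hn
    · rintro (rfl | rfl | rfl)
      · exact ⟨1, one_mem _, by group⟩
      · exact ⟨r, mc.2 h.ry, h.rz⟩
      · exact ⟨x * r, mul_mem (mc.2 h.xy) (mc.2 h.ry), by rw [← h.xp, ← h.rz]; group⟩
  have p1 : p ≠ 1 := ne_one_of_isConj (h.rz ▸ isConj_cj z r) h.z1
  rw [h2, Set.ncard_eq_three.2 ⟨_, _, _, h.pz.symm, by simpa using p1, by simpa using h.z1, rfl⟩,
    ← inf_relIndex_left] at h1
  rw [← card_mul_relIndex (inf_le_left (b := centralizer {z})), ← h1, h.cardP]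

theorem mem_pz' (ah : AH G) {v : G} (v2 : v * v = 1) (hv : v ∈ centralizer {y})
    (h1 : v ∉ centralizer {z}) (h2 : v ∉ centralizer {p}) : v ∈ centralizer {p * z} := by
  have e : ∀ {a b : G}, v * a * v⁻¹ = b → v * b * v⁻¹ = a := by
    rintro a _ rfl
    rw [← mul_assoc, ← mul_assoc, v2, mul_assoc, mul_assoc, ← mul_inv_rev, v2]; group
  rcases h.orbit ah hv with e1 | e1 | e1
  · exact (h1 (mc.2 (mul_inv_eq_iff_eq_mul.1 e1))).elim
  · rw [mc, ← mul_inv_eq_iff_eq_mul, ← conj_mul, e1, e e1, h.zp]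
  · refine (h2 ?_).elim
    have e2 := e e1
    rw [← conj_mul, e1, ← h.zp] at e2
    rw [mc, ← mul_inv_eq_iff_eq_mul, eq_mul_inv_of_mul_eq e2, mul_inv_rev,
      inv_eq_of_mul_eq_one_right h.p2, inv_eq_of_mul_eq_one_right h.z2, ← mul_assoc, h.zp, mul_assoc,
      h.z2, mul_one]

omit h [Finite G] in
theorem conj_mem_iff {a b c v : G} (e : c * a * c⁻¹ = b) :
    c * v * c⁻¹ ∈ centralizer {b} ↔ v ∈ centralizer {a} := by
  rw [mc, mc, ← e, conj_mul, conj_mul, mul_left_inj, mul_right_inj]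

theorem mem_z (ah : AH G) {u : G} (hu : IsConj z u) (hy : u ∈ centralizer {y}) :
    u ∈ centralizer {z} := by
  have key : ∀ u, IsConj z u → u ∈ centralizer {y} → u ∈ centralizer {p} → u ∈ centralizer {z} :=
    fun u hu hy hp => (conj_mem_iff h.rz).1 (h.zy' h.not_conj _ ((conj_mem_iff h.rp).2 hp)
      (hu.trans (isConj_cj _ _)) (mul_mem (mul_mem (mc.2 h.ry) hy) (inv_mem (mc.2 h.ry)))).1
  by_contra h1
  by_cases h2 : u ∈ centralizer {p}
  · exact h1 (key u hu hy h2)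
  · exact h1 ((conj_mem_iff h.xz').1 (key _ (hu.trans (isConj_cj _ _))
      (mul_mem (mul_mem (mc.2 h.xy) hy) (inv_mem (mc.2 h.xy)))
      ((conj_mem_iff h.xpz).2 (h.mem_pz' ah (sq_of_isConj hu h.z2) hy h1 h2))))

theorem card_eq (ah : AH G) : Nat.card G = 17971200 := by
  have o2 : ∀ {c : G}, c * c = 1 → c ≠ 1 → orderOf c = 2 := fun h1 h2 =>
    orderOf_eq_prime (by rwa [sq]) h2
  have h1 := Agent.S0213.result z y (o2 h.z2 h.z1) (o2 h.y2 h.y1) h.not_conj fun t ht => by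
    have t2 : t ^ 2 ^ 1 = 1 := by rw [pow_one, ← ht, pow_orderOf_eq_one]
    obtain ⟨g, hg⟩ := Char.exists_conj_mem_of_not_dvd_index h.odd t2
    have c := isConj_cj t g
    exact (h.cls _ hg (sq_of_isConj c (by rwa [← sq])) (ne_one_of_isConj c fun e => by
      rw [e, orderOf_one] at ht; omega)).imp (·.trans c.symm) (·.trans c.symm)
  have e1 : {w : G × G | IsConj z w.1 ∧ IsConj y w.2 ∧ z ∈ zpowers (w.1 * w.2)} =
      Pairs z y z fun u v => u ∈ centralizer {z} ∧ v ∈ centralizer {z} :=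
    Set.ext fun w => ⟨fun ⟨a, b, c⟩ => ⟨a, b, c, mem_cent_of_mem_zpowers (sq_of_isConj a h.z2)
      (sq_of_isConj b h.y2) h.z2 c⟩, fun ⟨a, b, c, _⟩ => ⟨a, b, c⟩⟩
  have e2 : ∀ Φ : G → Prop, (Pairs z y y fun u v => u ∈ centralizer {z} ∧ Φ v) =
      Pairs z y y fun _ v => Φ v := fun Φ => Set.ext fun w =>
    ⟨fun ⟨a, b, c, d⟩ => ⟨a, b, c, d.2⟩, fun ⟨a, b, c, d⟩ => ⟨a, b, c, h.mem_z ah a
      (mem_cent_of_mem_zpowers (sq_of_isConj a h.z2) (sq_of_isConj b h.y2) h.y2 c).1, d⟩⟩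
  have e3 : ∀ Φ Ψ : G → Prop, (Pairs z y y fun _ v => Φ v).ncard =
      (Pairs z y y fun _ v => Φ v ∧ Ψ v).ncard + (Pairs z y y fun _ v => Φ v ∧ ¬ Ψ v).ncard :=
    fun Φ Ψ => by
    rw [← Set.ncard_inter_add_ncard_sdiff_eq_ncard _ {w : G × G | Ψ w.2}]
    congr 2 <;> ext w <;> simp only [Pairs, Set.mem_inter_iff, Set.mem_sdiff, Set.mem_ofPred_eq,
      and_assoc]
  have e4 := ncard_pairs_conj (z := z) h.r2 h.ry (Φ := fun v => v ∈ centralizer {z} ∧
    v ∉ centralizer {p}) (Ψ := fun v => (True ∧ v ∉ centralizer {z}) ∧ v ∈ centralizer {p})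
    (fun v _ _ a => by simpa only [conj_mem_iff h.rz, conj_mem_iff h.rp, true_and] using a.symm)
    (fun v _ _ a => by simpa only [conj_mem_iff h.rz, conj_mem_iff h.rp, true_and] using a.symm)
    h.z2 h.y2
  have e5 := ncard_pairs_conj (z := z) h.x2 h.xy
    (Φ := fun v => (True ∧ v ∉ centralizer {z}) ∧ v ∈ centralizer {p})
    (Ψ := fun v => (True ∧ v ∉ centralizer {z}) ∧ v ∉ centralizer {p})
    (fun v _ _ a => by
      rw [conj_mem_iff h.xz', conj_mem_iff h.xpz, h.mem_pz a.2]; exact ⟨a.1, a.1.2⟩)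
    (fun v v2 hv a => by
      rw [conj_mem_iff h.xz', conj_mem_iff h.xpz]; exact ⟨a.1, h.mem_pz' ah v2 hv a.1.2 a.2⟩)
    h.z2 h.y2
  have e6 := e3 (fun _ => True) (· ∈ centralizer {z})
  have e7 := h.n2 h.not_conj
  rw [e3 (fun v => True ∧ v ∉ centralizer {z}) (· ∈ centralizer {p}), ← e5, ← e4] at e6
  rw [e2, e2] at e7
  have e8 : Nat.card {w : G × G // IsConj z w.1 ∧ IsConj y w.2 ∧ y ∈ zpowers (w.1 * w.2)} =
      (Pairs z y y fun _ _ => True).ncard := by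
    simp only [Pairs, and_true]; rfl
  have e9 : Nat.card {w : G × G // IsConj z w.1 ∧ IsConj y w.2 ∧ z ∈ zpowers (w.1 * w.2)} =
      5840 := by rw [← h.n1 h.not_conj, ← e1]; rfl
  simp only [true_and] at e6
  rw [h1, e8, e9, h.card_y ah, h.card]
  omega

end OF

end Cfsg.Lib.Ngrp.Ti
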