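import Cfsg.Agent.Ngrp.TitsWCls
import Cfsg.Agent.Ngrp.TitsWOrd

/-! The order of a group containing the amalgam with the smaller centralizer. -/

set_option autoImplicit false
set_option maxRecDepth 100000

namespace Cfsg.Lib.Ngrp.Ti

open Subgroup Cfsg.Lib.Spor Cfsg.Lib.Spor.Bulk Cfsg.Lib.Fus.Grp

variable {G : Type*} [Group G] {R : ℕ → G → Prop} {g : ℕ → G}

theorem memB_iff {c : ℕ} {L : List ℕ} : memB c L = true ↔ c ∈ L := by
  rw [memB, Bool.not_eq_true', ← Bool.not_eq_true, allL_iff]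
  simp

theorem cmW_iff (K : Codes R mu o) {a b : ℕ} {x y : G} (ha : R a x) (hb : R b y) :
    cmW a b = true ↔ x ∈ centralizer {y} := (K.beq_iff (K.mul ha hb) (K.mul hb ha)).trans mc.symm

theorem Base.cjc (B : Base okC g R) {l c : ℕ} {x : G} (hl : okC l = true) (h : R c x) :
    R (cjc l c) (g l * x * (g l)⁻¹) :=
  B.inv hl ▸ B.codes.mul (B.codes.mul (B.lt l hl) h) (B.lt _ (B.ok l hl).1)

theorem Base.orbB (B : Base okC g R) {z : G} {d : ℕ} {rt L : List ℕ} {st : List (ℕ × ℕ)}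
    (hd : ∃ w, R d w ∧ IsConj z w) (hrt : ∀ c ∈ rt, ∃ w, R c w ∧ IsConj z w)
    (h : orbB d rt L st = true) : ∀ c ∈ L, ∃ w, R c w ∧ IsConj z w := by
  induction L generalizing st with
  | nil => simp
  | cons c cs ih =>
    cases st with
    | nil =>
      have h1 : (memB c rt && Ti.orbB d rt cs []) = true := h
      rw [Bool.and_eq_true, memB_iff] at h1
      exact List.forall_mem_cons.2 ⟨hrt c h1.1, ih h1.2⟩
    | cons e st =>
      have h1 : (okC e.1 && Nat.beq c (Ti.cjc e.1 (getN d cs e.2)) && Ti.orbB d rt cs st) = true := h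
      simp only [Bool.and_eq_true, Nat.beq_eq] at h1
      refine List.forall_mem_cons.2 ⟨?_, ih h1.2⟩
      obtain ⟨w, h2, h3⟩ : ∃ w, R (getN d cs e.2) w ∧ IsConj z w :=
        (getN_mem_or d cs e.2).elim (ih h1.2 _) fun e => by rwa [e]
      exact ⟨_, h1.1.2 ▸ B.cjc h1.1.1 h2, h3.trans (isConj_cj _ _)⟩

theorem mem_zpowers_iff_sq {z : G} (z2 : z * z = 1) (z1 : z ≠ 1) {n : ℕ} {x : G}
    (h : x ^ 2 ^ n = 1) : z ∈ zpowers x ↔ ∃ i < n, x ^ 2 ^ i = z := by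
  refine ⟨fun hz => ?_, fun ⟨i, _, e⟩ => e ▸ pow_mem (mem_zpowers x) _⟩
  induction n generalizing x with
  | zero => rw [pow_zero, pow_one] at h; simp [h, z1] at hz
  | succ n ih =>
    obtain ⟨k, rfl⟩ := mem_zpowers_iff.1 hz
    rcases Int.even_or_odd' k with ⟨j, rfl | rfl⟩
    · obtain ⟨i, hi, e⟩ := ih (x := x ^ 2) (by rwa [← pow_mul, ← pow_succ'])
        (mem_zpowers_iff.2 ⟨j, by rw [zpow_mul]; norm_cast⟩)
      exact ⟨i + 1, by omega, by rwa [pow_succ', pow_mul]⟩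
    · have h1 : (orderOf x : ℤ) ∣ 2 * (2 * j + 1) := by
        rw [orderOf_dvd_iff_zpow_eq_one, two_mul, zpow_add, z2]
      have h2 : (orderOf x : ℤ) ∣ 2 * 2 ^ n := by
        rw [← pow_succ']; exact_mod_cast orderOf_dvd_of_pow_eq_one h
      obtain ⟨a, b, e⟩ : IsCoprime (2 * j + 1) ((2 : ℤ) ^ n) :=
        IsCoprime.pow_right ⟨1, -j, by ring⟩
      have h3 : x ^ (2 : ℤ) = 1 := orderOf_dvd_iff_zpow_eq_one.1 (by
        rw [show (2 : ℤ) = a * (2 * (2 * j + 1)) + b * (2 * 2 ^ n) by linear_combination -2 * e]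
        exact dvd_add (h1.mul_left a) (h2.mul_left b))
      exact ⟨0, by omega, by rw [zpow_add, zpow_mul, h3]; simp⟩

theorem sqB_iff (K : Codes R mu o) {cz : ℕ} {z : G} (hz : R cz z) (z1 : z ≠ 1) {n c : ℕ} {x : G}
    (h : R c x) : sqB cz n c = true ↔ ∃ i < n, x ^ 2 ^ i = z := by
  induction n generalizing c x with
  | zero => simp [sqB]
  | succ n ih =>
    have e : sqB cz (n + 1) c =
      cond (Nat.beq c cz) true (cond (Nat.beq c o) false (sqB cz n (mu c c))) := rfl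
    rw [e, Nat.exists_lt_succ_left]
    by_cases h1 : x = z
    · simp [(K.beq_iff h hz).2 h1, h1]
    rw [Bool.eq_false_iff.2 fun e => h1 (K.beq h hz e)]
    by_cases h2 : x = 1
    · simp [(K.beq_iff h K.one).2 h2, h2, z1.symm]
    rw [Bool.eq_false_iff.2 fun e => h2 (K.beq h K.one e), cond_false, cond_false, ih (K.mul h h)]
    simp [h1, pow_succ', pow_mul, sq]

theorem zpB_iff (K : Codes R mu o) {cz : ℕ} {z : G} (hz : R cz z) (z2 : z * z = 1) (z1 : z ≠ 1)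
    {c : ℕ} {x : G} (h : R c x) (hx : x ^ 10240 = 1) : zpB cz c = true ↔ z ∈ zpowers x := by
  have e : x * x * (x * x) * x = x ^ 5 := by simp only [pow_succ, pow_zero, one_mul, mul_assoc]
  rw [zpB, frc_eq, frc_eq, sqB_iff K hz z1 (K.mul (K.mul (K.mul h h) (K.mul h h)) h), e,
    ← mem_zpowers_iff_sq z2 z1 (by rwa [← pow_mul])]
  refine ⟨fun h => zpowers_le.2 (pow_mem (mem_zpowers x) 5) h, fun h => ?_⟩
  obtain ⟨k, rfl⟩ := mem_zpowers_iff.1 h
  refine mem_zpowers_iff.2 ⟨k, ?_⟩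
  rw [← zpow_natCast, ← zpow_mul, mul_comm, zpow_mul, zpow_natCast, pow_succ, pow_succ, pow_succ,
    sq, z2, one_mul, z2, one_mul]

theorem ncard_pairs {mu : ℕ → ℕ → ℕ} {o : ℕ} (K : Codes R mu o) {A B : List ℕ} (hA : A.Nodup)
    (hB : B.Nodup) (eA : ∀ a ∈ A, ∃ u, R a u) (eB : ∀ b ∈ B, ∃ v, R b v) {T : Set (G × G)}
    {ψ : ℕ → ℕ → Bool} (h1 : ∀ w ∈ T, (∃ a ∈ A, R a w.1) ∧ ∃ b ∈ B, R b w.2)
    (h2 : ∀ a ∈ A, ∀ b ∈ B, ∀ u v, R a u → R b v → ((u, v) ∈ T ↔ ψ a b = true)) :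
    T.ncard = cntP ψ A B := by
  classical
  choose! dA hdA using eA
  choose! dB hdB using eB
  have e : T = Prod.map dA dB '' ((A.toFinset ×ˢ B.toFinset).filter fun w => ψ w.1 w.2 :
      Finset (ℕ × ℕ)) := by
    ext w
    simp only [Set.mem_image, Finset.mem_coe, Finset.mem_filter, Finset.mem_product,
      List.mem_toFinset]
    refine ⟨fun hw => ?_, fun ⟨c, ⟨⟨a, b⟩, d⟩, e⟩ => e ▸ (h2 _ a _ b _ _ (hdA _ a) (hdB _ b)).2 d⟩
    obtain ⟨⟨a, ha, ra⟩, b, hb, rb⟩ := h1 w hw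
    exact ⟨(a, b), ⟨⟨ha, hb⟩, (h2 a ha b hb _ _ ra rb).1 hw⟩,
      Prod.ext ((K.eq_iff (hdA a ha) ra).2 rfl) ((K.eq_iff (hdB b hb) rb).2 rfl)⟩
  rw [e, Set.InjOn.ncard_image, Set.ncard_coe_finset, Finset.card_filter, Finset.sum_product, cntP,
    ← List.sum_toFinset _ hA]
  · refine Finset.sum_congr rfl fun a _ => ?_
    rw [← Finset.card_filter, ← List.toFinset_filter, List.toFinset_card_of_nodup (hB.filter _),
      List.countP_eq_length_filter]
  · intro c hc d hd e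
    simp only [Finset.mem_coe, Finset.mem_filter, Finset.mem_product, List.mem_toFinset] at hc hd
    exact Prod.ext ((K.eq_iff (hdA _ hc.1.1) (hdA _ hd.1.1)).1 (congrArg Prod.fst e))
      ((K.eq_iff (hdB _ hc.1.2) (hdB _ hd.1.2)).1 (congrArg Prod.snd e))

theorem allE_pre {mu : ℕ → ℕ → ℕ} {o : ℕ} (K : Codes R mu o) {cs : List ℕ} {gs ks : List G}
    (hd : List.Forall₂ R cs gs) (hpc : PC (gs ++ ks)) {f : ℕ → Bool} {x : ℕ} {k : G} (hx : R x k)
    (h : allE mu f cs x = true) :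
    ∀ s ∈ genL (gs ++ ks), ∃ c t, R c t ∧ f c = true ∧ t⁻¹ * (k * s) ∈ genL ks := by
  induction hd generalizing x k with
  | nil => exact fun s hs => ⟨x, k, hx, h, by simpa using hs⟩
  | @cons c g cs gs hc _ ih =>
    cases hpc with
    | cons sq conj nm tail =>
    have e : allE mu f (c :: cs) x = (allE mu f cs x && allE mu f cs (mu x c)) := rfl
    rw [e, Bool.and_eq_true] at h
    intro s hs
    rw [List.cons_append, genL_cons] at hs
    rcases (mem_sup_zpowers_iff conj sq).1 hs with hs | hs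
    · exact ih tail hx h.1 s hs
    · simpa [mul_assoc] using ih tail (K.mul hx hc) h.2 _ hs

theorem TP.r2 (h : TP g) : g 17 * g 17 = 1 := by
  have := h.sat.inv 17 (by norm_num)
  exact mul_eq_one_iff_eq_inv.2 this

theorem TP.cr (h : TP g) {a b : ℕ} (hm : [b, 17, a, 17] ∈ tiR) (hb : b < 18) :
    g 17 * g a * (g 17)⁻¹ = g (tiIota b) := by
  have := h.sat.rel _ hm
  simp only [wv_cons, wv_nil, one_mul] at this
  rw [h.sat.inv b hb, inv_eq_of_mul_eq_one_right h.r2, eq_inv_of_mul_eq_one_left this]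

theorem TP.cr_wv (h : TP g) {W : List ℕ} (hW : ∀ l ∈ W, l ∈ [4, 7, 10, 11, 12, 13, 14]) :
    g 17 * wv g W * (g 17)⁻¹ = wv g (W.map sgm) := by
  induction W with
  | nil => simp
  | cons l W ih =>
    rw [wv_cons, ← conj_mul, ih fun a ha => hW a (List.mem_cons_of_mem _ ha), List.map_cons, wv_cons,
      mul_right_inj]
    have := hW l List.mem_cons_self
    simp only [List.mem_cons, List.not_mem_nil, or_false] at this
    rcases this with rfl | rfl | rfl | rfl | rfl | rfl | rfl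
    exacts [h.cr (b := 3) (by decide) (by decide), h.cr (b := 6) (by decide) (by decide),
      h.cr (b := 11) (by decide) (by decide), h.cr (b := 10) (by decide) (by decide),
      h.cr (b := 12) (by decide) (by decide), h.cr (b := 14) (by decide) (by decide),
      h.cr (b := 13) (by decide) (by decide)]

/-- The amalgam with codes, the centralizer of `z` being the group of order 10240. -/
structure TM (g : ℕ → G) (R : ℕ → G → Prop) : Prop where
  tp : TP g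
  md : Mod g R
  cent : centralizer {g 14} = C0 (g 14) (g 6) (g 15) (g 13) (g 10) (g 2)

namespace TM

variable (h : TM g R)
include h

theorem B : Base okC g R := h.md.toBase

theorem K : Codes R mu o := h.B.codes

theorem mem {c : ℕ} {x : G} (hx : R c x) : x ∈ centralizer {g 14} := h.cent ▸ h.md.mem hx

theorem card : Nat.card (centralizer ({g 14} : Set G)) = 10240 := h.cent ▸ h.md.card

theorem one : g 0 = 1 := h.tp.sat.zero

theorem rz : g 17 * g 14 * (g 17)⁻¹ = g 13 := h.tp.cr (b := 13) (by decide) (by decide)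

theorem rq : g 17 * g 7 * (g 17)⁻¹ = g 6 := h.tp.cr (b := 6) (by decide) (by decide)

theorem fp : g 15 * g 13 * (g 15)⁻¹ = g 7 :=
  h.B.eq (.mul (.mul (.gen 15) (.gen 13)) (.inv (.gen 15))) (.gen 7) (by decide +kernel)

theorem conj_az : IsConj (g 12) (g 6 * g 14) := by
  have e1 := h.tp.cr_wv (W := [13, 7]) (by decide)
  have e2 := h.B.eqs [(.mul (.mul (.mul (.pow (.gen 15) 3) (.gen 4)) (.gen 12))
    (.inv (.mul (.pow (.gen 15) 3) (.gen 4))), .mul (.gen 7) (.gen 13))] (by decide +kernel)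
  refine (isConj_iff.2 ⟨_, e2⟩).trans (isConj_iff.2 ⟨g 17, ?_⟩)
  simpa [sgm, getN_cons_succ, getN_cons_zero, Ex.ev] using e1

theorem memZ : ∀ c ∈ LZ, ∃ w, R c w ∧ IsConj (g 14) w := by
  have h1 : IsConj (g 14) (g 13) := isConj_iff.2 ⟨_, h.rz⟩
  refine h.B.orbB ⟨_, h.B.lt 14 rfl, IsConj.refl _⟩ ?_ orb_LZ
  simp only [List.forall_mem_cons, List.not_mem_nil, false_imp_iff, implies_true, and_true]
  exact ⟨⟨_, h.B.lt 14 rfl, IsConj.refl _⟩, ⟨_, h.B.lt 13 rfl, h1⟩, _, h.B.lt 6 rfl,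
    (h1.trans (isConj_iff.2 ⟨_, h.fp⟩)).trans (isConj_iff.2 ⟨_, h.rq⟩)⟩

theorem memY : ∀ c ∈ LY, ∃ w, R c w ∧ IsConj (g 12) w := by
  refine h.B.orbB ⟨_, h.B.lt 12 rfl, IsConj.refl _⟩ ?_ orb_LY
  simp only [List.forall_mem_cons, List.not_mem_nil, false_imp_iff, implies_true, and_true]
  exact ⟨⟨_, h.B.lt 12 rfl, IsConj.refl _⟩, ⟨_, h.B.lt 10 rfl, (isConj_iff.2 ⟨_,
    h.B.eq (.mul (.mul (.gen 15) (.gen 12)) (.inv (.gen 15))) (.gen 11) (by decide +kernel)⟩).trans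
      (isConj_iff.2 ⟨_, h.tp.cr (b := 10) (by decide) (by decide)⟩)⟩, _,
    h.K.mul (h.B.lt 6 rfl) (h.B.lt 14 rfl), h.conj_az⟩

theorem exists_code {w : G} (hw : w ∈ centralizer {g 14}) (w2 : w * w = 1) (w1 : w ≠ 1) :
    ∃ c, R c w ∧ (c ∈ LZ ∨ c ∈ LY) := by
  obtain ⟨c, h1, h2⟩ := h.B.forall_C0 all_inv (h.cent ▸ hw)
  rw [(h.K.beq_iff (h.K.mul h1 h1) h.K.one).2 w2, Bool.eq_false_iff.2 fun e =>
    w1 (h.K.beq h1 h.K.one e)] at h2
  exact ⟨c, h1, by simpa [memB_iff] using h2⟩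

theorem conjZ {c : ℕ} {w : G} (hc : c ∈ LZ) (hw : R c w) : IsConj (g 14) w :=
  let ⟨_, h1, h2⟩ := h.memZ c hc; (h.K.eq_iff h1 hw).2 rfl ▸ h2

theorem conjY {c : ℕ} {w : G} (hc : c ∈ LY) (hw : R c w) : IsConj (g 12) w :=
  let ⟨_, h1, h2⟩ := h.memY c hc; (h.K.eq_iff h1 hw).2 rfl ▸ h2

theorem z2 : g 14 * g 14 = 1 := h.B.rc.z2

theorem y2 : g 12 * g 12 = 1 :=
  (h.B.eq (.mul (.gen 12) (.gen 12)) (.gen 0) (by decide +kernel)).trans h.one

theorem y1 : g 12 ≠ 1 := h.one ▸ h.B.ne (.gen 12) (.gen 0) (by decide +kernel)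

theorem codeZ (nc : ¬ IsConj (g 14) (g 12)) {w : G} (hw : w ∈ centralizer {g 14})
    (hc : IsConj (g 14) w) : ∃ c ∈ LZ, R c w := by
  obtain ⟨c, h1, h2⟩ := h.exists_code hw (sq_of_isConj hc h.z2) (ne_one_of_isConj hc h.tp.ne)
  exact ⟨c, h2.resolve_right fun e => nc (hc.trans (h.conjY e h1).symm), h1⟩

theorem codeY (nc : ¬ IsConj (g 14) (g 12)) {w : G} (hw : w ∈ centralizer {g 14})
    (hc : IsConj (g 12) w) : ∃ c ∈ LY, R c w := by
  obtain ⟨c, h1, h2⟩ := h.exists_code hw (sq_of_isConj hc h.y2) (ne_one_of_isConj hc h.y1)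
  exact ⟨c, h2.resolve_left fun e => nc ((h.conjZ e h1).trans hc.symm), h1⟩

theorem zpB {cz c : ℕ} {z x : G} (hz : R cz z) (z2 : z * z = 1) (z1 : z ≠ 1) (hx : R c x) :
    zpB cz c = true ↔ z ∈ zpowers x :=
  zpB_iff h.K hz z2 z1 hx (by
    simpa [h.card] using congrArg Subtype.val (pow_card_eq_one' (x := (⟨x, h.mem hx⟩ :
      centralizer {g 14}))))

theorem cm {a b : ℕ} (ha : okC a = true) (hb : okC b = true) (e : cmW (tc a) (tc b) = true) :
    g a ∈ centralizer {g b} := (cmW_iff h.K (h.B.lt a ha) (h.B.lt b hb)).1 e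

theorem cardP [Finite G] : Nat.card (centralizer {g 12} ⊓ centralizer {g 14} : Subgroup G) = 512 := by
  obtain ⟨L, hL⟩ : ∃ L, L = [g 6, g 7, g 8, g 10, g 11, g 12, g 13, g 14] := ⟨_, rfl⟩
  have pc : PC ([g 1, g 2, g 4] ++ L) := hL ▸ h.B.pcS
  have h1 : genL (g 1 :: L) ≤ centralizer {g 12} ⊓ centralizer {g 14} := by
    rw [closure_le, hL]
    intro x hx
    obtain ⟨l, hl, rfl⟩ := List.mem_map.1 (show x ∈ [1, 6, 7, 8, 10, 11, 12, 13, 14].map g from hx)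
    have := allL_iff.1 (show allL (fun l => band (okC l) (cmW (tc l) (tc 12)))
      [1, 6, 7, 8, 10, 11, 12, 13, 14] = true by decide +kernel) l hl
    exact ⟨h.cm (band_left this) rfl (band_right this), h.mem (h.B.lt l (band_left this))⟩
  have h2 : ∀ c ∈ centralizer {g 12} ⊓ centralizer {g 14}, c ∈ genL L ∨ (g 1)⁻¹ * c ∈ genL L := by
    intro c hc
    obtain ⟨j, hj, s, hs, rfl⟩ := h.B.mem_C0 (h.cent ▸ hc.2)
    have h0 := allR_zero_iff.1 all_cy j hj
    rw [frc_eq] at h0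
    obtain ⟨d, t, h3, h4, h5⟩ := allE_pre h.K (h.B.dens (L := [1, 2, 4]) rfl) pc
      (codes_pw h.K (h.B.lt 15 rfl) j) h0 s (hL ▸ hs)
    have h6 : t ∈ centralizer {g 12} := by
      simpa [mul_assoc] using Subgroup.mul_mem _ hc.1 (Subgroup.inv_mem _ (h1 (le_genL_cons _ _ h5)).1)
    rw [(cmW_iff h.K h3 (h.B.lt 12 rfl)).2 h6] at h4
    simp only [Bool.not_true, Bool.false_or, Bool.or_eq_true] at h4
    rcases h4 with h4 | h4
    · exact Or.inl (by simpa [h.K.beq h3 h.K.one h4] using h5)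
    · exact Or.inr (h.K.beq h3 (h.B.lt 1 rfl) h4 ▸ h5)
  cases pc with
  | cons sq conj nm t1 =>
  cases t1 with
  | cons _ _ _ t2 =>
  cases t2 with
  | cons _ _ _ t3 =>
  have nm' : g 1 ∉ genL L := fun e => nm (le_genL_cons _ _ (le_genL_cons _ _ e))
  have x2 : g 1 * g 1 = 1 := mul_eq_one_iff_eq_inv.2 (h.tp.sat.inv 1 (by norm_num))
  have hx := mem_genL (List.mem_cons_self (a := g 1) (l := L))
  have pc : PC (g 1 :: L) := PC.cons (x2 ▸ one_mem _) (fun k hk => (h2 _ (h1 (mul_mem (mul_mem hx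
    (le_genL_cons _ _ hk)) (inv_mem hx)))).resolve_right fun e => nm' (by
      simpa [mul_assoc] using mul_mem (inv_mem e) hk)) nm' t3
  have e : centralizer {g 12} ⊓ centralizer {g 14} = genL (g 1 :: L) := le_antisymm (fun c hc =>
    (h2 c hc).elim (fun e => le_genL_cons _ _ e) fun e => by
      simpa using mul_mem hx (le_genL_cons _ _ e)) h1
  rw [e, pc.card, hL]
  norm_num

theorem of [Finite G] : OF (g 14) (g 13) (g 12) (g 17) (g 1) where
  z2 := h.z2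
  y2 := h.y2
  r2 := h.tp.r2
  x2 := mul_eq_one_iff_eq_inv.2 (h.tp.sat.inv 1 (by norm_num))
  z1 := h.tp.ne
  y1 := h.y1
  pz := h.B.ne (.gen 13) (.gen 14) (by decide +kernel)
  zp := h.B.rc.zp
  zy := mc.1 (h.cm rfl rfl (by decide +kernel))
  rz := h.rz
  ry := mul_inv_eq_iff_eq_mul.1 (h.tp.cr (b := 12) (by decide) (by decide))
  xy := mc.1 (h.cm rfl rfl (by decide +kernel))
  xz := mc.1 (h.cm rfl rfl (by decide +kernel))
  xp := h.B.eq (.mul (.mul (.gen 1) (.gen 13)) (.inv (.gen 1))) (.mul (.gen 13) (.gen 14))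
    (by decide +kernel)
  rx := by simpa [pow_succ, mul_assoc] using h.tp.sat.rel [1, 17, 1, 17, 1, 17] (by decide)
  card := h.card
  odd := h.tp.odd
  cls c hc c2 c1 := let ⟨_, h1, h2⟩ := h.exists_code hc c2 c1
    h2.imp (h.conjZ · h1) (h.conjY · h1)
  cardP := h.cardP
  zP nc w hw hc hs := by
    obtain ⟨c, h1, h2⟩ := h.codeZ nc hw hc
    have h3 := allL_iff.1 all_zP c h1
    rw [allL_iff.2 fun l hl => ?_] at h3
    · exact h.K.beq h2 (h.B.lt 14 rfl) h3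
    have := allL_iff.1 (show allL (fun l => band (okC l) (cmW (tc l) (tc 12)))
      [1, 6, 7, 8, 10, 11, 12] = true by decide +kernel) l hl
    exact (cmW_iff h.K (h.B.lt l (band_left this)) h2).2 (mc.2 (hs _
      ⟨h.cm (band_left this) rfl (band_right this), h.mem (h.B.lt l (band_left this))⟩))
  zy' nc w hw hc hy := by
    obtain ⟨c, h1, h2⟩ := h.codeZ nc hw hc
    have h3 := allL_iff.1 all_zy c h1
    have hx : g 1 ∈ centralizer {g 12} := h.cm rfl rfl (by decide +kernel)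
    rw [(cmW_iff h.K h2 (h.B.lt 12 rfl)).2 hy] at h3
    simp only [Bool.not_true, Bool.false_or, Bool.and_eq_true, Bool.or_eq_true, memB_iff,
      cmW_iff h.K h2 (h.B.lt 13 rfl), Bool.not_eq_true', List.mem_map] at h3
    refine ⟨h3.1, ?_⟩
    rcases h3.2 with (((e | e) | e) | e) | ⟨W, hW, rfl⟩
    · exact Or.inl (h.K.beq h2 (h.B.lt 14 rfl) e)
    · exact Or.inr (Or.inl (h.K.beq h2 (h.B.lt 13 rfl) e))
    · exact Or.inr (Or.inr (Or.inl (h.K.beq h2 (h.K.mul (h.B.lt 13 rfl) (h.B.lt 14 rfl)) e)))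
    · refine Or.inr (Or.inr (Or.inr ⟨_, hx, fun e' => ?_⟩))
      rw [(cmW_iff h.K (h.B.cjc rfl h2) h2).2 e'] at e
      cases e
    · have h4 := allL_iff.1 all_W8 W hW
      simp only [Bool.and_eq_true, Bool.not_eq_true'] at h4
      obtain rfl := (h.K.eq_iff h2 (h.B.wv h4.1.1)).2 rfl
      have hr : g 17 ∈ centralizer {g 12} :=
        mc.2 (mul_inv_eq_iff_eq_mul.1 (h.tp.cr (b := 12) (by decide) (by decide)))
      refine Or.inr (Or.inr (Or.inr ⟨(g 17)⁻¹ * g 1 * g 17,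
        mul_mem (mul_mem (inv_mem hr) hx) hr, fun e' => ?_⟩))
      have h5 := h.tp.cr_wv (W := W) ((by decide : ∀ W ∈ W8, ∀ l ∈ W, l ∈ [4, 7, 10, 11, 12, 13, 14]) W hW)
      have h6 := (OF.conj_mem_iff h5).2 e'
      rw [show g 17 * ((g 17)⁻¹ * g 1 * g 17 * wv g W * ((g 17)⁻¹ * g 1 * g 17)⁻¹) * (g 17)⁻¹ =
        g 1 * (g 17 * wv g W * (g 17)⁻¹) * (g 1)⁻¹ by group, h5,
        ← cmW_iff h.K (h.B.cjc rfl (h.B.wv h4.1.2)) (h.B.wv h4.1.2), h4.2] at h6
      cases h6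
  n1 nc := by
    rw [← cnt_z]
    refine ncard_pairs h.K nodup_LZ nodup_LY (fun a ha => (h.memZ a ha).imp fun _ => And.left)
      (fun a ha => (h.memY a ha).imp fun _ => And.left)
      (fun w ⟨a, b, _, c⟩ => ⟨h.codeZ nc c.1 a, h.codeY nc c.2 b⟩) fun a ha b hb u v hu hv => ?_
    rw [h.zpB (h.B.lt 14 rfl) h.z2 h.tp.ne (h.K.mul hu hv)]
    exact ⟨fun e => e.2.2.1, fun e => ⟨h.conjZ ha hu, h.conjY hb hv, e, h.mem hu, h.mem hv⟩⟩
  n2 nc := by
    have key : ∀ {Φ : G → G → Prop} {ψ : ℕ → ℕ → Bool}, (∀ u v, Φ u v →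
        u ∈ centralizer {g 14} ∧ v ∈ centralizer {g 14}) → (∀ a b u v, R a u → R b v →
          (g 12 ∈ zpowers (u * v) ∧ Φ u v ↔ ψ a b = true)) → (Pairs (g 14) (g 12) (g 12) Φ).ncard =
        cntP ψ (LZ.filter (cmW (tc 12))) (LY.filter (cmW (tc 12))) := fun h1 h2 => by
      refine ncard_pairs h.K (nodup_LZ.filter _) (nodup_LY.filter _)
        (fun a ha => (h.memZ a (List.mem_of_mem_filter ha)).imp fun _ => And.left)
        (fun a ha => (h.memY a (List.mem_of_mem_filter ha)).imp fun _ => And.left)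
        (fun w ⟨a, b, c, d⟩ => ?_) fun a ha b hb u v hu hv => ?_
      · have e := mem_cent_of_mem_zpowers (sq_of_isConj a h.z2) (sq_of_isConj b h.y2) h.y2 c
        obtain ⟨a', a1, a2⟩ := h.codeZ nc (h1 _ _ d).1 a
        obtain ⟨b', b1, b2⟩ := h.codeY nc (h1 _ _ d).2 b
        exact ⟨⟨a', List.mem_filter.2 ⟨a1, (cmW_iff h.K (h.B.lt 12 rfl) a2).2 (mc.2 (mc.1 e.1).symm)⟩,
          a2⟩, b', List.mem_filter.2 ⟨b1, (cmW_iff h.K (h.B.lt 12 rfl) b2).2 (mc.2 (mc.1 e.2).symm)⟩, b2⟩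
      · rw [← h2 a b u v hu hv]
        exact ⟨fun e => e.2.2, fun e => ⟨h.conjZ (List.mem_of_mem_filter ha) hu,
          h.conjY (List.mem_of_mem_filter hb) hv, e⟩⟩
    rw [← cnt_y, key (fun _ _ e => e) fun a b u v hu hv => ?_,
      key (fun _ _ e => ⟨e.1, e.2.1⟩) fun a b u v hu hv => ?_]
    · rw [Bool.and_eq_true, h.zpB (h.B.lt 12 rfl) h.y2 h.y1 (h.K.mul hu hv), Bool.not_eq_true',
        ← Bool.not_eq_true, cmW_iff h.K hv (h.B.lt 13 rfl)]
      simp [h.mem hu, h.mem hv]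
    · rw [h.zpB (h.B.lt 12 rfl) h.y2 h.y1 (h.K.mul hu hv)]
      simp [h.mem hu, h.mem hv]

end TM

end Cfsg.Lib.Ngrp.Ti
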