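import Cfsg.Agent.Ngrp.MinSimpleRed
import Cfsg.Agent.Gate.MinSimple
import Cfsg.Agent.Known.SL2Prod
import Cfsg.Agent.Known.PSL2Basic
import Cfsg.Agent.Chev.SuzukiInst
import Cfsg.Agent.Chev.SuzukiFpf
import Cfsg.Agent.Cor.OddSol
import Cfsg.Agent.Char.Burnside

/-!
Triples of elements of pairwise coprime orders with product one in the minimal simple groups.
-/

set_option autoImplicit false

namespace Cfsg.Lib.Ngrp

open Subgroup Cfsg.Lib.Solv

universe u

variable {G : Type*} [Group G]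

theorem exists_prime_dvd_ne_ne [Finite G] (hG : ¬ Group.IsSolvable G) {r p : ℕ} (hr : r.Prime)
    (hp : p.Prime) : ∃ s : ℕ, s.Prime ∧ s ∣ Nat.card G ∧ s ≠ r ∧ s ≠ p := by
  by_contra h
  refine hG (Char.isSolvable_of_prime_dvd_card hr hp G fun s hs hsG => ?_)
  by_contra h1
  exact h ⟨s, hs, hsG, not_or.1 h1⟩

theorem isSolvable_closure_map_iff {G' : Type*} [Group G'] (f : G →* G')
    (hf : Group.IsSolvable f.ker) (a b : G) :
    Group.IsSolvable (closure ({f a, f b} : Set G')) ↔ Group.IsSolvable (closure ({a, b} : Set G)) := by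
  rw [← Set.image_pair, ← MonoidHom.map_closure]
  exact ⟨isSolvable_of_map f hf, isSolvable_map f⟩

theorem isSolvable_closure_section_iff {H : Subgroup G} {N : Subgroup H} [N.Normal]
    (hN : Group.IsSolvable N) (a b : H) :
    Group.IsSolvable (closure ({(a : G), (b : G)} : Set G)) ↔ Group.IsSolvable
      (closure ({QuotientGroup.mk' N a, QuotientGroup.mk' N b} : Set (H ⧸ N))) :=
  (isSolvable_closure_map_iff H.subtype (by rw [ker_subtype]; infer_instance) a b).trans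
    (isSolvable_closure_map_iff _ (by rwa [QuotientGroup.ker_mk']) a b).symm

/-- Elements `a`, `u` of distinct prime orders `r`, `p` whose product has order prime to `r p`,
such that `a` normalizes a `p`-subgroup containing a conjugate of `u`. -/
def BorelTriple (G : Type*) [Group G] : Prop :=
  ∃ (r p : ℕ) (a u : G), r.Prime ∧ p.Prime ∧ r ≠ p ∧ orderOf a = r ∧ orderOf u = p ∧
    (orderOf (a * u)).Coprime (r * p) ∧
    ∃ (Q : Subgroup G) (g : G), IsPGroup p Q ∧ g * u * g⁻¹ ∈ Q ∧ a ∈ normalizer (Q : Set G)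

/-- An element `x` of odd prime order `r` and an involution `y` whose product has order prime
to `2 r`. -/
def InvolTriple (G : Type*) [Group G] : Prop :=
  ∃ (r : ℕ) (x y : G), r.Prime ∧ r ≠ 2 ∧ orderOf x = r ∧ orderOf y = 2 ∧
    (orderOf (x * y)).Coprime (r * 2)

theorem BorelTriple.of_injective {G' : Type*} [Group G'] (f : G' →* G)
    (hf : Function.Injective f) (h : BorelTriple G') : BorelTriple G := by
  obtain ⟨r, p, a, u, hr, hp, hrp, ha, hu, h, Q, g, hQ, hg, haQ⟩ := h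
  refine ⟨r, p, f a, f u, hr, hp, hrp, by rwa [orderOf_injective f hf],
    by rwa [orderOf_injective f hf], by rwa [← map_mul, orderOf_injective f hf], Q.map f, f g,
    hQ.map f, ⟨_, hg, by simp⟩, le_normalizer_map f ⟨a, haQ, rfl⟩⟩

theorem InvolTriple.of_injective {G' : Type*} [Group G'] (f : G' →* G)
    (hf : Function.Injective f) (h : InvolTriple G') : InvolTriple G := by
  obtain ⟨r, x, y, hr, hr2, hx, hy, h⟩ := h
  exact ⟨r, f x, f y, hr, hr2, by rwa [orderOf_injective f hf], by rwa [orderOf_injective f hf],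
    by rwa [← map_mul, orderOf_injective f hf]⟩

theorem InvolTriple.hasCoprimeTriple (h : InvolTriple G) : HasCoprimeTriple G := by
  obtain ⟨r, x, y, hr, hr2, hx, hy, h⟩ := h
  refine ⟨x, y, (x * y)⁻¹, ?_, ?_, ?_, ?_, ?_, ?_, mul_inv_cancel _⟩
  · rintro rfl
    exact hr.one_lt.ne (orderOf_one.symm.trans hx)
  · rintro rfl
    simp at hy
  · rw [Ne, inv_eq_one, mul_eq_one_iff_eq_inv]
    rintro rfl
    exact hr2 (by rw [← hx, orderOf_inv, hy])
  · rw [hx, hy]
    exact (Nat.coprime_primes hr Nat.prime_two).2 hr2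
  · rw [hy, orderOf_inv]
    exact (Nat.Coprime.coprime_mul_left_right h).symm
  · rw [hx, orderOf_inv]
    exact (Nat.Coprime.coprime_mul_right_right h).symm

section PSL2

open Cfsg.Lib.Known.GL2

variable {F : Type*} [Field F] [Fintype F]

theorem orderOf_piSL_of_disc (p : ℕ) [Fact p.Prime] [CharP F p] {g : SL2 F}
    (hg : g ∉ (slLin F).Z) (h : disc ((slLin F).ρ g) = 0) : orderOf (piSL F g) = p := by
  obtain ⟨z, hz, b, hb, hc⟩ := exists_isConj_Z_mul_u (slLin F) hg h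
  rw [← orderOf_eq_of_isConj ((piSL F).map_isConj hc), orderOf_piSL_Z_mul_u p hz hb]

theorem orderOf_piSL_eq_of_trace {g h : SL2 F} (hg : g ∉ (slLin F).Z) (hh : h ∉ (slLin F).Z)
    (e : ((slLin F).ρ g).trace = ((slLin F).ρ h).trace) :
    orderOf (piSL F g) = orderOf (piSL F h) := by
  by_cases h4 : ((slLin F).ρ g).trace ^ 2 = 4
  · obtain ⟨p, hp⟩ := CharP.exists F
    have := Fact.mk (CharP.char_is_prime F p)
    rw [orderOf_piSL_of_disc p hg (by rw [disc_SL, h4, sub_self]),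
      orderOf_piSL_of_disc p hh (by rw [disc_SL, ← e, h4, sub_self])]
  · exact orderOf_eq_of_isConj ((piSL F).map_isConj (isConj_of_trace_SL h4 e))

/-- Macbeath's lemma in `PSL₂(q)` in terms of element orders. -/
theorem psl2_exists_mul (p : ℕ) [Fact p.Prime] [CharP F p] {g h k : PSL2 F} (hg : g ≠ 1)
    (hh : h ≠ 1) (hk : k ≠ 1) (hgp : orderOf g ≠ p) (hgh : orderOf g ≠ orderOf h)
    (hgk : orderOf g ≠ orderOf k) :
    ∃ x y : PSL2 F, g = x * y ∧ orderOf x = orderOf h ∧ orderOf y = orderOf k := by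
  obtain ⟨g, rfl⟩ := piSL_surjective g
  obtain ⟨h, rfl⟩ := piSL_surjective h
  obtain ⟨k, rfl⟩ := piSL_surjective k
  rw [Ne, piSL_eq_one_iff] at hg hh hk
  obtain ⟨x, y, hx, hy, rfl⟩ := exists_mul_of_disc (g := g)
    (fun h => hgp (orderOf_piSL_of_disc p hg h)) ((slLin F).ρ h).trace ((slLin F).ρ k).trace
  have hxZ : x ∉ (slLin F).Z := fun hZ => hgk (by
    rw [piSL_Z_mul hZ]
    exact orderOf_piSL_eq_of_trace (fun h => hg (mul_mem hZ h)) hk hy)
  have hyZ : y ∉ (slLin F).Z := fun hZ => hgh (by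
    rw [← (slLin F).Z_comm hZ, piSL_Z_mul hZ]
    exact orderOf_piSL_eq_of_trace hxZ hh hx)
  exact ⟨_, _, map_mul _ _ _, orderOf_piSL_eq_of_trace hxZ hh hx,
    orderOf_piSL_eq_of_trace hyZ hk hy⟩

theorem ne_one_of_orderOf_prime {x : G} {r : ℕ} (hr : r.Prime) (hx : orderOf x = r) : x ≠ 1 := by
  rintro rfl
  exact hr.one_lt.ne (orderOf_one.symm.trans hx)

/-- For three distinct primes dividing the order of `PSL₂(q)` there are two elements which,
together with their product, have these orders. -/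
theorem psl2_exists_triple {r s t : ℕ} (hr : r.Prime) (hs : s.Prime) (ht : t.Prime) (hrs : r ≠ s)
    (hst : s ≠ t) (hrt : r ≠ t) (hrG : r ∣ Nat.card (PSL2 F)) (hsG : s ∣ Nat.card (PSL2 F))
    (htG : t ∣ Nat.card (PSL2 F)) :
    ∃ a b : PSL2 F, orderOf a = r ∧ orderOf b = s ∧ orderOf (a * b) = t := by
  have := finite_PSL2 (F := F)
  obtain ⟨p, hp⟩ := CharP.exists F
  have := Fact.mk (CharP.char_is_prime F p)
  obtain ⟨a, ha⟩ := @exists_prime_orderOf_dvd_card' _ _ _ r ⟨hr⟩ hrG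
  obtain ⟨b, hb⟩ := @exists_prime_orderOf_dvd_card' _ _ _ s ⟨hs⟩ hsG
  obtain ⟨c, hc⟩ := @exists_prime_orderOf_dvd_card' _ _ _ t ⟨ht⟩ htG
  have a1 := ne_one_of_orderOf_prime hr ha
  have b1 := ne_one_of_orderOf_prime hs hb
  have c1 := ne_one_of_orderOf_prime ht hc
  by_cases htp : t = p
  · obtain ⟨x, y, rfl, hx, hy⟩ := psl2_exists_mul p a1 c1 b1 (by rwa [ha, ← htp]) (by rwa [ha, hc])
      (by rwa [ha, hb])
    exact ⟨x * y, y⁻¹, ha, by rw [orderOf_inv, hy, hb], by rw [mul_inv_cancel_right, hx, hc]⟩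
  · obtain ⟨x, y, rfl, hx, hy⟩ := psl2_exists_mul p c1 a1 b1 (by rwa [hc])
      (by rw [ha, hc]; exact hrt.symm) (by rw [hb, hc]; exact hst.symm)
    exact ⟨x, y, hx.trans ha, hy.trans hb, hc⟩

theorem coprime_mul_of_primes {r s t : ℕ} (hr : r.Prime) (hs : s.Prime) (ht : t.Prime)
    (htr : t ≠ r) (hts : t ≠ s) : t.Coprime (r * s) :=
  ((Nat.coprime_primes ht hr).2 htr).mul_right ((Nat.coprime_primes ht hs).2 hts)

theorem involTriple_psl2 (h : ¬ Group.IsSolvable (PSL2 F)) : InvolTriple (PSL2 F) := by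
  have := finite_PSL2 (F := F)
  obtain ⟨r, hr, hrG, hr2, -⟩ := exists_prime_dvd_ne_ne h Nat.prime_two Nat.prime_two
  obtain ⟨t, ht, htG, ht2, htr⟩ := exists_prime_dvd_ne_ne h Nat.prime_two hr
  obtain ⟨a, b, ha, hb, hab⟩ := psl2_exists_triple hr Nat.prime_two ht hr2 ht2.symm htr.symm hrG
    (Cor.even_card_of_not_isSolvable h) htG
  exact ⟨r, a, b, hr, hr2, ha, hb, hab ▸ coprime_mul_of_primes hr Nat.prime_two ht htr ht2⟩

theorem borelTriple_psl2 (h4 : 4 ≤ Fintype.card F) (h : ¬ Group.IsSolvable (PSL2 F)) :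
    BorelTriple (PSL2 F) := by
  have := finite_PSL2 (F := F)
  obtain ⟨p, hp⟩ := CharP.exists F
  have hp' := Fact.mk (CharP.char_is_prime F p)
  have h1 : (Fintype.card F - 1) / Nat.gcd 2 (Fintype.card F - 1) ≠ 1 := by
    intro e
    have h2 := Nat.div_mul_cancel (Nat.gcd_dvd_right 2 (Fintype.card F - 1))
    have h3 := Nat.gcd_le_left (Fintype.card F - 1) two_pos
    rw [e] at h2
    omega
  obtain ⟨r, hr, hrd⟩ := Nat.exists_prime_and_dvd h1
  have := isCyclic_T_SL (F := F)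
  obtain ⟨g, hgT, hg⟩ := exists_orderOf_piSL_of_dvd (slLin F).Z_le_T (m := r) (by rwa [card_T_SL])
  have hrp : r ≠ p := fun e => not_char_dvd_sub_one (F := F) p
    (e ▸ hrd.trans (Nat.div_dvd_of_dvd (Nat.gcd_dvd_right _ _)))
  obtain ⟨s, hs, hsG, hsr, hsp⟩ := exists_prime_dvd_ne_ne h hr hp'.out
  obtain ⟨k, hk⟩ := @exists_prime_orderOf_dvd_card' _ _ _ s ⟨hs⟩ hsG
  have hu := orderOf_piSL_Z_mul_u (F := F) p (one_mem _) one_ne_zero
  obtain ⟨y, x, e, hy, hx⟩ := psl2_exists_mul p (ne_one_of_orderOf_prime hr hg)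
    (ne_one_of_orderOf_prime hs hk) (ne_one_of_orderOf_prime hp'.out hu) (by rwa [hg])
    (by rw [hg, hk]; exact hsr.symm) (by rwa [hg, hu])
  obtain ⟨v, hv⟩ := piSL_surjective x⁻¹
  have hvp : orderOf (piSL F v) = p := by rw [hv, orderOf_inv, hx, hu]
  obtain ⟨z, hz, b, -, hc⟩ := (slLin F).exists_isConj_of_char_dvd p (g := v)
    (hvp ▸ orderOf_map_dvd _ _)
  obtain ⟨c, hc⟩ := isConj_iff.1 hc.symm
  refine ⟨r, p, piSL F g, piSL F v, hr, hp'.out, hrp, hg, hvp, ?_, (slLin F).U.map (piSL F),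
    piSL F c, ((slLin F).isPGroup_U p).map _, ⟨_, (slLin F).u_mem_U b, ?_⟩,
    le_normalizer_map _ ⟨g, ?_, rfl⟩⟩
  · rw [hv, e, mul_inv_cancel_right, hy, hk]
    exact coprime_mul_of_primes hr hp'.out hs hsr hsp
  · rw [← piSL_Z_mul hz, ← hc, map_mul, map_mul, map_inv]
  · rw [SetLike.mem_coe, (slLin F).normalizer_U]
    exact (slLin F).T_le_B hgT

end PSL2

section Suzuki

open Cfsg.Lib.Chev Finset

variable {F : Type*} [Field F] [Fintype F] {τ : Tw F} (M : SzModel τ G)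

theorem sz_exists_fpf_mul {l : Fˣ} (hl : l ≠ 1) : ∃ u : G, orderOf u = 2 ∧ M.Fpf (M.D l * u) := by
  classical
  have := M.finite
  have := Fintype.ofFinite G
  have := Fintype.ofFinite M.Pt
  by_contra hcon
  have hfix : ∀ u : G, orderOf u = 2 → ∃ p : M.Pt, (M.D l * u) • p = p := by
    intro u hu
    by_contra h
    exact hcon ⟨u, hu, fun p hp => h ⟨p, hp⟩⟩
  set I : Finset G := univ.filter fun u => orderOf u = 2 with hI
  have hmem : ∀ {u : G}, u ∈ I ↔ u ^ 2 = 1 ∧ u ≠ 1 := by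
    intro u
    rw [hI, mem_filter, orderOf_eq_prime_iff, and_iff_right (mem_univ _)]
  have h1 : ∑ u ∈ I, #(univ.filter fun p : M.Pt => u • p = p) ≤ ∑ u ∈ I, 1 := by
    refine sum_le_sum fun u hu => card_le_one.2 fun p hp p' hp' => ?_
    rw [mem_filter] at hp hp'
    exact M.eq_of_mem_Pat (hmem.1 hu).2
      (M.Zat_le_Pat _ (M.mem_Zat.2 ⟨hp'.2, (hmem.1 hu).1⟩)) hp.2
  have h2 : ∑ u ∈ I, 1 < ∑ u ∈ I, #(univ.filter fun p : M.Pt => (M.D l * u) • p = p) := by
    refine sum_lt_sum (fun u hu => ?_) ⟨M.T 0 1, hmem.2 ⟨M.T_zero_sq 1, M.T_zero_one_ne_one⟩, ?_⟩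
    · obtain ⟨p, hp⟩ := hfix u (mem_filter.1 hu).2
      exact card_pos.2 ⟨p, mem_filter.2 ⟨mem_univ _, hp⟩⟩
    · have hB : M.D l * M.T 0 1 ∈ M.B := mul_mem (M.H_le_B (M.D_mem_H l)) (M.P_le_B (M.T_mem_P 0 1))
      obtain ⟨x, y, -, -, -, h⟩ := M.exists_fix_of_not_mem_P hB fun h => by
        have h3 : M.D l ∈ M.P ⊓ M.H :=
          ⟨(mul_mem_cancel_right (M.T_mem_P 0 1)).1 h, M.D_mem_H l⟩
        rw [M.P_inf_H, mem_bot, M.D_eq_one] at h3
        exact hl h3
      exact one_lt_card.2 ⟨_, mem_filter.2 ⟨mem_univ _, h⟩, _,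
        mem_filter.2 ⟨mem_univ _, M.mem_B.1 hB⟩, M.pt_ne_inf x y⟩
  have h3 : ∀ p p' : M.Pt, #(I.filter fun u => u • p = p') ≤ #(I.filter fun u => u • p = p) := by
    intro p p'
    by_cases e : p = p'
    · rw [← e]
    have h4 : #(I.filter fun u => u • p = p) = Fintype.card F - 1 := by
      rw [← M.card_Zat p, Nat.card_eq_fintype_card, Fintype.card_subtype,
        ← card_erase_of_mem (a := (1 : G)) (by simp)]
      congr 1
      ext u
      simp only [mem_filter, hmem, mem_erase, mem_univ, true_and, M.mem_Zat]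
      tauto
    rcases (I.filter fun u => u • p = p').eq_empty_or_nonempty with h | ⟨t, ht⟩
    · simp [h]
    have hswap : ∀ u ∈ I.filter fun u => u • p = p', u • p = p' ∧ u • p' = p := by
      intro u hu
      rw [mem_filter] at hu
      refine ⟨hu.2, ?_⟩
      rw [← hu.2, smul_smul, ← sq, (hmem.1 hu.1).1, one_smul]
    rw [h4, ← M.card_Hat e, Nat.card_eq_fintype_card, Fintype.card_subtype]
    refine card_le_card_of_injOn (fun u => t * u) (fun u hu => ?_) (mul_right_injective t).injOn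
    simp only [coe_filter, mem_univ, true_and, Set.mem_ofPred_eq, M.mem_Hat, mul_smul]
    rw [(hswap u hu).1, (hswap u hu).2]
    exact ⟨(hswap t ht).2, (hswap t ht).1⟩
  have h5 : ∑ u ∈ I, #(univ.filter fun p : M.Pt => (M.D l * u) • p = p) ≤
      ∑ u ∈ I, #(univ.filter fun p : M.Pt => u • p = p) := by
    simp only [card_filter]
    rw [sum_comm, sum_comm (s := I)]
    refine sum_le_sum fun p _ => ?_
    have := h3 p ((M.D l)⁻¹ • p)
    simpa only [card_filter, eq_inv_smul_iff, smul_smul] using this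
  omega

theorem sz_exists_pair : ∃ (r : ℕ) (l : Fˣ) (u : G), r.Prime ∧ r ≠ 2 ∧ orderOf (M.D l) = r ∧
    orderOf u = 2 ∧ (orderOf (M.D l * u)).Coprime (r * 2) := by
  have h8 := M.eight_le_card
  obtain ⟨r, hr, hrd⟩ := Nat.exists_prime_and_dvd (n := Fintype.card F - 1) (by omega)
  obtain ⟨l, hl⟩ := @exists_prime_orderOf_dvd_card' Fˣ _ _ r ⟨hr⟩
    (by classical rwa [Nat.card_eq_fintype_card, Fintype.card_units])
  obtain ⟨u, hu, h⟩ := sz_exists_fpf_mul M (ne_one_of_orderOf_prime hr hl)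
  obtain ⟨m, -, hm⟩ := M.exists_card
  refine ⟨r, l, u, hr, ?_, by rw [orderOf_injective _ M.D_inj, hl], hu,
    ((SzModel.coprime_sq_add_one (τ := τ)).coprime_dvd_left h.orderOf_dvd).coprime_dvd_right ?_⟩
  · rintro rfl
    exact (Nat.not_even_iff_odd.2 (SzModel.odd_sub_one (τ := τ))) (even_iff_two_dvd.2 hrd)
  · rw [mul_comm]
    exact mul_dvd_mul (Dvd.dvd.pow (hm ▸ dvd_pow_self 2 (by omega)) two_ne_zero) hrd

include M

theorem involTriple_sz : InvolTriple G := by
  obtain ⟨r, l, u, h⟩ := sz_exists_pair M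
  exact ⟨r, _, u, h⟩

theorem borelTriple_sz : BorelTriple G := by
  obtain ⟨r, l, u, hr, hr2, hl, hu, h⟩ := sz_exists_pair M
  obtain ⟨p, hp⟩ := M.exists_mem_Zat_of_sq (g := u) (hu ▸ pow_orderOf_eq_one u)
  obtain ⟨g, rfl⟩ := M.exists_smul_inf p
  refine ⟨r, 2, _, u, hr, Nat.prime_two, hr2, hl, hu, h, M.P, g⁻¹, M.isPGroup_P, ?_, ?_⟩
  · rw [← M.Pat_inf, ← M.conj_mem_Pat_iff (k := g)]
    simpa [mul_assoc] using M.Zat_le_Pat _ hp
  · rw [M.normalizer_P]
    exact M.H_le_B (M.D_mem_H l)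

end Suzuki

section PSL33

open Matrix

/-- `SL₃(3)`. -/
abbrev SL33 := Matrix.SpecialLinearGroup (Fin 3) (ZMod 3)

theorem center_SL33 : center SL33 = ⊥ := by
  rw [eq_bot_iff]
  intro A hA
  obtain ⟨r, hr, h⟩ := Matrix.SpecialLinearGroup.mem_center_iff.1 hA
  have : r = 1 := (by decide : ∀ r : ZMod 3, r ^ 3 = 1 → r = 1) r (by rwa [Fintype.card_fin] at hr)
  rw [this, map_one] at h
  exact Subtype.ext h.symm

theorem mk_SL33_injective : Function.Injective (QuotientGroup.mk' (center SL33)) := by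
  rw [← MonoidHom.ker_eq_bot_iff, QuotientGroup.ker_mk', center_SL33]

/-- An involution of `SL₃(3)`. -/
def a33 : SL33 := ⟨!![2, 0, 0; 0, 1, 0; 0, 0, 2], by rw [det_fin_three]; decide⟩

/-- An element of order three of `SL₃(3)`. -/
def u33 : SL33 := ⟨!![1, 1, 1; 2, 1, 1; 2, 2, 1], by rw [det_fin_three]; decide⟩

/-- A conjugate of `u33` inverted by `a33`. -/
def v33 : SL33 := ⟨!![0, 1, 1; 1, 1, 2; 2, 1, 2], by rw [det_fin_three]; decide⟩

/-- The conjugating element. -/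
def g33 : SL33 := ⟨!![0, 0, 1; 0, 1, 1; 2, 1, 0], by rw [det_fin_three]; decide⟩

theorem orderOf_a33 : orderOf a33 = 2 :=
  orderOf_eq_prime (by rw [sq]; exact Subtype.ext (by decide)) fun h => absurd
    (congrArg Subtype.val h) (by decide)

theorem orderOf_u33 : orderOf u33 = 3 :=
  orderOf_eq_prime (by rw [pow_succ, sq]; exact Subtype.ext (by decide)) fun h => absurd
    (congrArg Subtype.val h) (by decide)

theorem orderOf_a33_mul_u33 : orderOf (a33 * u33) = 13 := by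
  have := Fact.mk (by norm_num : Nat.Prime 13)
  let c : SL33 := ⟨!![2, 2, 2; 2, 1, 1; 1, 1, 2], by rw [det_fin_three]; decide⟩
  let c2 : SL33 := ⟨!![1, 2, 1; 1, 0, 1; 0, 2, 1], by rw [det_fin_three]; decide⟩
  let c4 : SL33 := ⟨!![0, 1, 1; 1, 1, 2; 2, 2, 0], by rw [det_fin_three]; decide⟩
  let c8 : SL33 := ⟨!![0, 0, 2; 2, 0, 0; 2, 1, 0], by rw [det_fin_three]; decide⟩
  have h1 : a33 * u33 = c := Subtype.ext (by decide)
  have h2 : c * c = c2 := Subtype.ext (by decide)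
  have h4 : c2 * c2 = c4 := Subtype.ext (by decide)
  have h8 : c4 * c4 = c8 := Subtype.ext (by decide)
  have h13 : c8 * c4 * c = 1 := Subtype.ext (by decide)
  rw [h1]
  refine orderOf_eq_prime ?_ fun h => absurd (congrArg Subtype.val h) (by decide)
  rw [← h13, ← h8, ← h4, ← h2]
  simp only [pow_succ, pow_zero, one_mul, mul_assoc]

theorem involTriple_SL33 : InvolTriple SL33 := by
  refine ⟨3, u33, a33, Nat.prime_three, by norm_num, orderOf_u33, orderOf_a33, ?_⟩
  rw [Known.GL2.orderOf_eq_of_isConj (isConj_iff.2 ⟨a33, by group⟩ : IsConj (u33 * a33) (a33 * u33)),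
    orderOf_a33_mul_u33]
  norm_num

theorem borelTriple_SL33 : BorelTriple SL33 := by
  have h1 : g33 * u33 = v33 * g33 := Subtype.ext (by decide)
  have h2 : g33 * u33 * g33⁻¹ = v33 := by rw [h1, mul_inv_cancel_right]
  have h3 : a33 * v33 = v33 * v33 * a33 := Subtype.ext (by decide)
  refine ⟨2, 3, a33, u33, Nat.prime_two, Nat.prime_three, by norm_num, orderOf_a33, orderOf_u33,
    by rw [orderOf_a33_mul_u33]; norm_num, zpowers v33, g33, IsPGroup.of_card (n := 1) ?_,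
    h2 ▸ mem_zpowers _, ?_⟩
  · rw [Nat.card_zpowers, ← h2, pow_one]
    exact ((MulAut.conj g33).orderOf_eq u33).trans orderOf_u33
  · refine mem_normalizer_fintype ?_
    rintro _ ⟨n, rfl⟩
    rw [← conj_zpow, h3, mul_inv_cancel_right]
    exact zpow_mem (mul_mem (mem_zpowers _) (mem_zpowers _)) n

end PSL33

section Gate

variable {G : Type u} [Group G] [Finite G] [Agent.Gate.MinSimple.{u}]

/-- The minimal simple groups, in three families. -/
theorem minimalSimple_cases (h : IsMinimalSimple G) :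
    (∃ (F : Type) (_ : Field F) (_ : Fintype F), 4 ≤ Fintype.card F ∧
      Nonempty (G ≃* Known.GL2.PSL2 F)) ∨ Nonempty (G ≃* SL33) ∨
    ∃ (F : Type) (_ : Field F) (_ : Fintype F) (τ : Chev.Tw F), Nonempty (Chev.SzModel τ G) := by
  rcases Agent.Gate.MinSimple.out h with ⟨p, hp, F, _, _, hF, e⟩ | ⟨p, hp, -, F, _, _, hF, e⟩ |
    ⟨p, hp, h5, F, _, _, hF, e⟩ | ⟨⟨e⟩⟩ | ⟨F, _, _, m, hm, -, hF, ⟨e⟩⟩
  · exact .inl ⟨F, _, _, hF ▸ Nat.pow_le_pow_right two_pos hp.two_le, e⟩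
  · exact .inl ⟨F, _, _, hF ▸ le_trans (by norm_num) (Nat.pow_le_pow_right three_pos hp.two_le), e⟩
  · exact .inl ⟨F, _, _, by omega, e⟩
  · exact .inr (.inl ⟨e.trans (MulEquiv.ofBijective (QuotientGroup.mk' (center SL33))
      ⟨mk_SL33_injective, QuotientGroup.mk'_surjective _⟩).symm⟩)
  · exact .inr (.inr ⟨F, _, inferInstance, _, ⟨(Chev.lieSzModel hm hF).ofEquiv e⟩⟩)

omit [Finite G] [Agent.Gate.MinSimple.{u}] in
theorem not_isSolvable_of_equiv {G' : Type*} [Group G'] (e : G ≃* G') (h : IsMinimalSimple G) :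
    ¬ Group.IsSolvable G' := fun _ => not_isSolvable_of_isMinimalSimple h
  (Group.isSolvable_of_isSolvable_injective (f := e.toMonoidHom) e.injective)

theorem involTriple_of_isMinimalSimple (h : IsMinimalSimple G) : InvolTriple G := by
  rcases minimalSimple_cases h with ⟨F, _, _, -, ⟨e⟩⟩ | ⟨⟨e⟩⟩ | ⟨F, _, _, τ, ⟨M⟩⟩
  · exact (involTriple_psl2 (not_isSolvable_of_equiv e h)).of_injective e.symm.toMonoidHom
      e.symm.injective
  · exact involTriple_SL33.of_injective e.symm.toMonoidHom e.symm.injective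
  · exact involTriple_sz M

theorem borelTriple_of_isMinimalSimple (h : IsMinimalSimple G) : BorelTriple G := by
  rcases minimalSimple_cases h with ⟨F, _, _, h4, ⟨e⟩⟩ | ⟨⟨e⟩⟩ | ⟨F, _, _, τ, ⟨M⟩⟩
  · exact (borelTriple_psl2 h4 (not_isSolvable_of_equiv e h)).of_injective e.symm.toMonoidHom
      e.symm.injective
  · exact borelTriple_SL33.of_injective e.symm.toMonoidHom e.symm.injective
  · exact borelTriple_sz M

end Gate

end Cfsg.Lib.Ngrp
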