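import Cfsg.Agent.Ngrp.GU23
import Cfsg.Agent.Class.SmallFields
import Cfsg.Agent.Perm.UnitMat
import Cfsg.Agent.Class.HermSimple

/-!
# Identification of `U₃(3)` from its 2-local amalgam and its order
-/

set_option autoImplicit false

namespace Cfsg.Lib.Ngrp.U33

open Cfsg Cfsg.Lib.Known Cfsg.Lib.Known.GTab Cfsg.Lib.Spor.Bulk Cfsg.Lib.Class Subgroup

/-- The relations of the amalgam. -/
structure RelG {H : Type*} [Group H] (x y t a g : H) : Prop extends RelK x y t a where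
  g3 : g * g * g = 1
  tg : t * g * t * g = 1
  gx : g * x * g⁻¹ = y
  gy : g * y * g⁻¹ = x⁻¹ * y⁻¹

/-- Values of the letters. -/
def gens5 {H : Type*} [Group H] (x y t a g : H) (l : ℕ) : H :=
  List.getD [1, x, x⁻¹, y, y⁻¹, t, a, a⁻¹, g, g⁻¹] l 1

variable {H : Type*} [Group H] {x y t a g : H}

theorem RelG.sat (h : RelG x y t a g) : Sat (gens5 x y t a g) 10 iota relG := by
  have ht : t = t⁻¹ := (inv_eq_of_mul_eq_one_right h.tt).symm
  refine Sat.append ⟨rfl, fun l hl => ?_, h.toRelK.rels rfl rfl rfl rfl rfl rfl rfl⟩ fun r hr => ?_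
  · interval_cases l
    exacts [inv_one.symm, rfl, (inv_inv _).symm, rfl, (inv_inv _).symm, ht, rfl, (inv_inv _).symm,
      rfl, (inv_inv _).symm]
  · simp only [List.mem_cons, List.not_mem_nil, or_false] at hr
    rcases hr with rfl | rfl | rfl | rfl
    · exact (by simpa using h.g3 : 1 * g * g * g = 1)
    · exact (by simpa using h.tg : 1 * t * g * t * g = 1)
    · exact (by rw [one_mul, h.gx, mul_inv_cancel] : 1 * g * x * g⁻¹ * y⁻¹ = 1)
    · exact (by rw [one_mul, h.gy]; group : 1 * g * y * g⁻¹ * y * x = 1)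

/-- The element conjugating the central involution to an opposite one. -/
def oppH (a g : H) : H := g * a⁻¹ * g⁻¹ * a * g

/-- The opposite involution. -/
def oppZ (x y a g : H) : H := oppH a g * (x * x * y * y) * (oppH a g)⁻¹

theorem wv_opp : wv (gens5 x y t a g) opp = oppZ x y a g := by
  change 1 * g * a⁻¹ * g⁻¹ * a * g * x * x * y * y * g⁻¹ * a⁻¹ * g * a * g⁻¹ = _
  unfold oppZ oppH
  group

/-- The commutator of a word with the opposite involution. -/
noncomputable def com (u : List ℕ) : List ℕ :=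
  opp.reverse.map iota ++ (u.reverse.map iota ++ (opp ++ u))

theorem RelG.sat_com (h : RelG x y t a g) {u : List ℕ} (hu : ∀ l ∈ u, l < 10)
    (hc : Commute (wv (gens5 x y t a g) u) (oppZ x y a g)) :
    Sat (gens5 x y t a g) 10 iota (relG ++ [com u]) := by
  refine h.sat.append fun r hr => ?_
  rw [List.mem_singleton.1 hr, com, wv_append, wv_append, wv_append,
    wv_reverse_map_inv (g := gens5 x y t a g) (ι := iota) fun l hl => h.sat.inv l (hu l hl),
    wv_reverse_map_inv (g := gens5 x y t a g) (ι := iota) (L := opp) fun l hl =>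
      h.sat.inv l ((by decide : ∀ l ∈ opp, l < 10) l hl), wv_opp, hc.eq]
  group

/-- Words for the involutions and three subgroups of order three. -/
def bad : List (List ℕ) := [[5], [1, 1], [3, 3], [5, 4, 1], [5, 3, 2], [3, 3, 1, 1], [6, 3, 6, 1],
  [2, 6, 1], [7, 4, 1], [4, 7, 1]]

theorem RelG.mem_of_bad (h : RelG x y t a g) {C : Subgroup H} (hx : x ∈ C) (hy : y ∈ C)
    (ht : t ∈ C) (ha : a ∈ C) {u : List ℕ} (hu : u ∈ bad)
    (hc : Commute (wv (gens5 x y t a g) u) (oppZ x y a g)) : g ∈ C := by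
  have hL : ∀ l ∈ [1, 2, 3, 4, 5, 6, 7], gens5 x y t a g l ∈ C := by
    intro l hl
    simp only [List.mem_cons, List.not_mem_nil, or_false] at hl
    rcases hl with rfl | rfl | rfl | rfl | rfl | rfl | rfl
    exacts [hx, inv_mem hx, hy, inv_mem hy, ht, ha, inv_mem ha]
  have h1 := h.sat_com ((by decide : ∀ u ∈ bad, ∀ l ∈ u, l < 10) u hu) hc
  have h2 : wv (gens5 x y t a g) [8] = g := one_mul g
  rw [← h2]
  simp only [bad, List.mem_cons, List.not_mem_nil, or_false] at hu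
  rcases hu with rfl | rfl | rfl | rfl | rfl | rfl | rfl | rfl | rfl | rfl
  · exact tc0 h1 (List.forall_mem_nil _) hL _ List.mem_cons_self
  · exact tc1 h1 (List.forall_mem_nil _) hL _ List.mem_cons_self
  · exact tc2 h1 (List.forall_mem_nil _) hL _ List.mem_cons_self
  · exact tc3 h1 (List.forall_mem_nil _) hL _ List.mem_cons_self
  · exact tc4 h1 (List.forall_mem_nil _) hL _ List.mem_cons_self
  · exact tc5 h1 (List.forall_mem_nil _) hL _ List.mem_cons_self
  · exact tc6 h1 (List.forall_mem_nil _) hL _ List.mem_cons_self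
  · exact tc8 h1 (List.forall_mem_nil _) hL _ List.mem_cons_self
  · exact tc9 h1 (List.forall_mem_nil _) hL _ List.mem_cons_self
  · exact tc10 h1 (List.forall_mem_nil _) hL _ List.mem_cons_self

theorem RelG.card_le (h : RelG x y t a g) (hc : Commute a (oppZ x y a g)) :
    Finite (closure ({x, y, t, a, g} : Set H)) ∧
      Nat.card (closure ({x, y, t, a, g} : Set H)) ≤ 6048 := by
  have h1 := h.sat_com (u := [6]) (by decide) (by
    rwa [show wv (gens5 x y t a g) [6] = a from one_mul a])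
  have h2 := (tc7 (H := closure ({x, y, t, a} : Set H)) h1 (List.forall_mem_nil _) (by
    intro l hl
    simp only [tc7_HL, List.mem_cons, List.not_mem_nil, or_false] at hl
    have hx : x ∈ closure ({x, y, t, a} : Set H) := subset_closure (by simp)
    have hy : y ∈ closure ({x, y, t, a} : Set H) := subset_closure (by simp)
    have ha : a ∈ closure ({x, y, t, a} : Set H) := subset_closure (by simp)
    rcases hl with rfl | rfl | rfl | rfl | rfl | rfl | rfl
    exacts [hx, inv_mem hx, hy, inv_mem hy, subset_closure (by simp [gens5]), ha,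
      inv_mem ha])).card_le h.toRelK.card_le
  have h3 : closure ({x, y, t, a, g} : Set H) ≤
      closure {w | ∃ l ∈ ([1, 2, 3, 4, 5, 6, 7, 8, 9] : List ℕ), gens5 x y t a g l = w} := by
    refine closure_mono ?_
    rintro _ (rfl | rfl | rfl | rfl | rfl)
    exacts [⟨1, by simp, rfl⟩, ⟨3, by simp, rfl⟩, ⟨5, by simp, rfl⟩, ⟨6, by simp, rfl⟩,
      ⟨8, by simp, rfl⟩]
  have := h2.1
  exact ⟨Finite.of_injective _ (inclusion_injective h3), (card_le_of_le h3).trans h2.2⟩

/-! ### The matrices -/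

/-- A special unitary matrix. -/
def su (M : Matrix (Fin 3) (Fin 3) GF9)
    (h1 : M.det = 1 := by rw [Matrix.det_fin_three]; decide +kernel)
    (h2 : M.transpose * M.map (starRingEnd GF9) = 1 := by decide +kernel) : SU 3 GF9 3 :=
  ⟨⟨M, h1⟩, (Cfsg.Lib.Perm.mem_SU_iff_mul _ (by decide +kernel) _).2 h2⟩

theorem su_ext {A B : SU 3 GF9 3} (h : (A.1 : Matrix (Fin 3) (Fin 3) GF9) = B.1) : A = B :=
  Subtype.ext (Subtype.ext h)

/-- The matrix `x`. -/
def mx : SU 3 GF9 3 := su !![⟨0, 2⟩, 0, 0; 0, 2, 0; 0, 0, ⟨0, 2⟩]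
/-- The inverse of `x`. -/
def mX : SU 3 GF9 3 := su !![⟨0, 1⟩, 0, 0; 0, 2, 0; 0, 0, ⟨0, 1⟩]
/-- The matrix `y`. -/
def my : SU 3 GF9 3 := su !![2, 0, 0; 0, ⟨0, 2⟩, 0; 0, 0, ⟨0, 2⟩]
/-- The inverse of `y`. -/
def mY : SU 3 GF9 3 := su !![2, 0, 0; 0, ⟨0, 1⟩, 0; 0, 0, ⟨0, 1⟩]
/-- The matrix `t`. -/
def mt : SU 3 GF9 3 := su !![0, 1, 0; 1, 0, 0; 0, 0, 2]
/-- The matrix `a`. -/
def ma : SU 3 GF9 3 := su !![⟨1, 1⟩, ⟨1, 1⟩, 0; ⟨2, 1⟩, ⟨1, 2⟩, 0; 0, 0, 1]
/-- The inverse of `a`. -/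
def mA : SU 3 GF9 3 := su !![⟨1, 2⟩, ⟨2, 2⟩, 0; ⟨1, 2⟩, ⟨1, 1⟩, 0; 0, 0, 1]
/-- The matrix `g`. -/
def mg : SU 3 GF9 3 := su !![0, 2, 0; 0, 0, 1; 2, 0, 0]
/-- The inverse of `g`. -/
def mG : SU 3 GF9 3 := su !![0, 0, 2; 2, 0, 0; 0, 1, 0]
/-- The matrix `oppH a g`. -/
def mh : SU 3 GF9 3 :=
  su !![⟨2, 1⟩, ⟨0, 1⟩, ⟨0, 2⟩; 0, ⟨1, 2⟩, ⟨1, 2⟩; ⟨2, 1⟩, ⟨0, 2⟩, ⟨0, 1⟩]
/-- The inverse of `oppH a g`. -/
def mH : SU 3 GF9 3 :=
  su !![⟨2, 2⟩, 0, ⟨2, 2⟩; ⟨0, 2⟩, ⟨1, 1⟩, ⟨0, 1⟩; ⟨0, 1⟩, ⟨1, 1⟩, ⟨0, 2⟩]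
/-- The central involution. -/
def mz : SU 3 GF9 3 := su !![2, 0, 0; 0, 2, 0; 0, 0, 1]

theorem inv_mx : mx⁻¹ = mX := inv_eq_of_mul_eq_one_right (su_ext (by decide +kernel))
theorem inv_my : my⁻¹ = mY := inv_eq_of_mul_eq_one_right (su_ext (by decide +kernel))
theorem inv_ma : ma⁻¹ = mA := inv_eq_of_mul_eq_one_right (su_ext (by decide +kernel))
theorem inv_mg : mg⁻¹ = mG := inv_eq_of_mul_eq_one_right (su_ext (by decide +kernel))

theorem relG_SU : RelG mx my mt ma mg := by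
  refine ⟨⟨?_, ?_, ?_, ?_, ?_, ?_, ?_, ?_, ?_, ?_⟩, ?_, ?_, ?_, ?_⟩ <;>
    (try simp only [inv_mx, inv_my, inv_ma, inv_mg]) <;> exact su_ext (by decide +kernel)

theorem commute_SU : Commute ma (oppZ mx my ma mg) := by
  have h1 : oppH ma mg = mh := by
    rw [oppH, inv_ma, inv_mg]; exact su_ext (by decide +kernel)
  have h2 : mx * mx * my * my = mz := su_ext (by decide +kernel)
  have h3 : mh⁻¹ = mH := inv_eq_of_mul_eq_one_right (su_ext (by decide +kernel))
  rw [oppZ, h1, h2, h3]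
  exact su_ext (by decide +kernel)

theorem card_PSU33 : Nat.card (PSU 3 GF9 3) = 6048 := by
  have h := Form.card_PSU (F := GF9) (q := 3) card_GF9 3 (by norm_num)
  have h2 : Form.guOrder 3 3 = 24192 := by decide
  rw [h2] at h
  norm_num at h
  omega

theorem mx_not_mem_center : mx ∉ center (SU 3 GF9 3) := fun h => by
  have h1 : (((mt * mx).1 : Matrix (Fin 3) (Fin 3) GF9)) = (mx * mt).1 := by
    rw [mem_center_iff.1 h mt]
  revert h1
  decide +kernel

theorem RelG.map {H' : Type*} [Group H'] (h : RelG x y t a g) (f : H →* H') :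
    RelG (f x) (f y) (f t) (f a) (f g) := by
  obtain ⟨h0, h1, h2, h3, h4⟩ := h
  refine ⟨h0.map f, ?_, ?_, ?_, ?_⟩ <;> simp only [← map_mul, ← map_inv]
  exacts [by rw [h1, map_one], by rw [h2, map_one], by rw [h3], by rw [h4]]

theorem map_oppZ {H' : Type*} [Group H'] (f : H →* H') :
    f (oppZ x y a g) = oppZ (f x) (f y) (f a) (f g) := by
  simp only [oppZ, oppH, map_mul, map_inv]

theorem RelG.prod {H' : Type*} [Group H'] {x' y' t' a' g' : H'} (h : RelG x y t a g)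
    (h' : RelG x' y' t' a' g') : RelG (x, x') (y, y') (t, t') (a, a') (g, g') := by
  obtain ⟨⟨a1, a2, a3, a4, a5, a6, a7, a8, a9, a10⟩, a11, a12, a13, a14⟩ := h
  obtain ⟨⟨b1, b2, b3, b4, b5, b6, b7, b8, b9, b10⟩, b11, b12, b13, b14⟩ := h'
  exact ⟨⟨Prod.ext a1 b1, Prod.ext a2 b2, Prod.ext a3 b3, Prod.ext a4 b4, Prod.ext a5 b5,
    Prod.ext a6 b6, Prod.ext a7 b7, Prod.ext a8 b8, Prod.ext a9 b9, Prod.ext a10 b10⟩,
    Prod.ext a11 b11, Prod.ext a12 b12, Prod.ext a13 b13, Prod.ext a14 b14⟩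

theorem prime_words : ∀ k : K96, (k * k = 1 ∧ k ≠ 1 → ∃ u ∈ bad, wv (gens4 kx ky kt ka) u = k) ∧
    (k * k * k = 1 ∧ k ≠ 1 → k = ka ∨ k⁻¹ = ka ∨
      ∃ u ∈ bad, wv (gens4 kx ky kt ka) u = k ∨ wv (gens4 kx ky kt ka) u = k⁻¹) := by
  decide +kernel

theorem centralizer_conj_eq_map (h z : H) : centralizer ({h * z * h⁻¹} : Set H) =
    (centralizer ({z} : Set H)).map (MulAut.conj h).toMonoidHom := by
  ext c
  rw [mem_map_equiv, mem_centralizer_singleton_iff, mem_centralizer_singleton_iff,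
    MulAut.conj_symm_apply]
  constructor <;> intro h1
  · calc _ = h⁻¹ * (c * (h * z * h⁻¹)) * h := by group
      _ = _ := by rw [h1]; group
  · calc _ = h * (h⁻¹ * c * h * z) * h⁻¹ := by group
      _ = _ := by rw [h1]; group

theorem index_centralizer_conj (h z : H) : (centralizer ({h * z * h⁻¹} : Set H)).index =
    (centralizer ({z} : Set H)).index := by
  rw [centralizer_conj_eq_map]
  exact index_map_equiv _ (MulAut.conj h)

/-- A simple group generated around the amalgam, with `63` conjugates of `z`, is `U₃(3)`. -/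
theorem nonempty_equiv_psu {G : Type*} [Group G] [Finite G] [IsSimpleGroup G] {g : G}
    (θ : K96 →* G) (hθ : Function.Injective θ) (h : RelG (θ kx) (θ ky) (θ kt) (θ ka) g)
    (hC : centralizer ({θ kz} : Set G) = θ.range)
    (hi : (centralizer ({θ kz} : Set G)).index = 63) : Nonempty (G ≃* PSU 3 GF9 3) := by
  have hz : θ kx * θ kx * θ ky * θ ky = θ kz := by
    simp only [← map_mul]; congr 1
  have hg : g ∉ θ.range := by
    rw [← hC, mem_centralizer_singleton_iff]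
    intro h1
    have h2 : g * θ kz * g⁻¹ = θ (ky * ky * (kx⁻¹ * ky⁻¹) * (kx⁻¹ * ky⁻¹)) := by
      simp only [map_mul, map_inv]
      rw [← h.gy]
      nth_rw 1 2 [← h.gx]
      rw [← hz]
      group
    rw [h1, mul_inv_cancel_right] at h2
    exact absurd (hθ h2) (by decide +kernel)
  set w := oppZ (θ kx) (θ ky) (θ ka) g with hw
  let St : Subgroup K96 := (centralizer ({w} : Set G)).comap θ
  have hbad : ∀ u ∈ bad, wv (gens4 kx ky kt ka) u ∉ St := fun u hu h1 => by
    refine hg (h.mem_of_bad ⟨_, rfl⟩ ⟨_, rfl⟩ ⟨_, rfl⟩ ⟨_, rfl⟩ hu ?_)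
    have h2 : θ (wv (gens4 kx ky kt ka) u) = wv (gens5 (θ kx) (θ ky) (θ kt) (θ ka) g) u := by
      rw [map_wv]
      refine wv_congr fun l hl => ?_
      have h3 : l < 8 := (by decide : ∀ u ∈ bad, ∀ l ∈ u, l < 8) u hu l hl
      interval_cases l
      exacts [map_one θ, rfl, map_inv θ _, rfl, map_inv θ _, rfl, rfl, map_inv θ _]
    rw [← h2]
    exact mem_centralizer_singleton_iff.1 h1
  have hodd : ¬ 2 ∣ Nat.card St := fun h1 => by
    obtain ⟨k, hk⟩ := exists_prime_orderOf_dvd_card' 2 h1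
    rw [← orderOf_coe] at hk
    obtain ⟨u, hu, h2⟩ := (prime_words k).1 ⟨by rw [← pow_two, ← hk, pow_orderOf_eq_one], by
      intro h2; rw [h2, orderOf_one] at hk; omega⟩
    exact hbad u hu (h2 ▸ k.2)
  have hSt : Nat.card St * St.index = 96 := by rw [card_mul_index, card_K96]
  have hSt3 : Nat.card St ∣ 3 := by
    have h1 : Nat.card St ∣ 2 ^ 5 * 3 := ⟨_, hSt.symm⟩
    exact Nat.Coprime.dvd_of_dvd_mul_left
      (((Nat.Prime.coprime_iff_not_dvd Nat.prime_two).2 hodd).symm.pow_right 5) h1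
  let G0 : Subgroup G := closure {θ kx, θ ky, θ kt, θ ka, g}
  have hC0 : θ.range ≤ G0 := by
    rw [MonoidHom.range_eq_map, ← closure_gens, MonoidHom.map_closure]
    refine closure_mono ?_
    rintro _ ⟨_, rfl | rfl | rfl | rfl, rfl⟩ <;> simp
  have hh : oppH (θ ka) g ∈ G0 := by
    have h1 : g ∈ G0 := subset_closure (by simp)
    have h2 : θ ka ∈ G0 := subset_closure (by simp)
    exact mul_mem (mul_mem (mul_mem (mul_mem h1 (inv_mem h2)) (inv_mem h1)) h2) h1
  have hw1 : centralizer ({w} : Set G) =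
      (centralizer ({θ kz} : Set G)).map (MulAut.conj (oppH (θ ka) g)).toMonoidHom := by
    rw [hw, oppZ, hz, centralizer_conj_eq_map]
  have hw2 : (centralizer ({w} : Set G)).index = 63 := by
    rw [hw, oppZ, hz, index_centralizer_conj, hi]
  have hw3 : centralizer ({w} : Set G) ≤ G0 := by
    rw [hw1, hC]
    rintro _ ⟨c, hc, rfl⟩
    exact mul_mem (mul_mem hh (hC0 hc)) (inv_mem hh)
  have h4 := relIndex_mul_index hw3
  rw [hw2] at h4
  have h5 : St.index ≤ (centralizer ({w} : Set G)).relIndex G0 := by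
    rw [index_comap]
    exact relIndex_le_of_le_right hC0 fun h0 => by simp [h0] at h4
  have h6 : Nat.card St = 3 ∧ G0 = ⊤ := by
    have h7 := Nat.le_of_dvd (by norm_num) (Dvd.intro _ h4)
    rw [← index_eq_one]
    rcases (Nat.dvd_prime Nat.prime_three).1 hSt3 with h8 | h8 <;> rw [h8] at hSt
    · omega
    · refine ⟨h8, ?_⟩
      by_contra h9
      have h10 : 2 ≤ G0.index := by
        have := index_ne_zero_of_finite (H := G0)
        omega
      nlinarith
  obtain ⟨k, hk⟩ := exists_prime_orderOf_dvd_card' (G := St) 3 (hp := ⟨Nat.prime_three⟩) h6.1.symm.dvd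
  rw [← orderOf_coe] at hk
  have ha : ka ∈ St := by
    rcases (prime_words k).2 ⟨by rw [← pow_three', ← hk, pow_orderOf_eq_one], by
      intro h2; rw [h2, orderOf_one] at hk; omega⟩ with h1 | h1 | ⟨u, hu, h1 | h1⟩
    · exact h1 ▸ k.2
    · exact h1 ▸ inv_mem k.2
    · exact absurd (h1 ▸ k.2) (hbad u hu)
    · exact absurd (h1 ▸ inv_mem k.2) (hbad u hu)
  let π := QuotientGroup.mk' (center (SU 3 GF9 3))
  have hp := h.prod (relG_SU.map π)
  obtain ⟨h7, h8⟩ := hp.card_le (Prod.ext (mem_centralizer_singleton_iff.1 ha) (by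
    have := commute_SU.map π
    rw [map_oppZ] at this
    exact this))
  have hG : Nat.card G = 6048 := by
    rw [← θ.range.card_mul_index, ← hC, hi, hC, ← Nat.card_congr (θ.ofInjective hθ).toEquiv,
      card_K96]
  obtain ⟨f, hf⟩ := exists_hom_of_card_le _ (by
    rw [MonoidHom.map_closure, eq_top_iff, ← h6.2]
    refine closure_mono ?_
    rintro _ (rfl | rfl | rfl | rfl | rfl)
    exacts [⟨(θ kx, π mx), by simp, rfl⟩, ⟨(θ ky, π my), by simp, rfl⟩,
      ⟨(θ kt, π mt), by simp, rfl⟩, ⟨(θ ka, π ma), by simp, rfl⟩, ⟨(_, π mg), by simp, rfl⟩])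
    (h8.trans hG.ge)
  have h9 : Function.Injective f := by
    rw [← MonoidHom.ker_eq_bot_iff]
    refine (f.normal_ker.eq_bot_or_eq_top).resolve_right fun h1 => mx_not_mem_center ?_
    have h2 : f (θ kx) = π mx := hf (θ kx, π mx) (subset_closure (by simp))
    rw [← QuotientGroup.eq_one_iff, ← QuotientGroup.mk'_apply, ← h2, ← MonoidHom.mem_ker, h1]
    trivial
  have : Finite (PSU 3 GF9 3) := Nat.finite_of_card_ne_zero (by rw [card_PSU33]; norm_num)
  exact ⟨MulEquiv.ofBijective f ((Nat.bijective_iff_injective_and_card f).2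
    ⟨h9, hG.trans card_PSU33.symm⟩)⟩

end Cfsg.Lib.Ngrp.U33
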