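import Cfsg.Agent.Ngrp.GU23Rec
import Cfsg.Agent.Ngrp.SpecCls
import Cfsg.Agent.Ngrp.U33Ident

/-!
# Solvable involution centralizers in groups with wreathed Sylow 2-subgroups
-/

set_option autoImplicit false

namespace Cfsg.Lib.Ngrp.U33

open Cfsg Cfsg.Lib.Trans Cfsg.Lib.Rank2 Cfsg.Lib.Rank2.FusW Cfsg.Lib.Rank2.SylEmb
  Cfsg.Lib.Trans.Wr Cfsg.Lib.Class Subgroup
open scoped MatrixGroups

/-! ### The normal subgroup `SL₂(3)` -/

def slT : ℕ := 0x70000003f4a0000000047001f002a00002700005f00000a000015000000004d0020000000350d0000004000005500002d00000000000000385818000000523212000000000000000000000000000000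

/-- The element of `GU₂(3)` attached to a matrix of determinant one. -/
def slF (a b c d : ZMod 3) : K96 :=
  tab.el (Nat.land (Nat.shiftRight slT (8 * (27 * a.val + 9 * b.val + 3 * c.val + d.val))) 255)

theorem slF_mul : ∀ a b c d : ZMod 3, a * d - b * c = 1 → ∀ a' b' c' d' : ZMod 3,
    a' * d' - b' * c' = 1 → slF (a * a' + b * c') (a * b' + b * d') (c * a' + d * c')
      (c * b' + d * d') = slF a b c d * slF a' b' c' d' := by decide +kernel

theorem slF_eq_one : ∀ a b c d : ZMod 3, a * d - b * c = 1 → slF a b c d = 1 →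
    a = 1 ∧ b = 0 ∧ c = 0 ∧ d = 1 := by decide +kernel

theorem slF_conj : ∀ a b c d : ZMod 3, a * d - b * c = 1 → ∀ k ∈ [kx, ky, kt, ka],
    ∃ a' b' c' d' : ZMod 3, a' * d' - b' * c' = 1 ∧ slF a' b' c' d' = k * slF a b c d * k⁻¹ := by
  decide +kernel

theorem sl_det (A : SL(2, ZMod 3)) : A 0 0 * A 1 1 - A 0 1 * A 1 0 = 1 := by
  rw [← Matrix.det_fin_two]; exact A.2

/-- The embedding of `SL₂(3)`. -/
def slHom : SL(2, ZMod 3) →* K96 :=
  MonoidHom.mk' (fun A => slF (A 0 0) (A 0 1) (A 1 0) (A 1 1)) fun A B => by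
    rw [← slF_mul _ _ _ _ (sl_det A) _ _ _ _ (sl_det B)]
    simp only [Matrix.SpecialLinearGroup.coe_mul, Matrix.mul_apply, Fin.sum_univ_two]

theorem slHom_inj : Function.Injective slHom := (injective_iff_map_eq_one _).2 fun A hA => by
  obtain ⟨h1, h2, h3, h4⟩ := slF_eq_one _ _ _ _ (sl_det A) hA
  ext i j
  fin_cases i <;> fin_cases j <;> simpa

theorem slHom_normal : slHom.range.Normal := by
  rw [← normalizer_eq_top_iff]
  have key : ∀ k ∈ [kx, ky, kt, ka], k ∈ normalizer (slHom.range : Set K96) := fun k hk => by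
    refine mem_normalizer_fintype ?_
    rintro _ ⟨A, rfl⟩
    obtain ⟨a, b, c, d, h1, h2⟩ := slF_conj _ _ _ _ (sl_det A) k hk
    exact ⟨⟨!![a, b; c, d], by rw [Matrix.det_fin_two_of, h1]⟩, h2⟩
  exact eq_top_of_mem (key _ (by simp)) (key _ (by simp)) (key _ (by simp)) (key _ (by simp))

/-- The normal `SL₂(3)` in a group isomorphic to `GU₂(3)`. -/
def slnOfEquiv {H : Type*} [Group H] (e : K96 ≃* H) : SLN H (ZMod 3) where
  ι := e.toMonoidHom.comp slHom
  inj := e.injective.comp slHom_inj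
  normal := by
    rw [MonoidHom.range_comp]
    exact slHom_normal.map _ e.surjective

/-! ### Local structure -/

section Struct

variable {G : Type*} [Group G] [Finite G] (S : Sylow 2 G) {m : ℕ} (F : WrFrame S m)

/-- The central involution. -/
abbrev zz : G := F.r (2 ^ (m + 1), 2 ^ (m + 1))

theorem le_C : (S : Subgroup G) ≤ centralizer ({zz S F} : Set G) :=
  SylEmb.le_centralizer fun s hs =>
    congrArg Subtype.val (mem_center_iff.1 ((mem_center_r F _).2 rfl) ⟨s, hs⟩)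

/-- The Sylow subgroup in `C(z) / O(C(z))`. -/
abbrev EE : SylEmb S (centralizer ({zz S F} : Set G) ⧸ oddCore (centralizer ({zz S F} : Set G))) :=
  (SylEmb.ofLe S (le_C S F)).quot (isPGroup F)

theorem z_mem_center : (EE S F).j (F.r (2 ^ (m + 1), 2 ^ (m + 1))) ∈ center _ := by
  refine mem_center_iff.2 fun g => ?_
  obtain ⟨g, rfl⟩ := QuotientGroup.mk_surjective g
  rw [quot_j, ← QuotientGroup.mk_mul, ← QuotientGroup.mk_mul]
  congr 1
  exact Subtype.ext (mem_centralizer_singleton_iff.1 g.2)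

variable (hG : ∀ H : Subgroup G, H.index ≠ 2)
include hG

theorem not_isPGroup :
    ¬ IsPGroup 2 (centralizer ({zz S F} : Set G) ⧸ oddCore (centralizer ({zz S F} : Set G))) := by
  intro h
  obtain ⟨g, hg, ho, hc⟩ := (has_of_perfect (E := ofSylow S) F hG).2
  have h1 := (core F (center_le_vee F 0) (s_mem_vee_self F 0) hg ho hc).1 _
    ((mem_center_r F (2 ^ (m + 1), 2 ^ (m + 1))).2 rfl)
  have hgC : g ∈ centralizer ({zz S F} : Set G) :=
    mem_centralizer_singleton_iff.2 (mul_inv_eq_iff_eq_mul.1 (Eq.symm h1))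
  have h2 : ((⟨g, hgC⟩ : centralizer ({zz S F} : Set G)) : _ ⧸ oddCore _) = 1 :=
    eq_one_of_isPGroup_of_coprime h (Nat.Coprime.coprime_dvd_left
      (orderOf_map_dvd (QuotientGroup.mk' _) _) (by rwa [← orderOf_coe]))
  refine hc (mem_centralizer_map.2 fun v hv => ?_)
  obtain ⟨v', -, h3⟩ := exists_conj_eq hg hv
  have h4 : (EE S F).j v' = (EE S F).j v := by
    rw [← one_mul ((EE S F).j v), ← mul_one (1 * _), ← h2]
    nth_rw 2 [h2]
    rw [← inv_one, ← h2, quot_j, quot_j, ← QuotientGroup.mk_inv, ← QuotientGroup.mk_mul,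
      ← QuotientGroup.mk_mul]
    congr 1
    exact Subtype.ext h3
  rwa [(EE S F).inj h4] at h3

theorem map_vee_eq' [Group.IsSolvable (centralizer ({zz S F} : Set G))] :
    m = 0 ∧ (vee F 0).map (EE S F).j = pCore 2 _ :=
  map_vee_eq F (EE S F) ((IsPSolvable.of_isSolvable 2 _).centralizer_pCore_le
    (Solv.pPrimeCore_quotient_pPrimeCore 2 _)) (z_mem_center S F) (not_isPGroup S F hG)

end Struct

section Struct0

variable {G : Type*} [Group G] [Finite G] (S : Sylow 2 G) (F : WrFrame S 0)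
  (hG : ∀ H : Subgroup G, H.index ≠ 2) [Group.IsSolvable (centralizer ({zz S F} : Set G))]
include hG

theorem exists_equiv : ∃ e : K96 ≃* centralizer ({zz S F} : Set G) ⧸ oddCore _,
    ∀ s, e (psi F s) = (EE S F).j s := by
  have h1 := (map_vee_eq' S F hG).2
  obtain ⟨e, h2, h3, h4⟩ := exists_equiv_K96 F (EE S F) (h1 ▸ inferInstance)
    (h1 ▸ (IsPSolvable.of_isSolvable 2 _).centralizer_pCore_le
      (Solv.pPrimeCore_quotient_pPrimeCore 2 _))
    (z_mem_center S F) (not_isPGroup S F hG)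
  exact ⟨e, comp_psi F (θ := e.toMonoidHom) h2 h3 h4⟩

theorem nonempty_loc : Nonempty (Loc (centralizer ({zz S F} : Set G)) (ZMod 3)) :=
  (exists_equiv S F hG).elim fun e _ => ⟨slnOfEquiv e⟩

theorem exists_specCls : ∃ π : centralizer ({zz S F} : Set G) →* K96, SpecCls (zz S F) π ∧
    scTwo π ∧ ∀ s, π (inclusion (le_C S F) s) = psi F s := by
  obtain ⟨e, he⟩ := exists_equiv S F hG
  have h1 : ∀ s, (e.symm.toMonoidHom.comp (QuotientGroup.mk' _)) (inclusion (le_C S F) s) =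
      psi F s := fun s => e.symm_apply_eq.2 (he s).symm
  refine ⟨_, ⟨by rw [orderOf_coe, orderOf_z], isConj_z (E := ofSylow S) F hG,
    e.symm.surjective.comp (QuotientGroup.mk'_surjective _), ?_,
    Solv.isPConstrained_of_isSolvable 2 _⟩, ?_, h1⟩
  · rw [← MonoidHom.comap_ker, (MonoidHom.ker_eq_bot_iff _).2 e.symm.injective, MonoidHom.comap_bot,
      QuotientGroup.ker_mk']
  · have h2 : ∀ x : K96, ord x = 2 → x ≠ kz → ∀ y : K96, ¬ 2 ∣ ord y → x * y = y * x → y = 1 := by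
      decide +kernel
    intro x y hx hx' hy hxy
    refine h2 x (orderOf_eq x ▸ hx) (fun h => hx' ?_) y (orderOf_eq y ▸ hy) hxy
    rw [h, ← psi_z F, ← h1]
    rfl

end Struct0

/-! ### The element of order three acting on the base group -/

/-- Coordinates of the base group. -/
abbrev Z44 : Type := ZMod (2 ^ (0 + 2)) × ZMod (2 ^ (0 + 2))

/-- The endomorphism with the given images of the basis. -/
def lin2 (a b u : Z44) : Z44 := (u.1 * a.1 + u.2 * b.1, u.1 * a.2 + u.2 * b.2)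

/-- The same followed by the swap. -/
def lin3 (a b u : Z44) : Z44 := (lin2 a b u).swap

set_option synthInstance.maxSize 4096 in
theorem lin2_facts : ∀ a b : Z44, (∀ u, lin2 a b (lin2 a b u) = u) → ∀ w : Z44,
    2 * w.1 = 0 ∧ 2 * w.2 = 0 → w ≠ 0 → w ≠ (2 ^ (0 + 1), 2 ^ (0 + 1)) → lin2 a b w = w →
    (∀ u : Z44, 2 * u.1 = 0 ∧ 2 * u.2 = 0 → lin2 a b u = u) ∨
    ((∀ u : Z44, 2 * u.1 = 0 ∧ 2 * u.2 = 0 → lin3 a b (lin3 a b (lin3 a b u)) = u) ∧
      ((∀ u, lin3 a b (lin3 a b (lin3 a b u)) = u) → (∀ u, lin3 a b u = u → u = 0) ∧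
        ∃ p ∈ ([((1, 0), (0, 1)), ((1, 2), (2, 1))] : List (Z44 × Z44)),
          (lin3 a b p.1 = p.2 ∧ lin3 a b p.2 = -p.1 + -p.2) ∨
          (lin3 a b p.2 = p.1 ∧ lin3 a b (-p.1 + -p.2) = p.2))) := by
  decide +kernel

section Three

variable {G S : Type*} [Group G] [Group S] {E : SylEmb S G}

theorem cj_pow {g : G} {x y : S} (h : E.Cj g x y) (n : ℕ) : E.Cj g (x ^ n) (y ^ n) := by
  rw [Cj, map_pow, map_pow, h, conj_pow]

theorem cj_comp {g g' : G} {x y z : S} (h' : E.Cj g' y z) (h : E.Cj g x y) :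
    E.Cj (g' * g) x z := by
  rw [Cj, h', h]; group

theorem cj_j (s x : S) : E.Cj (E.j s) x (s * x * s⁻¹) := by rw [Cj, map_mul, map_mul, map_inv]

variable (F : WrFrame S 0)

theorem exists_lin2 {h : G} (hh : h ∈ normalizer (((F.rSub ⊤).map E.j : Subgroup G) : Set G)) :
    ∃ a b, ∀ u, E.Cj h (F.r u) (F.r (lin2 a b u)) := by
  obtain ⟨_, ⟨a, -, rfl⟩, ha⟩ := exists_conj_eq hh (F.r_mem_rSub (u := (1, 0)).2 trivial)
  obtain ⟨_, ⟨b, -, rfl⟩, hb⟩ := exists_conj_eq hh (F.r_mem_rSub (u := (0, 1)).2 trivial)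
  refine ⟨a, b, fun u => ?_⟩
  have h1 := Cj.mul (cj_pow ha u.1.val) (cj_pow hb u.2.val)
  simp only [F.r_pow, F.r_mul_r] at h1
  convert h1 using 2 <;> ext <;> simp [lin2]

variable [Finite G]

theorem exists_three (hU : E.Has (F.rSub ⊤))
    (hC : centralizer (((four F).map E.j : Subgroup G) : Set G) ≤ (F.rSub ⊤).map E.j) :
    ∃ g : G, g * g * g = 1 ∧ E.j F.t * g * E.j F.t * g = 1 ∧
      ∃ p ∈ ([((1, 0), (0, 1)), ((1, 2), (2, 1))] : List (Z44 × Z44)),
        E.Cj g (F.r p.1) (F.r p.2) ∧ E.Cj g (F.r p.2) ((F.r p.1)⁻¹ * (F.r p.2)⁻¹) := by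
  obtain ⟨g, hg, ho, h1, h2⟩ := has_four F hU
  have htt : E.j F.t * E.j F.t = 1 := by rw [← map_mul, F.t_mul_t, F.r_zero, map_one]
  have ht : ∀ u, E.Cj (E.j F.t) (F.r u) (F.r u.swap) := fun u => by
    have := cj_j (E := E) (F.s 0) (F.r u)
    rwa [F.s_conj_r, F.s_zero] at this
  have htN : E.j F.t ∈ normalizer (((F.rSub ⊤).map E.j : Subgroup G) : Set G) :=
    mem_normalizer_map (by rintro _ ⟨u, -, rfl⟩; exact ⟨_, F.r_mem_rSub.2 trivial, ht u⟩)
  obtain ⟨a, b, hab⟩ := exists_lin2 F (mul_mem (mul_mem hg htN) (inv_mem hg))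
  have hz : F.r (2 ^ (0 + 1), 2 ^ (0 + 1)) ∈ four F := (r_mem_four F).2 (by decide)
  have hz1 : E.j (F.r (2 ^ (0 + 1), 2 ^ (0 + 1))) ≠ 1 := by
    rw [Ne, map_eq_one_iff _ E.inj, F.r_eq_one]; decide
  obtain ⟨_, hw, hw'⟩ := exists_conj_eq h1 hz
  obtain ⟨w, -, rfl⟩ := id hw
  set t' := g * E.j F.t * g⁻¹ with ht'
  have htt' : t' * t' = 1 := by
    calc _ = g * (E.j F.t * E.j F.t) * g⁻¹ := by rw [ht']; group
      _ = 1 := by rw [htt, mul_one, mul_inv_cancel]
  have one : ∀ u, E.Cj 1 u u := fun u => by simp [Cj]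
  rcases lin2_facts a b (fun u => F.r_inj.1 (Cj.eq (htt' ▸ cj_comp (hab _) (hab u)) (one _))) w
    ((r_mem_four F).1 hw) (by
      rintro rfl
      rw [F.r_zero, map_one, eq_comm, conj_eq_one_iff] at hw'
      exact hz1 hw') (by
      rintro rfl
      exact klein_conj_ne (klein_map (four_isKleinFour F)) h1 ho h2 (mem_map_iff.2 hz) hz1 hw'.symm)
    (F.r_inj.1 (Cj.eq (hab w) (cj_comp (cj_comp hw' (ht _)) (Cj.symm hw')))) with h3 | ⟨h3, h4⟩
  · have h4 := mem_normalizer_conj (inv_mem hg) (hC (x := t') (mem_centralizer_map.2 (by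
      rintro _ hu
      obtain ⟨u, -, rfl⟩ := id hu
      simpa only [h3 u ((r_mem_four F).1 hu)] using hab u)))
    rw [show g⁻¹ * t' * g⁻¹⁻¹ = E.j (F.s 0) by rw [ht', F.s_zero]; group, mem_map_iff] at h4
    exact absurd h4 (F.s_not_mem_rSub 0)
  have h5 : ∀ u, E.Cj (E.j F.t * t') (F.r u) (F.r (lin3 a b u)) := fun u => cj_comp (ht _) (hab u)
  have h6 : E.j F.t * (E.j F.t * t') * E.j F.t * (E.j F.t * t') = 1 := by
    calc _ = (E.j F.t * E.j F.t) * t' * (E.j F.t * E.j F.t) * t' := by simp only [mul_assoc]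
      _ = 1 := by rw [htt, one_mul, mul_one, htt']
  generalize E.j F.t * t' = k at h5 h6
  have h7 := fun u => cj_comp (h5 _) (cj_comp (h5 _) (h5 u))
  obtain ⟨_, ⟨v, -, rfl⟩, hv⟩ := hC (x := k * (k * k)) (mem_centralizer_map.2 (by
    rintro _ hu
    obtain ⟨u, -, rfl⟩ := id hu
    simpa only [h3 u ((r_mem_four F).1 hu)] using h7 u))
  obtain ⟨h8, p, hp, h9⟩ := h4 fun u => F.r_inj.1 (Cj.eq (h7 u) (by
    have := cj_j (E := E) (F.r v) (F.r u)
    rwa [F.r_conj_r, hv] at this))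
  have h10 : k * k * k = 1 := by
    rw [h8 v (F.r_inj.1 (Cj.eq (h5 v) (by rw [Cj, hv]; group))), F.r_zero, map_one] at hv
    rw [mul_assoc, hv]
  simp only [F.r_inv, F.r_mul_r]
  rcases h9 with ⟨h9, h11⟩ | ⟨h9, h11⟩
  · exact ⟨k, h10, h6, p, hp, h9 ▸ h5 _, h11 ▸ h5 _⟩
  · refine ⟨k⁻¹, ?_, ?_, p, hp, Cj.symm (h9 ▸ h5 _), Cj.symm (by simpa only [h11] using h5 (-p.1 + -p.2))⟩
    · rw [← mul_inv_rev, ← mul_inv_rev, ← mul_assoc, h10, inv_one]
    · calc _ = E.j F.t * (E.j F.t * k * E.j F.t) * E.j F.t * k⁻¹ := by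
            rw [eq_inv_of_mul_eq_one_left h6]
        _ = (E.j F.t * E.j F.t) * k * (E.j F.t * E.j F.t) * k⁻¹ := by simp only [mul_assoc]
        _ = 1 := by rw [htt, one_mul, mul_one, mul_inv_cancel]

end Three

/-! ### Identification -/

theorem exists_twist : ∃ α : K96 →* K96, Function.Bijective α ∧ α kx = rho (1, 2) ∧
    α ky = rho (2, 1) ∧ α kt = kt ∧ α kz = kz := by
  obtain ⟨α, h1, h2, h3, h4⟩ := RelK.exists_hom (x := rho (1, 2)) (y := rho (2, 1)) (t := kt)
    (a := tab.el 45) (by constructor <;> decide +kernel)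
  have hz : α kz = kz := by
    rw [show kz = kx * kx * ky * ky by decide +kernel, map_mul, map_mul, map_mul, h1, h2]
    decide +kernel
  refine ⟨α, Finite.injective_iff_bijective.1 ((injective_iff_map_eq_one α).2 fun k hk => ?_),
    h1, h2, h3, hz⟩
  have key : ∀ k : K96, k ≠ 1 → ∃ g : K96, ∃ n : Fin 5,
      (k * (g * k * g⁻¹)) ^ n.val = kz ∨ k = kz := by decide +kernel
  by_contra h
  obtain ⟨g, n, h5 | h5⟩ := key k h
  · have h6 := congrArg α h5
    simp only [map_pow, map_mul, map_inv, hk, mul_one, mul_inv_cancel, one_pow, hz] at h6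
    exact absurd h6 (by decide +kernel)
  · rw [h5, hz] at hk
    exact absurd hk (by decide +kernel)

/-- The identification once `O(C(z)) = 1` and the index of `C(z)` are known. -/
theorem nonempty_equiv_psu_of_injective {G : Type*} [Group G] [Finite G] [IsSimpleGroup G]
    (S : Sylow 2 G) (F : WrFrame S 0) (hG : ∀ H : Subgroup G, H.index ≠ 2)
    {π : centralizer ({zz S F} : Set G) →* K96} (hπ : Function.Bijective π)
    (hS : ∀ s, π (inclusion (le_C S F) s) = psi F s)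
    (hi : (centralizer ({zz S F} : Set G)).index = 63) : Nonempty (G ≃* PSU 3 GF9 3) := by
  let e := MulEquiv.ofBijective π hπ
  let θ : K96 →* G := (centralizer ({zz S F} : Set G)).subtype.comp e.symm.toMonoidHom
  have hθ : Function.Injective θ := (subtype_injective _).comp e.symm.injective
  have h1 : ∀ s, θ (psi F s) = (ofSylow S).j s := fun s =>
    congrArg Subtype.val (e.symm_apply_eq.2 (hS s).symm)
  have h2 : θ.range = centralizer ({zz S F} : Set G) := by
    rw [MonoidHom.range_comp, MonoidHom.range_eq_top.2 e.symm.surjective, ← MonoidHom.range_eq_map,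
      range_subtype]
  have hz : θ kz = zz S F := by rw [← psi_z F, h1]; rfl
  obtain ⟨g, g3, tg, p, hp, gx, gy⟩ := exists_three F (has_of_perfect (E := ofSylow S) F hG).1 (by
    intro c hc
    have h3 := fun u hu => mem_centralizer_map.1 hc (F.r u) ((r_mem_four F).2 hu)
    obtain ⟨k, rfl⟩ : c ∈ θ.range := by
      rw [h2, mem_centralizer_singleton_iff]
      exact mul_inv_eq_iff_eq_mul.1 (Eq.symm (h3 _ (by decide)))
    have h4 := h3 (2, 0) (by decide)
    rw [Cj, ← h1, ← map_inv, ← map_mul, ← map_mul, hθ.eq_iff, psi_r] at h4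
    have h5 : ∀ k : K96, rho (2, 0) = k * rho (2, 0) * k⁻¹ → ∃ u, k = rho u := by decide +kernel
    obtain ⟨u, rfl⟩ := h5 k h4
    rw [← psi_r F, h1]
    exact mem_map_iff.2 (F.r_mem_rSub.2 trivial))
  rw [Cj, ← h1, ← h1, psi_r, psi_r] at gx
  rw [Cj, map_mul, map_inv, map_inv, ← h1, ← h1, psi_r, psi_r] at gy
  rw [← h1, psi_t] at tg
  simp only [List.mem_cons, List.not_mem_nil, or_false] at hp
  rcases hp with rfl | rfl
  · rw [← psi_r F, ← psi_r F, psi_x, psi_y] at gx gy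
    exact nonempty_equiv_psu θ hθ ⟨relK_K96.map θ, g3, tg, gx.symm, gy.symm⟩ (by rw [hz, h2])
      (by rw [hz, hi])
  · obtain ⟨α, a1, a2, a3, a4, a5⟩ := exists_twist
    have h3 : (θ.comp α) kz = zz S F := by rw [MonoidHom.comp_apply, a5, hz]
    refine nonempty_equiv_psu (θ.comp α) (hθ.comp a1.1) ⟨relK_K96.map _, g3, ?_, ?_, ?_⟩
      (by rw [h3, MonoidHom.range_comp, MonoidHom.range_eq_top.2 a1.2, ← MonoidHom.range_eq_map, h2])
      (by rw [h3, hi]) <;> simp only [MonoidHom.comp_apply, a2, a3, a4]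
    exacts [tg, gx.symm, gy.symm]

end Cfsg.Lib.Ngrp.U33
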